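/-
S5630 project (Aschbacher's theorem, linear case), tools **U3a**:
a subgroup normalising an absolutely irreducible group `N` that fixes a non-degenerate
quadratic / symplectic / unitary form lies in the similarity group of that form (class 8).
-/
import Mathlib
import Cfsg.Agent.Lib.Lead.AschDefs
import Cfsg.Agent.Lib.Lead.AschDefs2
import Cfsg.Agent.Lib.H11.AltForm

set_option autoImplicit false
set_option linter.unusedSectionVars false
set_option linter.unusedVariables false

namespace Cfsg.Agent.Lib.H6.Asch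

open Cfsg Cfsg.Geo Cfsg.Agent.Lib.Lead.Asch
open scoped MatrixGroups Matrix

variable {F : Type*} [Field F] {ι : Type} [Fintype ι] [DecidableEq ι]

/-- the form `f` is represented by the matrix `B` and the twist `τ`: `f u v = uᵀ B τ(v)` -/
def Rep (τ : F →+* F) (B : Matrix ι ι F) (f : (ι → F) → (ι → F) → F) : Prop :=
  ∀ u v, f u v = u ⬝ᵥ (B *ᵥ (fun i => τ (v i)))

theorem Rep.apply_single {τ : F →+* F} {B : Matrix ι ι F} {f : (ι → F) → (ι → F) → F}
    (h : Rep τ B f) (i j : ι) : f (Pi.single i 1) (Pi.single j 1) = B i j := by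
  rw [h]
  have : (fun k => τ ((Pi.single j (1 : F) : ι → F) k)) = Pi.single j 1 := by
    funext k
    by_cases hk : k = j
    · subst hk; simp
    · simp [Pi.single_eq_of_ne hk]
  rw [this, Matrix.mulVec_single_one, single_one_dotProduct]
  rfl

theorem map_mulVec_fun (τ : F →+* F) (s : Matrix ι ι F) (v : ι → F) :
    (fun i => τ ((s *ᵥ v) i)) = s.map τ *ᵥ (fun i => τ (v i)) := by
  funext i
  exact RingHom.map_mulVec τ s v i

/-- matrix identity gives form identity -/
theorem Rep.apply_mulVec {τ : F →+* F} {B : Matrix ι ι F} {f : (ι → F) → (ι → F) → F}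
    (h : Rep τ B f) (s : Matrix ι ι F) (c : F) (hs : sᵀ * B * s.map τ = c • B) (u v : ι → F) :
    f (s *ᵥ u) (s *ᵥ v) = c * f u v := by
  rw [h, h, map_mulVec_fun, Matrix.mulVec_mulVec, Matrix.dotProduct_mulVec, Matrix.vecMul_mulVec,
    ← Matrix.dotProduct_mulVec, ← Matrix.mul_assoc, hs, Matrix.smul_mulVec, dotProduct_smul,
    smul_eq_mul]

/-- form identity gives matrix identity -/
theorem Rep.matrix_eq {τ : F →+* F} {B : Matrix ι ι F} {f : (ι → F) → (ι → F) → F}
    (h : Rep τ B f) (s : Matrix ι ι F) (c : F)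
    (hs : ∀ u v, f (s *ᵥ u) (s *ᵥ v) = c * f u v) : sᵀ * B * s.map τ = c • B := by
  ext i j
  have h1 := hs (Pi.single i 1) (Pi.single j 1)
  rw [h.apply_single] at h1
  rw [Matrix.smul_apply, smul_eq_mul, ← h1, h, map_mulVec_fun, Matrix.mulVec_mulVec,
    Matrix.dotProduct_mulVec, Matrix.vecMul_mulVec, ← Matrix.dotProduct_mulVec,
    ← Matrix.mul_assoc]
  have : (fun k => τ ((Pi.single j (1 : F) : ι → F) k)) = Pi.single j 1 := by
    funext k
    by_cases hk : k = j
    · subst hk; simp
    · simp [Pi.single_eq_of_ne hk]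
  rw [this, Matrix.mulVec_single_one, single_one_dotProduct]
  rfl

/-- a non-degenerate represented form has an invertible matrix -/
theorem Rep.isUnit_det {τ : F →+* F} {B : Matrix ι ι F} {f : (ι → F) → (ι → F) → F}
    (h : Rep τ B f) (hnd : IsNondegenerateForm f) : IsUnit B.det := by
  rw [isUnit_iff_ne_zero]
  intro h0
  have h0' : Bᵀ.det = 0 := by rw [Matrix.det_transpose]; exact h0
  obtain ⟨v, hv, hv0⟩ := Matrix.exists_mulVec_eq_zero_iff.2 h0'
  obtain ⟨x, hx⟩ := (hnd v hv).2
  apply hx
  rw [h, Matrix.dotProduct_mulVec, ← Matrix.mulVec_transpose, hv0, zero_dotProduct]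

/-- an invertible matrix represents a non-degenerate form -/
theorem Rep.nondegenerate {τ : F →+* F} {B : Matrix ι ι F} {f : (ι → F) → (ι → F) → F}
    (h : Rep τ B f) (hB : IsUnit B.det) : IsNondegenerateForm f := by
  intro v hv
  constructor
  · -- `B τ(v) ≠ 0`
    have hτv : (fun i => τ (v i)) ≠ 0 := by
      intro h0
      apply hv
      funext i
      have := congrFun h0 i
      simp only [Pi.zero_apply] at this
      exact (map_eq_zero τ).1 this
    have hBv : B *ᵥ (fun i => τ (v i)) ≠ 0 := by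
      intro h0
      apply hτv
      have := congrArg (fun w => B⁻¹ *ᵥ w) h0
      simp only [Matrix.mulVec_mulVec, Matrix.nonsing_inv_mul _ hB, Matrix.one_mulVec,
        Matrix.mulVec_zero] at this
      exact this
    obtain ⟨i, hi⟩ : ∃ i, (B *ᵥ (fun i => τ (v i))) i ≠ 0 := by
      by_contra hcon
      push Not at hcon
      exact hBv (funext hcon)
    refine ⟨Pi.single i 1, ?_⟩
    rw [h, single_one_dotProduct]
    exact hi
  · have hvB : v ᵥ* B ≠ 0 := by
      intro h0
      apply hv
      have := congrArg (fun w => w ᵥ* B⁻¹) h0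
      simp only [Matrix.vecMul_vecMul, Matrix.mul_nonsing_inv _ hB, Matrix.vecMul_one,
        Matrix.zero_vecMul] at this
      exact this
    obtain ⟨j, hj⟩ : ∃ j, (v ᵥ* B) j ≠ 0 := by
      by_contra hcon
      push Not at hcon
      exact hvB (funext hcon)
    refine ⟨Pi.single j 1, ?_⟩
    rw [h, Matrix.dotProduct_mulVec]
    have : (fun k => τ ((Pi.single j (1 : F) : ι → F) k)) = Pi.single j 1 := by
      funext k
      by_cases hk : k = j
      · subst hk; simp
      · simp [Pi.single_eq_of_ne hk]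
    rw [this, dotProduct_single_one]
    exact hj

/-- **core**: two invariant twisted forms of a set with scalar commutant are proportional -/
theorem core (τ : F →+* F) (S : Set (Matrix ι ι F))
    (hS : ∀ M : Matrix ι ι F, (∀ s ∈ S, M * s = s * M) → ∃ c : F, M = c • (1 : Matrix ι ι F))
    (hinv : ∀ s ∈ S, IsUnit s.det) (B C : Matrix ι ι F) (hB : IsUnit B.det)
    (hfixB : ∀ g ∈ S, gᵀ * B * g.map τ = B) (hfixC : ∀ g ∈ S, gᵀ * C * g.map τ = C) :
    ∃ c : F, C = c • B := by
  obtain ⟨c, hc⟩ := hS (C * B⁻¹)ᵀ (by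
    intro g hg
    have hgT : IsUnit gᵀ.det := by rw [Matrix.det_transpose]; exact hinv g hg
    -- `τ(g) B⁻¹ = B⁻¹ (gᵀ)⁻¹`
    have e1 : g.map τ * B⁻¹ = B⁻¹ * gᵀ⁻¹ := by
      have h1 := hfixB g hg
      calc g.map τ * B⁻¹ = B⁻¹ * (gᵀ⁻¹ * (gᵀ * B * g.map τ)) * B⁻¹ := by
            rw [Matrix.mul_assoc gᵀ, ← Matrix.mul_assoc gᵀ⁻¹, Matrix.nonsing_inv_mul _ hgT,
              Matrix.one_mul, ← Matrix.mul_assoc B⁻¹, Matrix.nonsing_inv_mul _ hB, Matrix.one_mul]
        _ = B⁻¹ * gᵀ⁻¹ := by
            rw [h1, Matrix.mul_assoc, Matrix.mul_assoc, Matrix.mul_nonsing_inv _ hB, Matrix.mul_one]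
    have e2 : gᵀ * (C * B⁻¹) = (C * B⁻¹) * gᵀ := by
      have h2 := hfixC g hg
      calc gᵀ * (C * B⁻¹) = gᵀ * C * (B⁻¹ * gᵀ⁻¹) * gᵀ := by
            rw [Matrix.mul_assoc (gᵀ * C), Matrix.mul_assoc B⁻¹, Matrix.nonsing_inv_mul _ hgT,
              Matrix.mul_one, Matrix.mul_assoc]
        _ = (gᵀ * C * g.map τ) * B⁻¹ * gᵀ := by
            rw [← e1, ← Matrix.mul_assoc (gᵀ * C)]
        _ = (C * B⁻¹) * gᵀ := by rw [h2]
    have := congrArg Matrix.transpose e2
    rw [Matrix.transpose_mul, Matrix.transpose_mul (C * B⁻¹), Matrix.transpose_transpose] at this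
    exact this)
  refine ⟨c, ?_⟩
  have h1 : C * B⁻¹ = c • (1 : Matrix ι ι F) := by
    have := congrArg Matrix.transpose hc
    rw [Matrix.transpose_transpose, Matrix.transpose_smul, Matrix.transpose_one] at this
    exact this
  calc C = C * B⁻¹ * B := by
        rw [Matrix.mul_assoc, Matrix.nonsing_inv_mul _ hB, Matrix.mul_one]
    _ = c • B := by rw [h1, Matrix.smul_mul, Matrix.one_mul]

/-- the twisted form `hᵀ B τ(h)` is invariant when `h` normalises -/
theorem fix_conj (τ : F →+* F) (N : Subgroup (GL ι F)) (B : Matrix ι ι F)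
    (hfixB : ∀ g ∈ matrixSet N, gᵀ * B * g.map τ = B) (h : GL ι F)
    (hh : ∀ x ∈ N, h * x * h⁻¹ ∈ N) :
    ∀ g ∈ matrixSet N, gᵀ * ((h : Matrix ι ι F)ᵀ * B * (h : Matrix ι ι F).map τ) * g.map τ =
      (h : Matrix ι ι F)ᵀ * B * (h : Matrix ι ι F).map τ := by
  rintro _ ⟨x, hx, rfl⟩
  have hx' := hh x hx
  have e : (h : Matrix ι ι F) * (x : Matrix ι ι F) =
      ((h * x * h⁻¹ : GL ι F) : Matrix ι ι F) * (h : Matrix ι ι F) := by
    rw [← Units.val_mul, ← Units.val_mul]
    congr 1
    group
  have h1 := hfixB _ ⟨h * x * h⁻¹, hx', rfl⟩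
  set y : Matrix ι ι F := ((h * x * h⁻¹ : GL ι F) : Matrix ι ι F) with hy
  set hm : Matrix ι ι F := (h : Matrix ι ι F) with hhm
  set xm : Matrix ι ι F := (x : Matrix ι ι F) with hxm
  calc xmᵀ * (hmᵀ * B * hm.map τ) * xm.map τ
      = (hm * xm)ᵀ * B * (hm * xm).map τ := by
        rw [Matrix.transpose_mul, Matrix.map_mul]
        simp only [Matrix.mul_assoc]
    _ = (y * hm)ᵀ * B * (y * hm).map τ := by rw [e]
    _ = hmᵀ * (yᵀ * B * y.map τ) * hm.map τ := by
        rw [Matrix.transpose_mul, Matrix.map_mul]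
        simp only [Matrix.mul_assoc]
    _ = hmᵀ * B * hm.map τ := by rw [h1]

theorem isUnit_det_of_mem_matrixSet (N : Subgroup (GL ι F)) :
    ∀ s ∈ matrixSet N, IsUnit s.det := by
  rintro _ ⟨x, hx, rfl⟩
  exact (Matrix.isUnit_iff_isUnit_det _).1 x.isUnit

/-- **similarity**: an element normalising an absolutely irreducible group `N` multiplies every
non-degenerate `N`-invariant represented form by a scalar. -/
theorem sim_of_normalizes (τ : F →+* F) (N : Subgroup (GL ι F))
    (habs : ActsAbsolutelyIrreducibly (matrixSet N)) (B : Matrix ι ι F)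
    (f : (ι → F) → (ι → F) → F) (hrep : Rep τ B f) (hnd : IsNondegenerateForm f)
    (hfix : FixesForm (matrixSet N) f) (h : GL ι F) (hh : ∀ x ∈ N, h * x * h⁻¹ ∈ N) :
    ∃ c : Fˣ, ∀ u v, f ((h : Matrix ι ι F) *ᵥ u) ((h : Matrix ι ι F) *ᵥ v) = (c : F) * f u v := by
  have hB : IsUnit B.det := hrep.isUnit_det hnd
  have hfixB : ∀ g ∈ matrixSet N, gᵀ * B * g.map τ = B := by
    intro g hg
    have := hrep.matrix_eq g 1 (fun u v => by rw [hfix g hg, one_mul])
    rw [one_smul] at this
    exact this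
  obtain ⟨c, hc⟩ := core τ (matrixSet N) habs.2 (isUnit_det_of_mem_matrixSet N) B
    ((h : Matrix ι ι F)ᵀ * B * (h : Matrix ι ι F).map τ) hB hfixB (fix_conj τ N B hfixB h hh)
  by_cases hne : Nonempty ι
  swap
  · rw [not_nonempty_iff] at hne
    refine ⟨1, fun u v => ?_⟩
    rw [Subsingleton.elim ((h : Matrix ι ι F) *ᵥ u) u, Subsingleton.elim ((h : Matrix ι ι F) *ᵥ v) v,
      Units.val_one, one_mul]
  have hc0 : c ≠ 0 := by
    rintro rfl
    rw [zero_smul] at hc
    have hdet := congrArg Matrix.det hc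
    rw [Matrix.det_mul, Matrix.det_mul, Matrix.det_transpose, Matrix.det_zero] at hdet
    have h1 : IsUnit (h : Matrix ι ι F).det := (Matrix.isUnit_iff_isUnit_det _).1 h.isUnit
    have h2 : ((h : Matrix ι ι F).map τ).det ≠ 0 := by
      have : ((h : Matrix ι ι F).map τ).det = τ ((h : Matrix ι ι F).det) :=
        (RingHom.map_det τ _).symm
      rw [this]
      exact (map_ne_zero τ).2 h1.ne_zero
    have := mul_ne_zero (mul_ne_zero h1.ne_zero hB.ne_zero) h2
    exact this hdet
  exact ⟨Units.mk0 c hc0, fun u v => hrep.apply_mulVec _ c hc u v⟩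

/-! ### Gram matrices -/

/-- a bilinear form is represented by its Gram matrix -/
theorem exists_rep_of_bilinear (f : (ι → F) → (ι → F) → F) (hf : IsBilinearForm f) :
    ∃ B : Matrix ι ι F, Rep (RingHom.id F) B f := by
  let b : LinearMap.BilinForm F (ι → F) :=
    LinearMap.mk₂ F f hf.add_left hf.smul_left hf.add_right hf.smul_right
  refine ⟨LinearMap.BilinForm.toMatrix' b, fun u v => ?_⟩
  have h1 : f u v = b u v := rfl
  rw [h1]
  conv_lhs => rw [← Matrix.toBilin'_toMatrix' b]
  rw [Matrix.toBilin'_apply']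
  rfl

/-- a unitary form is represented by its Gram matrix with twist `σ` -/
theorem exists_rep_of_unitary (σ : F ≃+* F) (f : (ι → F) → (ι → F) → F) (hf : IsUnitaryForm σ f) :
    ∃ B : Matrix ι ι F, Rep (σ : F →+* F) B f := by
  -- the bilinear form `f'(u, v) = f(u, σ v)`
  have hσσ : ∀ v : ι → F, (fun i => σ ((fun j => σ (v j)) i)) = v := by
    intro v; funext i; exact hf.involutive (v i)
  have hf' : IsBilinearForm (fun u v => f u (fun i => σ (v i))) := by
    refine ⟨fun x y v => hf.add_left x y _, fun c x v => hf.smul_left c x _, ?_, ?_⟩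
    · intro v x y
      show f v (fun i => σ ((x + y) i)) = _
      have : (fun i => σ ((x + y) i)) = (fun i => σ (x i)) + (fun i => σ (y i)) := by
        funext i; simp
      rw [this, hf.herm, hf.add_left, map_add, ← hf.herm, ← hf.herm]
    · intro c v x
      show f v (fun i => σ ((c • x) i)) = _
      have : (fun i => σ ((c • x) i)) = σ c • (fun i => σ (x i)) := by
        funext i; simp
      rw [this, hf.herm, hf.smul_left, map_mul, hf.involutive, ← hf.herm]
  obtain ⟨B, hB⟩ := exists_rep_of_bilinear _ hf'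
  refine ⟨B, fun u v => ?_⟩
  have := hB u (fun i => σ (v i))
  simp only [RingHom.id_apply] at this
  rw [hσσ] at this
  rw [this]
  have : (fun i => (σ : F →+* F) ((fun j => σ (v j)) i)) = v := hσσ v
  rfl


/-! ### The three tools U3a -/

variable [Fintype F] {n : ℕ}

theorem le_similarityGroup (τ : F →+* F) (H N : Subgroup (GL (Fin n) F))
    (hnorm : NormalizedBy H N) (habs : ActsAbsolutelyIrreducibly (matrixSet N))
    (f : (Fin n → F) → (Fin n → F) → F) (hrep : ∃ B : Matrix (Fin n) (Fin n) F, Rep τ B f)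
    (hnd : IsNondegenerateForm f) (hfix : FixesForm (matrixSet N) f) :
    H ≤ similarityGroup f := by
  obtain ⟨B, hB⟩ := hrep
  intro h hh
  exact sim_of_normalizes τ N habs B f hB hnd hfix h (hnorm h hh)

/-- **U3a** (C8), symplectic form. -/
theorem tame_of_fixes_symplectic (hn : 3 ≤ n) (H N : Subgroup (GL (Fin n) F))
    (hnorm : NormalizedBy H N) (habs : ActsAbsolutelyIrreducibly (matrixSet N))
    (f : (Fin n → F) → (Fin n → F) → F) (hf : IsSymplecticForm f)
    (hfix : FixesForm (matrixSet N) f) : TameC8 H := by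
  have hle : H ≤ similarityGroup f :=
    le_similarityGroup (RingHom.id F) H N hnorm habs f (exists_rep_of_bilinear f hf.bilinear)
      hf.nondegenerate hfix
  have heven : Even n := by
    let b : LinearMap.BilinForm F (Fin n → F) :=
      LinearMap.mk₂ F f hf.bilinear.add_left hf.bilinear.smul_left hf.bilinear.add_right
        hf.bilinear.smul_right
    have hAlt : b.IsAlt := fun v => hf.alternating v
    have hnd : b.Nondegenerate := by
      refine ⟨fun x hx => ?_, fun y hy => ?_⟩
      · by_contra hx0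
        obtain ⟨y, hy⟩ := (hf.nondegenerate x hx0).2
        exact hy (hx y)
      · by_contra hy0
        obtain ⟨x, hx⟩ := (hf.nondegenerate y hy0).1
        exact hx (hy x)
    exact Cfsg.Agent.Lib.H11.even_finrank_of_nondegenerate_isAlt n b hAlt hnd
      (Module.finrank_fin_fun F)
  have h4 : 4 ≤ n := by
    obtain ⟨k, hk⟩ := heven
    omega
  exact Or.inl ⟨f, hf, heven, h4, hle⟩

/-- **U3a** (C8), unitary form. -/
theorem tame_of_fixes_unitary (hn : 3 ≤ n) (H N : Subgroup (GL (Fin n) F))
    (hnorm : NormalizedBy H N) (habs : ActsAbsolutelyIrreducibly (matrixSet N))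
    (σ : F ≃+* F) (f : (Fin n → F) → (Fin n → F) → F) (hf : IsUnitaryForm σ f)
    (hfix : FixesForm (matrixSet N) f) : TameC8 H := by
  have hle : H ≤ similarityGroup f :=
    le_similarityGroup (σ : F →+* F) H N hnorm habs f (exists_rep_of_unitary σ f hf)
      hf.nondegenerate hfix
  exact Or.inr (Or.inl ⟨σ, f, hf, hn, hle⟩)

theorem polar_self (Q : (Fin n → F) → F) (hQ : IsNondegenerateQuadraticForm Q) (v : Fin n → F) :
    QuadraticMap.polar Q v v = 2 * Q v := by
  have h2 : v + v = (2 : F) • v := (two_smul F v).symm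
  rw [QuadraticMap.polar, h2, hQ.smul]
  ring

theorem fixesForm_polar (S : Set (Matrix (Fin n) (Fin n) F)) (Q : (Fin n → F) → F)
    (hfix : FixesQuadForm S Q) : FixesForm S (QuadraticMap.polar Q) := by
  intro s hs u v
  rw [QuadraticMap.polar, QuadraticMap.polar, ← Matrix.mulVec_add, hfix s hs, hfix s hs, hfix s hs]

/-- **U3a** (C8), quadratic form (any parity of q). -/
theorem tame_of_fixes_quad (hn : 3 ≤ n) (H N : Subgroup (GL (Fin n) F)) (hnorm : NormalizedBy H N)
    (habs : ActsAbsolutelyIrreducibly (matrixSet N)) (Q : (Fin n → F) → F)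
    (hQ : IsNondegenerateQuadraticForm Q) (hfix : FixesQuadForm (matrixSet N) Q) : TameC8 H := by
  have hfixp := fixesForm_polar (matrixSet N) Q hfix
  by_cases h2 : (2 : F) = 0
  · -- characteristic two: the polar form is symplectic
    have hsymp : IsSymplecticForm (QuadraticMap.polar Q) := by
      refine ⟨hQ.polar_bilinear, fun v w => ?_, fun v => ?_, hQ.nondegenerate⟩
      · rw [QuadraticMap.polar_comm Q v w]
        have : QuadraticMap.polar Q w v + QuadraticMap.polar Q w v = 0 := by
          rw [← two_mul, h2, zero_mul]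
        exact eq_neg_of_add_eq_zero_left this
      · rw [polar_self Q hQ, h2, zero_mul]
    exact tame_of_fixes_symplectic hn H N hnorm habs _ hsymp hfixp
  · have hodd : Odd (Fintype.card F) := by
      by_contra hcon
      rw [Nat.not_odd_iff_even] at hcon
      have hch : ringChar F = 2 := (FiniteField.even_card_iff_char_two (F := F)).2 (Nat.even_iff.1 hcon)
      apply h2
      have h3 : ((2 : ℕ) : F) = 0 := by
        rw [ringChar.spec F 2, hch]
      exact_mod_cast h3
    have hle : H ≤ quadSimilarityGroup Q := by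
      have hle' : H ≤ similarityGroup (QuadraticMap.polar Q) :=
        le_similarityGroup (RingHom.id F) H N hnorm habs _
          (exists_rep_of_bilinear _ hQ.polar_bilinear) hQ.nondegenerate hfixp
      intro h hh
      obtain ⟨c, hc⟩ := hle' hh
      refine ⟨c, fun v => ?_⟩
      have := hc v v
      rw [polar_self Q hQ, polar_self Q hQ] at this
      have h3 : (2 : F) * Q ((h : Matrix (Fin n) (Fin n) F) *ᵥ v) = 2 * ((c : F) * Q v) := by
        rw [this]; ring
      exact mul_left_cancel₀ h2 h3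
    exact Or.inr (Or.inr ⟨Q, hQ, hodd, hn, hle⟩)

end Cfsg.Agent.Lib.H6.Asch
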