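/-
S5630 project (Aschbacher's theorem, linear case), tool **U3b**:
an absolutely irreducible group fixing a non-zero bilinear form given by a matrix
fixes a non-degenerate quadratic or symplectic form (class 8).
-/
import Mathlib
import Cfsg.Agent.Lib.H6.AschU3a

set_option autoImplicit false
set_option linter.unusedSectionVars false
set_option linter.unusedVariables false

namespace Cfsg.Agent.Lib.H6.Asch

open Cfsg Cfsg.Geo Cfsg.Agent.Lib.Lead.Asch
open scoped MatrixGroups Matrix

variable {F : Type*} [Field F] {ι : Type} [Fintype ι] [DecidableEq ι]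

/-- the form represented by a matrix and a twist -/
def formOf (τ : F →+* F) (B : Matrix ι ι F) : (ι → F) → (ι → F) → F :=
  fun u v => u ⬝ᵥ (B *ᵥ (fun i => τ (v i)))

theorem rep_formOf (τ : F →+* F) (B : Matrix ι ι F) : Rep τ B (formOf τ B) := fun _ _ => rfl

theorem Rep.add_left {τ : F →+* F} {B : Matrix ι ι F} {f : (ι → F) → (ι → F) → F}
    (h : Rep τ B f) (x y v : ι → F) : f (x + y) v = f x v + f y v := by
  rw [h, h, h, add_dotProduct]

theorem Rep.smul_left {τ : F →+* F} {B : Matrix ι ι F} {f : (ι → F) → (ι → F) → F}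
    (h : Rep τ B f) (c : F) (x v : ι → F) : f (c • x) v = c * f x v := by
  rw [h, h, smul_dotProduct, smul_eq_mul]

theorem Rep.bilinear {B : Matrix ι ι F} {f : (ι → F) → (ι → F) → F}
    (h : Rep (RingHom.id F) B f) : IsBilinearForm f := by
  refine ⟨h.add_left, h.smul_left, fun v x y => ?_, fun c v x => ?_⟩
  · rw [h, h, h]
    have : (fun i => (RingHom.id F) ((x + y) i)) =
        (fun i => (RingHom.id F) (x i)) + (fun i => (RingHom.id F) (y i)) := by
      funext i; simp
    rw [this, Matrix.mulVec_add, dotProduct_add]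
  · rw [h, h]
    have : (fun i => (RingHom.id F) ((c • x) i)) = c • (fun i => (RingHom.id F) (x i)) := by
      funext i; simp
    rw [this, Matrix.mulVec_smul, dotProduct_smul, smul_eq_mul]

theorem Rep.fixesForm {τ : F →+* F} {B : Matrix ι ι F} {f : (ι → F) → (ι → F) → F}
    (h : Rep τ B f) (S : Set (Matrix ι ι F)) (hfix : ∀ g ∈ S, gᵀ * B * g.map τ = B) :
    FixesForm S f := by
  intro s hs u v
  have := h.apply_mulVec s 1 (by rw [one_smul]; exact hfix s hs) u v
  rw [one_mul] at this
  exact this

theorem map_id_eq (g : Matrix ι ι F) : g.map (RingHom.id F) = g := by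
  ext i j; rfl

/-- a non-zero invariant twisted form of an irreducible set of invertible matrices is
invertible -/
theorem isUnit_det_of_fix (τ : F →+* F) (S : Set (Matrix ι ι F)) (hirr : ActsIrreducibly S)
    (hinv : ∀ s ∈ S, IsUnit s.det) (B : Matrix ι ι F) (hB : B ≠ 0)
    (hfix : ∀ g ∈ S, gᵀ * B * g.map τ = B) : IsUnit B.det := by
  -- the left kernel
  have hW := hirr (LinearMap.ker (Matrix.mulVecLin Bᵀ)) (by
    intro g hg
    rintro _ ⟨u, hu, rfl⟩
    have hu' : Bᵀ *ᵥ u = 0 := hu
    show Bᵀ *ᵥ (Matrix.toLin' g u) = 0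
    rw [Matrix.toLin'_apply, Matrix.mulVec_mulVec]
    have hgτ : IsUnit (g.map τ).det := by
      have : (g.map τ).det = τ g.det := (RingHom.map_det τ _).symm
      rw [this]
      exact (hinv g hg).map τ
    -- `gᵀ B = B τ(g)⁻¹`
    have e1 : gᵀ * B = B * (g.map τ)⁻¹ := by
      calc gᵀ * B = gᵀ * B * g.map τ * (g.map τ)⁻¹ := by
            rw [Matrix.mul_assoc (gᵀ * B), Matrix.mul_nonsing_inv _ hgτ, Matrix.mul_one]
        _ = B * (g.map τ)⁻¹ := by rw [hfix g hg]
    have e2 : Bᵀ * g = ((g.map τ)⁻¹)ᵀ * Bᵀ := by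
      have := congrArg Matrix.transpose e1
      rw [Matrix.transpose_mul, Matrix.transpose_transpose, Matrix.transpose_mul] at this
      exact this
    rw [e2, ← Matrix.mulVec_mulVec, hu', Matrix.mulVec_zero])
  rcases hW with hW | hW
  · -- injective
    rw [isUnit_iff_ne_zero]
    intro h0
    have h0' : Bᵀ.det = 0 := by rw [Matrix.det_transpose]; exact h0
    obtain ⟨v, hv, hv0⟩ := Matrix.exists_mulVec_eq_zero_iff.2 h0'
    have : v ∈ LinearMap.ker (Matrix.mulVecLin Bᵀ) := hv0
    rw [hW] at this
    exact hv ((Submodule.mem_bot F).1 this)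
  · exfalso
    apply hB
    have h1 : ∀ v : ι → F, Bᵀ *ᵥ v = 0 := by
      intro v
      have : v ∈ LinearMap.ker (Matrix.mulVecLin Bᵀ) := by rw [hW]; trivial
      exact this
    have h2 : Bᵀ = 0 := by
      ext i j
      have := congrFun (h1 (Pi.single j 1)) i
      rw [Matrix.mulVec_single_one] at this
      exact this
    have := congrArg Matrix.transpose h2
    rw [Matrix.transpose_transpose, Matrix.transpose_zero] at this
    exact this

/-! ### U3b -/

variable [Fintype F] {n : ℕ}

/-- the quadratic form of a matrix -/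
def quadOf (B : Matrix (Fin n) (Fin n) F) : (Fin n → F) → F := fun v => v ⬝ᵥ (B *ᵥ v)

theorem polar_quadOf (B : Matrix (Fin n) (Fin n) F) (hsymm : Bᵀ = B) (u v : Fin n → F) :
    QuadraticMap.polar (quadOf B) u v = u ⬝ᵥ (((2 : F) • B) *ᵥ v) := by
  have h1 : v ⬝ᵥ (B *ᵥ u) = u ⬝ᵥ (B *ᵥ v) := by
    rw [Matrix.dotProduct_mulVec, dotProduct_comm, ← Matrix.mulVec_transpose, hsymm]
  simp only [QuadraticMap.polar, quadOf]
  rw [Matrix.mulVec_add, add_dotProduct, dotProduct_add, dotProduct_add, h1, Matrix.smul_mulVec,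
    dotProduct_smul, smul_eq_mul]
  ring

theorem quadOf_smul (B : Matrix (Fin n) (Fin n) F) (c : F) (v : Fin n → F) :
    quadOf B (c • v) = c ^ 2 * quadOf B v := by
  simp only [quadOf]
  rw [Matrix.mulVec_smul, smul_dotProduct, dotProduct_smul, smul_eq_mul, smul_eq_mul]
  ring

theorem quadOf_fix (B : Matrix (Fin n) (Fin n) F) (g : Matrix (Fin n) (Fin n) F)
    (hg : gᵀ * B * g = B) (v : Fin n → F) : quadOf B (g *ᵥ v) = quadOf B v := by
  simp only [quadOf]
  rw [Matrix.mulVec_mulVec, Matrix.dotProduct_mulVec, Matrix.vecMul_mulVec,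
    ← Matrix.dotProduct_mulVec, ← Matrix.mul_assoc, hg]

/-- **U3b** (C8), a non-zero invariant bilinear form given by its matrix. -/
theorem tame_of_fixes_bilin_matrix (hn : 3 ≤ n) (H N : Subgroup (GL (Fin n) F))
    (hnorm : NormalizedBy H N) (habs : ActsAbsolutelyIrreducibly (matrixSet N))
    (B : Matrix (Fin n) (Fin n) F) (hB : B ≠ 0)
    (hfix : ∀ g ∈ matrixSet N, gᵀ * B * g = B) : TameC8 H := by
  have hfix' : ∀ g ∈ matrixSet N, gᵀ * B * g.map (RingHom.id F) = B := by
    intro g hg; rw [map_id_eq]; exact hfix g hg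
  have hBdet : IsUnit B.det :=
    isUnit_det_of_fix (RingHom.id F) (matrixSet N) habs.1 (isUnit_det_of_mem_matrixSet N) B hB hfix'
  -- the transpose is invariant too
  have hfixT : ∀ g ∈ matrixSet N, gᵀ * Bᵀ * g.map (RingHom.id F) = Bᵀ := by
    intro g hg
    rw [map_id_eq]
    have := congrArg Matrix.transpose (hfix g hg)
    rw [Matrix.transpose_mul, Matrix.transpose_mul, Matrix.transpose_transpose,
      ← Matrix.mul_assoc] at this
    exact this
  obtain ⟨ε, hε⟩ := core (RingHom.id F) (matrixSet N) habs.2 (isUnit_det_of_mem_matrixSet N) B Bᵀ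
    hBdet hfix' hfixT
  have hε2 : ε * ε = 1 := by
    have h1 : B = (ε * ε) • B := by
      have := congrArg Matrix.transpose hε
      rw [Matrix.transpose_transpose, Matrix.transpose_smul, hε, smul_smul] at this
      exact this
    obtain ⟨i, j, hij⟩ : ∃ i j, B i j ≠ 0 := by
      by_contra hcon
      push Not at hcon
      exact hB (by ext i j; exact hcon i j)
    have := congrFun (congrFun h1 i) j
    rw [Matrix.smul_apply, smul_eq_mul] at this
    have h3 : (ε * ε - 1) * B i j = 0 := by rw [sub_mul, one_mul, ← this, sub_self]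
    rcases mul_eq_zero.1 h3 with h4 | h4
    · exact sub_eq_zero.1 h4
    · exact absurd h4 hij
  -- the bilinear form of `B`
  have hrep : Rep (RingHom.id F) B (formOf (RingHom.id F) B) := rep_formOf _ _
  have hnd : IsNondegenerateForm (formOf (RingHom.id F) B) := hrep.nondegenerate hBdet
  have hfixf : FixesForm (matrixSet N) (formOf (RingHom.id F) B) := hrep.fixesForm _ hfix'
  have hformOf : ∀ u v : Fin n → F, formOf (RingHom.id F) B u v = u ⬝ᵥ (B *ᵥ v) := fun u v => rfl
  have hswap : ∀ u v : Fin n → F, u ⬝ᵥ (B *ᵥ v) = ε * (v ⬝ᵥ (B *ᵥ u)) := by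
    intro u v
    rw [Matrix.dotProduct_mulVec, dotProduct_comm, ← Matrix.mulVec_transpose, hε,
      Matrix.smul_mulVec, dotProduct_smul, smul_eq_mul]
  -- symplectic if alternating
  have hsymp : (∀ v : Fin n → F, v ⬝ᵥ (B *ᵥ v) = 0) → ε = -1 → TameC8 H := by
    intro halt hεm
    have hs : IsSymplecticForm (formOf (RingHom.id F) B) := by
      refine ⟨hrep.bilinear, fun v w => ?_, fun v => ?_, hnd⟩
      · rw [hformOf, hformOf, hswap, hεm]; ring
      · rw [hformOf]; exact halt v
    exact tame_of_fixes_symplectic hn H N hnorm habs _ hs hfixf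
  by_cases h2 : (2 : F) = 0
  · -- characteristic two
    have hε1 : ε = 1 := by
      have : (ε - 1) * (ε - 1) = 0 := by
        have : (ε - 1) * (ε - 1) = ε * ε - 2 * ε + 1 := by ring
        rw [this, hε2, h2]; ring_nf
        rw [show (2 : F) = 0 from h2]
      have := mul_self_eq_zero.1 this
      exact sub_eq_zero.1 this
    have hεm : ε = -1 := by
      rw [hε1]
      have : (1 : F) + 1 = 0 := by rw [one_add_one_eq_two]; exact h2
      exact eq_neg_of_add_eq_zero_left this
    have hsymm : ∀ u v : Fin n → F, u ⬝ᵥ (B *ᵥ v) = v ⬝ᵥ (B *ᵥ u) := by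
      intro u v; rw [hswap, hε1, one_mul]
    -- the subspace of singular vectors
    let W : Submodule F (Fin n → F) :=
      { carrier := {v | v ⬝ᵥ (B *ᵥ v) = 0}
        add_mem' := by
          intro u v hu hv
          show (u + v) ⬝ᵥ (B *ᵥ (u + v)) = 0
          have hu' : u ⬝ᵥ (B *ᵥ u) = 0 := hu
          have hv' : v ⬝ᵥ (B *ᵥ v) = 0 := hv
          rw [Matrix.mulVec_add, add_dotProduct, dotProduct_add, dotProduct_add, hu', hv',
            hsymm v u, zero_add, add_zero, ← two_mul, h2, zero_mul]
        zero_mem' := by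
          show (0 : Fin n → F) ⬝ᵥ (B *ᵥ 0) = 0
          rw [zero_dotProduct]
        smul_mem' := by
          intro c v hv
          show (c • v) ⬝ᵥ (B *ᵥ (c • v)) = 0
          have hv' : v ⬝ᵥ (B *ᵥ v) = 0 := hv
          rw [Matrix.mulVec_smul, smul_dotProduct, dotProduct_smul, hv', smul_zero, smul_zero] }
    have hWinv : ∀ s ∈ matrixSet N, W.map (Matrix.toLin' s) ≤ W := by
      intro s hs
      rintro _ ⟨v, hv, rfl⟩
      have hv' : v ⬝ᵥ (B *ᵥ v) = 0 := hv
      show (Matrix.toLin' s v) ⬝ᵥ (B *ᵥ (Matrix.toLin' s v)) = 0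
      rw [Matrix.toLin'_apply]
      have := quadOf_fix B s (hfix s hs) v
      simp only [quadOf] at this
      rw [this, hv']
    rcases habs.1 W hWinv with hW | hW
    · -- impossible: an injective additive map `F^n → F`
      exfalso
      let q : (Fin n → F) →+ F :=
        { toFun := fun v => v ⬝ᵥ (B *ᵥ v)
          map_zero' := by rw [zero_dotProduct]
          map_add' := by
            intro u v
            show (u + v) ⬝ᵥ (B *ᵥ (u + v)) = u ⬝ᵥ (B *ᵥ u) + v ⬝ᵥ (B *ᵥ v)
            rw [Matrix.mulVec_add, add_dotProduct, dotProduct_add, dotProduct_add,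
              hsymm v u]
            have : u ⬝ᵥ (B *ᵥ v) + u ⬝ᵥ (B *ᵥ v) = 0 := by rw [← two_mul, h2, zero_mul]
            linear_combination this }
      have hinj : Function.Injective q := by
        rw [injective_iff_map_eq_zero]
        intro v hv
        have : v ∈ W := hv
        rw [hW] at this
        exact (Submodule.mem_bot F).1 this
      have hcard := Fintype.card_le_of_injective q hinj
      rw [Fintype.card_fun, Fintype.card_fin] at hcard
      have h1 : 1 < Fintype.card F := Fintype.one_lt_card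
      have h3 : Fintype.card F ^ 1 < Fintype.card F ^ n :=
        Nat.pow_lt_pow_right h1 (by omega)
      rw [pow_one] at h3
      omega
    · apply hsymp _ hεm
      intro v
      have : v ∈ W := by rw [hW]; trivial
      exact this
  · -- odd characteristic
    have hcases : ε = 1 ∨ ε = -1 := by
      have : (ε - 1) * (ε + 1) = 0 := by
        have : (ε - 1) * (ε + 1) = ε * ε - 1 := by ring
        rw [this, hε2, sub_self]
      rcases mul_eq_zero.1 this with h | h
      · exact Or.inl (sub_eq_zero.1 h)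
      · exact Or.inr (eq_neg_of_add_eq_zero_left h)
    rcases hcases with hε1 | hεm
    · -- symmetric: quadratic form
      have hsymm : Bᵀ = B := by rw [hε, hε1, one_smul]
      have h2B : IsUnit ((2 : F) • B).det := by
        rw [Matrix.det_smul]
        exact (IsUnit.mk0 _ (pow_ne_zero _ h2)).mul hBdet
      have hrep2 : Rep (RingHom.id F) ((2 : F) • B) (QuadraticMap.polar (quadOf B)) := by
        intro u v
        rw [polar_quadOf B hsymm]
        rfl
      have hQ : IsNondegenerateQuadraticForm (quadOf B) :=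
        ⟨quadOf_smul B, hrep2.bilinear, hrep2.nondegenerate h2B⟩
      have hfixQ : FixesQuadForm (matrixSet N) (quadOf B) := by
        intro s hs v
        exact quadOf_fix B s (hfix s hs) v
      exact tame_of_fixes_quad hn H N hnorm habs _ hQ hfixQ
    · apply hsymp _ hεm
      intro v
      have := hswap v v
      rw [hεm] at this
      have h3 : (2 : F) * (v ⬝ᵥ (B *ᵥ v)) = 0 := by linear_combination this
      rcases mul_eq_zero.1 h3 with h4 | h4
      · exact absurd h4 h2
      · exact h4

end Cfsg.Agent.Lib.H6.Asch
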