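/-
S5630 project (Aschbacher's theorem, linear case), tool **U3c**:
an absolutely irreducible group fixing a non-zero `σ`-sesquilinear form given by a matrix
(`σ` of order two) fixes a non-degenerate unitary form (class 8).
-/
import Mathlib
import Cfsg.Agent.Lib.H6.AschU3b

set_option autoImplicit false
set_option linter.unusedSectionVars false
set_option linter.unusedVariables false

namespace Cfsg.Agent.Lib.H6.Asch

open Cfsg Cfsg.Geo Cfsg.Agent.Lib.Lead.Asch
open scoped MatrixGroups Matrix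

variable {F : Type*} [Field F] {ι : Type} [Fintype ι] [DecidableEq ι]

/-- Hilbert 90 for an automorphism of order two. -/
theorem hilbert90_two (σ : F ≃+* F) (hσ : σ ≠ RingEquiv.refl F) (hσ2 : ∀ a, σ (σ a) = a)
    (ε : F) (hε : ε * σ ε = 1) : ∃ a : F, a ≠ 0 ∧ ε * σ a = a := by
  by_cases h1 : (1 : F) + ε = 0
  · have hεm : ε = -1 := eq_neg_of_add_eq_zero_right h1
    obtain ⟨t, ht⟩ : ∃ t : F, σ t ≠ t := by
      by_contra hcon
      push Not at hcon
      exact hσ (RingEquiv.ext hcon)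
    refine ⟨t - σ t, fun h => ht (sub_eq_zero.1 h).symm, ?_⟩
    rw [hεm, map_sub, hσ2]; ring
  · refine ⟨1 + ε, h1, ?_⟩
    rw [map_add, map_one, mul_add, mul_one, hε, add_comm]

theorem map_map_invol (σ : F ≃+* F) (hσ2 : ∀ a, σ (σ a) = a) (X : Matrix ι ι F) :
    (X.map σ).map σ = X := by
  ext i j
  exact hσ2 (X i j)

/-- the operation `X ↦ σ(X)ᵀ` is an involution -/
theorem star_star (σ : F ≃+* F) (hσ2 : ∀ a, σ (σ a) = a) (X : Matrix ι ι F) :
    (((X.map σ)ᵀ).map σ)ᵀ = X := by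
  ext i j
  exact hσ2 (X i j)

theorem star_smul (σ : F ≃+* F) (c : F) (X : Matrix ι ι F) :
    ((c • X).map σ)ᵀ = σ c • (X.map σ)ᵀ := by
  ext i j
  simp

/-! ### U3c -/

variable [Fintype F] {n : ℕ}

/-- **U3c** (C8), a non-zero invariant `σ`-sesquilinear form given by its matrix, `σ` of order two. -/
theorem tame_of_fixes_sesq_matrix (hn : 3 ≤ n) (H N : Subgroup (GL (Fin n) F))
    (hnorm : NormalizedBy H N) (habs : ActsAbsolutelyIrreducibly (matrixSet N))
    (σ : F ≃+* F) (hσ : σ ≠ RingEquiv.refl F) (hσ2 : ∀ a, σ (σ a) = a)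
    (B : Matrix (Fin n) (Fin n) F) (hB : B ≠ 0)
    (hfix : ∀ g ∈ matrixSet N, gᵀ * B * g.map σ = B) : TameC8 H := by
  have hmapT : ∀ X : Matrix (Fin n) (Fin n) F, X.map ((σ : F →+* F) : F → F) = X.map σ :=
    fun X => rfl
  have hfix' : ∀ g ∈ matrixSet N, gᵀ * B * g.map (σ : F →+* F) = B := hfix
  have hBdet : IsUnit B.det :=
    isUnit_det_of_fix (σ : F →+* F) (matrixSet N) habs.1 (isUnit_det_of_mem_matrixSet N) B hB hfix'
  -- `σ(B)ᵀ` is invariant too
  have hfixS : ∀ g ∈ matrixSet N, gᵀ * (B.map σ)ᵀ * g.map (σ : F →+* F) = (B.map σ)ᵀ := by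
    intro g hg
    have h1 : (gᵀ * B * g.map σ).map (σ : F →+* F) = B.map (σ : F →+* F) := by rw [hfix g hg]
    rw [Matrix.map_mul, Matrix.map_mul] at h1
    change gᵀ.map σ * B.map σ * (g.map σ).map σ = B.map σ at h1
    rw [map_map_invol σ hσ2] at h1
    have h2 := congrArg Matrix.transpose h1
    rw [Matrix.transpose_mul, Matrix.transpose_mul, ← Matrix.mul_assoc] at h2
    have h3 : ((gᵀ).map σ)ᵀ = g.map σ := by
      ext i j; rfl
    rw [h3] at h2
    rw [hmapT]
    exact h2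
  obtain ⟨ε, hε⟩ := core (σ : F →+* F) (matrixSet N) habs.2 (isUnit_det_of_mem_matrixSet N) B (B.map σ)ᵀ
    hBdet hfix' hfixS
  have hεε : ε * σ ε = 1 := by
    have h1 : B = (σ ε * ε) • B := by
      have := congrArg (fun X : Matrix (Fin n) (Fin n) F => (X.map σ)ᵀ) hε
      rw [star_star σ hσ2, star_smul, hε, smul_smul] at this
      exact this
    obtain ⟨i, j, hij⟩ : ∃ i j, B i j ≠ 0 := by
      by_contra hcon
      push Not at hcon
      exact hB (by ext i j; exact hcon i j)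
    have := congrFun (congrFun h1 i) j
    rw [Matrix.smul_apply, smul_eq_mul] at this
    have h3 : (σ ε * ε - 1) * B i j = 0 := by rw [sub_mul, one_mul, ← this, sub_self]
    rcases mul_eq_zero.1 h3 with h4 | h4
    · rw [mul_comm]; exact sub_eq_zero.1 h4
    · exact absurd h4 hij
  obtain ⟨a, ha0, ha⟩ := hilbert90_two σ hσ hσ2 ε hεε
  set B₁ : Matrix (Fin n) (Fin n) F := a • B with hB₁
  have hherm : (B₁.map σ)ᵀ = B₁ := by
    rw [hB₁, star_smul, hε, smul_smul, mul_comm, ha]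
  have hB₁det : IsUnit B₁.det := by
    rw [hB₁, Matrix.det_smul]
    exact (IsUnit.mk0 _ (pow_ne_zero _ ha0)).mul hBdet
  have hfix₁ : ∀ g ∈ matrixSet N, gᵀ * B₁ * g.map (σ : F →+* F) = B₁ := by
    intro g hg
    rw [hB₁, Matrix.mul_smul, Matrix.smul_mul, hfix' g hg]
  have hrep : Rep (σ : F →+* F) B₁ (formOf (σ : F →+* F) B₁) := rep_formOf _ _
  have hnd : IsNondegenerateForm (formOf (σ : F →+* F) B₁) := hrep.nondegenerate hB₁det
  have hfixf : FixesForm (matrixSet N) (formOf (σ : F →+* F) B₁) := hrep.fixesForm _ hfix₁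
  have hU : IsUnitaryForm σ (formOf (σ : F →+* F) B₁) := by
    refine ⟨hσ, hσ2, hrep.add_left, hrep.smul_left, fun v w => ?_, hnd⟩
    -- `f v w = σ (f w v)`
    show v ⬝ᵥ (B₁ *ᵥ (fun i => (σ : F →+* F) (w i))) = σ (w ⬝ᵥ (B₁ *ᵥ (fun i => (σ : F →+* F) (v i))))
    have h1 : σ (w ⬝ᵥ (B₁ *ᵥ (fun i => (σ : F →+* F) (v i)))) =
        (fun i => (σ : F →+* F) (w i)) ⬝ᵥ (B₁.map (σ : F →+* F) *ᵥ v) := by
      have e1 := RingHom.map_dotProduct (σ : F →+* F) w (B₁ *ᵥ (fun i => (σ : F →+* F) (v i)))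
      have e2 : ((σ : F →+* F) ∘ (B₁ *ᵥ (fun i => (σ : F →+* F) (v i)))) = B₁.map (σ : F →+* F) *ᵥ v := by
        funext i
        rw [Function.comp_apply, RingHom.map_mulVec]
        congr 1
        funext j
        exact hσ2 (v j)
      rw [e2] at e1
      exact e1
    have hh2 : B₁ᵀ = B₁.map σ := by
      have := congrArg Matrix.transpose hherm
      rw [Matrix.transpose_transpose] at this
      exact this.symm
    rw [h1, Matrix.dotProduct_mulVec, dotProduct_comm, ← Matrix.mulVec_transpose, hh2]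
    rfl
  exact tame_of_fixes_unitary hn H N hnorm habs σ _ hU hfixf

end Cfsg.Agent.Lib.H6.Asch
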