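import Mathlib
import Cfsg.Prelude.Def_Transfer

set_option autoImplicit false

namespace Cfsg.Agent.Lib.H6

variable {G : Type*} [Group G]

/-- The subgroup generated by the `p'`-elements is normal. -/
theorem pResidual_normal (p : ℕ) : (Cfsg.pResidual p G).Normal := by
  constructor
  intro n hn g
  unfold Cfsg.pResidual at hn ⊢
  induction hn using Subgroup.closure_induction with
  | mem x hx =>
    apply Subgroup.subset_closure
    show Nat.Coprime (orderOf (g * x * g⁻¹)) p
    have : g * x * g⁻¹ = MulAut.conj g x := by simp [MulAut.conj_apply]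
    rw [this, MulEquiv.orderOf_eq]
    exact hx
  | one => simp
  | mul x y _ _ hx hy =>
    have : g * (x * y) * g⁻¹ = (g * x * g⁻¹) * (g * y * g⁻¹) := by group
    rw [this]; exact Subgroup.mul_mem _ hx hy
  | inv x _ hx =>
    have : g * x⁻¹ * g⁻¹ = (g * x * g⁻¹)⁻¹ := by group
    rw [this]; exact Subgroup.inv_mem _ hx

/-- Every element has a `p`-power power lying in the `p`-residual (finite groups). -/
theorem exists_pow_mem_pResidual [Finite G] (p : ℕ) [hp : Fact p.Prime] (g : G) :
    ∃ k : ℕ, g ^ p ^ k ∈ Cfsg.pResidual p G := by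
  have hpos : 0 < orderOf g := orderOf_pos g
  obtain ⟨k, m, hm, hkm⟩ := Nat.exists_eq_pow_mul_and_not_dvd hpos.ne' p hp.out.ne_one
  refine ⟨k, Subgroup.subset_closure ?_⟩
  show Nat.Coprime (orderOf (g ^ p ^ k)) p
  have h1 : orderOf (g ^ p ^ k) ∣ m := by
    apply orderOf_dvd_of_pow_eq_one
    rw [← pow_mul, ← hkm, pow_orderOf_eq_one]
  have h2 : Nat.Coprime m p := (Nat.Prime.coprime_iff_not_dvd hp.out).mpr hm |>.symm
  exact Nat.Coprime.coprime_dvd_left h1 h2

/-- The quotient by the `p`-residual is a `p`-group. -/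
theorem isPGroup_quotient_pResidual [Finite G] (p : ℕ) [hp : Fact p.Prime]
    [hN : (Cfsg.pResidual p G).Normal] : IsPGroup p (G ⧸ Cfsg.pResidual p G) := by
  intro q
  obtain ⟨g, rfl⟩ := QuotientGroup.mk_surjective q
  obtain ⟨k, hk⟩ := exists_pow_mem_pResidual p g
  refine ⟨k, ?_⟩
  rw [← QuotientGroup.mk_pow]
  exact (QuotientGroup.eq_one_iff _).mpr hk

/-- The index of the `p`-residual is a power of `p`. -/
theorem index_pResidual [Finite G] (p : ℕ) [hp : Fact p.Prime] :
    ∃ n : ℕ, (Cfsg.pResidual p G).index = p ^ n := by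
  have := pResidual_normal (G := G) p
  have := isPGroup_quotient_pResidual (G := G) p
  rw [IsPGroup.iff_card] at this
  obtain ⟨n, hn⟩ := this
  exact ⟨n, by rw [Subgroup.index_eq_card]; exact hn⟩

/-- If a subgroup of index prime to `p` lies in the `p`-residual, the residual is everything. -/
theorem pResidual_eq_top_of_le [Finite G] (p : ℕ) [hp : Fact p.Prime] (H : Subgroup G)
    (hH : Nat.Coprime p H.index) (hle : H ≤ Cfsg.pResidual p G) : Cfsg.pResidual p G = ⊤ := by
  obtain ⟨n, hn⟩ := index_pResidual (G := G) p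
  have hdvd : (Cfsg.pResidual p G).index ∣ H.index := Subgroup.index_dvd_of_le hle
  rw [hn] at hdvd
  have : p ^ n = 1 := by
    have hc : Nat.Coprime (p ^ n) H.index := Nat.Coprime.pow_left n hH
    exact Nat.eq_one_of_dvd_coprimes hc (dvd_refl _) hdvd
  rw [this] at hn
  exact Subgroup.index_eq_one.mp hn


/-- Bezout: if `g^a` and `g^b` lie in a subgroup for coprime `a`, `b`, so does `g`. -/
theorem mem_of_pow_mem_of_coprime {H : Subgroup G} {g : G} {a b : ℕ} (hab : Nat.Coprime a b)
    (ha : g ^ a ∈ H) (hb : g ^ b ∈ H) : g ∈ H := by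
  have h1 : ((Nat.gcd a b : ℕ) : ℤ) = a * Nat.gcdA a b + b * Nat.gcdB a b := Nat.gcd_eq_gcd_ab a b
  rw [hab.gcd_eq_one] at h1
  have h2 : g = (g ^ a) ^ (Nat.gcdA a b) * (g ^ b) ^ (Nat.gcdB a b) := by
    rw [← zpow_natCast g a, ← zpow_natCast g b, ← zpow_mul, ← zpow_mul, ← zpow_add, ← h1]
    simp
  rw [h2]
  exact H.mul_mem (H.zpow_mem ha _) (H.zpow_mem hb _)

/-- If the `2`-residual is everything, then every element of `2`-power order lies in the commutator
subgroup. -/
theorem mem_commutator_of_pResidual_eq_top [Finite G] (p : ℕ) [hp : Fact p.Prime]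
    (h : Cfsg.pResidual p G = ⊤) (t : G) (k : ℕ) (ht : t ^ p ^ k = 1) : t ∈ commutator G := by
  have hpos : 0 < Nat.card G := Nat.card_pos
  obtain ⟨e, m, hm, hem⟩ := Nat.exists_eq_pow_mul_and_not_dvd hpos.ne' p hp.out.ne_one
  have hmp : Nat.Coprime m p := ((Nat.Prime.coprime_iff_not_dvd hp.out).mpr hm).symm
  -- the homomorphism g ↦ (of g)^m
  let f : G →* Abelianization G := (powMonoidHom m).comp Abelianization.of
  have hker : f.ker = ⊤ := by
    rw [eq_top_iff, ← h]
    unfold Cfsg.pResidual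
    rw [Subgroup.closure_le]
    intro g hg
    have hg' : Nat.Coprime (orderOf g) p := hg
    have hd : orderOf g ∣ p ^ e * m := hem ▸ orderOf_dvd_natCard g
    have hd2 : orderOf g ∣ m := (Nat.Coprime.pow_right e hg').dvd_of_dvd_mul_left hd
    show f g = 1
    show (Abelianization.of g) ^ m = 1
    rw [← map_pow, orderOf_dvd_iff_pow_eq_one.mp hd2, map_one]
  have h1 : t ^ m ∈ commutator G := by
    rw [← Abelianization.ker_of, MonoidHom.mem_ker, map_pow]
    have : t ∈ f.ker := by rw [hker]; trivial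
    exact this
  have h2 : t ^ p ^ k ∈ commutator G := by rw [ht]; exact Subgroup.one_mem _
  exact mem_of_pow_mem_of_coprime (Nat.Coprime.pow_right k hmp) h1 h2

end Cfsg.Agent.Lib.H6
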