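import Mathlib
import Cfsg.Prelude.Def_TwoFusion

set_option autoImplicit false

namespace Cfsg.Agent.Lib.H6

variable {G : Type*} [Group G]

/-- `a (ab)^k a⁻¹ = (ab)^{-k}` for an involution-like `a` (`a*a = 1`, `b*b=1`). -/
theorem inv_conj_pow {a b : G} (ha : a * a = 1) (hb : b * b = 1) (k : ℕ) :
    a * (a * b) ^ k * a⁻¹ = ((a * b) ^ k)⁻¹ := by
  have hainv : a⁻¹ = a := inv_eq_of_mul_eq_one_right ha
  have hbinv : b⁻¹ = b := inv_eq_of_mul_eq_one_right hb
  have h1 : a * (a * b) * a⁻¹ = (a * b)⁻¹ := by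
    rw [mul_inv_rev, hainv, hbinv, ← mul_assoc, ha, one_mul]
  have : a * (a * b) ^ k * a⁻¹ = (a * (a * b) * a⁻¹) ^ k := by
    rw [conj_pow]
  rw [this, h1, inv_pow]

theorem pow_mul_eq {a b : G} (ha : a * a = 1) (hb : b * b = 1) (k : ℕ) :
    (a * b) ^ k * a = a * ((a * b) ^ k)⁻¹ := by
  have h := inv_conj_pow ha hb k
  have hainv : a⁻¹ = a := inv_eq_of_mul_eq_one_right ha
  have : a * (a * (a * b) ^ k * a⁻¹) = a * ((a * b) ^ k)⁻¹ := by rw [h]
  rw [← this, hainv]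
  calc (a * b) ^ k * a = (a * a) * (a * b) ^ k * a := by rw [ha, one_mul]
    _ = a * (a * (a * b) ^ k * a) := by group

/-- conjugating `a` by `(ab)^j` gives `(ab)^{2j} a`. -/
theorem conj_by_pow {a b : G} (ha : a * a = 1) (hb : b * b = 1) (j : ℕ) :
    (a * b) ^ j * a * ((a * b) ^ j)⁻¹ = (a * b) ^ (2 * j) * a := by
  have h := pow_mul_eq ha hb j
  have : a * ((a * b) ^ j)⁻¹ = (a * b) ^ j * a := h.symm
  calc (a * b) ^ j * a * ((a * b) ^ j)⁻¹ = (a * b) ^ j * (a * ((a * b) ^ j)⁻¹) := by group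
    _ = (a * b) ^ j * ((a * b) ^ j * a) := by rw [this]
    _ = (a * b) ^ (2 * j) * a := by rw [two_mul, pow_add]; group

/-- Two involutions whose product has odd order `2k+1` are conjugate by `(ab)^k`. -/
theorem conj_of_pow_odd {a b : G} (ha : a * a = 1) (hb : b * b = 1) (k : ℕ)
    (h : (a * b) ^ (2 * k + 1) = 1) :
    (a * b) ^ k * a * ((a * b) ^ k)⁻¹ = b := by
  rw [conj_by_pow ha hb]
  have h2 : (a * b) ^ (2 * k) = (a * b)⁻¹ := by
    rw [pow_succ] at h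
    exact eq_inv_of_mul_eq_one_left h
  rw [h2, mul_inv_rev]
  have hainv : a⁻¹ = a := inv_eq_of_mul_eq_one_right ha
  have hbinv : b⁻¹ = b := inv_eq_of_mul_eq_one_right hb
  rw [hainv, hbinv, mul_assoc, ha, mul_one]


/-- If `r` inverts `x` then `x^j r x^{-j} = x^{2j} r`. -/
theorem conj_pow_of_inverts {r x : G} (h : r * x * r⁻¹ = x⁻¹) (j : ℕ) :
    x ^ j * r * (x ^ j)⁻¹ = x ^ (2 * j) * r := by
  have h1 : r * x ^ j * r⁻¹ = (x ^ j)⁻¹ := by
    have : r * x ^ j * r⁻¹ = (r * x * r⁻¹) ^ j := by rw [conj_pow]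
    rw [this, h, inv_pow]
  have h2 : r * (x ^ j)⁻¹ = x ^ j * r := by
    have : r * (x ^ j)⁻¹ * r⁻¹ = x ^ j := by
      calc r * (x ^ j)⁻¹ * r⁻¹ = (r * x ^ j * r⁻¹)⁻¹ := by group
        _ = x ^ j := by rw [h1, inv_inv]
    calc r * (x ^ j)⁻¹ = (r * (x ^ j)⁻¹ * r⁻¹) * r := by group
      _ = x ^ j * r := by rw [this]
  calc x ^ j * r * (x ^ j)⁻¹ = x ^ j * (r * (x ^ j)⁻¹) := by group
    _ = x ^ j * (x ^ j * r) := by rw [h2]
    _ = x ^ (2 * j) * r := by rw [two_mul, pow_add]; group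

theorem inverts_left {a b : G} (ha : a * a = 1) (hb : b * b = 1) :
    a * (a * b) * a⁻¹ = (a * b)⁻¹ := by
  have hainv : a⁻¹ = a := inv_eq_of_mul_eq_one_right ha
  have hbinv : b⁻¹ = b := inv_eq_of_mul_eq_one_right hb
  rw [mul_inv_rev, hainv, hbinv, ← mul_assoc, ha, one_mul]

theorem inverts_right {a b : G} (ha : a * a = 1) (hb : b * b = 1) :
    b * (a * b) * b⁻¹ = (a * b)⁻¹ := by
  have hainv : a⁻¹ = a := inv_eq_of_mul_eq_one_right ha
  have hbinv : b⁻¹ = b := inv_eq_of_mul_eq_one_right hb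
  rw [mul_inv_rev, hainv, hbinv, mul_assoc, mul_assoc, hb, mul_one]

/-- Key dihedral lemma: if `(ab)^(2m) = 1` for involutions `a`, `b`, then `u = (ab)^m` commutes with `a`,
and `u a` is conjugate (by a power of `ab`) to `a` or to `b`. -/
theorem even_case {a b : G} (ha : a * a = 1) (hb : b * b = 1) (m : ℕ) (h : (a * b) ^ (2 * m) = 1) :
    Commute ((a * b) ^ m) a ∧ ∃ c : G, (a * b) ^ m * a = c * a * c⁻¹ ∨ (a * b) ^ m * a = c * b * c⁻¹ := by
  have hainv : a⁻¹ = a := inv_eq_of_mul_eq_one_right ha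
  have hbinv : b⁻¹ = b := inv_eq_of_mul_eq_one_right hb
  have huinv : ((a * b) ^ m)⁻¹ = (a * b) ^ m := by
    apply inv_eq_of_mul_eq_one_right
    rw [← pow_add, ← two_mul, h]
  constructor
  · have := pow_mul_eq ha hb m
    rw [huinv] at this
    exact this
  · rcases Nat.even_or_odd' m with ⟨j, hj | hj⟩
    · refine ⟨(a * b) ^ j, Or.inl ?_⟩
      rw [conj_pow_of_inverts (inverts_left ha hb), hj]
    · refine ⟨(a * b) ^ (j + 1), Or.inr ?_⟩
      rw [conj_pow_of_inverts (inverts_right ha hb), hj]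
      have : (a * b) ^ (2 * (j + 1)) = (a * b) ^ (2 * j + 1) * (a * b) := by
        rw [← pow_succ]; congr 1
      rw [this, mul_assoc, mul_assoc a b b, hb, mul_one]

/-- An isolated involution squares to one. -/
theorem isolated_mul_self {z : G} (hz : Cfsg.IsIsolatedInvolution z) : z * z = 1 := by
  have := pow_orderOf_eq_one z
  rw [hz.1, pow_two] at this
  exact this

theorem isolated_ne_one {z : G} (hz : Cfsg.IsIsolatedInvolution z) : z ≠ 1 := by
  intro h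
  have := hz.1
  rw [h, orderOf_one] at this
  omega

theorem conj_mul_self {z : G} (hz : z * z = 1) (g : G) : g * z * g⁻¹ * (g * z * g⁻¹) = 1 := by
  calc g * z * g⁻¹ * (g * z * g⁻¹) = g * (z * z) * g⁻¹ := by group
    _ = 1 := by rw [hz]; group

/-- The product of an isolated involution with any of its conjugates has odd order. -/
theorem isolated_odd_orderOf [Finite G] {z : G} (hz : Cfsg.IsIsolatedInvolution z) (g : G) :
    Odd (orderOf (z * (g * z * g⁻¹))) := by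
  have ha : z * z = 1 := isolated_mul_self hz
  have hb : g * z * g⁻¹ * (g * z * g⁻¹) = 1 := conj_mul_self ha g
  by_contra hodd
  rw [Nat.not_odd_iff_even] at hodd
  obtain ⟨m, hm⟩ := hodd
  have hpos : 0 < orderOf (z * (g * z * g⁻¹)) := orderOf_pos _
  have hm0 : 0 < m := by omega
  have h2m : (z * (g * z * g⁻¹)) ^ (2 * m) = 1 := by
    rw [two_mul, ← hm]; exact pow_orderOf_eq_one _
  obtain ⟨hcomm, c, hc⟩ := even_case ha hb m h2m
  have hu1 : (z * (g * z * g⁻¹)) ^ m ≠ 1 := by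
    intro h1
    have := orderOf_dvd_of_pow_eq_one h1
    have := Nat.le_of_dvd hm0 this
    omega
  -- u * a is a conjugate of z commuting with z
  have key : ∃ h : G, (z * (g * z * g⁻¹)) ^ m * z = h * z * h⁻¹ := by
    rcases hc with hc | hc
    · exact ⟨c, hc⟩
    · refine ⟨c * g, ?_⟩
      rw [hc]; group
  obtain ⟨h, hh⟩ := key
  have hcz : Commute z (h * z * h⁻¹) := by
    rw [← hh]
    show z * ((z * (g * z * g⁻¹)) ^ m * z) = (z * (g * z * g⁻¹)) ^ m * z * z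
    rw [← mul_assoc, ← hcomm.eq]
  have := hz.2 h hcz
  rw [← hh] at this
  apply hu1
  calc (z * (g * z * g⁻¹)) ^ m = (z * (g * z * g⁻¹)) ^ m * z * z⁻¹ := by group
    _ = 1 := by rw [this]; group


/-- In a group, elements of odd order with equal squares are equal. -/
theorem eq_of_sq_eq_of_odd {a b : G} (ha : Odd (orderOf a)) (hb : Odd (orderOf b)) (h : a ^ 2 = b ^ 2) :
    a = b := by
  obtain ⟨k, hk⟩ := ha
  have h1 : a = (a ^ 2) ^ (k + 1) := by
    rw [← pow_mul]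
    have : 2 * (k + 1) = orderOf a + 1 := by omega
    rw [this, pow_succ, pow_orderOf_eq_one, one_mul]
  have h2 : a = b ^ (2 * k + 2) := by
    rw [h1, h, ← pow_mul]; congr 1
  have h3 : b ^ (2 * (2 * k + 1)) = 1 := by
    have : b ^ (2 * (2 * k + 2)) = b ^ 2 := by
      rw [mul_comm, pow_mul, ← h2, h]
    have h4 : b ^ 2 * b ^ (2 * (2 * k + 1)) = b ^ 2 * 1 := by
      rw [← pow_add, mul_one, ← this]; congr 1; ring
    exact mul_left_cancel h4
  have h5 : orderOf b ∣ 2 * k + 1 := by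
    have := orderOf_dvd_of_pow_eq_one h3
    have hc : Nat.Coprime (orderOf b) 2 := by
      exact Nat.coprime_two_right.mpr hb
    exact hc.dvd_of_dvd_mul_left this
  have h6 : b ^ (2 * k + 1) = 1 := orderOf_dvd_iff_pow_eq_one.mp h5
  rw [h2, pow_succ, h6, one_mul]

/-- For an isolated involution `z` and any `g`, there is `k` of odd order, inverted by `z`,
with `k z k⁻¹ = g z g⁻¹`; moreover `k` is a power of `g z g⁻¹ z`. -/
theorem isolated_exists_K [Finite G] {z : G} (hz : Cfsg.IsIsolatedInvolution z) (g : G) :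
    ∃ n : ℕ, Odd (orderOf ((g * z * g⁻¹ * z) ^ n)) ∧
      z * (g * z * g⁻¹ * z) ^ n * z⁻¹ = ((g * z * g⁻¹ * z) ^ n)⁻¹ ∧
      (g * z * g⁻¹ * z) ^ n * z * ((g * z * g⁻¹ * z) ^ n)⁻¹ = g * z * g⁻¹ := by
  have ha : z * z = 1 := isolated_mul_self hz
  have hzinv : z⁻¹ = z := inv_eq_of_mul_eq_one_right ha
  have hb : g * z * g⁻¹ * (g * z * g⁻¹) = 1 := conj_mul_self ha g
  have hbinv : (g * z * g⁻¹)⁻¹ = g * z * g⁻¹ := inv_eq_of_mul_eq_one_right hb
  have hxinv : (z * (g * z * g⁻¹))⁻¹ = g * z * g⁻¹ * z := by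
    rw [mul_inv_rev, hbinv, hzinv]
  have hodd : Odd (orderOf (g * z * g⁻¹ * z)) := by
    rw [← hxinv, orderOf_inv]; exact isolated_odd_orderOf hz g
  obtain ⟨j, hj⟩ := hodd
  have hinv : z * (g * z * g⁻¹ * z) * z⁻¹ = (g * z * g⁻¹ * z)⁻¹ := by
    rw [mul_inv_rev, hbinv, hzinv]
    calc z * (g * z * g⁻¹ * z) * z = z * (g * z * g⁻¹) * (z * z) := by group
      _ = z * (g * z * g⁻¹) := by rw [ha, mul_one]
  refine ⟨j + 1, ?_, ?_, ?_⟩
  · have : orderOf ((g * z * g⁻¹ * z) ^ (j + 1)) ∣ orderOf (g * z * g⁻¹ * z) := orderOf_pow_dvd _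
    rw [hj] at this
    exact Odd.of_dvd_nat ⟨j, rfl⟩ this
  · have : z * (g * z * g⁻¹ * z) ^ (j + 1) * z⁻¹ = (z * (g * z * g⁻¹ * z) * z⁻¹) ^ (j + 1) := by
      rw [conj_pow]
    rw [this, hinv, inv_pow]
  · have h1 := conj_pow_of_inverts hinv (j + 1)
    rw [h1]
    have : (g * z * g⁻¹ * z) ^ (2 * (j + 1)) = g * z * g⁻¹ * z := by
      have : 2 * (j + 1) = orderOf (g * z * g⁻¹ * z) + 1 := by omega
      rw [this, pow_succ, pow_orderOf_eq_one, one_mul]
    rw [this, mul_assoc, ha, mul_one]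


theorem isolated_odd_orderOf' [Finite G] {z : G} (hz : Cfsg.IsIsolatedInvolution z) (g : G) :
    Odd (orderOf (g * z * g⁻¹ * z)) := by
  have ha : z * z = 1 := isolated_mul_self hz
  have hzinv : z⁻¹ = z := inv_eq_of_mul_eq_one_right ha
  have hb : g * z * g⁻¹ * (g * z * g⁻¹) = 1 := conj_mul_self ha g
  have hbinv : (g * z * g⁻¹)⁻¹ = g * z * g⁻¹ := inv_eq_of_mul_eq_one_right hb
  have hxinv : (z * (g * z * g⁻¹))⁻¹ = g * z * g⁻¹ * z := by
    rw [mul_inv_rev, hbinv, hzinv]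
  rw [← hxinv, orderOf_inv]; exact isolated_odd_orderOf hz g

end Cfsg.Agent.Lib.H6
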