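import Cfsg.Agent.Lib.H6.KGVPartial

/-!
# S4958 piece AS: `good_prod`
-/

set_option autoImplicit false

namespace Cfsg.Agent.Lib.H6.KGV

open Cfsg.Agent.Lib.H20.KGV
open scoped ComplexConjugate
open Classical

/-- **Piece AS** (product step).  -/
theorem good_prod {H₁ : Type*} {H' : Type*} [CommGroup H₁] [Fintype H₁] [CommGroup H'] [Fintype H']
    (w : ℝ) (hw : (Fintype.card H₁ : ℝ) + 1 ≤ w) (μ' : H' → ℝ) (hμ' : ∀ h, 0 ≤ μ' h)
    (κ : ℝ) (hκ : 0 ≤ κ) (hgood : Good μ' κ) :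
    Good (fun x : H₁ × H' => (if x.1 = 1 then 1 else w) * μ' x.2)
      ((Fintype.card H₁ : ℝ) ^ 2 * κ) := by
  have : Fintype (H₁ →* ℂˣ) := Fintype.ofFinite _
  intro f hf hne
  set c : ℝ := (Fintype.card H₁ : ℝ) with hc
  have hcard : Fintype.card (H₁ →* ℂˣ) = Fintype.card H₁ := card_dual
  have hcpos : 0 < c := by
    rw [hc]; exact_mod_cast (Fintype.card_pos (α := H₁))
  set β : (H₁ →* ℂˣ) → H' → ℂ := fun φ => pcoeff f φ with hβ
  have hβI : ∀ φ, IntF (β φ) := fun φ => intF_pcoeff hf φ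
  set S : Finset (H₁ →* ℂˣ) := Finset.univ.filter fun φ => β φ ≠ 0 with hS
  set n : ℝ := (S.card : ℝ) with hn
  have hzero : ∀ φ, φ ∉ S → ∀ h', β φ h' = 0 := by
    intro φ hφ h'
    have : β φ = 0 := by
      by_contra h
      exact hφ (by rw [hS]; exact Finset.mem_filter.mpr ⟨Finset.mem_univ _, h⟩)
    rw [this]; rfl
  -- n ≥ 1
  have hn1 : 1 ≤ n := by
    have : S.Nonempty := by
      by_contra hemp
      rw [Finset.not_nonempty_iff_eq_empty] at hemp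
      apply hne
      funext x
      obtain ⟨h₁, h'⟩ := x
      rw [apply_eq_sum_pcoeff f h₁ h']
      refine Finset.sum_eq_zero fun φ _ => ?_
      have : β φ h' = 0 := hzero φ (by rw [hemp]; exact Finset.notMem_empty _) h'
      simp only [hβ] at this
      rw [this, zero_mul]
    rw [hn]
    exact_mod_cast this.card_pos
  have hnc : n ≤ c := by
    rw [hn, hc, ← hcard]
    exact_mod_cast Finset.card_le_univ S
  have hw1 : 0 ≤ w - 1 := by linarith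
  -- the pointwise inequality in h'
  have hpt : ∀ h' : H', (w * c - (w - 1) * n) * ∑ φ ∈ S, ‖β φ h'‖ ^ 2 ≤
      ∑ h₁ : H₁, (if h₁ = 1 then 1 else w) * ‖f (h₁, h')‖ ^ 2 := by
    intro h'
    have h1 : ∑ h₁ : H₁, (if h₁ = 1 then 1 else w) * ‖f (h₁, h')‖ ^ 2 =
        w * ∑ h₁, ‖f (h₁, h')‖ ^ 2 - (w - 1) * ‖f (1, h')‖ ^ 2 := by
      have h3 : ∀ h₁ : H₁, (if h₁ = 1 then 1 else w) * ‖f (h₁, h')‖ ^ 2 =
          w * ‖f (h₁, h')‖ ^ 2 - if h₁ = 1 then (w - 1) * ‖f (1, h')‖ ^ 2 else 0 := by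
        intro h₁
        by_cases hk : h₁ = 1
        · subst hk; simp; ring
        · simp [hk]
      simp_rw [h3]
      rw [Finset.sum_sub_distrib, Finset.sum_ite_eq' Finset.univ (1 : H₁)]
      simp only [Finset.mem_univ, if_true]
      rw [← Finset.mul_sum]
    have h2 : ∑ φ : H₁ →* ℂˣ, ‖pcoeff f φ h'‖ ^ 2 = ∑ φ ∈ S, ‖β φ h'‖ ^ 2 := by
      symm
      refine Finset.sum_subset (Finset.subset_univ _) fun φ _ hφ => ?_
      rw [hzero φ hφ h']; simp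
    have h4 : ∑ φ : H₁ →* ℂˣ, pcoeff f φ h' = ∑ φ ∈ S, β φ h' := by
      symm
      refine Finset.sum_subset (Finset.subset_univ _) fun φ _ hφ => ?_
      exact hzero φ hφ h'
    have hCS : ‖∑ φ ∈ S, β φ h'‖ ^ 2 ≤ n * ∑ φ ∈ S, ‖β φ h'‖ ^ 2 := by
      have h5 : ‖∑ φ ∈ S, β φ h'‖ ≤ ∑ φ ∈ S, ‖β φ h'‖ := norm_sum_le _ _
      have h6 : (∑ φ ∈ S, ‖β φ h'‖) ^ 2 ≤ (S.card : ℝ) * ∑ φ ∈ S, ‖β φ h'‖ ^ 2 :=
        sq_sum_le_card_mul_sum_sq
      calc ‖∑ φ ∈ S, β φ h'‖ ^ 2 ≤ (∑ φ ∈ S, ‖β φ h'‖) ^ 2 :=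
            pow_le_pow_left₀ (norm_nonneg _) h5 2
        _ ≤ _ := h6
    rw [h1, sum_norm_sq_fst, apply_one_eq_sum_pcoeff f h', h2, h4]
    have h7 : 0 ≤ ∑ φ ∈ S, ‖β φ h'‖ ^ 2 := Finset.sum_nonneg fun _ _ => by positivity
    nlinarith [mul_le_mul_of_nonneg_left hCS hw1]
  -- each φ ∈ S contributes at least κ
  have hS_good : ∀ φ ∈ S, κ ≤ ∑ h', μ' h' * ‖β φ h'‖ ^ 2 := by
    intro φ hφ
    have : β φ ≠ 0 := by
      rw [hS] at hφ
      exact (Finset.mem_filter.mp hφ).2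
    exact hgood (β φ) (hβI φ) this
  have hcoef : 0 ≤ w * c - (w - 1) * n := by nlinarith
  -- assemble
  have hsum : (∑ x : H₁ × H', ((if x.1 = 1 then 1 else w) * μ' x.2) * ‖f x‖ ^ 2) =
      ∑ h' : H', μ' h' * ∑ h₁ : H₁, (if h₁ = 1 then 1 else w) * ‖f (h₁, h')‖ ^ 2 := by
    rw [Fintype.sum_prod_type_right]
    refine Finset.sum_congr rfl fun h' _ => ?_
    rw [Finset.mul_sum]
    refine Finset.sum_congr rfl fun h₁ _ => ?_
    ring
  show c ^ 2 * κ ≤ ∑ x : H₁ × H', ((if x.1 = 1 then 1 else w) * μ' x.2) * ‖f x‖ ^ 2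
  rw [hsum]
  have hlow : (w * c - (w - 1) * n) * (n * κ) ≤
      ∑ h' : H', μ' h' * ∑ h₁ : H₁, (if h₁ = 1 then 1 else w) * ‖f (h₁, h')‖ ^ 2 := by
    calc (w * c - (w - 1) * n) * (n * κ)
        ≤ (w * c - (w - 1) * n) * ∑ φ ∈ S, ∑ h', μ' h' * ‖β φ h'‖ ^ 2 := by
          refine mul_le_mul_of_nonneg_left ?_ hcoef
          calc n * κ = ∑ _φ ∈ S, κ := by rw [Finset.sum_const, nsmul_eq_mul]
            _ ≤ _ := Finset.sum_le_sum hS_good
      _ = ∑ h' : H', μ' h' * ((w * c - (w - 1) * n) * ∑ φ ∈ S, ‖β φ h'‖ ^ 2) := by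
          rw [Finset.sum_comm, Finset.mul_sum]
          refine Finset.sum_congr rfl fun h' _ => ?_
          rw [← Finset.mul_sum]
          ring
      _ ≤ _ := Finset.sum_le_sum fun h' _ => mul_le_mul_of_nonneg_left (hpt h') (hμ' h')
  have hfin : c ^ 2 * κ ≤ (w * c - (w - 1) * n) * (n * κ) := by
    have h1 : 0 ≤ (c - n) * ((w - 1) * n - c) := by
      apply mul_nonneg
      · linarith
      · nlinarith
    have h2 : (w * c - (w - 1) * n) * n - c ^ 2 = (c - n) * ((w - 1) * n - c) := by ring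
    have h3 : c ^ 2 ≤ (w * c - (w - 1) * n) * n := by linarith
    calc c ^ 2 * κ ≤ ((w * c - (w - 1) * n) * n) * κ := mul_le_mul_of_nonneg_right h3 hκ
      _ = _ := by ring
  linarith

end Cfsg.Agent.Lib.H6.KGV
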