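import Mathlib
import Cfsg.Agent.Lib.H11.RK2Defs

/-!
# S5289 farm-out (helper6): normal form calculus for Blackburn's type `T3`

`G = ⟨x, y, z⟩` of order `p ^ n` with the relations of `Cfsg.Agent.Lib.H11.RK2.T3`.  Every element is
`x ^ a * y ^ b * z ^ c`, and by counting the exponents are unique modulo `p`, `p`, `p ^ (n - 2)`.
-/

set_option autoImplicit false
set_option linter.unusedSectionVars false

namespace Cfsg.Agent.Lib.H6.RK2

open Cfsg.Agent.Lib.H11.RK2

section generic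

variable {G : Type*} [Group G]

/-- three generators commuting modulo a normal subgroup `K`: all commutators of the subgroup they generate lie
in `K`. -/
theorem comm_mem_of_three (K : Subgroup G) (hK : K.Normal) (a b c : G)
    (hab : ∃ k ∈ K, b * a = a * b * k) (hac : ∃ k ∈ K, c * a = a * c * k)
    (hbc : ∃ k ∈ K, c * b = b * c * k) :
    ∀ g ∈ Subgroup.closure ({a, b, c} : Set G), ∀ h ∈ Subgroup.closure ({a, b, c} : Set G),
      g * h * g⁻¹ * h⁻¹ ∈ K := by
  have := hK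
  have key : ∀ u v : G, (∃ k ∈ K, v * u = u * v * k) →
      Commute (QuotientGroup.mk' K u) (QuotientGroup.mk' K v) := by
    rintro u v ⟨k, hk, e⟩
    have h1 : QuotientGroup.mk' K k = 1 := (QuotientGroup.eq_one_iff k).mpr hk
    have h2 := congrArg (QuotientGroup.mk' K) e
    simp only [map_mul, h1, mul_one] at h2
    exact h2.symm
  have cab := key a b hab
  have cac := key a c hac
  have cbc := key b c hbc
  have hS : ∀ u ∈ ({a, b, c} : Set G), ∀ v ∈ ({a, b, c} : Set G),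
      Commute (QuotientGroup.mk' K u) (QuotientGroup.mk' K v) := by
    intro u hu v hv
    rcases hu with rfl | rfl | rfl <;> rcases hv with rfl | rfl | rfl
    · exact Commute.refl _
    · exact cab
    · exact cac
    · exact cab.symm
    · exact Commute.refl _
    · exact cbc
    · exact cac.symm
    · exact cbc.symm
    · exact Commute.refl _
  have hall : ∀ g ∈ Subgroup.closure ({a, b, c} : Set G),
      ∀ h ∈ Subgroup.closure ({a, b, c} : Set G),
      Commute (QuotientGroup.mk' K g) (QuotientGroup.mk' K h) := by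
    intro g hg h hh
    refine Subgroup.closure_induction₂
      (p := fun u v _ _ => Commute (QuotientGroup.mk' K u) (QuotientGroup.mk' K v))
      (fun u v hu hv => hS u hu v hv) ?_ ?_ ?_ ?_ ?_ ?_ hg hh
    · intro u _; rw [map_one]; exact Commute.one_left _
    · intro u _; rw [map_one]; exact Commute.one_right _
    · intro u v t _ _ _ h1 h2; rw [map_mul]; exact h1.mul_left h2
    · intro u v t _ _ _ h1 h2; rw [map_mul]; exact h1.mul_right h2
    · intro u v _ _ h1; rw [map_inv]; exact h1.inv_left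
    · intro u v _ _ h1; rw [map_inv]; exact h1.inv_right
  intro g hg h hh
  have c := hall g hg h hh
  rw [← QuotientGroup.eq_one_iff]
  show QuotientGroup.mk' K (g * h * g⁻¹ * h⁻¹) = 1
  rw [map_mul, map_mul, map_mul, map_inv, map_inv, c.eq]
  group

/-- a subgroup generated by `S` is normal as soon as the conjugates of `S` under a generating set stay inside. -/
theorem normal_closure_of_gens [Finite G] (T S : Set G) (hgen : Subgroup.closure T = ⊤)
    (h : ∀ t ∈ T, ∀ u ∈ S, t * u * t⁻¹ ∈ Subgroup.closure S) : (Subgroup.closure S).Normal := by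
  rw [← Subgroup.normalizer_eq_top_iff, eq_top_iff, ← hgen, Subgroup.closure_le]
  intro t ht
  apply Subgroup.mem_normalizer_fintype
  intro k hk
  have hmap : (Subgroup.closure S).map (MulAut.conj t).toMonoidHom ≤ Subgroup.closure S := by
    rw [MonoidHom.map_closure, Subgroup.closure_le]
    rintro _ ⟨u, hu, rfl⟩
    show (MulAut.conj t) u ∈ _
    rw [MulAut.conj_apply]
    exact h t ht u hu
  have : (MulAut.conj t) k ∈ Subgroup.closure S := hmap (Subgroup.mem_map_of_mem _ hk)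
  rwa [MulAut.conj_apply] at this

end generic

section T3

variable {G : Type*} [Group G] [Finite G] {p n s : ℕ} [Fact p.Prime] {x y z : G}

theorem T3.ppos (h : T3 p n s x y z) : 0 < p := by have := h.hp; omega

theorem T3.hW (h : T3 p n s x y z) : p ^ (n - 3) = p * p ^ (n - 4) := by
  have := h.hn
  rw [← pow_succ']; congr 1; omega

theorem T3.hW2 (h : T3 p n s x y z) : p ^ (n - 2) = p * p ^ (n - 3) := by
  have := h.hn
  rw [← pow_succ']; congr 1; omega

omit [Finite G] [Fact p.Prime] in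
theorem T3.w_pow (h : T3 p n s x y z) : (z ^ p ^ (n - 3)) ^ p = 1 := by
  have := h.hn
  rw [← pow_mul, ← pow_succ]
  have : n - 3 + 1 = n - 2 := by omega
  rw [this]; exact h.hz

omit [Finite G] [Fact p.Prime] in
theorem T3.zx (h : T3 p n s x y z) : z * x = x * (y * z) := by
  rw [← h.hxz]; group

omit [Finite G] [Fact p.Prime] in
theorem T3.yx (h : T3 p n s x y z) : y * x = x * (y * z ^ (s * p ^ (n - 3))) := by
  rw [← h.hxy]; group

omit [Finite G] [Fact p.Prime] in
/-- `y ^ b * z ^ c * x = x * (y ^ (b + c) * z ^ (c + s * b * p ^ (n - 3)))` -/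
theorem T3.conj_yz (h : T3 p n s x y z) (b c : ℕ) :
    y ^ b * z ^ c * x = x * (y ^ (b + c) * z ^ (c + s * b * p ^ (n - 3))) := by
  have hc : Commute y z := h.hyz
  have h1 : (MulAut.conj x⁻¹) y = y * z ^ (s * p ^ (n - 3)) := by
    rw [MulAut.conj_apply, inv_inv]; exact h.hxy
  have h2 : (MulAut.conj x⁻¹) z = y * z := by
    rw [MulAut.conj_apply, inv_inv]; exact h.hxz
  have h3 : (MulAut.conj x⁻¹) (y ^ b * z ^ c) =
      y ^ (b + c) * z ^ (c + s * b * p ^ (n - 3)) := by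
    rw [map_mul, map_pow, map_pow, h1, h2, (hc.pow_right _).mul_pow, hc.mul_pow, ← pow_mul]
    have e1 : y ^ b * z ^ (s * p ^ (n - 3) * b) * (y ^ c * z ^ c) =
        y ^ b * y ^ c * (z ^ c * z ^ (s * p ^ (n - 3) * b)) := by
      have c1 : Commute (z ^ (s * p ^ (n - 3) * b)) (y ^ c) := ((hc.pow_pow _ _).symm)
      have c2 : Commute (z ^ (s * p ^ (n - 3) * b)) (z ^ c) := (Commute.refl z).pow_pow _ _
      calc y ^ b * z ^ (s * p ^ (n - 3) * b) * (y ^ c * z ^ c)
          = y ^ b * (z ^ (s * p ^ (n - 3) * b) * y ^ c) * z ^ c := by simp only [mul_assoc]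
        _ = y ^ b * (y ^ c * z ^ (s * p ^ (n - 3) * b)) * z ^ c := by rw [c1.eq]
        _ = y ^ b * y ^ c * (z ^ (s * p ^ (n - 3) * b) * z ^ c) := by simp only [mul_assoc]
        _ = y ^ b * y ^ c * (z ^ c * z ^ (s * p ^ (n - 3) * b)) := by rw [c2.eq]
    rw [e1, ← pow_add, ← pow_add]
    congr 2; ring
  rw [← h3, MulAut.conj_apply, inv_inv]; group

omit [Finite G] [Fact p.Prime] in
/-- `z ^ p` commutes with `x`. -/
theorem T3.zp_comm_x (h : T3 p n s x y z) : z ^ p * x = x * z ^ p := by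
  have h1 := (T3.conj_yz h) 0 p
  simp only [pow_zero, one_mul, zero_add, mul_zero, zero_mul, add_zero, h.hy] at h1
  exact h1

/-- **T3CEN**.  `z ^ p` is central. -/
theorem T3.zp_central' (h : T3 p n s x y z) : ∀ g : G, g * z ^ p = z ^ p * g := by
  intro g
  have hg : g ∈ Subgroup.closure ({x, y, z} : Set G) := by rw [h.gen]; trivial
  have : Subgroup.closure ({x, y, z} : Set G) ≤ Subgroup.centralizer {z ^ p} := by
    rw [Subgroup.closure_le]
    intro u hu
    rw [SetLike.mem_coe, Subgroup.mem_centralizer_iff]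
    intro v hv
    rw [Set.mem_singleton_iff] at hv
    subst hv
    rcases hu with rfl | rfl | rfl
    · exact (T3.zp_comm_x h)
    · exact ((show Commute u z from h.hyz).pow_right p).eq.symm
    · exact ((Commute.refl u).pow_left p).eq
  have h2 := this hg
  rw [Subgroup.mem_centralizer_iff] at h2
  exact (h2 _ rfl).symm

/-- `w = z ^ p ^ (n - 3)` is central. -/
theorem T3.w_central (h : T3 p n s x y z) : ∀ g : G, g * z ^ p ^ (n - 3) = z ^ p ^ (n - 3) * g := by
  intro g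
  rw [(T3.hW h), pow_mul]
  exact ((show Commute g (z ^ p) from (T3.zp_central' h) g).pow_right _).eq

/-- every power of `z ^ p` is central -/
theorem T3.zp_pow_central (h : T3 p n s x y z) (k : ℕ) : ∀ g : G, g * z ^ (p * k) = z ^ (p * k) * g := by
  intro g
  rw [pow_mul]
  exact ((show Commute g (z ^ p) from (T3.zp_central' h) g).pow_right _).eq

/-- `y * x ^ a = x ^ a * y * w ^ (s * a)` -/
theorem T3.y_mul_x_pow (h : T3 p n s x y z) (a : ℕ) :
    y * x ^ a = x ^ a * (y * z ^ (s * a * p ^ (n - 3))) := by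
  induction a with
  | zero => simp
  | succ a ih =>
    have hw : ∀ k : ℕ, ∀ g : G, g * z ^ (k * p ^ (n - 3)) = z ^ (k * p ^ (n - 3)) * g := by
      intro k g
      rw [mul_comm k, pow_mul]
      exact ((show Commute g (z ^ p ^ (n - 3)) from (T3.w_central h) g).pow_right _).eq
    calc y * x ^ (a + 1) = (y * x ^ a) * x := by rw [pow_succ, mul_assoc]
      _ = x ^ a * (y * z ^ (s * a * p ^ (n - 3))) * x := by rw [ih]
      _ = x ^ a * (y * x) * z ^ (s * a * p ^ (n - 3)) := by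
          rw [mul_assoc (x ^ a), mul_assoc y, ← hw (s * a) x]; simp only [mul_assoc]
      _ = x ^ a * (x * (y * z ^ (s * p ^ (n - 3)))) * z ^ (s * a * p ^ (n - 3)) := by rw [(T3.yx h)]
      _ = x ^ (a + 1) * (y * z ^ (s * (a + 1) * p ^ (n - 3))) := by
          rw [pow_succ]
          simp only [mul_assoc]
          rw [← pow_add]
          congr 4; ring

/-- `z * x ^ a = x ^ a * (y ^ a * z ^ c)` for some `c ≡ 1 (mod p)` -/
theorem T3.z_mul_x_pow (h : T3 p n s x y z) (a : ℕ) :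
    ∃ c : ℕ, c ≡ 1 [MOD p] ∧ z * x ^ a = x ^ a * (y ^ a * z ^ c) := by
  induction a with
  | zero => exact ⟨1, Nat.ModEq.refl _, by simp⟩
  | succ a ih =>
    obtain ⟨c, hc, e⟩ := ih
    refine ⟨c + s * a * p ^ (n - 3), ?_, ?_⟩
    · have : s * a * p ^ (n - 3) ≡ 0 [MOD p] := by
        rw [Nat.modEq_zero_iff_dvd, (T3.hW h)]
        exact ⟨s * a * p ^ (n - 4), by ring⟩
      simpa using hc.add this
    · have hyc : y ^ (a + c) = y ^ (a + 1) := by
        rw [pow_eq_pow_mod (a + c) h.hy, pow_eq_pow_mod (a + 1) h.hy]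
        congr 1
        exact Nat.ModEq.add_left a hc
      calc z * x ^ (a + 1) = (z * x ^ a) * x := by rw [pow_succ, mul_assoc]
        _ = x ^ a * (y ^ a * z ^ c * x) := by rw [e]; simp only [mul_assoc]
        _ = x ^ a * (x * (y ^ (a + c) * z ^ (c + s * a * p ^ (n - 3)))) := by rw [(T3.conj_yz h)]
        _ = x ^ (a + 1) * (y ^ (a + 1) * z ^ (c + s * a * p ^ (n - 3))) := by
            rw [hyc, pow_succ x]; simp only [mul_assoc]

/-- the normal form exists -/
theorem T3.exists_nf (h : T3 p n s x y z) (g : G) : ∃ a b c : ℕ, g = x ^ a * y ^ b * z ^ c := by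
  have hp := (T3.ppos h)
  have hc : Commute y z := h.hyz
  have hg : g ∈ Subgroup.closure ({x, y, z} : Set G) := by rw [h.gen]; trivial
  -- closure under right multiplication by the generators
  have hx : ∀ g : G, (∃ a b c : ℕ, g = x ^ a * y ^ b * z ^ c) →
      ∃ a b c : ℕ, g * x = x ^ a * y ^ b * z ^ c := by
    rintro g ⟨a, b, c, rfl⟩
    refine ⟨a + 1, b + c, c + s * b * p ^ (n - 3), ?_⟩
    rw [mul_assoc (x ^ a), mul_assoc (x ^ a), (T3.conj_yz h), pow_succ]; simp only [mul_assoc]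
  have hy : ∀ g : G, (∃ a b c : ℕ, g = x ^ a * y ^ b * z ^ c) →
      ∃ a b c : ℕ, g * y = x ^ a * y ^ b * z ^ c := by
    rintro g ⟨a, b, c, rfl⟩
    refine ⟨a, b + 1, c, ?_⟩
    rw [mul_assoc _ (z ^ c), ← (hc.pow_right c).eq, pow_succ]; simp only [mul_assoc]
  have hz : ∀ g : G, (∃ a b c : ℕ, g = x ^ a * y ^ b * z ^ c) →
      ∃ a b c : ℕ, g * z = x ^ a * y ^ b * z ^ c := by
    rintro g ⟨a, b, c, rfl⟩
    exact ⟨a, b, c + 1, by rw [pow_succ z]; simp only [mul_assoc]⟩
  have hpow : ∀ u : G, (∀ g : G, (∃ a b c : ℕ, g = x ^ a * y ^ b * z ^ c) →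
      ∃ a b c : ℕ, g * u = x ^ a * y ^ b * z ^ c) → ∀ k : ℕ, ∀ g : G,
      (∃ a b c : ℕ, g = x ^ a * y ^ b * z ^ c) → ∃ a b c : ℕ, g * u ^ k = x ^ a * y ^ b * z ^ c := by
    intro u hu k
    induction k with
    | zero => intro g hg; simpa using hg
    | succ k ih =>
      intro g hg
      rw [pow_succ, ← mul_assoc]
      exact hu _ (ih g hg)
  have hinv : ∀ u : G, ∀ m : ℕ, 0 < m → u ^ m = 1 → u⁻¹ = u ^ (m - 1) := by
    intro u m hm hu
    apply inv_eq_of_mul_eq_one_right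
    rw [← pow_succ']
    have : m - 1 + 1 = m := by omega
    rw [this, hu]
  refine Subgroup.closure_induction_right (p := fun g _ => ∃ a b c : ℕ, g = x ^ a * y ^ b * z ^ c)
    ⟨0, 0, 0, by simp⟩ ?_ ?_ hg
  · intro g _ u hu ih
    rcases hu with rfl | rfl | rfl
    · exact hx g ih
    · exact hy g ih
    · exact hz g ih
  · intro g _ u hu ih
    rcases hu with rfl | rfl | rfl
    · rw [hinv u p hp h.hx]; exact hpow u hx _ g ih
    · rw [hinv u p hp h.hy]; exact hpow u hy _ g ih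
    · rw [hinv u (p ^ (n - 2)) (pow_pos hp _) h.hz]; exact hpow u hz _ g ih

/-- the normal form map is a bijection -/
theorem T3.nf_bij (h : T3 p n s x y z) :
    Function.Bijective (fun t : Fin p × Fin p × Fin (p ^ (n - 2)) =>
      x ^ (t.1 : ℕ) * y ^ (t.2.1 : ℕ) * z ^ (t.2.2 : ℕ)) := by
  have hp := (T3.ppos h)
  apply Function.Surjective.bijective_of_nat_card_le
  · intro g
    obtain ⟨a, b, c, rfl⟩ := (T3.exists_nf h) g
    refine ⟨(⟨a % p, Nat.mod_lt _ hp⟩, ⟨b % p, Nat.mod_lt _ hp⟩,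
      ⟨c % p ^ (n - 2), Nat.mod_lt _ (pow_pos hp _)⟩), ?_⟩
    show x ^ (a % p) * y ^ (b % p) * z ^ (c % p ^ (n - 2)) = _
    rw [← pow_eq_pow_mod a h.hx, ← pow_eq_pow_mod b h.hy, ← pow_eq_pow_mod c h.hz]
  · rw [h.card, Nat.card_prod, Nat.card_prod, Nat.card_fin, Nat.card_fin]
    have := h.hn
    apply le_of_eq
    rw [← pow_succ', ← pow_succ']; congr 1; omega

/-- uniqueness of the exponents of the normal form -/
theorem T3.nf_inj (h : T3 p n s x y z) {a b c a' b' c' : ℕ}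
    (e : x ^ a * y ^ b * z ^ c = x ^ a' * y ^ b' * z ^ c') :
    a ≡ a' [MOD p] ∧ b ≡ b' [MOD p] ∧ c ≡ c' [MOD p ^ (n - 2)] := by
  have hp := (T3.ppos h)
  have hq : 0 < p ^ (n - 2) := pow_pos hp _
  have hinj := (T3.nf_bij h).1
  have e2 : (fun t : Fin p × Fin p × Fin (p ^ (n - 2)) =>
      x ^ (t.1 : ℕ) * y ^ (t.2.1 : ℕ) * z ^ (t.2.2 : ℕ))
      (⟨a % p, Nat.mod_lt _ hp⟩, ⟨b % p, Nat.mod_lt _ hp⟩, ⟨c % p ^ (n - 2), Nat.mod_lt _ hq⟩) =
      (fun t : Fin p × Fin p × Fin (p ^ (n - 2)) =>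
      x ^ (t.1 : ℕ) * y ^ (t.2.1 : ℕ) * z ^ (t.2.2 : ℕ))
      (⟨a' % p, Nat.mod_lt _ hp⟩, ⟨b' % p, Nat.mod_lt _ hp⟩,
        ⟨c' % p ^ (n - 2), Nat.mod_lt _ hq⟩) := by
    show x ^ (a % p) * y ^ (b % p) * z ^ (c % p ^ (n - 2)) =
      x ^ (a' % p) * y ^ (b' % p) * z ^ (c' % p ^ (n - 2))
    rw [← pow_eq_pow_mod a h.hx, ← pow_eq_pow_mod b h.hy, ← pow_eq_pow_mod c h.hz,
      ← pow_eq_pow_mod a' h.hx, ← pow_eq_pow_mod b' h.hy, ← pow_eq_pow_mod c' h.hz]
    exact e
  have e3 := hinj e2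
  simp only [Prod.mk.injEq, Fin.mk.injEq] at e3
  exact e3

/-- `y ^ b * z ^ c = 1` forces `p ∣ b` and `p ^ (n - 2) ∣ c` -/
theorem T3.yz_eq_one (h : T3 p n s x y z) {b c : ℕ} (e : y ^ b * z ^ c = 1) :
    p ∣ b ∧ p ^ (n - 2) ∣ c := by
  have e2 : x ^ 0 * y ^ b * z ^ c = x ^ 0 * y ^ 0 * z ^ 0 := by simpa using e
  obtain ⟨-, h2, h3⟩ := (T3.nf_inj h) e2
  exact ⟨(Nat.modEq_zero_iff_dvd).mp h2, (Nat.modEq_zero_iff_dvd).mp h3⟩

/-- `z` has order `p ^ (n - 2)` -/
theorem T3.orderOf_z (h : T3 p n s x y z) : orderOf z = p ^ (n - 2) := by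
  apply Nat.dvd_antisymm (orderOf_dvd_of_pow_eq_one h.hz)
  have e : y ^ 0 * z ^ orderOf z = 1 := by simp [pow_orderOf_eq_one]
  exact ((T3.yz_eq_one h) e).2

/-- `z ^ c = 1 ↔ p ^ (n - 2) ∣ c` -/
theorem T3.z_pow_eq_one_iff (h : T3 p n s x y z) (c : ℕ) : z ^ c = 1 ↔ p ^ (n - 2) ∣ c := by
  rw [← (T3.orderOf_z h)]; exact orderOf_dvd_iff_pow_eq_one.symm

/-- `w ^ k = 1 ↔ p ∣ k` where `w = z ^ p ^ (n - 3)`. -/
theorem T3.w_pow_eq_one_iff (h : T3 p n s x y z) (k : ℕ) : z ^ (k * p ^ (n - 3)) = 1 ↔ p ∣ k := by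
  rw [(T3.z_pow_eq_one_iff h), (T3.hW2 h)]
  have hq : 0 < p ^ (n - 3) := pow_pos (T3.ppos h) _
  exact Nat.mul_dvd_mul_iff_right hq

/-- membership in `M₀ = ⟨x, y, z ^ p⟩` -/
theorem T3.mem_m0_iff (h : T3 p n s x y z) (r : G) :
    r ∈ Subgroup.closure ({x, y, z ^ p} : Set G) ↔ ∃ a b c : ℕ, r = x ^ a * y ^ b * z ^ (p * c) := by
  have hp := (T3.ppos h)
  have hc : Commute y z := h.hyz
  constructor
  · intro hr
    have hx : ∀ g : G, (∃ a b c : ℕ, g = x ^ a * y ^ b * z ^ (p * c)) →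
        ∃ a b c : ℕ, g * x = x ^ a * y ^ b * z ^ (p * c) := by
      rintro g ⟨a, b, c, rfl⟩
      refine ⟨a + 1, b, c + s * b * p ^ (n - 4), ?_⟩
      have hyb : y ^ (b + p * c) = y ^ b := by
        rw [pow_add, pow_mul, h.hy, one_pow, mul_one]
      have hexp : p * c + s * b * p ^ (n - 3) = p * (c + s * b * p ^ (n - 4)) := by
        rw [(T3.hW h)]; ring
      rw [mul_assoc (x ^ a), mul_assoc (x ^ a), (T3.conj_yz h), pow_succ, hyb, hexp]
      simp only [mul_assoc]
    have hy : ∀ g : G, (∃ a b c : ℕ, g = x ^ a * y ^ b * z ^ (p * c)) →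
        ∃ a b c : ℕ, g * y = x ^ a * y ^ b * z ^ (p * c) := by
      rintro g ⟨a, b, c, rfl⟩
      refine ⟨a, b + 1, c, ?_⟩
      rw [mul_assoc _ (z ^ (p * c)), ← (hc.pow_right (p * c)).eq, pow_succ]; simp only [mul_assoc]
    have hz : ∀ g : G, (∃ a b c : ℕ, g = x ^ a * y ^ b * z ^ (p * c)) →
        ∃ a b c : ℕ, g * z ^ p = x ^ a * y ^ b * z ^ (p * c) := by
      rintro g ⟨a, b, c, rfl⟩
      exact ⟨a, b, c + 1, by rw [mul_add, mul_one, pow_add]; simp only [mul_assoc]⟩
    have hpow : ∀ u : G, (∀ g : G, (∃ a b c : ℕ, g = x ^ a * y ^ b * z ^ (p * c)) →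
        ∃ a b c : ℕ, g * u = x ^ a * y ^ b * z ^ (p * c)) → ∀ k : ℕ, ∀ g : G,
        (∃ a b c : ℕ, g = x ^ a * y ^ b * z ^ (p * c)) →
        ∃ a b c : ℕ, g * u ^ k = x ^ a * y ^ b * z ^ (p * c) := by
      intro u hu k
      induction k with
      | zero => intro g hg; simpa using hg
      | succ k ih =>
        intro g hg
        rw [pow_succ, ← mul_assoc]
        exact hu _ (ih g hg)
    have hinv : ∀ u : G, ∀ m : ℕ, 0 < m → u ^ m = 1 → u⁻¹ = u ^ (m - 1) := by
      intro u m hm hu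
      apply inv_eq_of_mul_eq_one_right
      rw [← pow_succ']
      have : m - 1 + 1 = m := by omega
      rw [this, hu]
    have hzp : (z ^ p) ^ p ^ (n - 3) = 1 := by
      rw [← pow_mul, ← (T3.hW2 h)]; exact h.hz
    refine Subgroup.closure_induction_right
      (p := fun g _ => ∃ a b c : ℕ, g = x ^ a * y ^ b * z ^ (p * c)) ⟨0, 0, 0, by simp⟩ ?_ ?_ hr
    · intro g _ u hu ih
      rcases hu with rfl | rfl | rfl
      · exact hx g ih
      · exact hy g ih
      · exact hz g ih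
    · intro g _ u hu ih
      rcases hu with rfl | rfl | rfl
      · rw [hinv u p hp h.hx]; exact hpow u hx _ g ih
      · rw [hinv u p hp h.hy]; exact hpow u hy _ g ih
      · rw [hinv (z ^ p) (p ^ (n - 3)) (pow_pos hp _) hzp]; exact hpow (z ^ p) hz _ g ih
  · rintro ⟨a, b, c, rfl⟩
    have h1 : x ∈ Subgroup.closure ({x, y, z ^ p} : Set G) := Subgroup.subset_closure (by simp)
    have h2 : y ∈ Subgroup.closure ({x, y, z ^ p} : Set G) := Subgroup.subset_closure (by simp)
    have h3 : z ^ p ∈ Subgroup.closure ({x, y, z ^ p} : Set G) := Subgroup.subset_closure (by simp)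
    rw [pow_mul]
    exact mul_mem (mul_mem (pow_mem h1 _) (pow_mem h2 _)) (pow_mem h3 _)

end T3

end Cfsg.Agent.Lib.H6.RK2
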