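import Mathlib
import Cfsg.Agent.Lib.H11.RK2Defs
import Cfsg.Agent.Lib.H6.RK2T3NF

/-!
# S5289 farm-out, piece T3MC (helper6): `T3.m0_card` (`|M₀| = p^(n-1)`)
-/

set_option autoImplicit false
set_option linter.unusedSectionVars false

namespace Cfsg.Agent.Lib.H6.RK2

open Cfsg.Agent.Lib.H11.RK2

section T3

variable {G : Type*} [Group G] [Finite G] {p n s : ℕ} [Fact p.Prime] {x y z : G}

/-- **T3MC**.  `|M₀| = p^(n-1)`. -/
theorem T3.m0_card (h : T3 p n s x y z) :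
    Nat.card ↥(Subgroup.closure ({x, y, z ^ p} : Set G)) = p ^ (n - 1) := by
  have hp := T3.ppos h
  have hq : 0 < p ^ (n - 3) := pow_pos hp _
  have hn := h.hn
  have hzp : (z ^ p) ^ p ^ (n - 3) = 1 := by
    rw [← pow_mul, ← T3.hW2 h]; exact h.hz
  have hmem : ∀ t : Fin p × Fin p × Fin (p ^ (n - 3)),
      x ^ (t.1 : ℕ) * y ^ (t.2.1 : ℕ) * z ^ (p * (t.2.2 : ℕ)) ∈
        Subgroup.closure ({x, y, z ^ p} : Set G) := fun t =>
    (T3.mem_m0_iff h _).mpr ⟨_, _, _, rfl⟩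
  have hbij : Function.Bijective (fun t : Fin p × Fin p × Fin (p ^ (n - 3)) =>
      (⟨x ^ (t.1 : ℕ) * y ^ (t.2.1 : ℕ) * z ^ (p * (t.2.2 : ℕ)), hmem t⟩ :
        ↥(Subgroup.closure ({x, y, z ^ p} : Set G)))) := by
    constructor
    · rintro ⟨a, b, c⟩ ⟨a', b', c'⟩ e
      have e1 : x ^ (a : ℕ) * y ^ (b : ℕ) * z ^ (p * (c : ℕ)) =
          x ^ (a' : ℕ) * y ^ (b' : ℕ) * z ^ (p * (c' : ℕ)) := congrArg Subtype.val e
      obtain ⟨h1, h2, h3⟩ := T3.nf_inj h e1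
      rw [T3.hW2 h] at h3
      have h4 : (c : ℕ) ≡ c' [MOD p ^ (n - 3)] := Nat.ModEq.mul_left_cancel' hp.ne' h3
      have ea : (a : ℕ) = a' := by
        have := Nat.ModEq.eq_of_lt_of_lt h1 a.2 a'.2
        exact this
      have eb : (b : ℕ) = b' := Nat.ModEq.eq_of_lt_of_lt h2 b.2 b'.2
      have ec : (c : ℕ) = c' := Nat.ModEq.eq_of_lt_of_lt h4 c.2 c'.2
      rw [Prod.mk.injEq, Prod.mk.injEq]
      exact ⟨Fin.ext ea, Fin.ext eb, Fin.ext ec⟩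
    · rintro ⟨r, hr⟩
      obtain ⟨a, b, c, rfl⟩ := (T3.mem_m0_iff h r).mp hr
      refine ⟨(⟨a % p, Nat.mod_lt _ hp⟩, ⟨b % p, Nat.mod_lt _ hp⟩,
        ⟨c % p ^ (n - 3), Nat.mod_lt _ hq⟩), ?_⟩
      apply Subtype.ext
      show x ^ (a % p) * y ^ (b % p) * z ^ (p * (c % p ^ (n - 3))) = _
      rw [← pow_eq_pow_mod a h.hx, ← pow_eq_pow_mod b h.hy, pow_mul, ← pow_eq_pow_mod c hzp,
        ← pow_mul]
  rw [← Nat.card_eq_of_bijective _ hbij, Nat.card_prod, Nat.card_prod, Nat.card_fin, Nat.card_fin]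
  rw [← pow_succ', ← pow_succ']; congr 1; omega

end T3

end Cfsg.Agent.Lib.H6.RK2
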