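import Cfsg.Agent.Lib.H6.FrobAct

/-!
# The Frobenius-action lemma (T1), conjugation form inside a group (helper6)

`K`, `V` subgroups of `G`, `V` commutative, `h ∈ G` of prime order normalising `K` and `V`, `K` normalising `V`,
`h` fixed-point-free on `K` (so `K⟨h⟩` is a Frobenius group), `|K|` prime to the element orders of `V`, and
`C_V(h) = 1`.  Then `K` centralises `V`.
-/

set_option autoImplicit false

namespace Cfsg.Agent.Lib.H6.FrobActG

open Cfsg.Agent.Lib.H6.FrobAct

/-- the elements of `G` normalising `V` in both directions -/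
def nrm {G : Type*} [Group G] (V : Subgroup G) : Subgroup G where
  carrier := {g | ∀ v ∈ V, g * v * g⁻¹ ∈ V ∧ g⁻¹ * v * g ∈ V}
  one_mem' := fun v hv => by simpa using hv
  mul_mem' := by
    intro a b ha hb v hv
    constructor
    · have h1 : a * b * v * (a * b)⁻¹ = a * (b * v * b⁻¹) * a⁻¹ := by group
      rw [h1]; exact (ha _ (hb v hv).1).1
    · have h1 : (a * b)⁻¹ * v * (a * b) = b⁻¹ * (a⁻¹ * v * a) * b := by group
      rw [h1]; exact (hb _ (ha v hv).2).2
  inv_mem' := by
    intro a ha v hv
    constructor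
    · rw [inv_inv]; exact (ha v hv).2
    · rw [inv_inv]; exact (ha v hv).1

theorem pow_conj_mem {G : Type*} [Group G] (V : Subgroup G) (h : G)
    (hnV : ∀ v ∈ V, h * v * h⁻¹ ∈ V) (i : ℕ) : ∀ v ∈ V, h ^ i * v * (h ^ i)⁻¹ ∈ V := by
  induction i with
  | zero => intro v hv; simpa using hv
  | succ i ih =>
    intro v hv
    have : h ^ (i + 1) * v * (h ^ (i + 1))⁻¹ = h * (h ^ i * v * (h ^ i)⁻¹) * h⁻¹ := by
      rw [pow_succ']; group
    rw [this]
    exact hnV _ (ih v hv)

/-- **T1, group form.** -/
theorem t1_group {G : Type*} [Group G] (K V : Subgroup G) [Finite K] (h : G) {s : ℕ}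
    (hs : s.Prime) (hord : orderOf h = s)
    (hnK : ∀ k ∈ K, h * k * h⁻¹ ∈ K) (hnV : ∀ v ∈ V, h * v * h⁻¹ ∈ V)
    (hKV : ∀ k ∈ K, ∀ v ∈ V, k * v * k⁻¹ ∈ V)
    (hVc : ∀ a ∈ V, ∀ b ∈ V, a * b = b * a)
    (hfpf : ∀ k ∈ K, h * k * h⁻¹ = k → k = 1)
    (hcop : ∀ v ∈ V, v ^ Nat.card K = 1 → v = 1)
    (hfix : ∀ v ∈ V, h * v * h⁻¹ = v → v = 1) :
    ∀ k ∈ K, ∀ v ∈ V, k * v * k⁻¹ = v := by
  classical
  -- `h⁻¹` is a power of `h`
  have hinv : h⁻¹ = h ^ (s - 1) := by
    apply inv_eq_of_mul_eq_one_right
    rw [← pow_succ', Nat.sub_add_cancel hs.one_le, ← hord, pow_orderOf_eq_one]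
  have hhN : h ∈ nrm V := by
    intro v hv
    refine ⟨hnV v hv, ?_⟩
    have := pow_conj_mem V h hnV (s - 1) v hv
    rw [← hinv, inv_inv] at this
    exact this
  have hKN : K ≤ nrm V := by
    intro k hk v hv
    refine ⟨hKV k hk v hv, ?_⟩
    have := hKV k⁻¹ (K.inv_mem hk) v hv
    rwa [inv_inv] at this
  let iC : CommGroup V :=
    { (inferInstance : Group V) with mul_comm := fun a b => Subtype.ext (hVc a a.2 b b.2) }
  let act : nrm V → Additive V → Additive V := fun n a =>
    Additive.ofMul (⟨(n : G) * ((Additive.toMul a : V) : G) * (n : G)⁻¹,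
      (n.2 _ (Additive.toMul a).2).1⟩ : V)
  let iA : DistribMulAction (nrm V) (Additive V) :=
    { smul := act
      one_smul := fun a => by
        show act 1 a = a
        apply Additive.toMul.injective
        apply Subtype.ext
        show ((1 : nrm V) : G) * ((Additive.toMul a : V) : G) * ((1 : nrm V) : G)⁻¹ = _
        simp
      mul_smul := fun m n a => by
        show act (m * n) a = act m (act n a)
        apply Additive.toMul.injective
        apply Subtype.ext
        show ((m * n : nrm V) : G) * ((Additive.toMul a : V) : G) * ((m * n : nrm V) : G)⁻¹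
          = (m : G) * ((n : G) * ((Additive.toMul a : V) : G) * (n : G)⁻¹) * (m : G)⁻¹
        rw [Subgroup.coe_mul]; group
      smul_zero := fun m => by
        show act m 0 = 0
        apply Additive.toMul.injective
        apply Subtype.ext
        show (m : G) * ((1 : V) : G) * (m : G)⁻¹ = ((1 : V) : G)
        simp
      smul_add := fun m a b => by
        show act m (a + b) = act m a + act m b
        apply Additive.toMul.injective
        apply Subtype.ext
        show (m : G) * (((Additive.toMul a * Additive.toMul b : V)) : G) * (m : G)⁻¹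
          = (m : G) * ((Additive.toMul a : V) : G) * (m : G)⁻¹
            * ((m : G) * ((Additive.toMul b : V) : G) * (m : G)⁻¹)
        rw [Subgroup.coe_mul]; group }
  have hsmul : ∀ (n : nrm V) (a : Additive V),
      ((Additive.toMul (n • a) : V) : G) = (n : G) * ((Additive.toMul a : V) : G) * (n : G)⁻¹ :=
    fun _ _ => rfl
  -- the data inside `nrm V`
  let K' : Subgroup (nrm V) := K.subgroupOf (nrm V)
  let h' : nrm V := ⟨h, hhN⟩
  have : Finite K' := Finite.of_injective (fun x : K' => (⟨(x : nrm V), x.2⟩ : K))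
    (fun x y hxy => Subtype.ext (Subtype.ext (congrArg (fun z : K => (z : G)) hxy)))
  have hcard : Nat.card K' = Nat.card K :=
    Nat.card_congr (Subgroup.subgroupOfEquivOfLe hKN).toEquiv
  have hord' : orderOf h' = s := by
    rw [← hord, ← Subgroup.orderOf_coe]
  have key := t1_module (V := Additive V) K' h' hs hord'
    (fun k hk => by
      show ((h' * k * h'⁻¹ : nrm V) : G) ∈ K
      simpa using hnK k hk)
    (fun k hk hk1 => by
      apply Subtype.ext
      have := congrArg (fun z : nrm V => (z : G)) hk1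
      exact hfpf k hk (by simpa using this))
    (fun a ha => by
      apply Additive.toMul.injective
      apply Subtype.ext
      have h1 : ((Additive.toMul a : V) : G) ^ Nat.card K = 1 := by
        rw [← hcard]
        have := congrArg (fun z : Additive V => ((Additive.toMul z : V) : G)) ha
        simpa using this
      exact hcop _ (Additive.toMul a).2 h1)
    (fun a ha => by
      apply Additive.toMul.injective
      apply Subtype.ext
      have h1 := congrArg (fun z : Additive V => ((Additive.toMul z : V) : G)) ha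
      simp only [hsmul] at h1
      exact hfix _ (Additive.toMul a).2 h1)
  intro k hk v hv
  have := key ⟨k, hKN hk⟩ hk (Additive.ofMul (⟨v, hv⟩ : V))
  have h1 := congrArg (fun z : Additive V => ((Additive.toMul z : V) : G)) this
  simp only [hsmul] at h1
  exact h1

/-- **T1, group form, as used:** if `K` does not centralise `V` then `h` has a fixed point on `V`. -/
theorem t1_group_fix {G : Type*} [Group G] (K V : Subgroup G) [Finite K] (h : G) {s : ℕ}
    (hs : s.Prime) (hord : orderOf h = s)
    (hnK : ∀ k ∈ K, h * k * h⁻¹ ∈ K) (hnV : ∀ v ∈ V, h * v * h⁻¹ ∈ V)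
    (hKV : ∀ k ∈ K, ∀ v ∈ V, k * v * k⁻¹ ∈ V)
    (hVc : ∀ a ∈ V, ∀ b ∈ V, a * b = b * a)
    (hfpf : ∀ k ∈ K, h * k * h⁻¹ = k → k = 1)
    (hcop : ∀ v ∈ V, v ^ Nat.card K = 1 → v = 1)
    (hnt : ∃ k ∈ K, ∃ v ∈ V, k * v * k⁻¹ ≠ v) :
    ∃ v ∈ V, v ≠ 1 ∧ h * v * h⁻¹ = v := by
  by_contra hcon
  obtain ⟨k, hk, v, hv, hne⟩ := hnt
  refine hne (t1_group K V h hs hord hnK hnV hKV hVc hfpf hcop (fun w hw hwf => ?_) k hk v hv)
  by_contra h1
  exact hcon ⟨w, hw, h1, hwf⟩

end Cfsg.Agent.Lib.H6.FrobActG
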