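import Mathlib
import Cfsg.Agent.Lib.H1.S77.Hyp

/-!
# S0429, piece (ORTH): two distinct classes are orthogonal or "2-2" (helper6)
-/

set_option autoImplicit false
set_option linter.unusedSectionVars false
open Cfsg

namespace Cfsg.Agent.Lib.H6.S77

open Cfsg.Agent.Lib.H1.S77 Finset

section
variable {V : Type*} [Fintype V] [DecidableEq V] {G : SimpleGraph V} [DecidableRel G.Adj]
variable {v0 : V}

theorem mem_nB_of_mem_class (hp : HPart G v0) {K : Finset V} (hK : K ∈ classes G v0) {z : V}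
    (hz : z ∈ K) : z ∈ nB G v0 := by
  have h1 : z ∈ cls G v0 z := by rw [← hp.eq_cls K hK z hz]; exact hz
  exact cls_subset z h1

/-- (1) the blocks of a class cut a block in `4` points altogether -/
theorem sum_inter_class (hp : HPart G v0) {K : Finset V} (hK : K ∈ classes G v0) {c : V}
    (hc : (blk G v0 c).card = 4) :
    ∑ z ∈ K, (blk G v0 c ∩ blk G v0 z).card = 4 := by
  have h1 : ∀ z ∈ K, (blk G v0 c ∩ blk G v0 z).card
      = ((blk G v0 c).bipartiteAbove (fun z a => a ∈ blk G v0 z) z).card := by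
    intro z _
    rw [Finset.bipartiteAbove, Finset.filter_mem_eq_inter]
  rw [Finset.sum_congr rfl h1, Finset.sum_card_bipartiteAbove_eq_sum_card_bipartiteBelow]
  have h2 : ∀ a ∈ blk G v0 c, (K.bipartiteBelow (fun z a => a ∈ blk G v0 z) a).card = 1 := by
    intro a ha
    have ha' : a ∈ nA G v0 := blk_subset c ha
    have h3 : K.bipartiteBelow (fun z a => a ∈ blk G v0 z) a
        = K.filter (fun z => G.Adj a z) := by
      rw [Finset.bipartiteBelow]
      apply Finset.filter_congr
      intro z _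
      rw [mem_blk]
      constructor
      · intro h; exact h.1.symm
      · intro h; exact ⟨h.symm, mem_nA.mp ha'⟩
    rw [h3]
    exact hp.thru K hK a ha'
  rw [Finset.sum_congr rfl h2, Finset.sum_const, hc]
  rfl

/-- (2a) a vertex of another class without neighbour in `K` meets every block of `K` once -/
theorem inter_eq_one_of_no_nbr (hG : G.IsSRGWith 77 16 0 4) (hp : HPart G v0) {K K' : Finset V}
    (hK : K ∈ classes G v0) (hK' : K' ∈ classes G v0) (hne : K ≠ K') {c : V} (hc : c ∈ K')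
    (hno : ∀ z ∈ K, ¬ G.Adj c z) :
    ∀ z ∈ K, (blk G v0 c ∩ blk G v0 z).card = 1 := by
  have hcB : c ∈ nB G v0 := mem_nB_of_mem_class hp hK' hc
  have hsum := sum_inter_class hp hK (card_blk hG hcB)
  have hge : ∀ z ∈ K, 1 ≤ (blk G v0 c ∩ blk G v0 z).card := by
    intro z hz
    by_contra hlt
    have h0 : (blk G v0 c ∩ blk G v0 z).card = 0 := by omega
    rw [Finset.card_eq_zero] at h0
    have hcz : c ∈ cls G v0 z := by
      rw [mem_cls]
      refine ⟨hcB, Or.inr ⟨fun h => hno z hz h.symm, ?_⟩⟩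
      rw [Finset.disjoint_iff_inter_eq_empty, Finset.inter_comm]
      exact h0
    rw [← hp.eq_cls K hK z hz] at hcz
    exact Finset.disjoint_left.mp (hp.disj K hK K' hK' hne) hcz hc
  have hsum' : ∑ z ∈ K, ((blk G v0 c ∩ blk G v0 z).card - 1) = 0 := by
    have h1 : ∑ z ∈ K, (blk G v0 c ∩ blk G v0 z).card
        = ∑ z ∈ K, ((blk G v0 c ∩ blk G v0 z).card - 1) + K.card := by
      rw [Finset.card_eq_sum_ones, ← Finset.sum_add_distrib]
      apply Finset.sum_congr rfl
      intro z hz
      have := hge z hz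
      omega
    rw [hsum, hp.card_mem K hK] at h1
    omega
  intro z hz
  have h2 := (Finset.sum_eq_zero_iff.mp hsum') z hz
  have := hge z hz
  omega

/-- (2b) a vertex with a neighbour in `K` has exactly two neighbours in `K` -/
theorem card_nbr_eq_two (hG : G.IsSRGWith 77 16 0 4) (hp : HPart G v0) (h5 : HL5 G v0)
    {K : Finset V} (hK : K ∈ classes G v0) {c : V} (hcB : c ∈ nB G v0)
    {z0 : V} (hz0 : z0 ∈ K) (hadj : G.Adj c z0) :
    (K.filter (fun z => G.Adj c z)).card = 2 := by
  have hsum := sum_inter_class hp hK (card_blk hG hcB)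
  have hval : ∀ z ∈ K, (blk G v0 c ∩ blk G v0 z).card = if G.Adj c z then 0 else 2 := by
    intro z hz
    by_cases h : G.Adj c z
    · rw [if_pos h, Finset.card_eq_zero, ← Finset.disjoint_iff_inter_eq_empty]
      exact disjoint_of_adj hG h
    · rw [if_neg h]
      have hzz0 : z ≠ z0 := fun e => h (e ▸ hadj)
      have hzc : z ∈ cls G v0 z0 := by rw [← hp.eq_cls K hK z0 hz0]; exact hz
      rcases h5 z0 (mem_nB_of_mem_class hp hK hz0) c hcB hadj.symm z hzc hzz0 with h1 | h1
      · exact absurd h1.1 h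
      · exact h1.2
  rw [Finset.sum_congr rfl hval, ← Finset.sum_filter_add_sum_filter_not K (fun z => G.Adj c z)] at hsum
  have e1 : ∑ z ∈ K.filter (fun z => G.Adj c z), (if G.Adj c z then 0 else 2) = 0 := by
    apply Finset.sum_eq_zero
    intro z hz
    rw [if_pos (Finset.mem_filter.mp hz).2]
  have e2 : ∑ z ∈ K.filter (fun z => ¬ G.Adj c z), (if G.Adj c z then 0 else 2)
      = 2 * (K.filter (fun z => ¬ G.Adj c z)).card := by
    rw [Finset.card_eq_sum_ones, Finset.mul_sum]
    apply Finset.sum_congr rfl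
    intro z hz
    rw [if_neg (Finset.mem_filter.mp hz).2, mul_one]
  rw [e1, e2] at hsum
  have h3 := Finset.card_filter_add_card_filter_not (s := K) (fun z => G.Adj c z)
  rw [hp.card_mem K hK] at h3
  omega

/-- (3) coherence inside `K'` -/
theorem coherent (hG : G.IsSRGWith 77 16 0 4) (hp : HPart G v0) (h5 : HL5 G v0) {K K' : Finset V}
    (hK : K ∈ classes G v0) (hK' : K' ∈ classes G v0) (hne : K ≠ K') {c0 c : V}
    (hc0 : c0 ∈ K') (hc : c ∈ K') (hno : ∀ z ∈ K, ¬ G.Adj c0 z) {z : V} (hz : z ∈ K)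
    (hadj : G.Adj c z) : False := by
  have hcc0 : c0 ≠ c := fun e => hno z hz (e ▸ hadj)
  have hc0c : c0 ∈ cls G v0 c := by rw [← hp.eq_cls K' hK' c hc]; exact hc0
  have h1 := inter_eq_one_of_no_nbr hG hp hK hK' hne hc0 hno z hz
  rcases h5 c (mem_nB_of_mem_class hp hK' hc) z (mem_nB_of_mem_class hp hK hz) hadj c0 hc0c hcc0
    with h2 | h2
  · exact hno z hz h2.1.symm
  · rw [Finset.inter_comm] at h2
    omega

/-- one side of the dichotomy -/
theorem side (hG : G.IsSRGWith 77 16 0 4) (hp : HPart G v0) (h5 : HL5 G v0) {K K' : Finset V}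
    (hK : K ∈ classes G v0) (hK' : K' ∈ classes G v0) (hne : K ≠ K')
    (hnon : nonorth G K K') : ∀ c ∈ K', (K.filter (fun z => G.Adj c z)).card = 2 := by
  obtain ⟨z, hz, c, hc, hadj⟩ := hnon
  intro c1 hc1
  by_cases h : ∃ z1 ∈ K, G.Adj c1 z1
  · obtain ⟨z1, hz1, h1⟩ := h
    exact card_nbr_eq_two hG hp h5 hK (mem_nB_of_mem_class hp hK' hc1) hz1 h1
  · exfalso
    have hno : ∀ z1 ∈ K, ¬ G.Adj c1 z1 := fun z1 hz1 h1 => h ⟨z1, hz1, h1⟩
    exact coherent hG hp h5 hK hK' hne hc1 hc hno hz hadj.symm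

/-- (ORTH) -/
theorem hdich (hG : G.IsSRGWith 77 16 0 4) (hp : HPart G v0) (h5 : HL5 G v0) : HDich G v0 := by
  intro K hK K' hK' hne
  by_cases hnon : nonorth G K K'
  · right
    have hnon' : nonorth G K' K := by
      obtain ⟨z, hz, c, hc, hadj⟩ := hnon
      exact ⟨c, hc, z, hz, hadj.symm⟩
    constructor
    · exact side hG hp h5 hK' hK hne.symm hnon'
    · intro z' hz'
      have h1 := side hG hp h5 hK hK' hne hnon z' hz'
      rw [← h1]
      congr 1
      apply Finset.filter_congr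
      intro z _
      exact G.adj_comm z z'
  · left
    refine ⟨hnon, ?_⟩
    intro z hz z' hz'
    have hno : ∀ z1 ∈ K, ¬ G.Adj z' z1 := fun z1 hz1 h1 => hnon ⟨z1, hz1, z', hz', h1.symm⟩
    have h1 := inter_eq_one_of_no_nbr hG hp hK hK' hne hz' hno z hz
    rw [Finset.inter_comm]
    exact h1

end

end Cfsg.Agent.Lib.H6.S77
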