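import Mathlib
import Cfsg.Prelude.Def_Blocks
import Cfsg.Agent.Lib.H21.AD.Defs
import Cfsg.Agent.Lib.H23.BrauerThm
import Cfsg.Agent.Lib.H8.GenChar
import Cfsg.Agent.Lib.L0.CharLinear

/-!
# S4937, piece (LC4): the linear character `λ` of `G / N` (core, helper6)

`exists_lam_core` takes the other pieces of the blueprint (`exists_pexp`, `exists_lamFun`, `ab`,
`good_conj`, `lamFun_nilpotent`), instantiated at the fixed data, as hypotheses.
-/

set_option autoImplicit false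

open Cfsg.Agent.Lib.H21.AD

namespace Cfsg.Agent.Lib.H6.AD

variable {G : Type*} [Group G]

/-- `N ⊔ ⟨c⟩` is abelian over the normal subgroup `N`. -/
theorem comm_mem_of_sup_zpowers (N : Subgroup G) [N.Normal] (c : G) :
    ∀ a ∈ N ⊔ Subgroup.zpowers c, ∀ b ∈ N ⊔ Subgroup.zpowers c, a * b * a⁻¹ * b⁻¹ ∈ N := by
  have key : ∀ x ∈ N ⊔ Subgroup.zpowers c, ∃ k : ℤ,
      (QuotientGroup.mk' N) x = (QuotientGroup.mk' N c) ^ k := by
    intro x hx
    have h1 : (QuotientGroup.mk' N) x ∈ (N ⊔ Subgroup.zpowers c).map (QuotientGroup.mk' N) :=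
      Subgroup.mem_map_of_mem _ hx
    rw [Subgroup.map_sup, MonoidHom.map_zpowers, QuotientGroup.map_mk'_self, bot_sup_eq] at h1
    obtain ⟨k, hk⟩ := Subgroup.mem_zpowers_iff.mp h1
    exact ⟨k, hk.symm⟩
  intro a ha b hb
  obtain ⟨k, hk⟩ := key a ha
  obtain ⟨l, hl⟩ := key b hb
  rw [← QuotientGroup.eq_one_iff]
  have h2 : ((a * b * a⁻¹ * b⁻¹ : G) : G ⧸ N) =
      (QuotientGroup.mk' N) a * (QuotientGroup.mk' N) b * ((QuotientGroup.mk' N) a)⁻¹ *
        ((QuotientGroup.mk' N) b)⁻¹ := by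
    simp
  rw [h2, hk, hl, ← zpow_add, ← zpow_neg, ← zpow_add, ← zpow_neg, ← zpow_add]
  have : k + l + -k + -l = 0 := by ring
  rw [this, zpow_zero]

variable [Finite G] {p : ℕ}

omit [Finite G] in
theorem not_dvd_relIndex_sup_zpowers (N : Subgroup G) [N.Normal] (c : G) (hc : ¬ p ∣ orderOf c) :
    ¬ p ∣ N.relIndex (N ⊔ Subgroup.zpowers c) := by
  rw [Subgroup.relIndex_sup_left]
  intro h
  apply hc
  rw [← Nat.card_zpowers]
  exact dvd_trans h (Subgroup.relIndex_dvd_card _ _)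

omit [Finite G] in
theorem relIndex_map_conj (N : Subgroup G) [N.Normal] (J : Subgroup G) (t : G) :
    N.relIndex (J.map (MulAut.conj t).toMonoidHom) = N.relIndex J := by
  have h1 : N.map (MulAut.conj t).toMonoidHom = N := Subgroup.Normal.map_conj_eq N t
  conv_lhs => rw [← h1]
  exact Subgroup.relIndex_map_map_of_injective N J (MulAut.conj t).injective

omit [Finite G] in
theorem le_map_conj (N : Subgroup G) [N.Normal] (J : Subgroup G) (hNJ : N ≤ J) (t : G) :
    N ≤ J.map (MulAut.conj t).toMonoidHom := by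
  have h1 : N.map (MulAut.conj t).toMonoidHom = N := Subgroup.Normal.map_conj_eq N t
  calc N = N.map (MulAut.conj t).toMonoidHom := h1.symm
    _ ≤ _ := Subgroup.map_mono hNJ

omit [Finite G] in
theorem twist_one (N J : Subgroup G) (ν : G → ℂ) (h : IsTwist N J ν) : ν 1 = 1 :=
  h.2 1 (one_mem N)

omit [Finite G] in
theorem twist_pow (N J : Subgroup G) (ν : G → ℂ) (h : IsTwist N J ν) (c : G) (hc : c ∈ J) (k : ℕ) :
    ν (c ^ k) = ν c ^ k := by
  induction k with
  | zero => rw [pow_zero, pow_zero]; exact twist_one N J ν h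
  | succ k ih => rw [pow_succ, pow_succ, h.1 _ (pow_mem hc k) _ hc, ih]

theorem twist_norm_eq_one (N J : Subgroup G) (ν : G → ℂ) (h : IsTwist N J ν) (c : G) (hc : c ∈ J) :
    ‖ν c‖ = 1 := by
  have h1 : ν c ^ orderOf c = 1 := by
    rw [← twist_pow N J ν h c hc, pow_orderOf_eq_one]
    exact twist_one N J ν h
  exact Complex.norm_eq_one_of_pow_eq_one h1 (orderOf_pos c).ne'

omit [Finite G] in
/-- a `p`-element of `J` lies in `N` when `|J : N|` is prime to `p` -/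
theorem mem_of_pElement (hp : p.Prime) (N : Subgroup G) [N.Normal] (J : Subgroup G)
    (hpJ : ¬ p ∣ N.relIndex J) (u : G) (hu : u ∈ J) (k : ℕ) (hk : orderOf u = p ^ k) : u ∈ N := by
  set x : ↥J ⧸ N.subgroupOf J := QuotientGroup.mk (⟨u, hu⟩ : J) with hx
  have h1 : x ^ (N.subgroupOf J).index = 1 := by
    rw [hx, ← QuotientGroup.mk_pow, QuotientGroup.eq_one_iff]
    exact Subgroup.pow_index_mem _ _
  have h2 : x ^ (p ^ k) = 1 := by
    rw [hx, ← QuotientGroup.mk_pow]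
    have : (⟨u, hu⟩ : J) ^ (p ^ k) = 1 := by
      apply Subtype.ext
      rw [Subgroup.coe_pow, Subgroup.coe_one, ← hk]
      exact pow_orderOf_eq_one u
    rw [this, QuotientGroup.mk_one]
  have hcop : Nat.Coprime (N.subgroupOf J).index (p ^ k) := by
    apply Nat.Coprime.pow_right
    exact ((Nat.Prime.coprime_iff_not_dvd hp).mpr hpJ).symm
  have h3 : orderOf x ∣ Nat.gcd (N.subgroupOf J).index (p ^ k) :=
    Nat.dvd_gcd (orderOf_dvd_of_pow_eq_one h1) (orderOf_dvd_of_pow_eq_one h2)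
  rw [hcop.gcd_eq_one, Nat.dvd_one, orderOf_eq_one_iff, hx, QuotientGroup.eq_one_iff] at h3
  exact h3

omit [Finite G] in
theorem sSum_congr_on (J : Subgroup G) (f f' : G → ℂ) (h : ∀ g ∈ J, f g = f' g) :
    sSum p J f = sSum p J f' := by
  unfold sSum
  apply finsum_congr
  intro g
  by_cases hg : g ∈ J ∧ ¬ p ∣ orderOf g
  · rw [if_pos hg, if_pos hg, h g hg.1]
  · rw [if_neg hg, if_neg hg]

/-- (LC4), core: all other pieces are hypotheses at the fixed data. -/
theorem exists_lam_core (hp : p.Prime) (N : Subgroup G) [N.Normal]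
    (ψ : G → ℂ) (hθ : sSum p N ψ ≠ 0)
    (e : ℕ) (he0 : ∀ g : G, ¬ p ∣ orderOf (g ^ e))
    (he3 : ∀ g : G, ∃ k : ℕ, orderOf (g * (g ^ e)⁻¹) = p ^ k)
    (L : G → ℂ)
    (hL : ∀ (J : Subgroup G) (ν : G → ℂ) (g : G), N ≤ J → ¬ p ∣ N.relIndex J →
      Good p ψ N J ν → g ^ e ∈ J → L g = ν (g ^ e))
    (hab : ∀ J : Subgroup G, N ≤ J → (∀ a ∈ J, ∀ b ∈ J, a * b * a⁻¹ * b⁻¹ ∈ N) →
      ∃ ν : G → ℂ, Good p ψ N J ν)
    (hconj : ∀ (J : Subgroup G) (ν : G → ℂ) (t : G), Good p ψ N J ν →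
      Good p ψ N (J.map (MulAut.conj t).toMonoidHom) (fun x => ν (t⁻¹ * x * t)))
    (hnil : ∀ E : Subgroup G, Group.IsNilpotent E →
      ∃ β : E →* ℂˣ, ∀ u : E, L u = (β u : ℂ)) :
    ∃ lam : G →* ℂˣ, (∀ n ∈ N, lam n = 1) ∧
      ∀ J : Subgroup G, N ≤ J → ¬ p ∣ N.relIndex J →
        (∀ a ∈ J, ∀ b ∈ J, a * b * a⁻¹ * b⁻¹ ∈ N) →
        sSum p J (fun g => ψ g * (lam g : ℂ)) ≠ 0 := by
  classical
  haveI : Fintype G := Fintype.ofFinite G
  -- a good twist on `N ⊔ ⟨g ^ e⟩`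
  have hgood : ∀ g : G, ∃ ν, Good p ψ N (N ⊔ Subgroup.zpowers (g ^ e)) ν := fun g =>
    hab _ le_sup_left (comm_mem_of_sup_zpowers N (g ^ e))
  have hLg : ∀ (g : G) (ν : G → ℂ), Good p ψ N (N ⊔ Subgroup.zpowers (g ^ e)) ν →
      L g = ν (g ^ e) := fun g ν h =>
    hL _ ν g le_sup_left (not_dvd_relIndex_sup_zpowers N _ (he0 g)) h
      (Subgroup.mem_sup_right (Subgroup.mem_zpowers _))
  -- `L` is a class function
  have hclass : Cfsg.IsClassFunction G L := by
    intro g h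
    obtain ⟨ν, hν⟩ := hgood g
    rw [hLg g ν hν]
    have hν' := hconj _ ν h hν
    have hmem : (h * g * h⁻¹) ^ e ∈
        (N ⊔ Subgroup.zpowers (g ^ e)).map (MulAut.conj h).toMonoidHom := by
      refine ⟨g ^ e, Subgroup.mem_sup_right (Subgroup.mem_zpowers _), ?_⟩
      rw [conj_pow]
      rfl
    have hle : N ≤ (N ⊔ Subgroup.zpowers (g ^ e)).map (MulAut.conj h).toMonoidHom :=
      le_map_conj N _ le_sup_left h
    have hidx : ¬ p ∣ N.relIndex
        ((N ⊔ Subgroup.zpowers (g ^ e)).map (MulAut.conj h).toMonoidHom) := by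
      rw [relIndex_map_conj]
      exact not_dvd_relIndex_sup_zpowers N _ (he0 g)
    rw [hL _ _ (h * g * h⁻¹) hle hidx hν' hmem]
    congr 1
    rw [conj_pow]
    group
  -- `L` is a generalised character (Brauer)
  have hgen : Cfsg.IsGeneralizedCharacter G L := by
    apply Cfsg.Agent.Lib.H23.brauer_characterization hclass
    intro E q hq hE
    obtain ⟨β, hβ⟩ := hnil E (Cfsg.Agent.Lib.H23.isNilpotent_of_isElementary hq hE)
    have h1 : (fun u : E => L u) = fun u : E => (β u : ℂ) := funext hβ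
    rw [h1]
    exact Cfsg.Agent.Lib.H8.isGeneralizedCharacter_of_isCharacter
      (Cfsg.Agent.Lib.L0.isCharacter_of_irr (Cfsg.Agent.Lib.L0.isIrrCharacter_of_hom β))
  -- `|L g| = 1`
  have hnorm1 : ∀ g : G, L g * (starRingEnd ℂ) (L g) = 1 := by
    intro g
    obtain ⟨ν, hν⟩ := hgood g
    rw [hLg g ν hν, Complex.mul_conj, Complex.normSq_eq_norm_sq,
      twist_norm_eq_one N _ ν hν.1 _ (Subgroup.mem_sup_right (Subgroup.mem_zpowers _))]
    simp
  have hinner : Cfsg.classInner L L = 1 := by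
    unfold Cfsg.classInner
    simp_rw [hnorm1]
    rw [Finset.sum_const, Finset.card_univ, nsmul_eq_mul, mul_one, Nat.card_eq_fintype_card]
    apply inv_mul_cancel₀
    exact_mod_cast Fintype.card_ne_zero
  -- `L 1 = 1`, and `L = 1` on `N`
  have hgoodN : Good p ψ N N (fun _ => 1) :=
    ⟨⟨fun _ _ _ _ => by simp, fun _ _ => rfl⟩, by simpa using hθ⟩
  have hLN : ∀ n ∈ N, L n = 1 := by
    intro n hn
    exact hL N (fun _ => 1) n le_rfl (by rw [Subgroup.relIndex_self]; exact hp.not_dvd_one)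
      hgoodN (pow_mem hn e)
  have hL1 : L 1 = 1 := hLN 1 (one_mem N)
  have hirr : Cfsg.IsIrrCharacter G L := by
    rcases Cfsg.Agent.Lib.H8.genChar_norm_one hgen hinner with h | h
    · exact h
    · exfalso
      obtain ⟨n, hn⟩ := Cfsg.Agent.Lib.L0.isCharacter_apply_one
        (Cfsg.Agent.Lib.L0.isCharacter_of_irr h)
      simp only [Pi.neg_apply, hL1] at hn
      have h2 : ((-1 : ℝ) : ℂ) = ((n : ℝ) : ℂ) := by push_cast; exact hn
      have h3 : (-1 : ℝ) = (n : ℝ) := Complex.ofReal_injective h2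
      have h4 : (0 : ℝ) ≤ n := Nat.cast_nonneg n
      linarith
  have hchar := Cfsg.Agent.Lib.L0.isCharacter_of_irr hirr
  refine ⟨Cfsg.Agent.Lib.L0.linearCharHom hchar hL1, ?_, ?_⟩
  · intro n hn
    apply Units.ext
    rw [Cfsg.Agent.Lib.L0.linearCharHom_apply]
    exact hLN n hn
  · intro J hNJ hpJ habJ
    obtain ⟨ν, hν⟩ := hab J hNJ habJ
    have h1 : sSum p J (fun g => ψ g * ((Cfsg.Agent.Lib.L0.linearCharHom hchar hL1 g : ℂˣ) : ℂ)) =
        sSum p J (fun g => ψ g * ν g) := by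
      apply sSum_congr_on
      intro g hg
      show ψ g * ((Cfsg.Agent.Lib.L0.linearCharHom hchar hL1 g : ℂˣ) : ℂ) = ψ g * ν g
      rw [Cfsg.Agent.Lib.L0.linearCharHom_apply, hL J ν g hNJ hpJ hν (pow_mem hg e)]
      congr 1
      obtain ⟨k, hk⟩ := he3 g
      have hu : g * (g ^ e)⁻¹ ∈ J := mul_mem hg (inv_mem (pow_mem hg e))
      have huN := mem_of_pElement hp N J hpJ _ hu k hk
      have h2 : g = (g * (g ^ e)⁻¹) * g ^ e := by group
      conv_rhs => rw [h2]
      rw [hν.1.1 _ hu _ (pow_mem hg e), hν.1.2 _ huN, one_mul]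
    rw [h1]
    exact hν.2

end Cfsg.Agent.Lib.H6.AD
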