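import Mathlib
import Cfsg.Prelude.Def_Blocks
import Cfsg.Agent.Lib.H21.AD.Defs
import Cfsg.Agent.Lib.H6.ADLC4Core
import Cfsg.Agent.Lib.H13.ADPEXP
import Cfsg.Agent.Lib.H28.ADAB
import Cfsg.Agent.Lib.H9.ADCONJ
import Cfsg.Agent.Lib.H5.ADKEY
import Cfsg.Agent.Lib.H2.ADSOLCore
import Cfsg.Agent.Lib.H15.ADLC3Core
import Cfsg.Agent.Lib.H25.ADPOWHOM

/-!
# S4937, piece (LC4): the linear character `λ` of `G / N` (helper6)

Exact signature of `tools/blueprints/S4937_sigs.lean`.  Assembled from `exists_lam_core` and the landed pieces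
(PEXP) helper13, (AB) helper28, (CONJ) helper9, (KEY) helper5, (SOL) core helper2, (LC3) core helper15,
(POWHOM) helper25; the function `L` of (LC1) is built inline (a chosen good twist on `N ⊔ ⟨g ^ e⟩`).
-/

set_option autoImplicit false

open Cfsg.Agent.Lib.H21.AD

namespace Cfsg.Agent.Lib.H6.AD

variable {G : Type*} [Group G] [Finite G] {p : ℕ} {M : Ideal Cfsg.AlgInt}

/-- (LC4) the linear character `λ` of `G / N` -/
theorem exists_lam (hM : Cfsg.IsPModular p M) (N : Subgroup G) [N.Normal] (Q : Subgroup G) (hQN : Q ≤ N)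
    (hQ : ¬ p ∣ Q.relIndex N)
    (hcov : ∀ g : G, ∃ n ∈ N, ∃ c ∈ Subgroup.centralizer (Q : Set G), g = n * c)
    (ψ : G → ℂ) (hψ : Cfsg.IsIrrCharacter G ψ) (hψN : Cfsg.IsIrrCharacter N (fun n : N => ψ n))
    (hθ : sSum p N ψ ≠ 0) :
    ∃ lam : G →* ℂˣ, (∀ n ∈ N, lam n = 1) ∧
      ∀ J : Subgroup G, N ≤ J → ¬ p ∣ N.relIndex J → (∀ a ∈ J, ∀ b ∈ J, a * b * a⁻¹ * b⁻¹ ∈ N) →
        sSum p J (fun g => ψ g * (lam g : ℂ)) ≠ 0 := by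
  have hp : p.Prime := hM.1
  obtain ⟨e, he0, he1, he2, he3⟩ := Cfsg.Agent.Lib.H13.AD.exists_pexp p hp G
  have hcf : Cfsg.IsClassFunction G ψ :=
    Cfsg.Agent.Lib.L0.isClassFunction_of_isCharacter (Cfsg.Agent.Lib.L0.isCharacter_of_irr hψ)
  have hkey : ∀ (J₁ J₂ : Subgroup G), N ≤ J₁ → J₁ ≤ J₂ → ¬ p ∣ N.relIndex J₂ →
      ∀ (ν₁ ν₂ : G → ℂ), Good p ψ N J₁ ν₁ → Good p ψ N J₂ ν₂ → ∀ g ∈ J₁, ν₁ g = ν₂ g :=
    fun J₁ J₂ h1 h12 hpJ ν₁ ν₂ g₁ g₂ =>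
      Cfsg.Agent.Lib.H5.AD.key hM N Q hQN hQ hcov ψ hψ hψN J₁ J₂ h1 h12 hpJ ν₁ ν₂ g₁ g₂
  have habN : ∀ J : Subgroup G, N ≤ J → (∀ a ∈ J, ∀ b ∈ J, a * b * a⁻¹ * b⁻¹ ∈ N) →
      ∃ ν : G → ℂ, Good p ψ N J ν := fun J hNJ habJ =>
    Cfsg.Agent.Lib.H28.AD.ab p N J hNJ (fun a _ b hb => ‹N.Normal›.conj_mem b hb a) habJ ψ hθ
  have hsol : ∀ J : Subgroup G, N ≤ J → ¬ p ∣ N.relIndex J →
      Group.IsSolvable (↥J ⧸ N.subgroupOf J) → ∃ ν : G → ℂ, Good p ψ N J ν :=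
    fun J hNJ hpJ hs => Cfsg.Agent.Lib.H2.AD.sol_core N ψ hψ hkey hθ (Nat.card J) J rfl hNJ hpJ hs
  -- (LC1) the function `L`
  have hgood : ∀ g : G, ∃ ν : G → ℂ, Good p ψ N (N ⊔ Subgroup.zpowers (g ^ e)) ν := fun g =>
    habN _ le_sup_left (comm_mem_of_sup_zpowers N (g ^ e))
  choose ν0 hν0 using hgood
  have hL : ∀ (J : Subgroup G) (ν : G → ℂ) (g : G), N ≤ J → ¬ p ∣ N.relIndex J →
      Good p ψ N J ν → g ^ e ∈ J → (fun g => ν0 g (g ^ e)) g = ν (g ^ e) := by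
    intro J ν g hNJ hpJ hν hg
    have h12 : N ⊔ Subgroup.zpowers (g ^ e) ≤ J :=
      sup_le hNJ (by rw [Subgroup.zpowers_le]; exact hg)
    exact hkey _ J le_sup_left h12 hpJ (ν0 g) ν (hν0 g) hν (g ^ e)
      (Subgroup.mem_sup_right (Subgroup.mem_zpowers _))
  refine exists_lam_core hp N ψ hθ e he0 he3 (fun g => ν0 g (g ^ e)) hL habN ?_ ?_
  · intro J ν t h
    exact Cfsg.Agent.Lib.H9.AD.good_conj p N ψ hcf J ν h t
  · intro E hE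
    exact Cfsg.Agent.Lib.H15.AD.lamFun_nilpotent_core hp N ψ e he0 (fun g => ν0 g (g ^ e)) hL E hE hsol
      (fun a b ha hb => Cfsg.Agent.Lib.H25.AD.pow_mul_of_nilpotent p hp e he1 he2 E hE a b ha hb)

end Cfsg.Agent.Lib.H6.AD
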