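import Mathlib
import Cfsg.Prelude.Def_Transfer
import Cfsg.Agent.Lib.H6.PResidual

set_option autoImplicit false

namespace Cfsg.Agent.Lib.H6

variable {G : Type*} [Group G]

/-- An element of `p`-power order lying in `O^p(G) G'` already lies in `G'`. -/
theorem mem_commutator_of_mem_pResidual_sup [Finite G] (p : ℕ) [hp : Fact p.Prime]
    (t : G) (k : ℕ) (ht : t ^ p ^ k = 1) (hmem : t ∈ Cfsg.pResidual p G ⊔ commutator G) :
    t ∈ commutator G := by
  have hpos : 0 < Nat.card G := Nat.card_pos
  obtain ⟨e, m, hm, hem⟩ := Nat.exists_eq_pow_mul_and_not_dvd hpos.ne' p hp.out.ne_one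
  have hmp : Nat.Coprime m p := ((Nat.Prime.coprime_iff_not_dvd hp.out).mpr hm).symm
  let f : G →* Abelianization G := (powMonoidHom m).comp Abelianization.of
  have hker1 : Cfsg.pResidual p G ≤ f.ker := by
    unfold Cfsg.pResidual
    rw [Subgroup.closure_le]
    intro g hg
    have hg' : Nat.Coprime (orderOf g) p := hg
    have hd : orderOf g ∣ p ^ e * m := hem ▸ orderOf_dvd_natCard g
    have hd2 : orderOf g ∣ m := (Nat.Coprime.pow_right e hg').dvd_of_dvd_mul_left hd
    show f g = 1
    show (Abelianization.of g) ^ m = 1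
    rw [← map_pow, orderOf_dvd_iff_pow_eq_one.mp hd2, map_one]
  have hker2 : commutator G ≤ f.ker := Abelianization.commutator_subset_ker f
  have hker : t ∈ f.ker := (sup_le hker1 hker2) hmem
  have h1 : t ^ m ∈ commutator G := by
    rw [← Abelianization.ker_of, MonoidHom.mem_ker, map_pow]
    exact hker
  have h2 : t ^ p ^ k ∈ commutator G := by rw [ht]; exact Subgroup.one_mem _
  exact mem_of_pow_mem_of_coprime (Nat.Coprime.pow_right k hmp) h1 h2

/-- `p'`-residual of a subgroup maps into the `p'`-residual of the group. -/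
theorem map_pResidual_le (p : ℕ) (H : Subgroup G) :
    (Cfsg.pResidual p ↥H).map H.subtype ≤ Cfsg.pResidual p G := by
  unfold Cfsg.pResidual
  rw [MonoidHom.map_closure, Subgroup.closure_le]
  rintro _ ⟨y, hy, rfl⟩
  apply Subgroup.subset_closure
  show Nat.Coprime (orderOf (y : G)) p
  rw [Subgroup.orderOf_coe]; exact hy

end Cfsg.Agent.Lib.H6
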