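import Mathlib
import Cfsg.Prelude.Def_Local
import Cfsg.Agent.Lib.H7.PLocal
import Cfsg.Agent.Lib.H14.Amalgam5

set_option autoImplicit false

/-! The centralizer of a transvection in `SL_n(2)` has `F* = O_2` (helper6). -/

namespace Cfsg.Agent.Lib.H6.TransvCent

open Cfsg Matrix

variable {ι : Type*} [Fintype ι] [DecidableEq ι] {F : Type*} [Field F]

theorem val_mul' (g h : SpecialLinearGroup ι F) : (g * h).1 = g.1 * h.1 := rfl

theorem val_one' : (1 : SpecialLinearGroup ι F).1 = 1 := rfl

theorem val_inv_mul (g : SpecialLinearGroup ι F) : (g⁻¹).1 * g.1 = 1 := by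
  rw [← val_mul', inv_mul_cancel, val_one']

theorem val_mul_inv (g : SpecialLinearGroup ι F) : g.1 * (g⁻¹).1 = 1 := by
  rw [← val_mul', mul_inv_cancel, val_one']

theorem le_normalizer_of_conj_mem {G : Type*} [Group G] {H K : Subgroup G}
    (h : ∀ c ∈ K, ∀ g ∈ H, c * g * c⁻¹ ∈ H) : K ≤ Subgroup.normalizer (H : Set G) := by
  intro c hc
  rw [Subgroup.mem_normalizer_iff]
  intro g
  constructor
  · exact h c hc g
  · intro hg
    have := h c⁻¹ (inv_mem hc) _ hg
    have h5 : c⁻¹ * (c * g * c⁻¹) * c⁻¹⁻¹ = g := by group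
    rw [h5] at this
    exact this

section general

variable (e f : ι → F)

/-- the stabilizer of the vector `e` and the covector `f` -/
def Stab : Subgroup (SpecialLinearGroup ι F) where
  carrier := {g | g.1 *ᵥ e = e ∧ f ᵥ* g.1 = f}
  one_mem' := by
    refine ⟨?_, ?_⟩
    · rw [val_one', one_mulVec]
    · rw [val_one', vecMul_one]
  mul_mem' := by
    rintro g h ⟨hg1, hg2⟩ ⟨hh1, hh2⟩
    refine ⟨?_, ?_⟩
    · rw [val_mul', ← mulVec_mulVec, hh1, hg1]
    · rw [val_mul', ← vecMul_vecMul, hg2, hh2]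
  inv_mem' := by
    rintro g ⟨hg1, hg2⟩
    refine ⟨?_, ?_⟩
    · conv_lhs => rw [← hg1]
      rw [mulVec_mulVec, val_inv_mul, one_mulVec]
    · conv_lhs => rw [← hg2]
      rw [vecMul_vecMul, val_mul_inv, vecMul_one]

theorem mem_Stab (g : SpecialLinearGroup ι F) :
    g ∈ Stab e f ↔ g.1 *ᵥ e = e ∧ f ᵥ* g.1 = f := Iff.rfl

theorem one_add_mul_one_add (a b : ι → F) (a' b' : ι → F) :
    (1 + vecMulVec a b) * (1 + vecMulVec a' b') =
      1 + vecMulVec a b + vecMulVec a' b' + vecMulVec a ((b ⬝ᵥ a') • b') := by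
  rw [mul_add, add_mul, add_mul, one_mul, one_mul, mul_one, vecMulVec_mul_vecMulVec]
  abel

/-- the row root group `{1 + e αᵀ : α(e) = 0}` -/
def U : Subgroup (SpecialLinearGroup ι F) where
  carrier := {g | ∃ α : ι → F, α ⬝ᵥ e = 0 ∧ g.1 = 1 + vecMulVec e α}
  one_mem' := ⟨0, by simp, by rw [val_one', vecMulVec_zero, add_zero]⟩
  mul_mem' := by
    rintro g h ⟨α, hα, hg⟩ ⟨α', hα', hh⟩
    refine ⟨α + α', by rw [add_dotProduct, hα, hα', add_zero], ?_⟩
    rw [val_mul', hg, hh, one_add_mul_one_add, hα, zero_smul, vecMulVec_zero, add_zero,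
      vecMulVec_add, add_assoc]
  inv_mem' := by
    rintro g ⟨α, hα, hg⟩
    refine ⟨-α, by rw [neg_dotProduct, hα, neg_zero], ?_⟩
    have h1 : g.1 * (1 + vecMulVec e (-α)) = 1 := by
      rw [hg, one_add_mul_one_add, hα, zero_smul, vecMulVec_zero, add_zero, add_assoc,
        ← vecMulVec_add, add_neg_cancel, vecMulVec_zero, add_zero]
    calc (g⁻¹).1 = (g⁻¹).1 * (g.1 * (1 + vecMulVec e (-α))) := by rw [h1, mul_one]
      _ = 1 + vecMulVec e (-α) := by rw [← mul_assoc, val_inv_mul, one_mul]

/-- the column root group `{1 + β fᵀ : f(β) = 0}` -/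
def W : Subgroup (SpecialLinearGroup ι F) where
  carrier := {g | ∃ β : ι → F, f ⬝ᵥ β = 0 ∧ g.1 = 1 + vecMulVec β f}
  one_mem' := ⟨0, by simp, by rw [val_one', zero_vecMulVec, add_zero]⟩
  mul_mem' := by
    rintro g h ⟨β, hβ, hg⟩ ⟨β', hβ', hh⟩
    refine ⟨β + β', by rw [dotProduct_add, hβ, hβ', add_zero], ?_⟩
    rw [val_mul', hg, hh, one_add_mul_one_add, hβ', zero_smul, vecMulVec_zero, add_zero,
      add_vecMulVec, add_assoc]
  inv_mem' := by
    rintro g ⟨β, hβ, hg⟩
    refine ⟨-β, by rw [dotProduct_neg, hβ, neg_zero], ?_⟩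
    have h1 : g.1 * (1 + vecMulVec (-β) f) = 1 := by
      rw [hg, one_add_mul_one_add, dotProduct_neg, hβ, neg_zero, zero_smul, vecMulVec_zero,
        add_zero, add_assoc, ← add_vecMulVec, add_neg_cancel, zero_vecMulVec, add_zero]
    calc (g⁻¹).1 = (g⁻¹).1 * (g.1 * (1 + vecMulVec (-β) f)) := by rw [h1, mul_one]
      _ = 1 + vecMulVec (-β) f := by rw [← mul_assoc, val_inv_mul, one_mul]

variable {e f}

theorem U_le_Stab (hfe : f ⬝ᵥ e = 0) : U e ≤ Stab e f := by
  rintro g ⟨α, hα, hg⟩
  refine ⟨?_, ?_⟩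
  · rw [hg, add_mulVec, one_mulVec, vecMulVec_mulVec, hα, op_smul_eq_smul, zero_smul, add_zero]
  · rw [hg, vecMul_add, vecMul_one, vecMul_vecMulVec, hfe, zero_smul, add_zero]

theorem W_le_Stab (hfe : f ⬝ᵥ e = 0) : W f ≤ Stab e f := by
  rintro g ⟨β, hβ, hg⟩
  refine ⟨?_, ?_⟩
  · rw [hg, add_mulVec, one_mulVec, vecMulVec_mulVec, hfe, op_smul_eq_smul, zero_smul, add_zero]
  · rw [hg, vecMul_add, vecMul_one, vecMul_vecMulVec, hβ, zero_smul, add_zero]

theorem Stab_le_normalizer_U :
    Stab e f ≤ Subgroup.normalizer (U e : Set (SpecialLinearGroup ι F)) := by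
  apply le_normalizer_of_conj_mem
  rintro c hc g ⟨α, hα, hg⟩
  have hc' := (Stab e f).inv_mem hc
  refine ⟨α ᵥ* (c⁻¹).1, ?_, ?_⟩
  · rw [← dotProduct_mulVec, hc'.1, hα]
  · rw [val_mul', val_mul', hg, mul_add, add_mul, mul_one, val_mul_inv, mul_vecMulVec,
      vecMulVec_mul, hc.1]

theorem Stab_le_normalizer_W :
    Stab e f ≤ Subgroup.normalizer (W f : Set (SpecialLinearGroup ι F)) := by
  apply le_normalizer_of_conj_mem
  rintro c hc g ⟨β, hβ, hg⟩
  have hc' := (Stab e f).inv_mem hc
  refine ⟨c.1 *ᵥ β, ?_, ?_⟩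
  · rw [dotProduct_mulVec, hc.2, hβ]
  · rw [val_mul', val_mul', hg, mul_add, add_mul, mul_one, val_mul_inv, mul_vecMulVec,
      vecMulVec_mul, hc'.2]

theorem isPGroup_U (h2 : (2 : F) = 0) : IsPGroup 2 (U e : Subgroup (SpecialLinearGroup ι F)) := by
  intro g
  refine ⟨1, ?_⟩
  obtain ⟨α, hα, hg⟩ := g.2
  apply Subtype.ext
  apply Subtype.ext
  show ((g : SpecialLinearGroup ι F) ^ 2 ^ 1).1 = 1
  rw [pow_one, pow_two, val_mul', hg, one_add_mul_one_add, hα, zero_smul, vecMulVec_zero, add_zero,
    add_assoc, ← vecMulVec_add, ← two_smul F α, h2, zero_smul, vecMulVec_zero, add_zero]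

theorem isPGroup_W (h2 : (2 : F) = 0) : IsPGroup 2 (W f : Subgroup (SpecialLinearGroup ι F)) := by
  intro g
  refine ⟨1, ?_⟩
  obtain ⟨β, hβ, hg⟩ := g.2
  apply Subtype.ext
  apply Subtype.ext
  show ((g : SpecialLinearGroup ι F) ^ 2 ^ 1).1 = 1
  rw [pow_one, pow_two, val_mul', hg, one_add_mul_one_add, hβ, zero_smul, vecMulVec_zero, add_zero,
    add_assoc, ← add_vecMulVec, ← two_smul F β, h2, zero_smul, zero_vecMulVec, add_zero]

end general

section concrete

variable (i j : ι)

theorem transvection_mem_U {l : ι} (hil : i ≠ l) :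
    SpecialLinearGroup.transvection hil (1 : F) ∈ U (Pi.single i (1 : F)) := by
  refine ⟨Pi.single l 1, ?_, ?_⟩
  · rw [single_dotProduct, one_mul, Pi.single_apply, if_neg (Ne.symm hil)]
  · show Matrix.transvection i l (1 : F) = _
    rw [Matrix.transvection, single_eq_single_vecMulVec_single]

theorem transvection_mem_W {k : ι} (hkj : k ≠ j) :
    SpecialLinearGroup.transvection hkj (1 : F) ∈ W (Pi.single j (1 : F)) := by
  refine ⟨Pi.single k 1, ?_, ?_⟩
  · rw [single_dotProduct, one_mul, Pi.single_apply, if_neg (Ne.symm hkj)]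
  · show Matrix.transvection k j (1 : F) = _
    rw [Matrix.transvection, single_eq_single_vecMulVec_single]

variable {i j}

theorem Stab_col {g : SpecialLinearGroup ι F}
    (hg : g ∈ Stab (Pi.single i (1 : F)) (Pi.single j (1 : F))) (k : ι) :
    g.1 k i = if k = i then 1 else 0 := by
  have := congrFun hg.1 k
  rw [mulVec_single_one] at this
  rw [Pi.single_apply] at this
  exact this

theorem Stab_row {g : SpecialLinearGroup ι F}
    (hg : g ∈ Stab (Pi.single i (1 : F)) (Pi.single j (1 : F))) (l : ι) :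
    g.1 j l = if l = j then 1 else 0 := by
  have := congrFun hg.2 l
  rw [single_one_vecMul] at this
  rw [Pi.single_apply] at this
  exact this

/-- an element of the stabilizer commuting with the two root groups is `1 + c E_ij` -/
theorem eq_of_centralizes (hij : i ≠ j) (y : SpecialLinearGroup ι F)
    (hy : y ∈ Stab (Pi.single i (1 : F)) (Pi.single j (1 : F)))
    (hU : ∀ g ∈ U (Pi.single i (1 : F)), g * y = y * g)
    (hW : ∀ g ∈ W (Pi.single j (1 : F)), g * y = y * g) :
    y.1 = 1 + y.1 i j • Matrix.single i j (1 : F) := by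
  have hrow : ∀ l m : ι, l ≠ i → y.1 l m = (1 : Matrix ι ι F) l m := by
    intro l m hl
    have h1 := congrArg Subtype.val (hU _ (transvection_mem_U i (Ne.symm hl)))
    rw [val_mul', val_mul'] at h1
    have h2 : (SpecialLinearGroup.transvection (Ne.symm hl) (1 : F)).1 =
        1 + Matrix.single i l (1 : F) := rfl
    rw [h2, add_mul, mul_add, one_mul, mul_one] at h1
    have h3 : Matrix.single i l (1 : F) * y.1 = y.1 * Matrix.single i l (1 : F) :=
      add_left_cancel h1
    have h4 := congrFun (congrFun h3 i) m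
    rw [single_mul_apply_same, one_mul] at h4
    rw [h4]
    by_cases hm : m = l
    · subst hm
      rw [mul_single_apply_same, mul_one, Stab_col hy i, if_pos rfl, Matrix.one_apply_eq]
    · rw [mul_single_apply_of_ne _ _ _ _ _ hm, Matrix.one_apply_ne (Ne.symm hm)]
  have hcol : ∀ m k : ι, k ≠ j → y.1 m k = (1 : Matrix ι ι F) m k := by
    intro m k hk
    have h1 := congrArg Subtype.val (hW _ (transvection_mem_W j hk))
    rw [val_mul', val_mul'] at h1
    have h2 : (SpecialLinearGroup.transvection hk (1 : F)).1 =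
        1 + Matrix.single k j (1 : F) := rfl
    rw [h2, add_mul, mul_add, one_mul, mul_one] at h1
    have h3 : Matrix.single k j (1 : F) * y.1 = y.1 * Matrix.single k j (1 : F) :=
      add_left_cancel h1
    have h4 := congrFun (congrFun h3 m) j
    rw [mul_single_apply_same, mul_one] at h4
    rw [← h4]
    by_cases hm : m = k
    · subst hm
      rw [single_mul_apply_same, one_mul, Stab_row hy j, if_pos rfl, Matrix.one_apply_eq]
    · rw [single_mul_apply_of_ne _ _ _ _ _ hm, Matrix.one_apply_ne hm]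
  ext a b
  rw [Matrix.add_apply, Matrix.smul_apply, smul_eq_mul]
  by_cases ha : a = i
  · by_cases hb : b = j
    · subst ha hb
      rw [Matrix.one_apply_ne hij, Matrix.single_apply_same, mul_one, zero_add]
    · have hs : Matrix.single i j (1 : F) a b = 0 :=
        Matrix.single_apply_of_ne _ _ _ _ _ (fun h : i = a ∧ j = b => hb h.2.symm)
      rw [hcol a b hb, hs, mul_zero, add_zero]
  · have hs : Matrix.single i j (1 : F) a b = 0 :=
      Matrix.single_apply_of_ne _ _ _ _ _ (fun h : i = a ∧ j = b => ha h.1.symm)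
    rw [hrow a b ha, hs, mul_zero, add_zero]

theorem card_two_facts [Fintype F] (hF : Fintype.card F = 2) :
    (2 : F) = 0 ∧ ∀ x : F, x = 0 ∨ x = 1 := by
  classical
  have h1 : (2 : F) = 0 := by
    have := card_nsmul_eq_zero (G := F) (x := (1 : F))
    rw [hF] at this
    simpa using this
  refine ⟨h1, ?_⟩
  intro x
  by_cases hx : x = 0
  · exact Or.inl hx
  · right
    have h3 : Fintype.card Fˣ = 1 := by rw [Fintype.card_units, hF]
    have : Subsingleton Fˣ := Fintype.card_le_one_iff_subsingleton.1 h3.le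
    have h4 : Units.mk0 x hx = 1 := Subsingleton.elim _ _
    have := congrArg Units.val h4
    simpa using this

theorem centralizer_eq_Stab [Fintype F] (hF : Fintype.card F = 2) (hij : i ≠ j)
    (t : SpecialLinearGroup ι F) (ht : t.1 = Matrix.transvection i j 1) :
    Subgroup.centralizer ({t} : Set (SpecialLinearGroup ι F)) =
      Stab (Pi.single i (1 : F)) (Pi.single j (1 : F)) := by
  obtain ⟨h2, h01⟩ := card_two_facts hF
  ext g
  rw [Subgroup.mem_centralizer_iff]
  constructor
  · intro h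
    have h1 := congrArg Subtype.val (h t rfl)
    rw [val_mul', val_mul', ht, Matrix.transvection, add_mul, mul_add, one_mul, mul_one] at h1
    have h3 : Matrix.single i j (1 : F) * g.1 = g.1 * Matrix.single i j (1 : F) :=
      add_left_cancel h1
    have hcol : ∀ k, g.1 k i = if k = i then g.1 j j else 0 := by
      intro k
      have h4 := congrFun (congrFun h3 k) j
      rw [mul_single_apply_same, mul_one] at h4
      rw [← h4]
      by_cases hk : k = i
      · subst hk
        rw [single_mul_apply_same, one_mul, if_pos rfl]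
      · rw [single_mul_apply_of_ne _ _ _ _ _ hk, if_neg hk]
    have hrow : ∀ l, g.1 j l = if l = j then g.1 i i else 0 := by
      intro l
      have h4 := congrFun (congrFun h3 i) l
      rw [single_mul_apply_same, one_mul] at h4
      rw [h4]
      by_cases hl : l = j
      · subst hl
        rw [mul_single_apply_same, mul_one, if_pos rfl]
      · rw [mul_single_apply_of_ne _ _ _ _ _ hl, if_neg hl]
    have hii : g.1 i i = g.1 j j := by
      have := hcol i
      rw [if_pos rfl] at this
      exact this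
    have hne : g.1 j j ≠ 0 := by
      intro h0
      have hdet : g.1.det = 0 := by
        apply Matrix.det_eq_zero_of_column_eq_zero i
        intro k
        rw [hcol k, h0]
        split_ifs <;> rfl
      rw [g.2] at hdet
      exact one_ne_zero hdet
    have hjj : g.1 j j = 1 := by
      rcases h01 (g.1 j j) with h | h
      · exact absurd h hne
      · exact h
    refine ⟨?_, ?_⟩
    · funext k
      rw [mulVec_single_one, Pi.single_apply]
      show g.1 k i = _
      rw [hcol k, hjj]
    · funext l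
      rw [single_one_vecMul, Pi.single_apply]
      show g.1 j l = _
      rw [hrow l, hii, hjj]
  · intro h x hx
    rw [Set.mem_singleton_iff] at hx
    subst hx
    apply Subtype.ext
    rw [val_mul', val_mul', ht, Matrix.transvection, single_eq_single_vecMulVec_single, add_mul,
      mul_add, one_mul, mul_one, mul_vecMulVec, vecMulVec_mul, h.1, h.2]

theorem fstar_eq [Fintype F] [DecidableEq F] (hF : Fintype.card F = 2) (hij : i ≠ j)
    (t : SpecialLinearGroup ι F) (ht : t.1 = Matrix.transvection i j 1) :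
    generalizedFittingSubgroup ↥(Subgroup.centralizer ({t} : Set (SpecialLinearGroup ι F))) =
      pCore 2 ↥(Subgroup.centralizer ({t} : Set (SpecialLinearGroup ι F))) := by
  have : Fact (Nat.Prime 2) := ⟨Nat.prime_two⟩
  obtain ⟨h2, h01⟩ := card_two_facts hF
  rw [centralizer_eq_Stab hF hij t ht]
  have hfe : (Pi.single j (1 : F) : ι → F) ⬝ᵥ Pi.single i (1 : F) = 0 := by
    rw [single_dotProduct, one_mul, Pi.single_apply, if_neg (Ne.symm hij)]
  apply Cfsg.Agent.Lib.H7.generalizedFittingSubgroup_eq_pCore_of_coprime 2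
    (Stab (Pi.single i (1 : F)) (Pi.single j (1 : F)))
  intro y hyM hy hyO
  have hU : U (Pi.single i (1 : F)) ≤
      pCoreOf 2 (Stab (Pi.single i (1 : F)) (Pi.single j (1 : F))) :=
    Cfsg.Agent.Lib.H14.le_pCoreOf 2 _ _ (U_le_Stab hfe) Stab_le_normalizer_U (isPGroup_U h2)
  have hW : W (Pi.single j (1 : F)) ≤
      pCoreOf 2 (Stab (Pi.single i (1 : F)) (Pi.single j (1 : F))) :=
    Cfsg.Agent.Lib.H14.le_pCoreOf 2 _ _ (W_le_Stab hfe) Stab_le_normalizer_W (isPGroup_W h2)
  rw [Subgroup.mem_centralizer_iff] at hyO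
  have hform := eq_of_centralizes hij y hyM (fun g hg => hyO g (hU hg)) (fun g hg => hyO g (hW hg))
  have hyy : y * y = 1 := by
    apply Subtype.ext
    rw [val_mul', hform]
    set c := y.1 i j
    rw [mul_add, add_mul, add_mul, one_mul, one_mul, mul_one, smul_mul_smul_comm,
      single_mul_single_of_ne _ _ _ _ (Ne.symm hij), smul_zero, add_zero, add_assoc, ← two_smul F,
      h2, zero_smul, add_zero]
    rfl
  have h5 : orderOf y ∣ 2 := orderOf_dvd_of_pow_eq_one (by rw [pow_two]; exact hyy)
  have h6 : orderOf y = 1 := Nat.Coprime.eq_one_of_dvd hy h5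
  exact orderOf_eq_one_iff.1 h6

end concrete

end Cfsg.Agent.Lib.H6.TransvCent
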