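import Mathlib
import Cfsg.Agent.Lib.H6.TransvCent
import Cfsg.Agent.Lib.H13.Transv
import Cfsg.Agent.Lib.H2.SLGen

set_option autoImplicit false
set_option linter.unusedSectionVars false

/-! General transvections `1 + v φᵀ` in `SL(ι, F)`: conjugation, transitivity (helper6). -/

namespace Cfsg.Agent.Lib.H6.TransvSL

open Matrix Cfsg.Agent.Lib.H6.TransvCent

variable {ι : Type*} [Fintype ι] [DecidableEq ι] {F : Type*} [Field F]

theorem det_one_add_vecMulVec (v φ : ι → F) : det (1 + vecMulVec v φ) = 1 + φ ⬝ᵥ v := by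
  rw [vecMulVec_eq Unit, det_one_add_replicateCol_mul_replicateRow]

/-- the transvection `1 + v φᵀ` as an element of `SL`. -/
def mk (v φ : ι → F) (h : φ ⬝ᵥ v = 0) : SpecialLinearGroup ι F :=
  ⟨1 + vecMulVec v φ, by rw [det_one_add_vecMulVec, h, add_zero]⟩

theorem mk_val (v φ : ι → F) (h : φ ⬝ᵥ v = 0) : (mk v φ h).1 = 1 + vecMulVec v φ := rfl

theorem dot_eq_zero_of_val {t : SpecialLinearGroup ι F} {v φ : ι → F}
    (ht : t.1 = 1 + vecMulVec v φ) : φ ⬝ᵥ v = 0 := by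
  have := t.2
  rw [ht, det_one_add_vecMulVec] at this
  exact add_eq_left.mp this

theorem val_inv_of_val {t : SpecialLinearGroup ι F} {v φ : ι → F}
    (ht : t.1 = 1 + vecMulVec v φ) : (t⁻¹).1 = 1 + vecMulVec (-v) φ := by
  have h0 := dot_eq_zero_of_val ht
  have h1 : t.1 * (1 + vecMulVec (-v) φ) = 1 := by
    rw [ht, one_add_mul_one_add, dotProduct_neg, h0, neg_zero, zero_smul, vecMulVec_zero,
      add_zero, add_assoc, ← add_vecMulVec, add_neg_cancel, zero_vecMulVec, add_zero]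
  calc (t⁻¹).1 = (t⁻¹).1 * (t.1 * (1 + vecMulVec (-v) φ)) := by rw [h1, mul_one]
    _ = 1 + vecMulVec (-v) φ := by rw [← mul_assoc, val_inv_mul, one_mul]

/-- conjugation of a transvection -/
theorem val_conj {t : SpecialLinearGroup ι F} {v φ : ι → F}
    (ht : t.1 = 1 + vecMulVec v φ) (g : SpecialLinearGroup ι F) :
    (g * t * g⁻¹).1 = 1 + vecMulVec (g.1 *ᵥ v) (φ ᵥ* (g⁻¹).1) := by
  rw [val_mul', val_mul', ht, mul_add, add_mul, mul_one, val_mul_inv, mul_vecMulVec,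
    vecMulVec_mul]

theorem mulVec_ne_zero (g : SpecialLinearGroup ι F) {v : ι → F} (hv : v ≠ 0) : g.1 *ᵥ v ≠ 0 := by
  intro h
  apply hv
  have h2 : (g⁻¹).1 *ᵥ (g.1 *ᵥ v) = v := by rw [mulVec_mulVec, val_inv_mul, one_mulVec]
  rw [← h2, h, mulVec_zero]

theorem vecMul_ne_zero (g : SpecialLinearGroup ι F) {φ : ι → F} (hφ : φ ≠ 0) : φ ᵥ* g.1 ≠ 0 := by
  intro h
  apply hφ
  have h2 : (φ ᵥ* g.1) ᵥ* (g⁻¹).1 = φ := by rw [vecMul_vecMul, val_mul_inv, vecMul_one]
  rw [← h2, h, zero_vecMul]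

/-- the elementary transvection as `1 + v φᵀ`. -/
theorem transvection_eq (i j : ι) (c : F) :
    Matrix.transvection i j c = 1 + vecMulVec (c • Pi.single i (1 : F)) (Pi.single j (1 : F)) := by
  rw [Matrix.transvection]
  congr 1
  ext a b
  simp only [vecMulVec_apply, Pi.smul_apply, smul_eq_mul, Matrix.single_apply, Pi.single_apply]
  by_cases ha : a = i <;> by_cases hb : b = j
  · simp [ha, hb]
  · simp [ha, hb]
    intro h; exact absurd h.symm hb
  · simp [ha, hb]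
    intro h; exact absurd h.symm ha
  · simp [ha, hb]
    intro h; exact absurd h.symm ha

theorem single_dot_single {i j : ι} (hij : i ≠ j) :
    (Pi.single j (1 : F) : ι → F) ⬝ᵥ (Pi.single i (1 : F)) = 0 := by
  rw [single_dotProduct, one_mul, Pi.single_apply, if_neg (Ne.symm hij)]

theorem single_ne_zero (i : ι) : (Pi.single i (1 : F) : ι → F) ≠ 0 := by
  intro h
  have := congrFun h i
  simp at this

/-- the linear functional attached to a row vector -/
def dual (φ : ι → F) : Module.Dual F (ι → F) where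
  toFun x := φ ⬝ᵥ x
  map_add' x y := dotProduct_add φ x y
  map_smul' c x := by simp [dotProduct_smul]

theorem dual_apply (φ x : ι → F) : dual φ x = φ ⬝ᵥ x := rfl

theorem dual_ne_zero {φ : ι → F} (hφ : φ ≠ 0) : dual φ ≠ 0 := by
  intro h
  apply hφ
  ext i
  have := LinearMap.congr_fun h (Pi.single i 1)
  rw [dual_apply, dotProduct_single_one] at this
  simpa using this

/-- `SL` is transitive on incident pairs (vector, covector) in dimension at least 3. -/
theorem exists_sl_map (h3 : 3 ≤ Fintype.card ι) {v φ v' φ' : ι → F} (hv : v ≠ 0) (hφ : φ ≠ 0)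
    (hv' : v' ≠ 0) (hφ' : φ' ≠ 0) (h : φ ⬝ᵥ v = 0) (h' : φ' ⬝ᵥ v' = 0) :
    ∃ g : SpecialLinearGroup ι F, g.1 *ᵥ v = v' ∧ φ' ᵥ* g.1 = φ := by
  have hdim : 3 ≤ Module.finrank F (ι → F) := by rw [Module.finrank_fintype_fun_eq_card]; exact h3
  obtain ⟨g₀, hg₀v, hg₀φ⟩ := Cfsg.Agent.Lib.H13.exists_equiv_pair v v' (dual φ) (dual φ') hv hv'
    (dual_ne_zero hφ) (dual_ne_zero hφ') h h'
  have hd : LinearMap.det (g₀ : (ι → F) →ₗ[F] (ι → F)) ≠ 0 := by
    have := LinearEquiv.isUnit_det' g₀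
    exact this.ne_zero
  obtain ⟨c, hcdet, hcv, hcφ⟩ := Cfsg.Agent.Lib.H13.exists_equiv_det_fix v (dual φ) hv
    (dual_ne_zero hφ) h hdim _ (inv_ne_zero hd)
  set f : (ι → F) →ₗ[F] (ι → F) := (g₀ : (ι → F) →ₗ[F] (ι → F)) ∘ₗ (c : (ι → F) →ₗ[F] (ι → F))
    with hf
  have hfdet : LinearMap.det f = 1 := by
    rw [hf, LinearMap.det_comp, hcdet, mul_inv_cancel₀ hd]
  have hM : (LinearMap.toMatrix' f).det = 1 := by
    rw [LinearMap.det_toMatrix', hfdet]
  have hmv : ∀ x, (LinearMap.toMatrix' f) *ᵥ x = f x := by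
    intro x
    rw [← Matrix.toLin'_apply, Matrix.toLin'_toMatrix']
  refine ⟨⟨LinearMap.toMatrix' f, hM⟩, ?_, ?_⟩
  · show (LinearMap.toMatrix' f) *ᵥ v = v'
    rw [hmv, hf, LinearMap.comp_apply]
    simp only [LinearEquiv.coe_coe]
    rw [hcv, hg₀v]
  · show φ' ᵥ* (LinearMap.toMatrix' f) = φ
    ext i
    have h1 : (φ' ᵥ* (LinearMap.toMatrix' f)) ⬝ᵥ (Pi.single i 1) = φ ⬝ᵥ (Pi.single i 1) := by
      rw [← dotProduct_mulVec, hmv, hf, LinearMap.comp_apply]
      simp only [LinearEquiv.coe_coe]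
      have := hg₀φ (c (Pi.single i 1))
      rw [dual_apply, dual_apply] at this
      rw [this]
      have := hcφ (Pi.single i 1)
      rw [dual_apply, dual_apply] at this
      exact this
    rw [dotProduct_single_one, dotProduct_single_one] at h1
    exact h1

/-- any two transvections are conjugate in `SL` in dimension at least 3. -/
theorem exists_conj (h3 : 3 ≤ Fintype.card ι) {t t' : SpecialLinearGroup ι F} {v φ v' φ' : ι → F}
    (hv : v ≠ 0) (hφ : φ ≠ 0) (hv' : v' ≠ 0) (hφ' : φ' ≠ 0)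
    (ht : t.1 = 1 + vecMulVec v φ) (ht' : t'.1 = 1 + vecMulVec v' φ') :
    ∃ g : SpecialLinearGroup ι F, t' = g * t * g⁻¹ := by
  obtain ⟨g, hgv, hgφ⟩ := exists_sl_map h3 hv hφ hv' hφ' (dot_eq_zero_of_val ht)
    (dot_eq_zero_of_val ht')
  refine ⟨g, ?_⟩
  apply Subtype.ext
  rw [val_conj ht g, ht', hgv]
  congr 2
  rw [← hgφ, vecMul_vecMul, val_mul_inv, vecMul_one]

end Cfsg.Agent.Lib.H6.TransvSL
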