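import Mathlib
import Cfsg.Agent.Lib.H6.TransvSL

set_option autoImplicit false
set_option linter.unusedSectionVars false
set_option linter.unusedSimpArgs false

/-! The algebra generated by two transvections `1 + v φᵀ`, `1 + w ψᵀ` (helper6). -/

namespace Cfsg.Agent.Lib.H6.TransvPair

open Matrix

section abstract

variable {F : Type*} [Field F] {R : Type*} [Ring R] [Algebra F R]

/-- multiplication table of `A = vφᵀ, B = vψᵀ, C = wφᵀ, D = wψᵀ` with `α = φ(w)`, `β = ψ(v)`,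
`φ(v) = ψ(w) = 0`. -/
structure Tbl (A B C D : R) (α β : F) : Prop where
  AA : A * A = 0
  AB : A * B = 0
  AC : A * C = α • A
  AD : A * D = α • B
  BA : B * A = β • A
  BB : B * B = β • B
  BC : B * C = 0
  BD : B * D = 0
  CA : C * A = 0
  CB : C * B = 0
  CC : C * C = α • C
  CD : C * D = α • D
  DA : D * A = β • C
  DB : D * B = β • D
  DC : D * C = 0
  DD : D * D = 0

variable {A B C D : R} {α β : F}

/-- `X = ab - 1` -/
def X (A B D : R) (α : F) : R := A + D + α • B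
/-- `Y` -/
def Y (B C : R) (α β : F) : R := α • B + β • C

theorem Tbl.ab (h : Tbl A B C D α β) : (1 + A) * (1 + D) = 1 + X A B D α := by
  rw [X, mul_add, add_mul, add_mul, one_mul, one_mul, mul_one, h.AD]
  abel

theorem Tbl.XX (h : Tbl A B C D α β) :
    X A B D α * X A B D α = (α * β) • X A B D α + Y B C α β := by
  simp only [X, Y, mul_add, add_mul, smul_mul_assoc, mul_smul_comm, h.AA, h.AB, h.AC, h.AD, h.BA,
    h.BB, h.BC, h.BD, h.CA, h.CB, h.CC, h.CD, h.DA, h.DB, h.DC, h.DD, smul_add, smul_smul,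
    smul_zero, add_zero, zero_add]
  module

theorem Tbl.XY (h : Tbl A B C D α β) :
    X A B D α * Y B C α β = (α * β) • X A B D α := by
  simp only [X, Y, mul_add, add_mul, smul_mul_assoc, mul_smul_comm, h.AA, h.AB, h.AC, h.AD, h.BA,
    h.BB, h.BC, h.BD, h.CA, h.CB, h.CC, h.CD, h.DA, h.DB, h.DC, h.DD, smul_add, smul_smul,
    smul_zero, add_zero, zero_add]
  module

theorem Tbl.YX (h : Tbl A B C D α β) :
    Y B C α β * X A B D α = (α * β) • X A B D α := by
  simp only [X, Y, mul_add, add_mul, smul_mul_assoc, mul_smul_comm, h.AA, h.AB, h.AC, h.AD, h.BA,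
    h.BB, h.BC, h.BD, h.CA, h.CB, h.CC, h.CD, h.DA, h.DB, h.DC, h.DD, smul_add, smul_smul,
    smul_zero, add_zero, zero_add]
  module

theorem Tbl.YY (h : Tbl A B C D α β) :
    Y B C α β * Y B C α β = (α * β) • Y B C α β := by
  simp only [X, Y, mul_add, add_mul, smul_mul_assoc, mul_smul_comm, h.AA, h.AB, h.AC, h.AD, h.BA,
    h.BB, h.BC, h.BD, h.CA, h.CB, h.CC, h.CD, h.DA, h.DB, h.DC, h.DD, smul_add, smul_smul,
    smul_zero, add_zero, zero_add]
  module

/-- general products in the span of `1, X, Y`. -/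
theorem form_mul {X Y : R} {τ : F} (hXX : X * X = τ • X + Y) (hXY : X * Y = τ • X)
    (hYX : Y * X = τ • X) (hYY : Y * Y = τ • Y) (x y x' y' : F) :
    (1 + x • X + y • Y) * (1 + x' • X + y' • Y) =
      1 + (x + x' + x * x' * τ + x * y' * τ + y * x' * τ) • X + (y + y' + x * x' + y * y' * τ) • Y := by
  simp only [mul_add, add_mul, one_mul, mul_one, smul_mul_assoc, mul_smul_comm, hXX, hXY, hYX, hYY,
    smul_add, smul_smul]
  module

theorem pow_form {X Y : R} {τ : F} (hXX : X * X = τ • X + Y) (hXY : X * Y = τ • X)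
    (hYX : Y * X = τ • X) (hYY : Y * Y = τ • Y) (j : ℕ) :
    ∃ x y : F, (1 + X) ^ j = 1 + x • X + y • Y := by
  induction j with
  | zero => exact ⟨0, 0, by simp⟩
  | succ j ih =>
    obtain ⟨x, y, hxy⟩ := ih
    have h1 : (1 + X : R) = 1 + (1 : F) • X + (0 : F) • Y := by simp
    refine ⟨x + 1 + x * 1 * τ + x * 0 * τ + y * 1 * τ, y + 0 + x * 1 + y * 0 * τ, ?_⟩
    rw [pow_succ, hxy, h1, form_mul hXX hXY hYX hYY]

theorem add_self_of_two {M : R} (h2 : (2 : F) = 0) : M + M = 0 := by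
  have : M + M = (2 : F) • M := by rw [two_smul]
  rw [this, h2, zero_smul]

theorem sq_form {X Y : R} {τ : F} (hXX : X * X = τ • X + Y) (hXY : X * Y = τ • X)
    (hYX : Y * X = τ • X) (hYY : Y * Y = τ • Y) (h2 : (2 : F) = 0) (x y : F) :
    (1 + x • X + y • Y) * (1 + x • X + y • Y) = 1 + (x * x * τ) • X + (x * x + y * y * τ) • Y := by
  rw [form_mul hXX hXY hYX hYY]
  have e1 : x + x + x * x * τ + x * y * τ + y * x * τ = x * x * τ + (2 : F) * (x + x * y * τ) := by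
    ring
  have e2 : y + y + x * x + y * y * τ = x * x + y * y * τ + (2 : F) * y := by ring
  rw [e1, e2, h2, zero_mul, zero_mul, add_zero, add_zero]

theorem indep (h : Tbl A B C D α β) (hA : A ≠ 0) (hD : D ≠ 0) (hαβ : α * β ≠ 0) {p q : F}
    (hpq : p • X A B D α + q • Y B C α β = 0) : p = 0 ∧ q = 0 := by
  have hp : p = 0 := by
    have h1 : C * (p • X A B D α + q • Y B C α β) * B = (p * (α * β)) • D := by
      simp only [X, Y, mul_add, add_mul, smul_mul_assoc, mul_smul_comm, h.AA, h.AB, h.AC, h.AD,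
        h.BA, h.BB, h.BC, h.BD, h.CA, h.CB, h.CC, h.CD, h.DA, h.DB, h.DC, h.DD, smul_add,
        smul_smul, smul_zero, add_zero, zero_add, zero_mul, mul_zero]
      module
    rw [hpq, mul_zero, zero_mul] at h1
    by_contra hp
    apply hD
    have h3 : p * (α * β) ≠ 0 := mul_ne_zero hp hαβ
    rw [← inv_smul_smul₀ h3 D, ← h1, smul_zero]
  refine ⟨hp, ?_⟩
  rw [hp, zero_smul, zero_add] at hpq
  have h1 : (q • Y B C α β) * A = (q * (α * β)) • A := by
    simp only [Y, mul_add, add_mul, smul_mul_assoc, mul_smul_comm, h.BA, h.CA, smul_add, smul_smul,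
      smul_zero, add_zero]
    module
  rw [hpq, zero_mul] at h1
  by_contra hq
  apply hA
  have h3 : q * (α * β) ≠ 0 := mul_ne_zero hq hαβ
  rw [← inv_smul_smul₀ h3 A, ← h1, smul_zero]

/-- in characteristic 2 with `αβ ≠ 0`, a power of `ab` squaring to one is one. -/
theorem pow_eq_one_of_sq (h : Tbl A B C D α β) (hA : A ≠ 0) (hD : D ≠ 0) (hαβ : α * β ≠ 0)
    (h2 : (2 : F) = 0) (m : ℕ) (hm : (1 + X A B D α) ^ (2 * m) = 1) :
    (1 + X A B D α) ^ m = 1 := by
  obtain ⟨x, y, hxy⟩ := pow_form h.XX h.XY h.YX h.YY m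
  rw [mul_comm, pow_mul, pow_two, hxy, sq_form h.XX h.XY h.YX h.YY h2] at hm
  have h0 : (x * x * (α * β)) • X A B D α + (x * x + y * y * (α * β)) • Y B C α β = 0 := by
    have : (1 : R) + ((x * x * (α * β)) • X A B D α + (x * x + y * y * (α * β)) • Y B C α β) = 1 + 0 := by
      rw [add_zero, ← add_assoc]; exact hm
    exact add_left_cancel this
  obtain ⟨h3, h4⟩ := indep h hA hD hαβ h0
  have hx : x = 0 := by
    rcases mul_eq_zero.mp h3 with h5 | h5
    · exact mul_self_eq_zero.mp h5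
    · exact absurd h5 hαβ
  rw [hx, mul_zero, zero_add] at h4
  have hy : y = 0 := by
    rcases mul_eq_zero.mp h4 with h5 | h5
    · exact mul_self_eq_zero.mp h5
    · exact absurd h5 hαβ
  rw [hxy, hx, hy, zero_smul, zero_smul, add_zero, add_zero]

/-- square of `ab` in characteristic 2. -/
theorem sq_eq (h : Tbl A B C D α β) (h2 : (2 : F) = 0) :
    (1 + X A B D α) * (1 + X A B D α) = 1 + (α * β) • X A B D α + Y B C α β := by
  have h1 : (1 + X A B D α : R) = 1 + (1 : F) • X A B D α + (0 : F) • Y B C α β := by simp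
  rw [h1, sq_form h.XX h.XY h.YX h.YY h2]
  simp

/-- fourth power when `αβ = 0`, characteristic 2. -/
theorem pow_four_eq (h : Tbl A B C D α β) (h2 : (2 : F) = 0) (hαβ : α * β = 0) :
    (1 + X A B D α) ^ 4 = 1 := by
  have e : (1 + X A B D α) ^ 4 = ((1 + X A B D α) * (1 + X A B D α)) * ((1 + X A B D α) * (1 + X A B D α)) := by
    noncomm_ring
  rw [e, sq_eq h h2, hαβ, zero_smul, add_zero]
  have h1 : (1 + Y B C α β : R) = 1 + (0 : F) • X A B D α + (1 : F) • Y B C α β := by simp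
  rw [h1, sq_form h.XX h.XY h.YX h.YY h2, hαβ]
  simp

/-- third power when `αβ = 1`, characteristic 2. -/
theorem pow_three_eq (h : Tbl A B C D α β) (h2 : (2 : F) = 0) (hαβ : α * β = 1) :
    (1 + X A B D α) ^ 3 = 1 := by
  have e : (1 + X A B D α) ^ 3 = ((1 + X A B D α) * (1 + X A B D α)) * (1 + X A B D α) := by
    noncomm_ring
  rw [e, sq_eq h h2, hαβ]
  have h1 : (1 + (1 : F) • X A B D α + Y B C α β : R) = 1 + (1 : F) • X A B D α + (1 : F) • Y B C α β := by simp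
  have h3 : (1 + X A B D α : R) = 1 + (1 : F) • X A B D α + (0 : F) • Y B C α β := by simp
  rw [h1, h3, form_mul h.XX h.XY h.YX h.YY, hαβ]
  have e1 : (1 : F) + 1 + 1 * 1 * 1 + 1 * 0 * 1 + 1 * 1 * 1 = (2 : F) * 2 := by ring
  have e2 : (1 : F) + 0 + 1 * 1 + 1 * 0 * 1 = 2 := by ring
  rw [e1, e2, h2, zero_mul, zero_smul, zero_smul, add_zero, add_zero]

/-- commutator identity when `β = 0`. -/
theorem comm_eq_of_beta (h : Tbl A B C D α 0) (c d : F) :
    (1 + c • A) * (1 + d • D) = (1 + (c * d * α) • B) * ((1 + d • D) * (1 + c • A)) := by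
  simp only [mul_add, add_mul, one_mul, mul_one, smul_mul_assoc, mul_smul_comm, h.AA, h.AB, h.AC,
    h.AD, h.BA, h.BB, h.BC, h.BD, h.CA, h.CB, h.CC, h.CD, h.DA, h.DB, h.DC, h.DD, smul_add,
    smul_smul, smul_zero, add_zero, zero_add, zero_smul]
  module

/-- commutator identity when `α = 0`. -/
theorem comm_eq_of_alpha (h : Tbl A B C D 0 β) (c d : F) :
    (1 + c • A) * (1 + d • D) = (1 + (-(c * d * β)) • C) * ((1 + d • D) * (1 + c • A)) := by
  simp only [mul_add, add_mul, one_mul, mul_one, smul_mul_assoc, mul_smul_comm, h.AA, h.AB, h.AC,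
    h.AD, h.BA, h.BB, h.BC, h.BD, h.CA, h.CB, h.CC, h.CD, h.DA, h.DB, h.DC, h.DD, smul_add,
    smul_smul, smul_zero, add_zero, zero_add, zero_smul]
  module

end abstract

section concrete

open Cfsg.Agent.Lib.H6.TransvCent Cfsg.Agent.Lib.H6.TransvSL

variable {ι : Type*} [Fintype ι] [DecidableEq ι] {F : Type*} [Field F]

theorem tbl (v φ w ψ : ι → F) (hφv : φ ⬝ᵥ v = 0) (hψw : ψ ⬝ᵥ w = 0) :
    Tbl (vecMulVec v φ) (vecMulVec v ψ) (vecMulVec w φ) (vecMulVec w ψ) (φ ⬝ᵥ w) (ψ ⬝ᵥ v) := by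
  constructor <;> simp [vecMulVec_mul_vecMulVec, vecMulVec_smul, hφv, hψw]

variable {a b : SpecialLinearGroup ι F} {v φ w ψ : ι → F}

theorem val_pow (g : SpecialLinearGroup ι F) (j : ℕ) : (g ^ j).1 = g.1 ^ j := by
  induction j with
  | zero => rfl
  | succ j ih => rw [pow_succ, pow_succ, val_mul', ih]

theorem tbl_of (ha : a.1 = 1 + vecMulVec v φ) (hb : b.1 = 1 + vecMulVec w ψ) :
    Tbl (vecMulVec v φ) (vecMulVec v ψ) (vecMulVec w φ) (vecMulVec w ψ) (φ ⬝ᵥ w) (ψ ⬝ᵥ v) :=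
  tbl v φ w ψ (dot_eq_zero_of_val ha) (dot_eq_zero_of_val hb)

theorem val_mul_eq (ha : a.1 = 1 + vecMulVec v φ) (hb : b.1 = 1 + vecMulVec w ψ) :
    (a * b).1 = 1 + X (vecMulVec v φ) (vecMulVec v ψ) (vecMulVec w ψ) (φ ⬝ᵥ w) := by
  rw [val_mul', ha, hb, (tbl_of ha hb).ab]

/-- commuting case -/
theorem commute_of_zero (ha : a.1 = 1 + vecMulVec v φ) (hb : b.1 = 1 + vecMulVec w ψ)
    (hα : φ ⬝ᵥ w = 0) (hβ : ψ ⬝ᵥ v = 0) : a * b = b * a := by
  apply Subtype.ext
  rw [val_mul', val_mul', ha, hb, one_add_mul_one_add, one_add_mul_one_add, hα, hβ, zero_smul,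
    zero_smul, vecMulVec_zero, vecMulVec_zero, add_zero, add_zero]
  abel

/-- rank one case in characteristic 2: the product has odd order. -/
theorem odd_orderOf [Finite F] (h2 : (2 : F) = 0) (ha : a.1 = 1 + vecMulVec v φ)
    (hb : b.1 = 1 + vecMulVec w ψ) (hα : φ ⬝ᵥ w ≠ 0) (hβ : ψ ⬝ᵥ v ≠ 0) :
    Odd (orderOf (a * b)) := by
  have hv : v ≠ 0 := by rintro rfl; simp at hβ
  have hφ : φ ≠ 0 := by rintro rfl; simp at hα
  have hw : w ≠ 0 := by rintro rfl; simp at hα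
  have hψ : ψ ≠ 0 := by rintro rfl; simp at hβ
  have hT := tbl_of ha hb
  have hfin : Finite (SpecialLinearGroup ι F) := by
    have : Finite (Matrix ι ι F) := by unfold Matrix; infer_instance
    exact Subtype.finite
  by_contra hodd
  rw [Nat.not_odd_iff_even] at hodd
  obtain ⟨m, hm⟩ := hodd
  have hpos : 0 < orderOf (a * b) := orderOf_pos _
  have hm0 : 0 < m := by omega
  have h1 : (a * b) ^ (2 * m) = 1 := by rw [two_mul, ← hm]; exact pow_orderOf_eq_one _
  have h3 : ((a * b) ^ (2 * m)).1 = 1 := by rw [h1]; rfl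
  rw [val_pow, val_mul_eq ha hb] at h3
  have h4 := pow_eq_one_of_sq hT (vecMulVec_ne_zero hv hφ) (vecMulVec_ne_zero hw hψ)
    (mul_ne_zero hα hβ) h2 m h3
  have h5 : (a * b) ^ m = 1 := by
    apply Subtype.ext
    rw [val_pow, val_mul_eq ha hb, h4]; rfl
  have := Nat.le_of_dvd hm0 (orderOf_dvd_of_pow_eq_one h5)
  omega

/-- the square of the product in characteristic 2 when `αβ = 0`. -/
theorem val_sq_eq (h2 : (2 : F) = 0) (ha : a.1 = 1 + vecMulVec v φ)
    (hb : b.1 = 1 + vecMulVec w ψ) (hαβ : φ ⬝ᵥ w * ψ ⬝ᵥ v = 0) :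
    ((a * b) ^ 2).1 = 1 + Y (vecMulVec v ψ) (vecMulVec w φ) (φ ⬝ᵥ w) (ψ ⬝ᵥ v) := by
  rw [val_pow, val_mul_eq ha hb, pow_two, sq_eq (tbl_of ha hb) h2, hαβ, zero_smul, add_zero]

theorem pow_four_eq_one (h2 : (2 : F) = 0) (ha : a.1 = 1 + vecMulVec v φ)
    (hb : b.1 = 1 + vecMulVec w ψ) (hαβ : φ ⬝ᵥ w * ψ ⬝ᵥ v = 0) : (a * b) ^ 4 = 1 := by
  apply Subtype.ext
  rw [val_pow, val_mul_eq ha hb, pow_four_eq (tbl_of ha hb) h2 hαβ]; rfl

theorem pow_three_eq_one (h2 : (2 : F) = 0) (ha : a.1 = 1 + vecMulVec v φ)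
    (hb : b.1 = 1 + vecMulVec w ψ) (hαβ : φ ⬝ᵥ w * ψ ⬝ᵥ v = 1) : (a * b) ^ 3 = 1 := by
  apply Subtype.ext
  rw [val_pow, val_mul_eq ha hb, pow_three_eq (tbl_of ha hb) h2 hαβ]; rfl

end concrete

end Cfsg.Agent.Lib.H6.TransvPair
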