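import Mathlib
import Cfsg.Prelude.Def_RootSubgroups
import Cfsg.Agent.Lib.H6.TransvPair
import Cfsg.Agent.Lib.H25.RankOne

set_option autoImplicit false
set_option linter.unusedSectionVars false
set_option linter.unusedSimpArgs false

/-! Root groups `T(v, φ) = {1 + c v φᵀ}` of `SL(ι, F)` (helper6). -/

namespace Cfsg.Agent.Lib.H6.RootGrp

open Matrix Cfsg Cfsg.Agent.Lib.H6.TransvCent Cfsg.Agent.Lib.H6.TransvSL Cfsg.Agent.Lib.H6.TransvPair
open Cfsg.Agent.Lib.H25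

variable {ι : Type*} [Fintype ι] [DecidableEq ι] {F : Type*} [Field F]

/-- the root group `{1 + c v φᵀ : c ∈ F}` (all of its elements lie in `SL`). -/
def RG (v φ : ι → F) : Subgroup (SpecialLinearGroup ι F) where
  carrier := {t | ∃ c : F, t.1 = 1 + c • vecMulVec v φ}
  one_mem' := ⟨0, by rw [zero_smul, add_zero]; rfl⟩
  mul_mem' := by
    rintro a b ⟨c, hc⟩ ⟨d, hd⟩
    refine ⟨c + d + c * d * (φ ⬝ᵥ v), ?_⟩
    rw [val_mul', hc, hd, ← smul_vecMulVec, ← smul_vecMulVec, one_add_mul_one_add,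
      dotProduct_smul, vecMulVec_smul, smul_vecMulVec, smul_vecMulVec]
    simp only [smul_eq_mul, smul_smul]
    module
  inv_mem' := by
    rintro a ⟨c, hc⟩
    refine ⟨-c, ?_⟩
    rw [← smul_vecMulVec] at hc
    rw [val_inv_of_val hc, ← smul_vecMulVec, neg_smul]

theorem mem_RG {v φ : ι → F} {t : SpecialLinearGroup ι F} :
    t ∈ RG v φ ↔ ∃ c : F, t.1 = 1 + c • vecMulVec v φ := Iff.rfl

theorem mem_RG' {v φ : ι → F} {t : SpecialLinearGroup ι F} :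
    t ∈ RG v φ ↔ ∃ c : F, t.1 = 1 + vecMulVec (c • v) φ := by
  rw [mem_RG]
  simp only [smul_vecMulVec]

theorem mk_mem (v φ : ι → F) (h : φ ⬝ᵥ v = 0) (c : F) :
    mk (c • v) φ (by rw [dotProduct_smul, h, smul_zero]) ∈ RG v φ :=
  mem_RG'.mpr ⟨c, rfl⟩

theorem conj_mem_RG {v φ : ι → F} {t : SpecialLinearGroup ι F} (ht : t ∈ RG v φ)
    (g : SpecialLinearGroup ι F) : g * t * g⁻¹ ∈ RG (g.1 *ᵥ v) (φ ᵥ* (g⁻¹).1) := by
  rw [mem_RG'] at ht ⊢
  obtain ⟨c, hc⟩ := ht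
  refine ⟨c, ?_⟩
  rw [val_conj hc g, mulVec_smul]

theorem conjBy_RG (v φ : ι → F) (g : SpecialLinearGroup ι F) :
    conjBy (RG v φ) g = RG (g.1 *ᵥ v) (φ ᵥ* (g⁻¹).1) := by
  apply le_antisymm
  · intro x hx
    rw [mem_conjBy] at hx
    have := conj_mem_RG hx g
    have e : g * (g⁻¹ * x * g) * g⁻¹ = x := by group
    rwa [e] at this
  · intro x hx
    rw [mem_conjBy]
    have := conj_mem_RG hx g⁻¹
    rw [inv_inv, mulVec_mulVec, val_inv_mul, one_mulVec, vecMul_vecMul, val_inv_mul, vecMul_one]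
      at this
    exact this

theorem RG_smul (v φ : ι → F) {l m : F} (hl : l ≠ 0) (hm : m ≠ 0) :
    RG (l • v) (m • φ) = RG v φ := by
  ext t
  rw [mem_RG, mem_RG]
  constructor
  · rintro ⟨c, hc⟩
    refine ⟨c * l * m, ?_⟩
    rw [hc, smul_vecMulVec, vecMulVec_smul, smul_smul, smul_smul]
  · rintro ⟨c, hc⟩
    refine ⟨c * l⁻¹ * m⁻¹, ?_⟩
    rw [hc, smul_vecMulVec, vecMulVec_smul, smul_smul, smul_smul]
    congr 2
    field_simp

theorem RG_comm {v φ : ι → F} (h : φ ⬝ᵥ v = 0) : IsMulCommutative (RG v φ) := by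
  refine ⟨⟨?_⟩⟩
  rintro ⟨a, ha⟩ ⟨b, hb⟩
  rw [mem_RG'] at ha hb
  obtain ⟨c, hc⟩ := ha
  obtain ⟨d, hd⟩ := hb
  apply Subtype.ext
  show a * b = b * a
  apply commute_of_zero hc hd
  · rw [dotProduct_smul, h, smul_zero]
  · rw [dotProduct_smul, h, smul_zero]

theorem RG_ne_bot {v φ : ι → F} (hv : v ≠ 0) (hφ : φ ≠ 0) (h : φ ⬝ᵥ v = 0) : RG v φ ≠ ⊥ := by
  intro hbot
  have h1 : mk v φ h ∈ RG v φ := mem_RG'.mpr ⟨1, by rw [one_smul]; rfl⟩
  rw [hbot, Subgroup.mem_bot] at h1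
  have h2 : (mk v φ h).1 = 1 := by rw [h1]; rfl
  rw [mk_val] at h2
  exact Matrix.vecMulVec_ne_zero hv hφ (add_eq_left.mp h2)

/-- the standard root group -/
theorem closure_eq (i j : ι) :
    Subgroup.closure {t : SpecialLinearGroup ι F | ∃ c : F, (t : Matrix ι ι F) = Matrix.transvection i j c}
      = RG (Pi.single i (1 : F)) (Pi.single j (1 : F)) := by
  have : {t : SpecialLinearGroup ι F | ∃ c : F, (t : Matrix ι ι F) = Matrix.transvection i j c}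
      = (RG (Pi.single i (1 : F)) (Pi.single j (1 : F)) : Set (SpecialLinearGroup ι F)) := by
    ext t
    simp only [Set.mem_ofPred_eq, SetLike.mem_coe, mem_RG', transvection_eq]
  rw [this, Subgroup.closure_eq]

/-- the family of all root groups -/
def Sig (i₀ i₁ : ι) : Set (Subgroup (SpecialLinearGroup ι F)) :=
  {A | ∃ g : SpecialLinearGroup ι F, A = conjBy (Subgroup.closure
    {t : SpecialLinearGroup ι F | ∃ c : F, (t : Matrix ι ι F) = Matrix.transvection i₀ i₁ c}) g}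

variable {i₀ i₁ : ι}

theorem mem_Sig_iff (h3 : 3 ≤ Fintype.card ι) (h01 : i₀ ≠ i₁)
    (A : Subgroup (SpecialLinearGroup ι F)) :
    A ∈ Sig (F := F) i₀ i₁ ↔ ∃ v φ : ι → F, v ≠ 0 ∧ φ ≠ 0 ∧ φ ⬝ᵥ v = 0 ∧ A = RG v φ := by
  constructor
  · rintro ⟨g, rfl⟩
    rw [closure_eq, conjBy_RG]
    refine ⟨_, _, mulVec_ne_zero g (single_ne_zero i₀), vecMul_ne_zero g⁻¹ (single_ne_zero i₁), ?_, rfl⟩
    rw [← dotProduct_mulVec, mulVec_mulVec, val_inv_mul, one_mulVec]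
    exact single_dot_single h01
  · rintro ⟨v, φ, hv, hφ, h, rfl⟩
    obtain ⟨g, hgv, hgφ⟩ := exists_sl_map h3 (single_ne_zero (F := F) i₀) (single_ne_zero (F := F) i₁)
      hv hφ (single_dot_single h01) h
    refine ⟨g, ?_⟩
    rw [closure_eq, conjBy_RG, hgv, ← hgφ, vecMul_vecMul, val_mul_inv, vecMul_one]

end Cfsg.Agent.Lib.H6.RootGrp
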