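import Mathlib
import Cfsg.Prelude.Def_RootSubgroups
import Cfsg.Agent.Lib.H6.RootGrp

set_option autoImplicit false
set_option linter.unusedSectionVars false
set_option linter.unusedSimpArgs false

/-! Pairs of root groups of `SL(ι, F)`: commuting, commutator and rank one cases (helper6). -/

namespace Cfsg.Agent.Lib.H6.RootGrp

open Matrix Cfsg Cfsg.Agent.Lib.H6.TransvCent Cfsg.Agent.Lib.H6.TransvSL Cfsg.Agent.Lib.H6.TransvPair
open Cfsg.Agent.Lib.H25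

variable {ι : Type*} [Fintype ι] [DecidableEq ι] {F : Type*} [Field F]
variable {v φ w ψ : ι → F}

theorem RG_commute (hφv : φ ⬝ᵥ v = 0) (hψw : ψ ⬝ᵥ w = 0) (hα : φ ⬝ᵥ w = 0) (hβ : ψ ⬝ᵥ v = 0)
    {a b : SpecialLinearGroup ι F} (ha : a ∈ RG v φ) (hb : b ∈ RG w ψ) : a * b = b * a := by
  rw [mem_RG'] at ha hb
  obtain ⟨c, hc⟩ := ha
  obtain ⟨d, hd⟩ := hb
  apply commute_of_zero hc hd
  · rw [dotProduct_smul, hα, smul_zero]
  · rw [dotProduct_smul, hβ, smul_zero]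

theorem commutator_eq_bot (hφv : φ ⬝ᵥ v = 0) (hψw : ψ ⬝ᵥ w = 0) (hα : φ ⬝ᵥ w = 0)
    (hβ : ψ ⬝ᵥ v = 0) : ⁅RG v φ, RG w ψ⁆ = ⊥ := by
  rw [Subgroup.commutator_eq_bot_iff_le_centralizer]
  intro a ha
  rw [Subgroup.mem_centralizer_iff]
  intro b hb
  exact (RG_commute hφv hψw hα hβ ha hb).symm

/-- the commutator of two root elements when `β = ψ(v) = 0`. -/
theorem comm_val_beta (hφv : φ ⬝ᵥ v = 0) (hψw : ψ ⬝ᵥ w = 0) (hβ : ψ ⬝ᵥ v = 0)
    {a b : SpecialLinearGroup ι F} {c d : F} (ha : a.1 = 1 + c • vecMulVec v φ)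
    (hb : b.1 = 1 + d • vecMulVec w ψ) :
    (a * b * a⁻¹ * b⁻¹).1 = 1 + (c * d * (φ ⬝ᵥ w)) • vecMulVec v ψ := by
  have hT := tbl v φ w ψ hφv hψw
  rw [hβ] at hT
  have hz : ψ ⬝ᵥ ((c * d * (φ ⬝ᵥ w)) • v) = 0 := by rw [dotProduct_smul, hβ, smul_zero]
  have h1 : a * b = mk ((c * d * (φ ⬝ᵥ w)) • v) ψ hz * (b * a) := by
    apply Subtype.ext
    rw [val_mul', val_mul', val_mul', ha, hb, mk_val, smul_vecMulVec]
    exact comm_eq_of_beta hT c d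
  have h2 : a * b * a⁻¹ * b⁻¹ = mk ((c * d * (φ ⬝ᵥ w)) • v) ψ hz := by
    rw [h1]; group
  rw [h2, mk_val, smul_vecMulVec]

/-- the commutator of two root elements when `α = φ(w) = 0`. -/
theorem comm_val_alpha (hφv : φ ⬝ᵥ v = 0) (hψw : ψ ⬝ᵥ w = 0) (hα : φ ⬝ᵥ w = 0)
    {a b : SpecialLinearGroup ι F} {c d : F} (ha : a.1 = 1 + c • vecMulVec v φ)
    (hb : b.1 = 1 + d • vecMulVec w ψ) :
    (a * b * a⁻¹ * b⁻¹).1 = 1 + (-(c * d * (ψ ⬝ᵥ v))) • vecMulVec w φ := by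
  have hT := tbl v φ w ψ hφv hψw
  rw [hα] at hT
  have hz : φ ⬝ᵥ ((-(c * d * (ψ ⬝ᵥ v))) • w) = 0 := by rw [dotProduct_smul, hα, smul_zero]
  have h1 : a * b = mk ((-(c * d * (ψ ⬝ᵥ v))) • w) φ hz * (b * a) := by
    apply Subtype.ext
    rw [val_mul', val_mul', val_mul', ha, hb, mk_val, smul_vecMulVec]
    exact comm_eq_of_alpha hT c d
  have h2 : a * b * a⁻¹ * b⁻¹ = mk ((-(c * d * (ψ ⬝ᵥ v))) • w) φ hz := by
    rw [h1]; group
  rw [h2, mk_val, smul_vecMulVec]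

theorem coeff_ne_zero {v φ : ι → F} (hv : v ≠ 0) (hφ : φ ≠ 0) {a : SpecialLinearGroup ι F} {c : F}
    (ha : a.1 = 1 + c • vecMulVec v φ) (ha1 : a ≠ 1) : c ≠ 0 := by
  rintro rfl
  apply ha1
  apply Subtype.ext
  rw [ha, zero_smul, add_zero]; rfl

/-- an element of `SL` with prescribed value `1 + e • v ψᵀ`. -/
theorem exists_of_val (v ψ : ι → F) (h : ψ ⬝ᵥ v = 0) (e : F) :
    ∃ x : SpecialLinearGroup ι F, x.1 = 1 + e • vecMulVec v ψ :=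
  ⟨mk (e • v) ψ (by rw [dotProduct_smul, h, smul_zero]), by rw [mk_val, smul_vecMulVec]⟩

/-- abstract form of the commutator case: all commutators are `1 + (c d κ) • M`, `κ ≠ 0`. -/
theorem commutatorCase_aux {S : Set (Subgroup (SpecialLinearGroup ι F))}
    {v φ w ψ u χ : ι → F} (hv : v ≠ 0) (hφ : φ ≠ 0) (hw : w ≠ 0) (hψ : ψ ≠ 0)
    (hχu : χ ⬝ᵥ u = 0) {κ : F} (hκ : κ ≠ 0) (hφv : φ ⬝ᵥ v = 0) (hψw : ψ ⬝ᵥ w = 0)
    (hS : RG u χ ∈ S)
    (hcomm : ∀ (a b : SpecialLinearGroup ι F) (c d : F), a.1 = 1 + c • vecMulVec v φ →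
      b.1 = 1 + d • vecMulVec w ψ → (a * b * a⁻¹ * b⁻¹).1 = 1 + (c * d * κ) • vecMulVec u χ)
    (hcA : ∀ z ∈ RG u χ, ∀ a ∈ RG v φ, z * a = a * z)
    (hcB : ∀ z ∈ RG u χ, ∀ b ∈ RG w ψ, z * b = b * z) :
    RootCommutatorCase S (RG v φ) (RG w ψ) := by
  have hle : ∀ a ∈ RG v φ, ∀ b ∈ RG w ψ, a * b * a⁻¹ * b⁻¹ ∈ RG u χ := by
    intro a ha b hb
    obtain ⟨c, hc⟩ := ha
    obtain ⟨d, hd⟩ := hb
    exact ⟨_, hcomm a b c d hc hd⟩
  have hge : ∀ (a : SpecialLinearGroup ι F) (c : F), a.1 = 1 + c • vecMulVec v φ → c ≠ 0 →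
      ∀ x ∈ RG u χ, ∃ b ∈ RG w ψ, a * b * a⁻¹ * b⁻¹ = x := by
    intro a c hc hc0 x hx
    obtain ⟨e, he⟩ := hx
    obtain ⟨b, hb⟩ := exists_of_val w ψ hψw (e / (c * κ))
    refine ⟨b, ⟨_, hb⟩, ?_⟩
    apply Subtype.ext
    rw [hcomm a b c _ hc hb, he]
    congr 2
    field_simp
  have hge' : ∀ (b : SpecialLinearGroup ι F) (d : F), b.1 = 1 + d • vecMulVec w ψ → d ≠ 0 →
      ∀ x ∈ RG u χ, ∃ a ∈ RG v φ, a * b * a⁻¹ * b⁻¹ = x := by
    intro b d hd hd0 x hx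
    obtain ⟨e, he⟩ := hx
    obtain ⟨a, ha⟩ := exists_of_val v φ hφv (e / (d * κ))
    refine ⟨a, ⟨_, ha⟩, ?_⟩
    apply Subtype.ext
    rw [hcomm a b _ d ha hd, he]
    congr 2
    field_simp
  have hcomm_eq : ⁅RG v φ, RG w ψ⁆ = RG u χ := by
    apply le_antisymm
    · rw [Subgroup.commutator_le]
      intro a ha b hb
      rw [commutatorElement_def]
      exact hle a ha b hb
    · intro x hx
      obtain ⟨a, ha⟩ := exists_of_val v φ hφv 1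
      obtain ⟨b, hb, hab⟩ := hge a 1 ha one_ne_zero x hx
      rw [← hab, ← commutatorElement_def]
      exact Subgroup.commutator_mem_commutator ⟨_, ha⟩ hb
  refine ⟨?_, ?_, ?_, ?_⟩
  · rw [hcomm_eq]; exact hS
  · intro z hz x hx
    rw [hcomm_eq] at hz
    have : RG v φ ⊔ RG w ψ ≤ Subgroup.centralizer ({z} : Set (SpecialLinearGroup ι F)) := by
      apply sup_le
      · intro a ha
        rw [Subgroup.mem_centralizer_iff]
        intro y hy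
        rw [Set.mem_singleton_iff] at hy
        rw [hy]; exact hcA z hz a ha
      · intro b hb
        rw [Subgroup.mem_centralizer_iff]
        intro y hy
        rw [Set.mem_singleton_iff] at hy
        rw [hy]; exact hcB z hz b hb
    have h1 := this hx
    rw [Subgroup.mem_centralizer_iff] at h1
    exact h1 z rfl
  · intro a ha ha1
    rw [hcomm_eq]
    obtain ⟨c, hc⟩ := ha
    have hc0 := coeff_ne_zero hv hφ hc ha1
    apply le_antisymm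
    · rw [Subgroup.closure_le]
      rintro _ ⟨b, hb, rfl⟩
      exact hle a ⟨c, hc⟩ b hb
    · intro x hx
      obtain ⟨b, hb, hab⟩ := hge a c hc hc0 x hx
      apply Subgroup.subset_closure
      exact ⟨b, hb, hab⟩
  · intro b hb hb1
    rw [hcomm_eq]
    obtain ⟨d, hd⟩ := hb
    have hd0 := coeff_ne_zero hw hψ hd hb1
    apply le_antisymm
    · rw [Subgroup.closure_le]
      rintro _ ⟨a, ha, rfl⟩
      exact hle a ha b ⟨d, hd⟩
    · intro x hx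
      obtain ⟨a, ha, hab⟩ := hge' b d hd hd0 x hx
      apply Subgroup.subset_closure
      exact ⟨a, ha, hab⟩

theorem commutatorCase_beta {S : Set (Subgroup (SpecialLinearGroup ι F))}
    (hv : v ≠ 0) (hφ : φ ≠ 0) (hw : w ≠ 0) (hψ : ψ ≠ 0) (hφv : φ ⬝ᵥ v = 0) (hψw : ψ ⬝ᵥ w = 0)
    (hα : φ ⬝ᵥ w ≠ 0) (hβ : ψ ⬝ᵥ v = 0) (hS : RG v ψ ∈ S) :
    RootCommutatorCase S (RG v φ) (RG w ψ) := by
  apply commutatorCase_aux hv hφ hw hψ hβ hα hφv hψw hS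
  · intro a b c d ha hb
    exact comm_val_beta hφv hψw hβ ha hb
  · intro z hz a ha
    exact RG_commute hβ hφv hβ hφv hz ha
  · intro z hz b hb
    exact RG_commute hβ hψw hψw hβ hz hb

theorem commutatorCase_alpha {S : Set (Subgroup (SpecialLinearGroup ι F))}
    (hv : v ≠ 0) (hφ : φ ≠ 0) (hw : w ≠ 0) (hψ : ψ ≠ 0) (hφv : φ ⬝ᵥ v = 0) (hψw : ψ ⬝ᵥ w = 0)
    (hα : φ ⬝ᵥ w = 0) (hβ : ψ ⬝ᵥ v ≠ 0) (hS : RG w φ ∈ S) :
    RootCommutatorCase S (RG v φ) (RG w ψ) := by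
  apply commutatorCase_aux (κ := -(ψ ⬝ᵥ v)) hv hφ hw hψ hα (neg_ne_zero.mpr hβ) hφv hψw hS
  · intro a b c d ha hb
    rw [comm_val_alpha hφv hψw hα ha hb]
    congr 2
    ring
  · intro z hz a ha
    exact RG_commute hα hφv hφv hα hz ha
  · intro z hz b hb
    exact RG_commute hα hψw hα hψw hz hb

end Cfsg.Agent.Lib.H6.RootGrp
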