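import Mathlib
import Cfsg.Prelude.Def_CaseTheorems

/-!
# S3806 piece AVOID (architect helper25)

A finite group is not the union of at most `p` proper subgroups containing a normal subgroup of index `p²`:
count the nonidentity elements.
-/

set_option autoImplicit false

namespace Cfsg.Agent.Lib.H6.MCS

open scoped commutatorElement

/-- AVOID. -/
theorem exists_not_mem_of_card_le {T : Type*} [Group T] [Finite T] (p : ℕ) [Fact p.Prime] (Φ : Subgroup T)
    [Φ.Normal] (hΦ : Φ.index = p ^ 2) (F : Finset (Subgroup T)) (hF : F.card ≤ p)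
    (hle : ∀ H ∈ F, Φ ≤ H) (hne : ∀ H ∈ F, H ≠ ⊤) : ∃ s : T, ∀ H ∈ F, s ∉ H := by
  have hp : p.Prime := Fact.out
  have hp2 : 2 ≤ p := hp.two_le
  by_contra hcon
  push Not at hcon
  -- `|T| = q * p` with `q = |Φ| * p`
  set q : ℕ := Nat.card Φ * p with hq
  have hm : Nat.card T = q * p := by
    rw [← Subgroup.card_mul_index Φ, hΦ, hq]; ring
  have hΦpos : 0 < Nat.card Φ := Nat.card_pos
  have hqpos : 1 ≤ q := Nat.mul_pos hΦpos hp.pos
  -- each member has at most `q` elements
  have hcard : ∀ H ∈ F, Nat.card H ≤ q := by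
    intro H hH
    have hdvd : H.index ∣ p ^ 2 := hΦ ▸ Subgroup.index_dvd_of_le (hle H hH)
    have hne1 : H.index ≠ 1 := fun h => hne H hH (Subgroup.index_eq_one.mp h)
    obtain ⟨k, hk, hk2⟩ := (Nat.dvd_prime_pow hp).mp hdvd
    have hk1 : 1 ≤ k := by
      rcases Nat.eq_zero_or_pos k with h0 | h0
      · rw [h0, pow_zero] at hk2; exact absurd hk2 hne1
      · exact h0
    have hpi : p ≤ H.index := by
      rw [hk2]
      calc p = p ^ 1 := (pow_one p).symm
        _ ≤ p ^ k := Nat.pow_le_pow_right hp.pos hk1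
    have h1 : Nat.card H * H.index = q * p := by rw [Subgroup.card_mul_index, hm]
    have h2 : Nat.card H * p ≤ q * p := by
      calc Nat.card H * p ≤ Nat.card H * H.index := Nat.mul_le_mul_left _ hpi
        _ = q * p := h1
    exact Nat.le_of_mul_le_mul_right h2 hp.pos
  -- the nonidentity elements are covered
  have hcover : ((Set.univ : Set T) \ {1}) ⊆ ⋃ H ∈ F, ((H : Set T) \ {1}) := by
    intro s hs
    obtain ⟨H, hH, hsH⟩ := hcon s
    simp only [Set.mem_iUnion]
    exact ⟨H, hH, hsH, hs.2⟩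
  have h1 : Nat.card T - 1 ≤ ∑ H ∈ F, ((H : Set T) \ {1}).ncard := by
    have h2 := Set.ncard_le_ncard hcover (Set.toFinite _)
    rw [Set.ncard_sdiff_singleton_of_mem (Set.mem_univ 1), Set.ncard_univ] at h2
    exact h2.trans (Finset.set_ncard_biUnion_le F _)
  have h3 : ∑ H ∈ F, ((H : Set T) \ {1}).ncard ≤ F.card • (q - 1) := by
    apply Finset.sum_le_card_nsmul
    intro H hH
    rw [Set.ncard_sdiff_singleton_of_mem (show (1 : T) ∈ (H : Set T) from H.one_mem)]
    have : (H : Set T).ncard = Nat.card H := (Nat.card_coe_set_eq (H : Set T)).symm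
    rw [this]
    have := hcard H hH
    omega
  have h4 : F.card • (q - 1) ≤ p * (q - 1) := by
    rw [smul_eq_mul]; exact Nat.mul_le_mul_right _ hF
  have h5 : p * (q - 1) = q * p - p := by
    rw [Nat.mul_sub, mul_one, mul_comm]
  have h6 : Nat.card T - 1 ≤ q * p - p := by
    rw [← h5]; exact h1.trans (h3.trans h4)
  have h7 : p ≤ q * p := Nat.le_mul_of_pos_left p hqpos
  rw [hm] at h6
  omega

end Cfsg.Agent.Lib.H6.MCS
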