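import Mathlib
import Cfsg.Prelude.Def_CaseTheorems

/-!
# S3806 piece NORM (architect helper25): the norm of `σ = 1·τ` on a commutative group

`∏_{j<n} σ^j(a) = ∏_{l<n} (τ^l a)^{C(n,l+1)}`, and the consequence: a `τ`-closed set killed by `τ^(p-1)` and by the
`σ`-norm `∏_{j<p} σ^j` has exponent `p`.
-/

set_option autoImplicit false

namespace Cfsg.Agent.Lib.H6.MCS

open scoped commutatorElement

/-- NORM1.  `∏_{j<n} σ^j(a) = ∏_{l<n} (τ^l a)^{C(n,l+1)}` when `σ b = b * τ b`. -/
theorem norm_identity {A : Type*} [CommGroup A] (σ τ : A →* A) (hστ : ∀ b, σ b = b * τ b) (n : ℕ) (a : A) :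
    ∏ j ∈ Finset.range n, σ^[j] a = ∏ l ∈ Finset.range n, (τ^[l] a) ^ (n.choose (l + 1)) := by
  induction n generalizing a with
  | zero => simp
  | succ n ih =>
    have h1 : ∏ j ∈ Finset.range (n + 1), σ^[j] a =
        a * ((∏ j ∈ Finset.range n, σ^[j] a) * ∏ j ∈ Finset.range n, σ^[j] (τ a)) := by
      rw [Finset.prod_range_succ', Function.iterate_zero, id_eq, mul_comm, ← Finset.prod_mul_distrib]
      congr 1
      apply Finset.prod_congr rfl
      intro j _
      rw [Function.iterate_succ_apply, hστ a, iterate_map_mul]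
    have h2 : ∏ l ∈ Finset.range (n + 1), (τ^[l] a) ^ ((n + 1).choose (l + 1)) =
        (∏ l ∈ Finset.range (n + 1), (τ^[l] a) ^ (n.choose l)) *
          ∏ l ∈ Finset.range (n + 1), (τ^[l] a) ^ (n.choose (l + 1)) := by
      rw [← Finset.prod_mul_distrib]
      apply Finset.prod_congr rfl
      intro l _
      rw [Nat.choose_succ_succ, pow_add]
    have h3 : ∏ l ∈ Finset.range (n + 1), (τ^[l] a) ^ (n.choose (l + 1)) =
        ∏ l ∈ Finset.range n, (τ^[l] a) ^ (n.choose (l + 1)) := by
      rw [Finset.prod_range_succ, Nat.choose_succ_self, pow_zero, mul_one]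
    have h4 : ∏ l ∈ Finset.range (n + 1), (τ^[l] a) ^ (n.choose l) =
        a * ∏ l ∈ Finset.range n, (τ^[l] (τ a)) ^ (n.choose (l + 1)) := by
      rw [Finset.prod_range_succ', Function.iterate_zero, id_eq, Nat.choose_zero_right, pow_one, mul_comm]
      congr 1
    rw [h1, h2, h3, h4, ih a, ih (τ a)]
    rw [mul_assoc, mul_comm (∏ l ∈ Finset.range n, (τ^[l] (τ a)) ^ (n.choose (l + 1)))]

/-- NORM2.  If `X` is `τ`-closed, `τ^(p-1)` kills `X` and the `σ`-norm `∏_{j<p} σ^j` kills `X`, then `X` has
exponent `p`. -/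
theorem norm_pow_eq_one {A : Type*} [CommGroup A] (p : ℕ) (hp : p.Prime) (σ τ : A →* A)
    (hστ : ∀ b, σ b = b * τ b) (X : Set A) (hX : ∀ a ∈ X, τ a ∈ X)
    (hnil : ∀ a ∈ X, τ^[p - 1] a = 1) (hN : ∀ a ∈ X, ∏ j ∈ Finset.range p, σ^[j] a = 1) :
    ∀ a ∈ X, a ^ p = 1 := by
  have hXl : ∀ (l : ℕ) (a : A), a ∈ X → τ^[l] a ∈ X := by
    intro l
    induction l with
    | zero => intro a ha; simpa using ha
    | succ l ih => intro a ha; rw [Function.iterate_succ_apply']; exact hX _ (ih a ha)
  have hone : ∀ l : ℕ, τ^[l] (1 : A) = 1 := by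
    intro l
    induction l with
    | zero => rfl
    | succ l ih => rw [Function.iterate_succ_apply', ih, map_one]
  have key : ∀ (m : ℕ) (a : A), a ∈ X → τ^[m] a = 1 → a ^ p = 1 := by
    intro m
    induction m with
    | zero => intro a _ h0; rw [Function.iterate_zero, id_eq] at h0; rw [h0, one_pow]
    | succ m ih =>
      intro a ha hm
      have hl : ∀ l : ℕ, 1 ≤ l → (τ^[l] a) ^ p = 1 := by
        intro l hl
        apply ih _ (hXl l a ha)
        obtain ⟨l', rfl⟩ := Nat.exists_eq_add_of_le' hl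
        rw [← Function.iterate_add_apply, show m + (l' + 1) = l' + (m + 1) by omega,
          Function.iterate_add_apply, hm, hone]
      have hn := hN a ha
      rw [norm_identity σ τ hστ p a] at hn
      obtain ⟨q, rfl⟩ : ∃ q, p = q + 1 := ⟨p - 1, by have := hp.one_lt; omega⟩
      rw [Finset.prod_range_succ'] at hn
      rw [Function.iterate_zero, id_eq, Nat.choose_one_right] at hn
      have hrest : ∏ k ∈ Finset.range q, (τ^[k + 1] a) ^ ((q + 1).choose (k + 1 + 1)) = 1 := by
        apply Finset.prod_eq_one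
        intro k hk
        rw [Finset.mem_range] at hk
        by_cases hkq : k + 1 = q
        · have : (q + 1).choose (k + 1 + 1) = 1 := by rw [hkq]; exact Nat.choose_self _
          rw [this, pow_one, hkq]
          have := hnil a ha
          simpa using this
        · have hdvd : (q + 1) ∣ (q + 1).choose (k + 1 + 1) :=
            hp.dvd_choose_self (by omega) (by omega)
          obtain ⟨c, hc⟩ := hdvd
          rw [hc, pow_mul, hl (k + 1) (by omega), one_pow]
      rw [hrest, one_mul] at hn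
      exact hn
  intro a ha
  exact key (p - 1) a ha (hnil a ha)

end Cfsg.Agent.Lib.H6.MCS
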