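import Mathlib
import Cfsg.Prelude.Def_CaseTheorems

set_option autoImplicit false

/-!
# Generic tools to recognise a Sylow 2-subgroup as quasi-dihedral or wreathed (helper6)
-/

namespace Cfsg.Agent.Lib.H6.GL2S

/-- the order of a Sylow subgroup from a factorisation of the group order -/
theorem card_sylow_of_card_eq {G : Type*} [Group G] [Finite G] {p : ℕ} [Fact p.Prime]
    (P : Sylow p G) {N m : ℕ} (h : Nat.card G = p ^ N * m) (hm : ¬ p ∣ m) :
    Nat.card P = p ^ N := by
  have hp : p.Prime := Fact.out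
  have hm0 : m ≠ 0 := by rintro rfl; exact hm (dvd_zero _)
  rw [Sylow.card_eq_multiplicity, h, Nat.factorization_mul (pow_ne_zero _ hp.ne_zero) hm0,
    hp.factorization_pow]
  simp [Nat.factorization_eq_zero_of_not_dvd hm]

/-- a `p`-subgroup can be conjugated into a given Sylow `p`-subgroup -/
theorem exists_conj_mem_sylow {G : Type*} [Group G] [Finite G] {p : ℕ} [Fact p.Prime]
    (P : Sylow p G) (H : Subgroup G) (hH : IsPGroup p H) :
    ∃ g : G, ∀ h ∈ H, g * h * g⁻¹ ∈ (P : Subgroup G) := by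
  obtain ⟨Q, hQ⟩ := hH.exists_le_sylow
  obtain ⟨g, hg⟩ := MulAction.exists_smul_eq G Q P
  refine ⟨g, fun h hh => ?_⟩
  rw [← hg, Sylow.coe_subgroup_smul, Subgroup.mem_pointwise_smul_iff_inv_smul_mem,
    MulAut.smul_def, ← map_inv, MulAut.conj_apply, inv_inv]
  have : g⁻¹ * (g * h * g⁻¹) * g = h := by group
  rw [this]
  exact hQ hh

theorem orderOf_conj' {G : Type*} [Group G] (g x : G) : orderOf (g * x * g⁻¹) = orderOf x :=
  (MulAut.conj g).orderOf_eq x

theorem zpowers_le_normalizer_of_conj_mem {G : Type*} [Group G] {H : Subgroup G} {y : G}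
    (hy2 : y * y = 1) (h : ∀ a ∈ H, y * a * y⁻¹ ∈ H) :
    Subgroup.zpowers y ≤ Subgroup.normalizer (H : Set G) := by
  rw [Subgroup.zpowers_le]
  rw [Subgroup.mem_normalizer_iff]
  intro a
  refine ⟨h a, fun ha => ?_⟩
  have hyinv : y⁻¹ = y := inv_eq_of_mul_eq_one_left hy2
  have := h _ ha
  rw [hyinv] at this ha
  have e : y * (y * a * y) * y = a := by
    calc y * (y * a * y) * y = (y * y) * a * (y * y) := by group
      _ = a := by rw [hy2]; group
  rwa [e] at this

theorem isPGroup_zpowers {G : Type*} [Group G] [Finite G] {p : ℕ} [Fact p.Prime] {x : G} {n : ℕ}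
    (hx : orderOf x = p ^ n) : IsPGroup p (Subgroup.zpowers x) := by
  rw [IsPGroup.iff_card]
  exact ⟨n, by rw [Nat.card_zpowers, hx]⟩

/-- recognition of a quasi-dihedral Sylow 2-subgroup from elements of the ambient group -/
theorem isQuasiDihedral_sylow {G : Type*} [Group G] [Finite G] (P : Sylow 2 G) (n : ℕ)
    (hn : 3 ≤ n) (hcard : Nat.card P = 2 ^ (n + 1)) (x y : G) (hx : orderOf x = 2 ^ n)
    (hy : orderOf y = 2) (hxy : y * x * y⁻¹ = x ^ (2 ^ (n - 1) - 1)) :
    Cfsg.IsQuasiDihedral (P : Subgroup G) := by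
  have hy2 : y * y = 1 := by rw [← pow_two, ← hy, pow_orderOf_eq_one]
  have hnorm : Subgroup.zpowers y ≤ Subgroup.normalizer (Subgroup.zpowers x : Set G) := by
    apply zpowers_le_normalizer_of_conj_mem hy2
    intro a ha
    obtain ⟨k, rfl⟩ := Subgroup.mem_zpowers_iff.mp ha
    have : y * x ^ k * y⁻¹ = (y * x * y⁻¹) ^ k := by
      rw [conj_zpow]
    rw [this, hxy]
    exact Subgroup.zpow_mem _ (Subgroup.pow_mem _ (Subgroup.mem_zpowers x) _) _
  have hH : IsPGroup 2 (Subgroup.zpowers y ⊔ Subgroup.zpowers x : Subgroup G) :=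
    IsPGroup.to_sup_of_normal_right' (isPGroup_zpowers (n := 1) (by simpa using hy))
      (isPGroup_zpowers hx) hnorm
  obtain ⟨g, hg⟩ := exists_conj_mem_sylow P _ hH
  have hxP := hg x (le_sup_right (a := Subgroup.zpowers y) (Subgroup.mem_zpowers x))
  have hyP := hg y (le_sup_left (b := Subgroup.zpowers x) (Subgroup.mem_zpowers y))
  refine ⟨n, hn, hcard, ⟨g * x * g⁻¹, hxP⟩, ⟨g * y * g⁻¹, hyP⟩, ?_, ?_, ?_⟩
  · rw [Subgroup.orderOf_mk, orderOf_conj', hx]
  · rw [Subgroup.orderOf_mk, orderOf_conj', hy]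
  · apply Subtype.ext
    simp only [Subgroup.coe_mul, Subgroup.coe_inv, Subgroup.coe_pow]
    rw [conj_pow, ← hxy]
    group

/-- recognition of a wreathed Sylow 2-subgroup from elements of the ambient group -/
theorem isWreathed_sylow {G : Type*} [Group G] [Finite G] (P : Sylow 2 G) (n : ℕ)
    (hn : 2 ≤ n) (hcard : Nat.card P = 2 ^ (2 * n + 1)) (x y z : G) (hx : orderOf x = 2 ^ n)
    (hcomm : x * y = y * x) (hdisj : Subgroup.zpowers x ⊓ Subgroup.zpowers y = ⊥)
    (hz : orderOf z = 2) (hzx : z * x * z⁻¹ = y) :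
    Cfsg.IsWreathed (P : Subgroup G) := by
  have hz2 : z * z = 1 := by rw [← pow_two, ← hz, pow_orderOf_eq_one]
  have hzinv : z⁻¹ = z := inv_eq_of_mul_eq_one_left hz2
  have hzy : z * y * z⁻¹ = x := by
    rw [← hzx, hzinv]
    calc z * (z * x * z) * z = (z * z) * x * (z * z) := by group
      _ = x := by rw [hz2]; group
  have hyo : orderOf y = 2 ^ n := by rw [← hzx, orderOf_conj', hx]
  have hU : IsPGroup 2 (Subgroup.zpowers x ⊔ Subgroup.zpowers y : Subgroup G) := by
    apply IsPGroup.to_sup_of_normal_right' (isPGroup_zpowers hx) (isPGroup_zpowers hyo)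
    rw [Subgroup.zpowers_le]
    apply Subgroup.centralizer_le_normalizer
    rw [Subgroup.mem_centralizer_iff]
    intro h hh
    obtain ⟨k, rfl⟩ := Subgroup.mem_zpowers_iff.mp hh
    exact ((Commute.zpow_right (show Commute x y from hcomm) k).eq).symm
  have hnorm : Subgroup.zpowers z ≤
      Subgroup.normalizer ((Subgroup.zpowers x ⊔ Subgroup.zpowers y : Subgroup G) : Set G) := by
    apply zpowers_le_normalizer_of_conj_mem hz2
    intro a ha
    have hmap : (Subgroup.zpowers x ⊔ Subgroup.zpowers y : Subgroup G) ≤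
        (Subgroup.zpowers x ⊔ Subgroup.zpowers y : Subgroup G).comap (MulAut.conj z).toMonoidHom := by
      rw [sup_le_iff, Subgroup.zpowers_le, Subgroup.zpowers_le]
      constructor
      · rw [Subgroup.mem_comap, MulEquiv.coe_toMonoidHom, MulAut.conj_apply, hzx]
        exact le_sup_right (a := Subgroup.zpowers x) (Subgroup.mem_zpowers y)
      · rw [Subgroup.mem_comap, MulEquiv.coe_toMonoidHom, MulAut.conj_apply, hzy]
        exact le_sup_left (b := Subgroup.zpowers y) (Subgroup.mem_zpowers x)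
    exact hmap ha
  have hH : IsPGroup 2 (Subgroup.zpowers z ⊔ (Subgroup.zpowers x ⊔ Subgroup.zpowers y) : Subgroup G) :=
    IsPGroup.to_sup_of_normal_right' (isPGroup_zpowers (n := 1) (by simpa using hz)) hU hnorm
  obtain ⟨g, hg⟩ := exists_conj_mem_sylow P _ hH
  have hxP := hg x (le_sup_right (a := Subgroup.zpowers z)
    (le_sup_left (b := Subgroup.zpowers y) (Subgroup.mem_zpowers x)))
  have hyP := hg y (le_sup_right (a := Subgroup.zpowers z)
    (le_sup_right (a := Subgroup.zpowers x) (Subgroup.mem_zpowers y)))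
  have hzP := hg z (le_sup_left (b := Subgroup.zpowers x ⊔ Subgroup.zpowers y)
    (Subgroup.mem_zpowers z))
  refine ⟨n, hn, hcard, ⟨g * x * g⁻¹, hxP⟩, ⟨g * y * g⁻¹, hyP⟩, ⟨g * z * g⁻¹, hzP⟩,
    ?_, ?_, ?_, ?_, ?_⟩
  · rw [Subgroup.orderOf_mk, orderOf_conj', hx]
  · apply Subtype.ext
    simp only [Subgroup.coe_mul]
    calc g * x * g⁻¹ * (g * y * g⁻¹) = g * (x * y) * g⁻¹ := by group
      _ = g * (y * x) * g⁻¹ := by rw [hcomm]
      _ = g * y * g⁻¹ * (g * x * g⁻¹) := by group
  · rw [eq_bot_iff]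
    rintro ⟨a, haP⟩ ⟨h1, h2⟩
    rw [Subgroup.mem_bot]
    apply Subtype.ext
    show a = 1
    obtain ⟨i, hi⟩ := Subgroup.mem_zpowers_iff.mp h1
    obtain ⟨j, hj⟩ := Subgroup.mem_zpowers_iff.mp h2
    have hi' : a = g * x ^ i * g⁻¹ := by
      have := congrArg Subtype.val hi
      simp only [Subgroup.coe_zpow] at this
      rw [← this, conj_zpow]
    have hj' : a = g * y ^ j * g⁻¹ := by
      have := congrArg Subtype.val hj
      simp only [Subgroup.coe_zpow] at this
      rw [← this, conj_zpow]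
    have hxy : x ^ i = y ^ j := by
      have := hi'.symm.trans hj'
      have h3 := congrArg (fun u => g⁻¹ * u * g) this
      simpa [mul_assoc] using h3
    have hmem : x ^ i ∈ Subgroup.zpowers x ⊓ Subgroup.zpowers y :=
      ⟨Subgroup.zpow_mem _ (Subgroup.mem_zpowers x) _,
        hxy ▸ Subgroup.zpow_mem _ (Subgroup.mem_zpowers y) _⟩
    rw [hdisj, Subgroup.mem_bot] at hmem
    rw [hi', hmem]
    group
  · rw [Subgroup.orderOf_mk, orderOf_conj', hz]
  · apply Subtype.ext
    simp only [Subgroup.coe_mul, Subgroup.coe_inv]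
    rw [← hzx]
    group

end Cfsg.Agent.Lib.H6.GL2S
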