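import Mathlib

set_option autoImplicit false

namespace Cfsg.Agent.Lib.H6

variable {G : Type*} [Group G]

theorem mem_map_conj_iff (A : Subgroup G) (g x : G) :
    x ∈ A.map (MulAut.conj g).toMonoidHom ↔ g⁻¹ * x * g ∈ A := by
  constructor
  · rintro ⟨a, ha, rfl⟩
    have : g⁻¹ * ((MulAut.conj g).toMonoidHom a) * g = a := by
      simp [MulAut.conj_apply, mul_assoc]
    rw [this]; exact ha
  · intro h
    refine ⟨g⁻¹ * x * g, h, ?_⟩
    simp [MulAut.conj_apply, mul_assoc]

theorem conj_mem_map_conj (A : Subgroup G) (g : G) {a : G} (ha : a ∈ A) :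
    g * a * g⁻¹ ∈ A.map (MulAut.conj g).toMonoidHom :=
  ⟨a, ha, by simp [MulAut.conj_apply]⟩

theorem map_conj_map_conj (A : Subgroup G) (a b : G) :
    (A.map (MulAut.conj a).toMonoidHom).map (MulAut.conj b).toMonoidHom
      = A.map (MulAut.conj (b * a)).toMonoidHom := by
  ext x
  simp only [mem_map_conj_iff]
  have : a⁻¹ * (b⁻¹ * x * b) * a = (b * a)⁻¹ * x * (b * a) := by group
  rw [this]

theorem map_conj_one (A : Subgroup G) : A.map (MulAut.conj (1 : G)).toMonoidHom = A := by
  ext x
  rw [mem_map_conj_iff]; simp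

theorem map_conj_inv_eq_iff (A B : Subgroup G) (g : G) :
    A.map (MulAut.conj g⁻¹).toMonoidHom = B ↔ A = B.map (MulAut.conj g).toMonoidHom := by
  constructor
  · intro h
    rw [← h, map_conj_map_conj, mul_inv_cancel, map_conj_one]
  · intro h
    rw [h, map_conj_map_conj, inv_mul_cancel, map_conj_one]

theorem isPGroup_map_conj {p : ℕ} {A : Subgroup G} (hA : IsPGroup p A) (g : G) :
    IsPGroup p (A.map (MulAut.conj g).toMonoidHom) :=
  hA.map _

theorem card_map_conj (A : Subgroup G) (g : G) :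
    Nat.card (A.map (MulAut.conj g).toMonoidHom) = Nat.card A :=
  Subgroup.card_map_of_injective (MulAut.conj g).injective

/-- If `A` and `B` commute elementwise then `A` normalises `B`. -/
theorem le_normalizer_of_commute {A B : Subgroup G} (h : ∀ a ∈ A, ∀ b ∈ B, a * b = b * a) :
    A ≤ Subgroup.normalizer (B : Set G) := by
  intro a ha
  rw [Subgroup.mem_normalizer_iff]
  intro b
  constructor
  · intro hb
    have : a * b * a⁻¹ = b := by rw [h a ha b hb]; group
    rw [this]; exact hb
  · intro hb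
    have h1 := h a ha _ hb
    have : b = a * b * a⁻¹ := by
      have h5 : a * (a * b * a⁻¹) = a * b := by rw [h1]; group
      exact (mul_left_cancel h5).symm
    rw [this]; exact hb


theorem mem_normalizer_iff_map_conj (A : Subgroup G) (x : G) :
    x ∈ Subgroup.normalizer (A : Set G) ↔ A.map (MulAut.conj x).toMonoidHom = A := by
  rw [Subgroup.mem_normalizer_iff]
  constructor
  · intro h
    ext y
    rw [mem_map_conj_iff]
    have := h (x⁻¹ * y * x)
    rw [this]
    have e : x * (x⁻¹ * y * x) * x⁻¹ = y := by group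
    rw [e]
  · intro h y
    constructor
    · intro hy
      rw [← h]
      exact conj_mem_map_conj A x hy
    · intro hy
      rw [← h, mem_map_conj_iff] at hy
      have e : x⁻¹ * (x * y * x⁻¹) * x = y := by group
      rw [e] at hy
      exact hy

/-- Two subgroups normalising each other and meeting trivially commute elementwise. -/
theorem commute_of_normalize_of_inf_eq_bot {A B : Subgroup G}
    (hAB : A ≤ Subgroup.normalizer (B : Set G)) (hBA : B ≤ Subgroup.normalizer (A : Set G))
    (h : A ⊓ B = ⊥) : ∀ a ∈ A, ∀ b ∈ B, a * b = b * a := by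
  intro a ha b hb
  have h1 : a * b * a⁻¹ * b⁻¹ ∈ A := by
    have : b * a⁻¹ * b⁻¹ ∈ A := (Subgroup.mem_normalizer_iff.mp (hBA hb) a⁻¹).mp (A.inv_mem ha)
    have e : a * b * a⁻¹ * b⁻¹ = a * (b * a⁻¹ * b⁻¹) := by group
    rw [e]; exact A.mul_mem ha this
  have h2 : a * b * a⁻¹ * b⁻¹ ∈ B := by
    have : a * b * a⁻¹ ∈ B := (Subgroup.mem_normalizer_iff.mp (hAB ha) b).mp hb
    exact B.mul_mem this (B.inv_mem hb)
  have h3 : a * b * a⁻¹ * b⁻¹ ∈ A ⊓ B := ⟨h1, h2⟩
  rw [h, Subgroup.mem_bot] at h3
  calc a * b = (a * b * a⁻¹ * b⁻¹) * (b * a) := by group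
    _ = b * a := by rw [h3, one_mul]

/-- conjugating a normalising element. -/
theorem conj_mem_normalizer_map_conj (B : Subgroup G) (x : G) {y : G}
    (hy : y ∈ Subgroup.normalizer (B : Set G)) :
    x * y * x⁻¹ ∈ Subgroup.normalizer ((B.map (MulAut.conj x).toMonoidHom : Subgroup G) : Set G) := by
  rw [mem_normalizer_iff_map_conj] at hy ⊢
  rw [map_conj_map_conj]
  have e : x * y * x⁻¹ * x = x * y := by group
  rw [e, ← map_conj_map_conj, hy]

end Cfsg.Agent.Lib.H6
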