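import Mathlib
import Cfsg.Prelude.Def_CaseTheorems

/-! Quasi-dihedral 2-groups (`Cfsg.IsQuasiDihedral`): normal form `R i = x^i`, `SR i = x^i y`
indexed by `ZMod (2^n)`, multiplication table, exhaustiveness (helper6). -/

set_option autoImplicit false

namespace Cfsg.Agent.Lib.H6.QD

/-- a presentation datum of a quasi-dihedral group of order `2^(n+1)`. -/
structure Pres (S : Type*) [Group S] (n : ℕ) where
  x : S
  y : S
  hn : 3 ≤ n
  card : Nat.card S = 2 ^ (n + 1)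
  hx : orderOf x = 2 ^ n
  hy : orderOf y = 2
  hrel : y * x * y⁻¹ = x ^ (2 ^ (n - 1) - 1)

theorem exists_pres {S : Type*} [Group S] (h : Cfsg.IsQuasiDihedral S) : ∃ n : ℕ, Nonempty (Pres S n) := by
  obtain ⟨n, hn, hc, x, y, hx, hy, hr⟩ := h
  exact ⟨n, ⟨⟨x, y, hn, hc, hx, hy, hr⟩⟩⟩

/-! ### arithmetic in `ZMod (2^n)` -/

section Arith

variable {n : ℕ}

/-- `2^(n-1)` in `ZMod (2^n)`. -/
def hf (n : ℕ) : ZMod (2 ^ n) := 2 ^ (n - 1)

/-- `2^(n-2)` in `ZMod (2^n)`. -/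
def qt (n : ℕ) : ZMod (2 ^ n) := 2 ^ (n - 2)

/-- the multiplier `2^(n-1) - 1`. -/
def mm (n : ℕ) : ZMod (2 ^ n) := hf n - 1

theorem two_pow_eq_zero : (2 : ZMod (2 ^ n)) ^ n = 0 := by
  have := ZMod.natCast_self (2 ^ n)
  push_cast at this
  exact this

theorem two_mul_hf (hn : 1 ≤ n) : 2 * hf n = 0 := by
  unfold hf
  rw [← pow_succ']
  have : n - 1 + 1 = n := by omega
  rw [this]
  exact two_pow_eq_zero

theorem hf_add_hf (hn : 1 ≤ n) : hf n + hf n = 0 := by
  rw [← two_mul]; exact two_mul_hf hn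

theorem neg_hf (hn : 1 ≤ n) : - hf n = hf n := by
  have := hf_add_hf hn
  exact neg_eq_of_add_eq_zero_left this

theorem two_mul_qt (hn : 2 ≤ n) : 2 * qt n = hf n := by
  unfold qt hf
  rw [← pow_succ']
  congr 1
  omega

theorem hf_mul_hf (hn : 2 ≤ n) : hf n * hf n = 0 := by
  unfold hf
  rw [← pow_add]
  have : n - 1 + (n - 1) = n + (n - 2) := by omega
  rw [this, pow_add, two_pow_eq_zero, zero_mul]

theorem hf_mul_qt (hn : 3 ≤ n) : hf n * qt n = 0 := by
  unfold hf qt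
  rw [← pow_add]
  have : n - 1 + (n - 2) = n + (n - 3) := by omega
  rw [this, pow_add, two_pow_eq_zero, zero_mul]

theorem mm_mul_mm (hn : 2 ≤ n) : mm n * mm n = 1 := by
  unfold mm
  have h1 := hf_mul_hf hn
  have h2 := two_mul_hf (n := n) (by omega)
  linear_combination h1 - h2

theorem one_add_mm : 1 + mm n = hf n := by
  unfold mm; ring

theorem hf_ne_zero (hn : 1 ≤ n) : hf n ≠ 0 := by
  unfold hf
  intro h
  have h1 : ((2 ^ (n - 1) : ℕ) : ZMod (2 ^ n)) = 0 := by push_cast; exact h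
  rw [ZMod.natCast_eq_zero_iff] at h1
  have h2 : 2 ^ n ≤ 2 ^ (n - 1) := Nat.le_of_dvd (by positivity) h1
  have h3 : 2 ^ (n - 1) < 2 ^ n := Nat.pow_lt_pow_right (by norm_num) (by omega)
  omega

/-- every element is `2k` or `2k+1`. -/
theorem even_or_odd (i : ZMod (2 ^ n)) : (∃ k, i = 2 * k) ∨ ∃ k, i = 2 * k + 1 := by
  rcases Nat.even_or_odd' i.val with ⟨c, hc | hc⟩
  · left
    refine ⟨(c : ZMod (2 ^ n)), ?_⟩
    rw [← ZMod.natCast_zmod_val i, hc]
    push_cast; ring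
  · right
    refine ⟨(c : ZMod (2 ^ n)), ?_⟩
    rw [← ZMod.natCast_zmod_val i, hc]
    push_cast; ring

theorem hf_mul_even (hn : 1 ≤ n) (k : ZMod (2 ^ n)) : hf n * (2 * k) = 0 := by
  have := two_mul_hf hn
  linear_combination k * this

theorem hf_mul_odd (hn : 1 ≤ n) (k : ZMod (2 ^ n)) : hf n * (2 * k + 1) = hf n := by
  have := two_mul_hf hn
  linear_combination k * this

theorem nat_dvd_aux {n k : ℕ} (hk : k ≤ n) (v : ℕ) : 2 ^ n ∣ 2 ^ k * v ↔ 2 ^ (n - k) ∣ v := by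
  have h2 : 2 ^ n = 2 ^ k * 2 ^ (n - k) := by
    rw [← pow_add]; congr 1; omega
  rw [h2]
  exact Nat.mul_dvd_mul_iff_left (by positivity)

/-- `2^k * i = 0` iff `2^(n-k) ∣ i.val`. -/
theorem two_pow_mul_eq_zero_iff {k : ℕ} (hk : k ≤ n) (i : ZMod (2 ^ n)) :
    (2 : ZMod (2 ^ n)) ^ k * i = 0 ↔ 2 ^ (n - k) ∣ i.val := by
  have h1 : (2 : ZMod (2 ^ n)) ^ k * i = ((2 ^ k * i.val : ℕ) : ZMod (2 ^ n)) := by
    push_cast
    rw [ZMod.natCast_zmod_val]
  rw [h1, ZMod.natCast_eq_zero_iff]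
  exact nat_dvd_aux hk _

/-- solutions of `2 i = 0`. -/
theorem two_mul_eq_zero_iff (hn : 1 ≤ n) (i : ZMod (2 ^ n)) : 2 * i = 0 ↔ i = 0 ∨ i = hf n := by
  constructor
  · intro h
    have h1 : (2 : ZMod (2 ^ n)) ^ 1 * i = 0 := by rw [pow_one]; exact h
    rw [two_pow_mul_eq_zero_iff hn] at h1
    obtain ⟨c, hc⟩ := h1
    have hlt := ZMod.val_lt i
    have h2 : 2 ^ n = 2 * 2 ^ (n - 1) := by
      rw [← pow_succ']; congr 1; omega
    have hpos : 0 < 2 ^ (n - 1) := by positivity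
    have hc2 : c < 2 := by
      by_contra hcon
      push Not at hcon
      have : 2 ^ (n - 1) * 2 ≤ 2 ^ (n - 1) * c := Nat.mul_le_mul_left _ hcon
      omega
    have hi : i = ((2 ^ (n - 1) * c : ℕ) : ZMod (2 ^ n)) := by
      rw [← hc, ZMod.natCast_zmod_val]
    interval_cases c
    · left; rw [hi]; simp
    · right; rw [hi]; unfold hf; push_cast; ring
  · rintro (h | h)
    · rw [h, mul_zero]
    · rw [h]; exact two_mul_hf hn

/-- solutions of `4 i = 0`. -/
theorem four_mul_eq_zero_iff (hn : 2 ≤ n) (i : ZMod (2 ^ n)) :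
    4 * i = 0 ↔ i = 0 ∨ i = qt n ∨ i = hf n ∨ i = - qt n := by
  constructor
  · intro h
    have h1 : (2 : ZMod (2 ^ n)) ^ 2 * i = 0 := by
      have : (2 : ZMod (2 ^ n)) ^ 2 = 4 := by norm_num
      rw [this]; exact h
    rw [two_pow_mul_eq_zero_iff hn] at h1
    obtain ⟨c, hc⟩ := h1
    have hlt := ZMod.val_lt i
    have h2 : 2 ^ n = 4 * 2 ^ (n - 2) := by
      have : (4 : ℕ) = 2 ^ 2 := by norm_num
      rw [this, ← pow_add]; congr 1; omega
    have hpos : 0 < 2 ^ (n - 2) := by positivity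
    have hc2 : c < 4 := by
      by_contra hcon
      push Not at hcon
      have : 2 ^ (n - 2) * 4 ≤ 2 ^ (n - 2) * c := Nat.mul_le_mul_left _ hcon
      omega
    have hi : i = ((2 ^ (n - 2) * c : ℕ) : ZMod (2 ^ n)) := by
      rw [← hc, ZMod.natCast_zmod_val]
    have h4 : (4 : ZMod (2 ^ n)) * qt n = 0 := by
      have := two_mul_qt hn
      have h5 := two_mul_hf (n := n) (by omega)
      linear_combination 2 * this + h5
    interval_cases c
    · left; rw [hi]; simp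
    · right; left; rw [hi]; unfold qt; push_cast; ring
    · right; right; left; rw [hi, ← two_mul_qt hn]; unfold qt; push_cast; ring
    · right; right; right; rw [hi]
      have : ((2 ^ (n - 2) * 3 : ℕ) : ZMod (2 ^ n)) = 3 * qt n := by unfold qt; push_cast; ring
      rw [this]
      linear_combination h4
  · have h4 : (4 : ZMod (2 ^ n)) * qt n = 0 := by
      have := two_mul_qt hn
      have h5 := two_mul_hf (n := n) (by omega)
      linear_combination 2 * this + h5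
    rintro (h | h | h | h)
    · rw [h, mul_zero]
    · rw [h]; exact h4
    · rw [h]
      have h5 := two_mul_hf (n := n) (by omega)
      linear_combination 2 * h5
    · rw [h]; linear_combination - h4

theorem qt_pow_three (hn : 3 ≤ n) : qt n ^ 3 = 0 := by
  unfold qt
  rw [← pow_mul]
  have : (n - 2) * 3 = n + (2 * n - 6) := by omega
  rw [this, pow_add, two_pow_eq_zero, zero_mul]

/-- inverse of the unit `1 - 2^(n-2)`. -/
def uinv (n : ℕ) : ZMod (2 ^ n) := 1 + qt n + qt n ^ 2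

theorem unit_mul_uinv (hn : 3 ≤ n) : (1 - qt n) * uinv n = 1 := by
  unfold uinv
  have := qt_pow_three hn
  linear_combination - this

theorem two_sub_hf (hn : 2 ≤ n) : 2 - hf n = 2 * (1 - qt n) := by
  rw [← two_mul_qt hn]; ring

theorem mm_mul_hf (hn : 2 ≤ n) : mm n * hf n = hf n := by
  unfold mm
  have h1 := hf_mul_hf hn
  have h2 := two_mul_hf (n := n) (by omega)
  linear_combination h1 - h2

theorem mm_mul_qt (hn : 3 ≤ n) : mm n * qt n = - qt n := by
  unfold mm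
  have h1 := hf_mul_qt hn
  linear_combination h1

theorem qt_ne_zero (hn : 2 ≤ n) : qt n ≠ 0 := by
  intro h
  have := two_mul_qt hn
  rw [h, mul_zero] at this
  exact hf_ne_zero (by omega) this.symm

theorem two_mul_qt_ne_zero (hn : 2 ≤ n) : 2 * qt n ≠ 0 := by
  rw [two_mul_qt hn]; exact hf_ne_zero (by omega)

theorem qt_ne_neg_qt (hn : 2 ≤ n) : qt n ≠ - qt n := by
  intro h
  apply two_mul_qt_ne_zero hn
  linear_combination h

/-- an element is not both even and odd. -/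
theorem even_ne_odd (hn : 1 ≤ n) (a b : ZMod (2 ^ n)) : 2 * a ≠ 2 * b + 1 := by
  intro h
  have h1 := hf_mul_even hn a
  have h2 := hf_mul_odd hn b
  rw [h, h2] at h1
  exact hf_ne_zero hn h1

end Arith

/-! ### normal form -/

namespace Pres

variable {S : Type*} [Group S] {n : ℕ} (P : Pres S n)

/-- `x ^ i`. -/
def R (i : ZMod (2 ^ n)) : S := P.x ^ i.val

/-- `x ^ i * y`. -/
def SR (i : ZMod (2 ^ n)) : S := P.R i * P.y

include P in
theorem n_pos : 1 ≤ n := le_trans (by norm_num) P.hn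

include P in
theorem n_two : 2 ≤ n := le_trans (by norm_num) P.hn

theorem R_natCast (k : ℕ) : P.R (k : ZMod (2 ^ n)) = P.x ^ k := by
  unfold R
  rw [pow_eq_pow_iff_modEq, P.hx, ZMod.val_natCast]
  exact Nat.mod_modEq _ _

theorem R_zero : P.R 0 = 1 := by
  have := P.R_natCast 0
  simpa using this

theorem R_one : P.R 1 = P.x := by
  have := P.R_natCast 1
  simpa using this

theorem R_add (i j : ZMod (2 ^ n)) : P.R (i + j) = P.R i * P.R j := by
  unfold R
  rw [← pow_add, pow_eq_pow_iff_modEq, P.hx, ZMod.val_add]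
  exact Nat.mod_modEq _ _

theorem R_mul_R (i j : ZMod (2 ^ n)) : P.R i * P.R j = P.R (i + j) := (P.R_add i j).symm

theorem R_injective : Function.Injective P.R := by
  intro i j h
  unfold R at h
  rw [pow_eq_pow_iff_modEq, P.hx] at h
  apply ZMod.val_injective
  have h1 := ZMod.val_lt i
  have h2 := ZMod.val_lt j
  exact Nat.ModEq.eq_of_lt_of_lt h h1 h2

theorem R_eq_R_iff {i j : ZMod (2 ^ n)} : P.R i = P.R j ↔ i = j :=
  P.R_injective.eq_iff

theorem R_eq_one_iff {i : ZMod (2 ^ n)} : P.R i = 1 ↔ i = 0 := by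
  rw [← P.R_zero, P.R_eq_R_iff]

theorem R_neg (i : ZMod (2 ^ n)) : P.R (-i) = (P.R i)⁻¹ := by
  rw [eq_inv_iff_mul_eq_one, P.R_mul_R, neg_add_cancel, P.R_zero]

theorem R_inv (i : ZMod (2 ^ n)) : (P.R i)⁻¹ = P.R (-i) := (P.R_neg i).symm

theorem R_pow (i : ZMod (2 ^ n)) (k : ℕ) : P.R i ^ k = P.R (k * i) := by
  induction k with
  | zero => simp [P.R_zero]
  | succ k ih =>
    rw [pow_succ, ih, P.R_mul_R]
    congr 1
    push_cast; ring

theorem y_sq : P.y * P.y = 1 := by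
  have := pow_orderOf_eq_one P.y
  rwa [P.hy, pow_two] at this

theorem y_inv : P.y⁻¹ = P.y := inv_eq_of_mul_eq_one_right P.y_sq

theorem y_ne_one : P.y ≠ 1 := by
  intro h
  have := P.hy
  rw [h, orderOf_one] at this
  omega

omit [Group S] in
theorem mm_cast : ((2 ^ (n - 1) - 1 : ℕ) : ZMod (2 ^ n)) = mm n := by
  unfold mm hf
  rw [Nat.cast_sub (Nat.one_le_two_pow)]
  push_cast
  rfl

/-- `y x^i y⁻¹ = x^(m i)`. -/
theorem y_conj_R (i : ZMod (2 ^ n)) : P.y * P.R i * P.y⁻¹ = P.R (mm n * i) := by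
  have h1 : P.y * P.R i * P.y⁻¹ = (P.y * P.x * P.y⁻¹) ^ i.val := by
    rw [conj_pow]; rfl
  rw [h1, P.hrel, ← pow_mul, ← P.R_natCast]
  congr 1
  rw [Nat.cast_mul, ZMod.natCast_zmod_val, mm_cast]

theorem y_mul_R (i : ZMod (2 ^ n)) : P.y * P.R i = P.R (mm n * i) * P.y := by
  have := P.y_conj_R i
  rw [← this]; group

theorem R_mul_SR (i j : ZMod (2 ^ n)) : P.R i * P.SR j = P.SR (i + j) := by
  unfold SR
  rw [← mul_assoc, P.R_mul_R]

theorem SR_mul_R (i j : ZMod (2 ^ n)) : P.SR i * P.R j = P.SR (i + mm n * j) := by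
  unfold SR
  rw [mul_assoc, P.y_mul_R, ← mul_assoc, P.R_mul_R]

theorem SR_mul_SR (i j : ZMod (2 ^ n)) : P.SR i * P.SR j = P.R (i + mm n * j) := by
  unfold SR
  rw [mul_assoc, ← mul_assoc P.y, P.y_mul_R, mul_assoc _ P.y P.y, P.y_sq, mul_one, P.R_mul_R]

theorem SR_zero : P.SR 0 = P.y := by
  unfold SR; rw [P.R_zero, one_mul]

theorem SR_inv (i : ZMod (2 ^ n)) : (P.SR i)⁻¹ = P.SR (- mm n * i) := by
  rw [inv_eq_iff_mul_eq_one, P.SR_mul_SR, P.R_eq_one_iff]
  have := mm_mul_mm P.n_two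
  linear_combination (-i) * this

theorem SR_sq (i : ZMod (2 ^ n)) : P.SR i * P.SR i = P.R (hf n * i) := by
  rw [P.SR_mul_SR]
  congr 1
  rw [← one_add_mm]; ring

/-- `y ∉ ⟨x⟩`. -/
theorem y_ne_R (i : ZMod (2 ^ n)) : P.y ≠ P.R i := by
  intro h
  -- then y commutes with x
  have h1 : P.y * P.R 1 * P.y⁻¹ = P.R 1 := by
    rw [h, P.R_inv, P.R_mul_R, P.R_mul_R]
    congr 1; ring
  rw [P.y_conj_R, P.R_eq_R_iff, mul_one] at h1
  -- mm = 1 means hf = 2
  have h2 : hf n = 2 := by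
    unfold mm at h1
    linear_combination h1
  have h3 : (2 : ZMod (2 ^ n)) * 2 = 0 := by
    have := two_mul_hf P.n_pos
    rwa [h2] at this
  have h4 : ((4 : ℕ) : ZMod (2 ^ n)) = 0 := by
    push_cast; linear_combination h3
  rw [ZMod.natCast_eq_zero_iff] at h4
  have h5 : 2 ^ 3 ≤ 2 ^ n := Nat.pow_le_pow_right (by norm_num) P.hn
  have := Nat.le_of_dvd (by norm_num) h4
  omega

theorem SR_ne_R (i j : ZMod (2 ^ n)) : P.SR i ≠ P.R j := by
  intro h
  apply P.y_ne_R (j - i)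
  unfold SR at h
  have : P.y = (P.R i)⁻¹ * P.R j := by rw [← h]; group
  rw [this, P.R_inv, P.R_mul_R]
  congr 1; ring

theorem SR_injective : Function.Injective P.SR := by
  intro i j h
  unfold SR at h
  exact P.R_injective (mul_right_cancel h)

theorem SR_eq_SR_iff {i j : ZMod (2 ^ n)} : P.SR i = P.SR j ↔ i = j :=
  P.SR_injective.eq_iff

theorem SR_ne_one (i : ZMod (2 ^ n)) : P.SR i ≠ 1 := by
  rw [← P.R_zero]; exact P.SR_ne_R i 0

/-- every element is `R i` or `SR i`. -/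
theorem cases [Finite S] (s : S) : (∃ i, s = P.R i) ∨ ∃ i, s = P.SR i := by
  classical
  have : NeZero (2 ^ n) := inferInstance
  have hN : Fintype.card (ZMod (2 ^ n)) = 2 ^ n := ZMod.card _
  let f : ZMod (2 ^ n) ⊕ ZMod (2 ^ n) → S := Sum.elim P.R P.SR
  have hf : Function.Injective f := by
    rintro (i | i) (j | j) h
    · exact congrArg Sum.inl (P.R_injective h)
    · exact absurd h.symm (P.SR_ne_R j i)
    · exact absurd h (P.SR_ne_R i j)
    · exact congrArg Sum.inr (P.SR_injective h)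
  have hcard : Nat.card S ≤ Nat.card (ZMod (2 ^ n) ⊕ ZMod (2 ^ n)) := by
    rw [P.card, Nat.card_sum, Nat.card_eq_fintype_card, hN, pow_succ]
    omega
  have hbij := hf.bijective_of_nat_card_le hcard
  obtain ⟨a, ha⟩ := hbij.2 s
  rcases a with i | i
  · left; exact ⟨i, ha.symm⟩
  · right; exact ⟨i, ha.symm⟩

/-! ### conjugation -/

theorem R_conj_R (k i : ZMod (2 ^ n)) : P.R k * P.R i * (P.R k)⁻¹ = P.R i := by
  rw [P.R_inv, P.R_mul_R, P.R_mul_R]; congr 1; ring

theorem SR_conj_R (k i : ZMod (2 ^ n)) : P.SR k * P.R i * (P.SR k)⁻¹ = P.R (mm n * i) := by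
  rw [P.SR_inv, P.SR_mul_R, P.SR_mul_SR]
  congr 1
  have := mm_mul_mm P.n_two
  linear_combination (-k) * this

theorem R_conj_SR (k i : ZMod (2 ^ n)) :
    P.R k * P.SR i * (P.R k)⁻¹ = P.SR (i + 2 * (1 - qt n) * k) := by
  rw [P.R_inv, P.R_mul_SR, P.SR_mul_R]
  congr 1
  have := two_sub_hf P.n_two
  unfold mm
  linear_combination k * this

theorem SR_conj_SR (k i : ZMod (2 ^ n)) :
    P.SR k * P.SR i * (P.SR k)⁻¹ = P.SR (k + mm n * i - mm n * k) := by
  rw [P.SR_inv, P.SR_mul_SR, P.R_mul_SR]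
  congr 1
  ring

theorem exists_conj_SR_even (a b : ZMod (2 ^ n)) :
    ∃ k, P.R k * P.SR (2 * a) * (P.R k)⁻¹ = P.SR (2 * b) := by
  refine ⟨uinv n * (b - a), ?_⟩
  rw [P.R_conj_SR]
  congr 1
  have := unit_mul_uinv P.hn
  linear_combination 2 * (b - a) * this

theorem exists_conj_SR_odd (a b : ZMod (2 ^ n)) :
    ∃ k, P.R k * P.SR (2 * a + 1) * (P.R k)⁻¹ = P.SR (2 * b + 1) := by
  refine ⟨uinv n * (b - a), ?_⟩
  rw [P.R_conj_SR]
  congr 1
  have := unit_mul_uinv P.hn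
  linear_combination 2 * (b - a) * this

/-! ### orders -/

theorem sq_eq_one_iff [Finite S] (s : S) :
    s * s = 1 ↔ s = 1 ∨ s = P.R (hf n) ∨ ∃ k, s = P.SR (2 * k) := by
  constructor
  · intro h
    rcases P.cases s with ⟨i, rfl⟩ | ⟨i, rfl⟩
    · rw [P.R_mul_R, P.R_eq_one_iff, ← two_mul, two_mul_eq_zero_iff P.n_pos] at h
      rcases h with h | h
      · left; rw [h, P.R_zero]
      · right; left; rw [h]
    · right; right
      rw [P.SR_sq, P.R_eq_one_iff] at h
      rcases even_or_odd i with ⟨k, rfl⟩ | ⟨k, rfl⟩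
      · exact ⟨k, rfl⟩
      · rw [hf_mul_odd P.n_pos] at h
        exact absurd h (hf_ne_zero P.n_pos)
  · rintro (h | h | ⟨k, h⟩)
    · rw [h, mul_one]
    · rw [h, P.R_mul_R, hf_add_hf P.n_pos, P.R_zero]
    · rw [h, P.SR_sq, hf_mul_even P.n_pos, P.R_zero]

theorem orderOf_eq_two_iff' {G : Type*} [Group G] (s : G) : orderOf s = 2 ↔ s * s = 1 ∧ s ≠ 1 := by
  constructor
  · intro h
    refine ⟨?_, ?_⟩
    · have := pow_orderOf_eq_one s
      rwa [h, pow_two] at this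
    · intro h1; rw [h1, orderOf_one] at h; omega
  · rintro ⟨h1, h2⟩
    exact orderOf_eq_prime (by rwa [pow_two]) h2

theorem R_hf_ne_one : P.R (hf n) ≠ 1 := by
  rw [Ne, P.R_eq_one_iff]; exact hf_ne_zero P.n_pos

theorem orderOf_eq_two_iff [Finite S] (s : S) :
    orderOf s = 2 ↔ s = P.R (hf n) ∨ ∃ k, s = P.SR (2 * k) := by
  rw [orderOf_eq_two_iff', P.sq_eq_one_iff]
  constructor
  · rintro ⟨h | h | h, h1⟩
    · exact absurd h h1
    · left; exact h
    · right; exact h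
  · rintro (h | ⟨k, h⟩)
    · exact ⟨Or.inr (Or.inl h), by rw [h]; exact P.R_hf_ne_one⟩
    · exact ⟨Or.inr (Or.inr ⟨k, h⟩), by rw [h]; exact P.SR_ne_one _⟩

theorem orderOf_eq_four_iff' {G : Type*} [Group G] (s : G) :
    orderOf s = 4 ↔ (s * s) * (s * s) = 1 ∧ s * s ≠ 1 := by
  have : Fact (Nat.Prime 2) := ⟨Nat.prime_two⟩
  have e4 : s ^ 4 = (s * s) * (s * s) := by
    simp only [pow_succ, pow_zero, one_mul, mul_assoc]
  constructor
  · intro h
    refine ⟨?_, ?_⟩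
    · have := pow_orderOf_eq_one s
      rw [h] at this
      rw [← this, e4]
    · intro h1
      have : orderOf s ∣ 2 := orderOf_dvd_of_pow_eq_one (by rwa [pow_two])
      rw [h] at this
      omega
  · rintro ⟨h1, h2⟩
    have := orderOf_eq_prime_pow (x := s) (p := 2) (n := 1) (by rwa [pow_one, pow_two])
      (by
        have : (2 : ℕ) ^ (1 + 1) = 4 := by norm_num
        rw [this, e4, h1])
    simpa using this

theorem orderOf_eq_four_iff [Finite S] (s : S) :
    orderOf s = 4 ↔ s = P.R (qt n) ∨ s = P.R (- qt n) ∨ ∃ k, s = P.SR (2 * k + 1) := by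
  rw [orderOf_eq_four_iff']
  constructor
  · rintro ⟨h1, h2⟩
    rcases P.cases s with ⟨i, rfl⟩ | ⟨i, rfl⟩
    · rw [P.R_mul_R, P.R_mul_R, P.R_eq_one_iff] at h1
      rw [P.R_mul_R, Ne, P.R_eq_one_iff] at h2
      have h3 : 4 * i = 0 := by linear_combination h1
      rw [four_mul_eq_zero_iff P.n_two] at h3
      rcases h3 with h | h | h | h
      · exfalso; apply h2; rw [h, add_zero]
      · left; rw [h]
      · exfalso; apply h2; rw [h]; exact hf_add_hf P.n_pos
      · right; left; rw [h]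
    · right; right
      rcases even_or_odd i with ⟨k, rfl⟩ | ⟨k, rfl⟩
      · exfalso; apply h2
        rw [P.SR_sq, hf_mul_even P.n_pos, P.R_zero]
      · exact ⟨k, rfl⟩
  · rintro (h | h | ⟨k, h⟩)
    · rw [h, P.R_mul_R, P.R_mul_R, Ne, P.R_eq_one_iff, P.R_eq_one_iff]
      refine ⟨?_, ?_⟩
      · have := (four_mul_eq_zero_iff P.n_two (qt n)).mpr (Or.inr (Or.inl rfl))
        linear_combination this
      · rw [← two_mul]; exact two_mul_qt_ne_zero P.n_two
    · rw [h, P.R_mul_R, P.R_mul_R, Ne, P.R_eq_one_iff, P.R_eq_one_iff]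
      refine ⟨?_, ?_⟩
      · have := (four_mul_eq_zero_iff P.n_two (qt n)).mpr (Or.inr (Or.inl rfl))
        linear_combination - this
      · intro h3
        apply two_mul_qt_ne_zero P.n_two
        linear_combination - h3
    · rw [h, P.SR_sq, hf_mul_odd P.n_pos, P.R_mul_R, hf_add_hf P.n_pos, P.R_zero]
      exact ⟨rfl, P.R_hf_ne_one⟩

end Pres

end Cfsg.Agent.Lib.H6.QD
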