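import Mathlib
import Cfsg.Agent.Lib.H6.QD
import Cfsg.Agent.Lib.H6.Conj

/-! Klein four-subgroups of quasi-dihedral groups (helper6). -/

set_option autoImplicit false

namespace Cfsg.Agent.Lib.H6.QD

theorem ncard_four {α : Type*} {a b c d : α} (hab : a ≠ b) (hac : a ≠ c) (had : a ≠ d) (hbc : b ≠ c)
    (hbd : b ≠ d) (hcd : c ≠ d) : ({a, b, c, d} : Set α).ncard = 4 := by
  rw [Set.ncard_insert_of_notMem, Set.ncard_insert_of_notMem, Set.ncard_pair hcd]
  · simp only [Set.mem_insert_iff, Set.mem_singleton_iff, not_or]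
    exact ⟨hbc, hbd⟩
  · simp only [Set.mem_insert_iff, Set.mem_singleton_iff, not_or]
    exact ⟨hab, hac, had⟩

theorem ncard_pair_le {α : Type*} (a b : α) : ({a, b} : Set α).ncard ≤ 2 := by
  have := Set.ncard_insert_le a ({b} : Set α)
  rw [Set.ncard_singleton] at this
  exact this

section Arith2

variable {n : ℕ}

theorem uinv_mul_hf (hn : 3 ≤ n) : uinv n * hf n = hf n := by
  unfold uinv
  have h1 := hf_mul_qt hn
  linear_combination (1 + qt n) * h1

theorem unit_mul_eq_iff (hn : 3 ≤ n) (a b : ZMod (2 ^ n)) : (1 - qt n) * a = b ↔ a = uinv n * b := by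
  have h := unit_mul_uinv hn
  constructor
  · intro h1
    rw [← h1]
    linear_combination (-a) * h
  · intro h1
    rw [h1]
    linear_combination b * h

theorem two_unit_mul_eq_zero_iff (hn : 3 ≤ n) (d : ZMod (2 ^ n)) :
    2 * (1 - qt n) * d = 0 ↔ d = 0 ∨ d = hf n := by
  rw [← two_mul_eq_zero_iff (by omega)]
  have h1 : 2 * (1 - qt n) * d = (1 - qt n) * (2 * d) := by ring
  rw [h1, unit_mul_eq_iff hn, mul_zero]

theorem two_unit_mul_eq_hf_iff (hn : 3 ≤ n) (d : ZMod (2 ^ n)) :
    2 * (1 - qt n) * d = hf n ↔ d = qt n ∨ d = qt n + hf n := by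
  have h1 : 2 * (1 - qt n) * d = (1 - qt n) * (2 * d) := by ring
  rw [h1, unit_mul_eq_iff hn, uinv_mul_hf hn]
  have h2 : 2 * d = hf n ↔ 2 * (d - qt n) = 0 := by
    rw [← two_mul_qt (by omega : 2 ≤ n)]
    constructor
    · intro h; linear_combination h
    · intro h; linear_combination h
  rw [h2, two_mul_eq_zero_iff (by omega)]
  constructor
  · rintro (h | h)
    · left; linear_combination h
    · right; linear_combination h
  · rintro (h | h)
    · left; linear_combination h
    · right; linear_combination h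

theorem qt_ne_hf (hn : 2 ≤ n) : qt n ≠ hf n := by
  intro h
  have h1 := two_mul_qt hn
  rw [h, two_mul_hf (by omega)] at h1
  exact hf_ne_zero (by omega) h1.symm

theorem one_sub_mm (hn : 2 ≤ n) : 1 - mm n = 2 * (1 - qt n) := by
  unfold mm
  have := two_sub_hf hn
  linear_combination this

theorem two_unit_mul_qt (hn : 3 ≤ n) : 2 * (1 - qt n) * qt n = hf n :=
  (two_unit_mul_eq_hf_iff hn (qt n)).mpr (Or.inl rfl)

theorem AB_disjoint (hn : 2 ≤ n) {d : ZMod (2 ^ n)} (hA : d = 0 ∨ d = hf n)
    (hB : d = qt n ∨ d = qt n + hf n) : False := by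
  have h0 := qt_ne_zero hn
  have h1 := qt_ne_hf hn
  have h2 := hf_add_hf (n := n) (by omega)
  rcases hA with hA | hA <;> rcases hB with hB | hB
  · exact h0 (hB.symm.trans hA)
  · apply h1
    rw [hA] at hB
    linear_combination - hB - h2
  · exact h1 (hB.symm.trans hA)
  · apply h0
    rw [hA] at hB
    linear_combination - hB

end Arith2

namespace Pres

variable {S : Type*} [Group S] {n : ℕ} (P : Pres S n)

/-- membership in the four-group `{1, z, x^{2k} y, x^{2k} z y}`. -/
def InT (k : ZMod (2 ^ n)) (s : S) : Prop :=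
  s = 1 ∨ s = P.R (hf n) ∨ s = P.SR (2 * k) ∨ s = P.SR (2 * k + hf n)

theorem R_hf_mul_SR (i : ZMod (2 ^ n)) : P.R (hf n) * P.SR i = P.SR (i + hf n) := by
  rw [P.R_mul_SR, add_comm]

theorem SR_mul_R_hf (i : ZMod (2 ^ n)) : P.SR i * P.R (hf n) = P.SR (i + hf n) := by
  rw [P.SR_mul_R, mm_mul_hf P.n_two]

/-- `R hf` is central. -/
theorem R_hf_comm (s : S) [Finite S] : P.R (hf n) * s = s * P.R (hf n) := by
  rcases P.cases s with ⟨i, rfl⟩ | ⟨i, rfl⟩
  · rw [P.R_mul_R, P.R_mul_R, add_comm]
  · rw [P.R_hf_mul_SR, P.SR_mul_R_hf]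

variable [Finite S]

/-- classification of Klein four-subgroups. -/
theorem kleinFour_mem (T : Subgroup S) (hT : IsKleinFour T) : ∃ k, ∀ s, s ∈ T ↔ P.InT k s := by
  classical
  have hcard : Nat.card T = 4 := hT.card_four
  have hsq : ∀ s ∈ T, s * s = 1 := by
    intro s hs
    have := Monoid.pow_exponent_eq_one (⟨s, hs⟩ : T)
    rw [hT.exponent_two] at this
    have h2 := congrArg Subtype.val this
    simpa [pow_two] using h2
  have hncard : (T : Set S).ncard = 4 := by
    rw [← Nat.card_coe_set_eq]; exact hcard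
  -- an element outside {1, R hf}
  have h1 : ∃ s ∈ T, s ≠ 1 ∧ s ≠ P.R (hf n) := by
    by_contra hcon
    push Not at hcon
    have hsub : (T : Set S) ⊆ {1, P.R (hf n)} := by
      intro s hs
      by_cases h : s = 1
      · left; exact h
      · right; exact hcon s hs h
    have := Set.ncard_le_ncard hsub (Set.toFinite _)
    have h2 : ({1, P.R (hf n)} : Set S).ncard ≤ 2 := ncard_pair_le _ _
    omega
  obtain ⟨s, hsT, hs1, hs2⟩ := h1
  obtain ⟨k, rfl⟩ : ∃ k, s = P.SR (2 * k) := by
    rcases (P.sq_eq_one_iff s).mp (hsq s hsT) with h | h | h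
    · exact absurd h hs1
    · exact absurd h hs2
    · exact h
  -- R hf ∈ T
  have hz : P.R (hf n) ∈ T := by
    have h2 : ∃ s' ∈ T, s' ≠ 1 ∧ s' ≠ P.SR (2 * k) := by
      by_contra hcon
      push Not at hcon
      have hsub : (T : Set S) ⊆ {1, P.SR (2 * k)} := by
        intro s hs
        by_cases h : s = 1
        · left; exact h
        · right; exact hcon s hs h
      have := Set.ncard_le_ncard hsub (Set.toFinite _)
      have h2 : ({1, P.SR (2 * k)} : Set S).ncard ≤ 2 := ncard_pair_le _ _
      omega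
    obtain ⟨s', hs'T, hs'1, hs'2⟩ := h2
    rcases (P.sq_eq_one_iff s').mp (hsq s' hs'T) with h | h | ⟨l, h⟩
    · exact absurd h hs'1
    · rw [← h]; exact hs'T
    · have hprod : P.SR (2 * k) * s' ∈ T := T.mul_mem hsT hs'T
      have hsqp := hsq _ hprod
      rw [h, P.SR_mul_SR] at hprod hsqp
      rw [P.R_mul_R, P.R_eq_one_iff, ← two_mul, two_mul_eq_zero_iff P.n_pos] at hsqp
      rcases hsqp with h3 | h3
      · exfalso
        apply hs'2
        rw [h]
        have h4 : P.SR (2 * k) * P.SR (2 * l) = 1 := by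
          rw [P.SR_mul_SR, h3, P.R_zero]
        have h5 : P.SR (2 * k) * P.SR (2 * k) = 1 := by
          rw [P.SR_sq, hf_mul_even P.n_pos, P.R_zero]
        exact mul_left_cancel (h4.trans h5.symm)
      · rw [h3] at hprod; exact hprod
  refine ⟨k, ?_⟩
  have h4 : P.SR (2 * k + hf n) ∈ T := by
    rw [← P.R_hf_mul_SR]; exact T.mul_mem hz hsT
  have hsub : ({1, P.R (hf n), P.SR (2 * k), P.SR (2 * k + hf n)} : Set S) ⊆ (T : Set S) := by
    intro s hs
    simp only [Set.mem_insert_iff, Set.mem_singleton_iff] at hs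
    rcases hs with rfl | rfl | rfl | rfl
    · exact T.one_mem
    · exact hz
    · exact hsT
    · exact h4
  have hU : ({1, P.R (hf n), P.SR (2 * k), P.SR (2 * k + hf n)} : Set S).ncard = 4 := by
    apply ncard_four
    · exact (P.R_hf_ne_one).symm
    · exact (P.SR_ne_one _).symm
    · exact (P.SR_ne_one _).symm
    · exact (P.SR_ne_R _ _).symm
    · exact (P.SR_ne_R _ _).symm
    · rw [Ne, P.SR_eq_SR_iff]
      intro h
      apply hf_ne_zero P.n_pos
      linear_combination - h
  have heq := Set.eq_of_subset_of_ncard_le hsub (by rw [hU, hncard]) (Set.toFinite _)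
  intro s
  have : s ∈ T ↔ s ∈ (T : Set S) := Iff.rfl
  rw [this, ← heq]
  simp only [Set.mem_insert_iff, Set.mem_singleton_iff]
  rfl

omit [Finite S] in
theorem inT_R_iff (k i : ZMod (2 ^ n)) : P.InT k (P.R i) ↔ i = 0 ∨ i = hf n := by
  unfold InT
  rw [P.R_eq_one_iff, P.R_eq_R_iff]
  constructor
  · rintro (h | h | h | h)
    · left; exact h
    · right; exact h
    · exact absurd h.symm (P.SR_ne_R _ _)
    · exact absurd h.symm (P.SR_ne_R _ _)
  · rintro (h | h)
    · left; exact h
    · right; left; exact h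

omit [Finite S] in
theorem inT_SR_iff (k i : ZMod (2 ^ n)) : P.InT k (P.SR i) ↔ i = 2 * k ∨ i = 2 * k + hf n := by
  unfold InT
  rw [P.SR_eq_SR_iff, P.SR_eq_SR_iff]
  constructor
  · rintro (h | h | h | h)
    · exact absurd h (P.SR_ne_one _)
    · exact absurd h (P.SR_ne_R _ _)
    · left; exact h
    · right; exact h
  · rintro (h | h)
    · right; right; left; exact h
    · right; right; right; exact h

/-- the centralizer of `x^{2k} y`. -/
theorem comm_SR_iff (k : ZMod (2 ^ n)) (c : S) :
    c * P.SR (2 * k) = P.SR (2 * k) * c ↔ P.InT k c := by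
  rcases P.cases c with ⟨i, rfl⟩ | ⟨i, rfl⟩
  · rw [P.R_mul_SR, P.SR_mul_R, P.SR_eq_SR_iff, P.inT_R_iff, ← two_unit_mul_eq_zero_iff P.hn]
    have := one_sub_mm (n := n) P.n_two
    constructor
    · intro h; linear_combination h - i * this
    · intro h; linear_combination h + i * this
  · rw [P.SR_mul_SR, P.SR_mul_SR, P.R_eq_R_iff, P.inT_SR_iff]
    have h1 : i = 2 * k ∨ i = 2 * k + hf n ↔ (i - 2 * k) = 0 ∨ (i - 2 * k) = hf n := by
      constructor
      · rintro (h | h)
        · left; linear_combination h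
        · right; linear_combination h
      · rintro (h | h)
        · left; linear_combination h
        · right; linear_combination h
    rw [h1, ← two_unit_mul_eq_zero_iff P.hn]
    have := one_sub_mm (n := n) P.n_two
    constructor
    · intro h; linear_combination h - (i - 2 * k) * this
    · intro h; linear_combination h + (i - 2 * k) * this

omit [Finite S] in
theorem conj_eq_iff {G : Type*} [Group G] (s x e : G) : s⁻¹ * x * s = e ↔ x = s * e * s⁻¹ := by
  constructor
  · intro h; rw [← h]; group
  · intro h; rw [h]; group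

omit [Finite S] in
/-- conjugating the four-group `T_k` by `x^j`. -/
theorem inT_conj_R (k j : ZMod (2 ^ n)) (x : S) :
    P.InT k ((P.R j)⁻¹ * x * P.R j) ↔ P.InT (k + (1 - qt n) * j) x := by
  unfold InT
  rw [conj_eq_iff, conj_eq_iff, conj_eq_iff, conj_eq_iff, P.R_conj_R, P.R_conj_SR, P.R_conj_SR]
  have e1 : P.R j * 1 * (P.R j)⁻¹ = 1 := by group
  have e2 : 2 * k + 2 * (1 - qt n) * j = 2 * (k + (1 - qt n) * j) := by ring
  have e3 : 2 * k + hf n + 2 * (1 - qt n) * j = 2 * (k + (1 - qt n) * j) + hf n := by ring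
  rw [e1, e2, e3]

include P in
/-- any two Klein four-subgroups are conjugate. -/
theorem kleinFour_conj (T₁ T₂ : Subgroup S) (h₁ : IsKleinFour T₁) (h₂ : IsKleinFour T₂) :
    ∃ s : S, T₁.map (MulAut.conj s).toMonoidHom = T₂ := by
  obtain ⟨k₁, hk₁⟩ := P.kleinFour_mem T₁ h₁
  obtain ⟨k₂, hk₂⟩ := P.kleinFour_mem T₂ h₂
  refine ⟨P.R (uinv n * (k₂ - k₁)), ?_⟩
  ext x
  rw [Cfsg.Agent.Lib.H6.mem_map_conj_iff, hk₁, hk₂, P.inT_conj_R]
  have : k₁ + (1 - qt n) * (uinv n * (k₂ - k₁)) = k₂ := by
    have := unit_mul_uinv P.hn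
    linear_combination (k₂ - k₁) * this
  rw [this]

include P in
/-- Klein four-subgroups are self-centralizing. -/
theorem kleinFour_centralizer (T : Subgroup S) (hT : IsKleinFour T) :
    Subgroup.centralizer (T : Set S) = T := by
  obtain ⟨k, hk⟩ := P.kleinFour_mem T hT
  have hyT : P.SR (2 * k) ∈ T := by
    rw [hk]; right; right; left; rfl
  apply le_antisymm
  · intro c hc
    rw [Subgroup.mem_centralizer_iff] at hc
    have := hc _ hyT
    rw [hk, ← P.comm_SR_iff]
    exact this.symm
  · intro c hc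
    rw [Subgroup.mem_centralizer_iff]
    intro t ht
    have hc' := (hk c).mp hc
    have ht' := (hk t).mp ht
    have hcy := (P.comm_SR_iff k c).mpr hc'
    have hty := (P.comm_SR_iff k t).mpr ht'
    -- t is 1, central, y' or central * y'
    rcases ht' with rfl | rfl | rfl | rfl
    · rw [one_mul, mul_one]
    · exact P.R_hf_comm c
    · exact hcy.symm
    · rw [← P.R_hf_mul_SR, mul_assoc, ← hcy, ← mul_assoc, P.R_hf_comm c, mul_assoc]

omit [Finite S] in
theorem R_qt_not_inT (k : ZMod (2 ^ n)) : ¬ P.InT k (P.R (qt n)) := by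
  rw [P.inT_R_iff]
  rintro (h | h)
  · exact qt_ne_zero P.n_two h
  · exact qt_ne_hf P.n_two h

include P in
/-- `|N_S(T) : T| = 2` for a Klein four-subgroup `T`. -/
theorem kleinFour_relIndex (T : Subgroup S) (hT : IsKleinFour T) :
    T.relIndex (Subgroup.normalizer (T : Set S)) = 2 := by
  obtain ⟨k, hk⟩ := P.kleinFour_mem T hT
  have hyT : P.SR (2 * k) ∈ T := by
    rw [hk]; right; right; left; rfl
  have hshift : ∀ k' : ZMod (2 ^ n), 2 * k' = 2 * k + hf n → ∀ s, P.InT k' s ↔ P.InT k s := by
    intro k' hk' s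
    unfold InT
    have e : 2 * k' + hf n = 2 * k := by
      rw [hk']
      have := hf_add_hf (n := n) P.n_pos
      linear_combination this
    rw [e, hk']
    tauto
  have hA : ∀ d : ZMod (2 ^ n), (2 * (1 - qt n) * d = 0 ∨ 2 * (1 - qt n) * d = hf n) →
      (d = 0 ∨ d = hf n) ∨ (d = qt n ∨ d = qt n + hf n) := by
    intro d hd
    rcases hd with hd | hd
    · left; exact (two_unit_mul_eq_zero_iff P.hn d).mp hd
    · right; exact (two_unit_mul_eq_hf_iff P.hn d).mp hd
  rw [Subgroup.relIndex_eq_two_iff]
  refine ⟨P.R (qt n), ?_, ?_⟩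
  · rw [Subgroup.mem_normalizer_iff]
    intro h
    have e : P.R (qt n) * h * (P.R (qt n))⁻¹ = (P.R (- qt n))⁻¹ * h * P.R (- qt n) := by
      rw [P.R_neg, inv_inv]
    rw [e, hk, hk, P.inT_conj_R]
    symm
    apply hshift
    have h1 := two_unit_mul_qt (n := n) P.hn
    have h2 := hf_add_hf (n := n) P.n_pos
    linear_combination - h1 - h2
  · intro b hb
    rw [Subgroup.mem_normalizer_iff] at hb
    have hb1 := (hb _).mp hyT
    rw [hk] at hb1
    rw [hk, hk]
    rcases P.cases b with ⟨i, rfl⟩ | ⟨i, rfl⟩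
    · rw [P.R_conj_SR, P.inT_SR_iff] at hb1
      have hd : 2 * (1 - qt n) * i = 0 ∨ 2 * (1 - qt n) * i = hf n := by
        rcases hb1 with h | h
        · left; linear_combination h
        · right; linear_combination h
      rw [P.R_mul_R, P.inT_R_iff, P.inT_R_iff]
      have hB : (i + qt n = 0 ∨ i + qt n = hf n) ↔ (i = qt n ∨ i = qt n + hf n) := by
        have h1 := two_mul_qt (n := n) P.n_two
        have h2 := hf_add_hf (n := n) P.n_pos
        constructor
        · rintro (h | h)
          · right; linear_combination h - h1 - h2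
          · left; linear_combination h - h1
        · rintro (h | h)
          · right; linear_combination h + h1
          · left; linear_combination h + h1 + h2
      rw [hB]
      rcases hA i hd with h | h
      · right
        exact ⟨h, fun h' => AB_disjoint P.n_two h h'⟩
      · left
        exact ⟨h, fun h' => AB_disjoint P.n_two h' h⟩
    · rw [P.SR_conj_SR, P.inT_SR_iff] at hb1
      have hd : 2 * (1 - qt n) * (i - 2 * k) = 0 ∨ 2 * (1 - qt n) * (i - 2 * k) = hf n := by
        have := one_sub_mm (n := n) P.n_two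
        rcases hb1 with h | h
        · left; linear_combination h - (i - 2 * k) * this
        · right; linear_combination h - (i - 2 * k) * this
      rw [P.SR_mul_R, P.inT_SR_iff, P.inT_SR_iff, mm_mul_qt P.hn]
      have hB : (i + -qt n = 2 * k ∨ i + -qt n = 2 * k + hf n) ↔
          (i - 2 * k = qt n ∨ i - 2 * k = qt n + hf n) := by
        constructor
        · rintro (h | h)
          · left; linear_combination h
          · right; linear_combination h
        · rintro (h | h)
          · left; linear_combination h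
          · right; linear_combination h
      have hA' : (i = 2 * k ∨ i = 2 * k + hf n) ↔ (i - 2 * k = 0 ∨ i - 2 * k = hf n) := by
        constructor
        · rintro (h | h)
          · left; linear_combination h
          · right; linear_combination h
        · rintro (h | h)
          · left; linear_combination h
          · right; linear_combination h
      rw [hB, hA']
      rcases hA _ hd with h | h
      · right
        exact ⟨h, fun h' => AB_disjoint P.n_two h h'⟩
      · left
        exact ⟨h, fun h' => AB_disjoint P.n_two h' h⟩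

end Pres

end Cfsg.Agent.Lib.H6.QD
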