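import Mathlib
import Cfsg.Agent.Lib.H6.QD2

/-! Four-subgroups of dihedral and quasi-dihedral groups are self-centralizing (helper6). -/

set_option autoImplicit false

namespace Cfsg.Agent.Lib.H6.FourSC

/-- every elementary abelian subgroup of order four contains its centralizer. -/
def FourSC (Q : Type*) [Group Q] : Prop :=
  ∀ V : Subgroup Q, Nat.card V = 4 → (∀ v ∈ V, v * v = 1) →
    ∀ g : Q, (∀ v ∈ V, g * v = v * g) → g ∈ V

theorem FourSC.of_equiv {Q Q' : Type*} [Group Q] [Group Q'] (e : Q ≃* Q') (h : FourSC Q') :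
    FourSC Q := by
  intro V hV hsq g hg
  have h1 := h (V.map e.toMonoidHom) ?_ ?_ (e g) ?_
  · rw [Subgroup.mem_map] at h1
    obtain ⟨v, hv, hve⟩ := h1
    have : v = g := e.injective hve
    rw [← this]; exact hv
  · rw [Subgroup.card_map_of_injective e.injective, hV]
  · intro v hv
    rw [Subgroup.mem_map] at hv
    obtain ⟨w, hw, rfl⟩ := hv
    show e w * e w = 1
    rw [← map_mul, hsq w hw, map_one]
  · intro v hv
    rw [Subgroup.mem_map] at hv
    obtain ⟨w, hw, rfl⟩ := hv
    show e g * e w = e w * e g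
    rw [← map_mul, ← map_mul, hg w hw]

theorem zmod_two_mul_eq_zero {m : ℕ} [NeZero m] {a b : ZMod m} (ha : 2 * a = 0) (hb : 2 * b = 0)
    (hb0 : b ≠ 0) : a = 0 ∨ a = b := by
  have key : ∀ c : ZMod m, 2 * c = 0 → c.val = 0 ∨ 2 * c.val = m := by
    intro c hc
    have h1 : ((2 * c.val : ℕ) : ZMod m) = 0 := by
      push_cast
      rw [ZMod.natCast_zmod_val]
      exact hc
    rw [ZMod.natCast_eq_zero_iff] at h1
    have h2 : c.val < m := ZMod.val_lt c
    obtain ⟨k, hk⟩ := h1
    have hk2 : k < 2 := by
      by_contra hcon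
      push Not at hcon
      have : m * 2 ≤ m * k := Nat.mul_le_mul_left m hcon
      omega
    interval_cases k
    · left; omega
    · right; omega
  rcases key a ha with h | h
  · left
    exact (ZMod.val_eq_zero a).mp h
  · right
    rcases key b hb with h' | h'
    · exact absurd ((ZMod.val_eq_zero b).mp h') hb0
    · apply ZMod.val_injective
      omega

open DihedralGroup in
theorem fourSC_dihedral {m : ℕ} [NeZero m] : FourSC (DihedralGroup m) := by
  intro V hV hsq g hg
  -- key claim
  have claim : ∃ h i : ZMod m, h ≠ 0 ∧ 2 * h = 0 ∧ r h ∈ V ∧ sr i ∈ V := by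
    have : Finite V := Nat.finite_of_card_ne_zero (by rw [hV]; norm_num)
    have h1 : ∃ a ∈ V, a ≠ 1 := by
      by_contra hcon
      push Not at hcon
      have : V = ⊥ := by
        rw [Subgroup.eq_bot_iff_forall]; exact hcon
      rw [this, Subgroup.card_bot] at hV
      norm_num at hV
    obtain ⟨a, haV, ha1⟩ := h1
    have h2 : ∃ b ∈ V, b ∉ Subgroup.zpowers a := by
      by_contra hcon
      push Not at hcon
      have hle : V ≤ Subgroup.zpowers a := hcon
      have hc := Subgroup.card_le_of_le hle
      rw [hV, Nat.card_zpowers] at hc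
      have : orderOf a ≤ 2 := by
        apply Nat.le_of_dvd (by norm_num)
        apply orderOf_dvd_of_pow_eq_one
        rw [pow_two]; exact hsq a haV
      omega
    obtain ⟨b, hbV, hba⟩ := h2
    have hb1 : b ≠ 1 := by
      rintro rfl; exact hba (one_mem _)
    have hbne : b ≠ a := by
      rintro rfl; exact hba (Subgroup.mem_zpowers _)
    have ha2 := hsq a haV
    have hb2 := hsq b hbV
    have hab2 := hsq (a * b) (V.mul_mem haV hbV)
    rcases a with k | k <;> rcases b with l | l
    · exfalso
      rw [r_mul_r, one_def, r.injEq] at ha2 hb2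
      have hk0 : k ≠ 0 := by
        rintro rfl; exact ha1 rfl
      have : l = 0 ∨ l = k := zmod_two_mul_eq_zero (by rw [two_mul]; exact hb2) (by rw [two_mul]; exact ha2) hk0
      rcases this with rfl | rfl
      · exact hb1 rfl
      · exact hbne rfl
    · rw [r_mul_r, one_def, r.injEq] at ha2
      refine ⟨k, l, ?_, by rw [two_mul]; exact ha2, haV, hbV⟩
      rintro rfl; exact ha1 rfl
    · rw [r_mul_r, one_def, r.injEq] at hb2
      refine ⟨l, k, ?_, by rw [two_mul]; exact hb2, hbV, haV⟩
      rintro rfl; exact hb1 rfl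
    · rw [sr_mul_sr, r_mul_r, one_def, r.injEq] at hab2
      refine ⟨l - k, k, ?_, by rw [two_mul]; exact hab2, ?_, haV⟩
      · intro h0
        apply hbne
        rw [sub_eq_zero] at h0
        rw [h0]
      · have := V.mul_mem haV hbV
        rwa [sr_mul_sr] at this
  obtain ⟨h, i, hh0, hh2, hrV, hsV⟩ := claim
  have c1 := hg _ hrV
  have c2 := hg _ hsV
  rcases g with k | k
  · rw [r_mul_sr, sr_mul_r, sr.injEq] at c2
    have : k = 0 ∨ k = h := zmod_two_mul_eq_zero (by linear_combination (-1 : ZMod m) * c2) hh2 hh0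
    rcases this with rfl | rfl
    · exact V.one_mem
    · exact hrV
  · rw [sr_mul_sr, sr_mul_sr, r.injEq] at c2
    have : k - i = 0 ∨ k - i = h := zmod_two_mul_eq_zero (by linear_combination (-1 : ZMod m) * c2) hh2 hh0
    rcases this with h3 | h3
    · rw [sub_eq_zero] at h3
      rw [h3]; exact hsV
    · have : sr k = sr i * r h := by
        rw [sr_mul_r, ← h3]; congr 1; ring
      rw [this]
      exact V.mul_mem hsV hrV

theorem fourSC_quasiDihedral {Q : Type*} [Group Q] [Finite Q] (hQ : Cfsg.IsQuasiDihedral Q) :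
    FourSC Q := by
  obtain ⟨n, ⟨P⟩⟩ := QD.exists_pres hQ
  intro V hV hsq g hg
  have hK : IsKleinFour V := by
    refine ⟨hV, ?_⟩
    have h1 : Monoid.exponent V ∣ 2 := by
      apply Monoid.exponent_dvd_of_forall_pow_eq_one
      intro v
      apply Subtype.ext
      rw [pow_two]
      exact hsq v v.2
    have h2 : Monoid.exponent V ≠ 1 := by
      intro h
      rw [Monoid.exp_eq_one_iff] at h
      have := Nat.card_unique (α := V)
      omega
    rcases (Nat.dvd_prime Nat.prime_two).mp h1 with h | h
    · exact absurd h h2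
    · exact h
  have := P.kleinFour_centralizer V hK
  rw [← this, Subgroup.mem_centralizer_iff]
  intro v hv
  exact (hg v hv).symm

end Cfsg.Agent.Lib.H6.FourSC
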