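/-
S5662 project (Aschbacher's theorem, symplectic case), tool **ST8**:
a subgroup `H` of the isometry group of a symplectic form `f` normalising an absolutely
irreducible subgroup `N` that fixes a non-degenerate quadratic form `Q` lies in the
similarity group of a quadratic form polarising to `f`, and `q` is even (class 8).
-/
import Mathlib
import Cfsg.Agent.Lib.H11.AschSDefs
import Cfsg.Agent.Lib.H6.AschU3b

set_option autoImplicit false
set_option linter.unusedSectionVars false
set_option linter.unusedVariables false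

namespace Cfsg.Agent.Lib.H6.AschS

open Cfsg Cfsg.Geo Cfsg.Agent.Lib.Lead.Asch Cfsg.Agent.Lib.H11.AschS Cfsg.Agent.Lib.H6.Asch
open scoped MatrixGroups Matrix Kronecker

variable {F : Type*} [Field F] [Fintype F] {n : ℕ} {f : (Fin n → F) → (Fin n → F) → F}

/-- two invariant non-degenerate bilinear forms of an absolutely irreducible group are
proportional -/
theorem prop_of_fixes (N : Subgroup (GL (Fin n) F))
    (habs : ActsAbsolutelyIrreducibly (matrixSet N))
    (f g : (Fin n → F) → (Fin n → F) → F) (hf : IsBilinearForm f) (hg : IsBilinearForm g)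
    (hfnd : IsNondegenerateForm f) (hfixf : FixesForm (matrixSet N) f)
    (hfixg : FixesForm (matrixSet N) g) : ∃ c : F, ∀ u v, g u v = c * f u v := by
  obtain ⟨B, hB⟩ := exists_rep_of_bilinear f hf
  obtain ⟨C, hC⟩ := exists_rep_of_bilinear g hg
  have hBdet := hB.isUnit_det hfnd
  have hfixB : ∀ s ∈ matrixSet N, sᵀ * B * s.map (RingHom.id F) = B := by
    intro s hs
    have := hB.matrix_eq s 1 (fun u v => by rw [hfixf s hs, one_mul])
    rw [one_smul] at this
    exact this
  have hfixC : ∀ s ∈ matrixSet N, sᵀ * C * s.map (RingHom.id F) = C := by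
    intro s hs
    have := hC.matrix_eq s 1 (fun u v => by rw [hfixg s hs, one_mul])
    rw [one_smul] at this
    exact this
  obtain ⟨c, hc⟩ := core (RingHom.id F) (matrixSet N) habs.2 (isUnit_det_of_mem_matrixSet N) B C
    hBdet hfixB hfixC
  refine ⟨c, fun u v => ?_⟩
  rw [hC, hB, hc, Matrix.smul_mulVec, dotProduct_smul, smul_eq_mul]

/-- **ST8** -/
theorem sc8_of_fixes_quad (hf : IsSymplecticForm f) (hn : 2 ≤ n)
    (H N : Subgroup (GL (Fin n) F)) (hH : FixesForm (matrixSet H) f) (hNH : N ≤ H)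
    (hnorm : NormalizedBy H N) (habs : ActsAbsolutelyIrreducibly (matrixSet N))
    (Q : (Fin n → F) → F) (hQ : IsNondegenerateQuadraticForm Q)
    (hfix : FixesQuadForm (matrixSet N) Q) : SC8 f H := by
  have hfixf : FixesForm (matrixSet N) f := by
    rintro _ ⟨x, hx, rfl⟩ u v
    exact hH _ ⟨x, hNH hx, rfl⟩ u v
  have hfixp := fixesForm_polar (matrixSet N) Q hfix
  obtain ⟨c, hc⟩ := prop_of_fixes N habs f (QuadraticMap.polar Q) hf.bilinear hQ.polar_bilinear
    hf.nondegenerate hfixf hfixp
  -- a non-zero vector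
  have hn0 : 0 < n := by omega
  let v₀ : Fin n → F := Pi.single ⟨0, hn0⟩ 1
  have hv₀ : v₀ ≠ 0 := by
    intro h0
    have := congrFun h0 ⟨0, hn0⟩
    simp [v₀] at this
  have hc0 : c ≠ 0 := by
    rintro rfl
    obtain ⟨x, hx⟩ := (hQ.nondegenerate v₀ hv₀).1
    apply hx
    rw [hc, zero_mul]
  have h2 : (2 : F) = 0 := by
    obtain ⟨x, hx⟩ := (hf.nondegenerate v₀ hv₀).1
    have h1 : c * f x v₀ = c * f v₀ x := by
      rw [← hc, ← hc, QuadraticMap.polar_comm]
    rw [hf.skew v₀ x] at h1
    have h3 : (2 : F) * (c * f x v₀) = 0 := by linear_combination h1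
    rcases mul_eq_zero.1 h3 with h4 | h4
    · exact h4
    · exact absurd h4 (mul_ne_zero hc0 hx)
  have hnodd : ¬ Odd (Fintype.card F) := by
    have hch : ringChar F = 2 :=
      CharP.ringChar_of_prime_eq_zero Nat.prime_two (by exact_mod_cast h2)
    have := (FiniteField.even_card_iff_char_two (F := F)).1 hch
    rw [Nat.not_odd_iff_even]
    exact Nat.even_iff.2 this
  -- the rescaled quadratic form
  let Q' : (Fin n → F) → F := fun v => c⁻¹ * Q v
  have hpolar : ∀ u v, QuadraticMap.polar Q' u v = f u v := by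
    intro u v
    have : QuadraticMap.polar Q' u v = c⁻¹ * QuadraticMap.polar Q u v := by
      simp only [QuadraticMap.polar, Q']
      ring
    rw [this, hc, ← mul_assoc, inv_mul_cancel₀ hc0, one_mul]
  have hpolar' : QuadraticMap.polar Q' = f := by
    funext u v
    exact hpolar u v
  have hQ' : IsNondegenerateQuadraticForm Q' := by
    refine ⟨fun a v => ?_, ?_, ?_⟩
    · show c⁻¹ * Q (a • v) = a ^ 2 * (c⁻¹ * Q v)
      rw [hQ.smul]
      ring
    · rw [hpolar']
      exact hf.bilinear
    · rw [hpolar']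
      exact hf.nondegenerate
  have hfixQ' : FixesQuadForm (matrixSet N) Q' := by
    intro s hs v
    show c⁻¹ * Q (s *ᵥ v) = c⁻¹ * Q v
    rw [hfix s hs]
  refine ⟨Q', hnodd, hQ', hpolar, ?_⟩
  intro h hh
  refine ⟨1, fun v => ?_⟩
  rw [Units.val_one, one_mul]
  -- the difference
  set hm : Matrix (Fin n) (Fin n) F := (h : Matrix (Fin n) (Fin n) F) with hhm
  have hfh : ∀ u v, f (hm *ᵥ u) (hm *ᵥ v) = f u v := fun u v => hH hm ⟨h, hh, rfl⟩ u v
  let d : (Fin n → F) → F := fun v => Q' (hm *ᵥ v) - Q' v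
  have hdadd : ∀ u v, d (u + v) = d u + d v := by
    intro u v
    have h1 := hpolar (hm *ᵥ u) (hm *ᵥ v)
    have h3 := hpolar u v
    rw [hfh] at h1
    simp only [QuadraticMap.polar] at h1 h3
    show Q' (hm *ᵥ (u + v)) - Q' (u + v) = (Q' (hm *ᵥ u) - Q' u) + (Q' (hm *ᵥ v) - Q' v)
    rw [Matrix.mulVec_add]
    linear_combination h1 - h3
  have hdsmul : ∀ (a : F) v, d (a • v) = a ^ 2 * d v := by
    intro a v
    show Q' (hm *ᵥ (a • v)) - Q' (a • v) = a ^ 2 * (Q' (hm *ᵥ v) - Q' v)
    rw [Matrix.mulVec_smul, hQ'.smul, hQ'.smul]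
    ring
  have hd0 : d 0 = 0 := by
    have := hdadd 0 0
    rw [add_zero] at this
    have h4 : d 0 + d 0 = d 0 + 0 := by rw [add_zero]; exact this.symm
    exact add_left_cancel h4
  have hdN : ∀ x ∈ N, ∀ v, d ((x : Matrix (Fin n) (Fin n) F) *ᵥ v) = d v := by
    intro x hx v
    have hx' := hnorm h hh x hx
    have e : hm * (x : Matrix (Fin n) (Fin n) F) =
        ((h * x * h⁻¹ : GL (Fin n) F) : Matrix (Fin n) (Fin n) F) * hm := by
      rw [hhm, ← Units.val_mul, ← Units.val_mul]
      congr 1
      group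
    show Q' (hm *ᵥ ((x : Matrix (Fin n) (Fin n) F) *ᵥ v)) - Q' ((x : Matrix (Fin n) (Fin n) F) *ᵥ v)
      = Q' (hm *ᵥ v) - Q' v
    rw [Matrix.mulVec_mulVec, e, ← Matrix.mulVec_mulVec, hfixQ' _ ⟨h * x * h⁻¹, hx', rfl⟩,
      hfixQ' _ ⟨x, hx, rfl⟩]
  let W : Submodule F (Fin n → F) :=
    { carrier := {v | d v = 0}
      add_mem' := by
        intro u v hu hv
        show d (u + v) = 0
        have hu' : d u = 0 := hu
        have hv' : d v = 0 := hv
        rw [hdadd, hu', hv', add_zero]
      zero_mem' := hd0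
      smul_mem' := by
        intro a v hv
        show d (a • v) = 0
        have hv' : d v = 0 := hv
        rw [hdsmul, hv', mul_zero] }
  have hWinv : ∀ s ∈ matrixSet N, W.map (Matrix.toLin' s) ≤ W := by
    rintro _ ⟨x, hx, rfl⟩
    rintro _ ⟨v, hv, rfl⟩
    have hv' : d v = 0 := hv
    show d (Matrix.toLin' (x : Matrix (Fin n) (Fin n) F) v) = 0
    rw [Matrix.toLin'_apply, hdN x hx, hv']
  rcases habs.1 W hWinv with hW | hW
  · exfalso
    let q : (Fin n → F) →+ F :=
      { toFun := d
        map_zero' := hd0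
        map_add' := hdadd }
    have hinj : Function.Injective q := by
      rw [injective_iff_map_eq_zero]
      intro v hv
      have : v ∈ W := hv
      rw [hW] at this
      exact (Submodule.mem_bot F).1 this
    have hcard := Fintype.card_le_of_injective q hinj
    rw [Fintype.card_fun, Fintype.card_fin] at hcard
    have h1 : 1 < Fintype.card F := Fintype.one_lt_card
    have h3 : Fintype.card F ^ 1 < Fintype.card F ^ n :=
      Nat.pow_lt_pow_right h1 (by omega)
    rw [pow_one] at h3
    omega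
  · have : v ∈ W := by rw [hW]; trivial
    have hv' : d v = 0 := this
    exact sub_eq_zero.1 hv'

end Cfsg.Agent.Lib.H6.AschS
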