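import Mathlib
import Cfsg.Agent.Lib.H8.BQ0
import Cfsg.Agent.Lib.H21.BFG7

/-!
# S4719 Part II piece G7 `eq_of_central_sylow` (helper6, twin): exact signature of
`tools/blueprints/S4719_Q_sigs.lean`, on helper21's core `H21.BF.exists_char_complement_of_central_sylow`.
-/

set_option autoImplicit false

universe u

namespace Cfsg.Agent.Lib.H6.BQ

open Subgroup Cfsg.Agent.Lib.H8.BQ

/-- conjugation by an element normalizing `X` preserves (the image of) a characteristic subgroup of `X` -/
theorem conj_mem_map_of_characteristic {Γ : Type u} [Group Γ] (X : Subgroup Γ) (K : Subgroup X)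
    (hK : K.Characteristic) {g : Γ} (hg : g ∈ normalizer (X : Set Γ)) {y : Γ}
    (hy : y ∈ K.map X.subtype) : g * y * g⁻¹ ∈ K.map X.subtype := by
  obtain ⟨k, hk, rfl⟩ := hy
  have h1 : X.normalizerMonoidHom ⟨g, hg⟩ k ∈ K :=
    (characteristic_iff_map_le.mp hK (X.normalizerMonoidHom ⟨g, hg⟩)) ⟨k, hk, rfl⟩
  exact ⟨_, h1, rfl⟩

theorem normalizer_le_normalizer_map_of_characteristic {Γ : Type u} [Group Γ] (X : Subgroup Γ)
    (K : Subgroup X) (hK : K.Characteristic) :
    normalizer (X : Set Γ) ≤ normalizer ((K.map X.subtype : Subgroup Γ) : Set Γ) := by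
  intro g hg
  rw [mem_normalizer_iff]
  intro h
  constructor
  · intro hh
    exact conj_mem_map_of_characteristic X K hK hg hh
  · intro hh
    have := conj_mem_map_of_characteristic X K hK (Subgroup.inv_mem _ hg) hh
    have e : g⁻¹ * (g * h * g⁻¹) * g⁻¹⁻¹ = h := by group
    rwa [e] at this

/-- G7. A `G ⊔ V`-invariant subgroup `X ≤ G` with a CENTRAL Sylow 2-subgroup `T` is a 2-group when `O(G) = 1`. -/
theorem eq_of_central_sylow {Γ : Type u} [Group Γ] [Finite Γ] (G V X T : Subgroup Γ)
    (hfree : OddFree G V) (hXG : X ≤ G) (hGX : G ≤ normalizer (X : Set Γ))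
    (hVX : V ≤ normalizer (X : Set Γ)) (hTX : T ≤ X) (hT : IsPGroup 2 T)
    (hidx : ¬ 2 ∣ Nat.card X / Nat.card T) (hTc : T ≤ centralizer (X : Set Γ)) :
    X = T := by
  have : Fact (Nat.Prime 2) := ⟨Nat.prime_two⟩
  set T' : Subgroup X := T.subgroupOf X with hT'
  have hT'p : IsPGroup 2 T' := hT.comap_subtype
  have hT'card : Nat.card T' = Nat.card T :=
    Nat.card_congr (Subgroup.subgroupOfEquivOfLe hTX).toEquiv
  have hT'idx : ¬ 2 ∣ T'.index := by
    have h1 := T'.card_mul_index
    have h2 : T'.index = Nat.card X / Nat.card T := by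
      rw [← h1, hT'card, Nat.mul_div_cancel_left _ Nat.card_pos]
    rwa [h2]
  let S : Sylow 2 X := hT'p.toSylow hT'idx
  have hS : (S : Subgroup X) = T' := IsPGroup.toSylow_coe _ _
  have hSc : (S : Subgroup X) ≤ center X := by
    rw [hS]
    intro t ht
    rw [mem_center_iff]
    intro x
    have htT : (t : Γ) ∈ T := mem_subgroupOf.mp ht
    have := mem_centralizer_iff.mp (hTc htT) (x : Γ) x.2
    exact Subtype.ext this
  obtain ⟨K, hKc, hcomp, hcop⟩ :=
    Cfsg.Agent.Lib.H21.BF.exists_char_complement_of_central_sylow S hSc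
  set Y : Subgroup Γ := K.map X.subtype with hY
  have hYX : Y ≤ X := map_subtype_le K
  have hYodd : Odd (Nat.card Y) := by
    rw [hY, card_map_of_injective X.subtype_injective]
    exact Nat.coprime_two_right.mp hcop
  have hnorm : normalizer (X : Set Γ) ≤ normalizer (Y : Set Γ) :=
    normalizer_le_normalizer_map_of_characteristic X K hKc
  have hYbot : Y = ⊥ := hfree Y (hYX.trans hXG) hYodd (hGX.trans hnorm) (hVX.trans hnorm)
  have hKbot : K = ⊥ := (map_eq_bot_iff_of_injective _ X.subtype_injective).mp hYbot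
  rw [hKbot, isComplement'_bot_left] at hcomp
  apply le_antisymm _ hTX
  intro x hx
  have hxS : (⟨x, hx⟩ : X) ∈ (S : Subgroup X) := by rw [hcomp]; exact mem_top _
  rw [hS] at hxS
  exact mem_subgroupOf.mp hxS

end Cfsg.Agent.Lib.H6.BQ
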