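import Cfsg.Agent.Lib.H13.PlusLevi

/-!
# The Siegel parabolic of `O⁺_{2n}(F)`, on `Cfsg.quadFormPlus n F` (helper6, for S2345)

`uO S = [[1, S], [0, 1]]` (`S` alternating), `levO A = diag (A, A⁻ᵀ)`, the relation
`levO A * uO S * (levO A)⁻¹ = uO (A * S * Aᵀ)`, and membership in `Ω = Cfsg.Omega F (Cfsg.quadFormPlus n F)`:
`uO S ∈ Ω` for `|F| > 3`, `levO A ∈ Ω` for `det A = 1` (`n ≥ 3`).
-/

set_option autoImplicit false

namespace Cfsg.Agent.Lib.H6.OPSiegel

open Matrix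
open Cfsg.Agent.Lib.H11.IsoReindex Cfsg.Agent.Lib.H13.PlusLevi

variable {F : Type*} [Field F] {n : ℕ}

/-- the index type of `quadFormPlus n` -/
abbrev I (n : ℕ) : Type := Fin n ⊕ Fin n

/-- the isometry group of `quadFormPlus n F` -/
abbrev OG (n : ℕ) (F : Type*) [Field F] : Type _ := ↥(Cfsg.isometryGroup F (Cfsg.quadFormPlus n F))

/-- alternating matrices -/
def IsAlt (S : Matrix (Fin n) (Fin n) F) : Prop := Sᵀ = -S ∧ ∀ i, S i i = 0

theorem isAlt_zero : IsAlt (0 : Matrix (Fin n) (Fin n) F) := ⟨by simp, fun _ => rfl⟩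

theorem IsAlt.add {S S' : Matrix (Fin n) (Fin n) F} (hS : IsAlt S) (hS' : IsAlt S') : IsAlt (S + S') :=
  ⟨by rw [transpose_add, hS.1, hS'.1, neg_add], fun i => by rw [Matrix.add_apply, hS.2, hS'.2, add_zero]⟩

theorem IsAlt.neg {S : Matrix (Fin n) (Fin n) F} (hS : IsAlt S) : IsAlt (-S) :=
  ⟨by rw [transpose_neg, hS.1], fun i => by rw [Matrix.neg_apply, hS.2, neg_zero]⟩

theorem IsAlt.smul {S : Matrix (Fin n) (Fin n) F} (hS : IsAlt S) (c : F) : IsAlt (c • S) :=
  ⟨by rw [transpose_smul, hS.1, smul_neg], fun i => by rw [Matrix.smul_apply, hS.2, smul_zero]⟩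

theorem IsAlt.apply_swap {S : Matrix (Fin n) (Fin n) F} (hS : IsAlt S) (i j : Fin n) : S j i = -S i j := by
  have := congrFun (congrFun hS.1 i) j
  simpa using this

/-- `xᵀ S x = 0` for alternating `S` -/
theorem IsAlt.dot_self {S : Matrix (Fin n) (Fin n) F} (hS : IsAlt S) (x : Fin n → F) :
    x ⬝ᵥ S *ᵥ x = 0 := by
  have h1 : x ⬝ᵥ S *ᵥ x = ∑ p ∈ (Finset.univ : Finset (Fin n × Fin n)), x p.1 * S p.1 p.2 * x p.2 := by
    rw [← Finset.univ_product_univ, Finset.sum_product]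
    simp only [dotProduct, mulVec, Finset.mul_sum, mul_assoc]
  rw [h1]
  refine Finset.sum_involution (fun p _ => Prod.swap p) ?_ ?_ ?_ ?_
  · intro p _
    simp only [Prod.fst_swap, Prod.snd_swap]
    rw [hS.apply_swap p.1 p.2]
    ring
  · intro p _ hp hswap
    apply hp
    have : p.2 = p.1 := congrArg Prod.fst hswap
    rw [this, hS.2, mul_zero, zero_mul]
  · intro p _
    exact Finset.mem_univ _
  · intro p _
    exact Prod.swap_swap p

/-- congruence preserves alternating matrices -/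
theorem IsAlt.conj {S : Matrix (Fin n) (Fin n) F} (hS : IsAlt S) (A : Matrix (Fin n) (Fin n) F) :
    IsAlt (A * S * Aᵀ) := by
  refine ⟨?_, fun i => ?_⟩
  · rw [transpose_mul, transpose_mul, transpose_transpose, hS.1, Matrix.neg_mul, Matrix.mul_neg, Matrix.mul_assoc]
  · have : (A * S * Aᵀ) i i = (fun j => A i j) ⬝ᵥ S *ᵥ (fun j => A i j) := by
      rw [Matrix.mul_assoc, Matrix.mul_apply]
      simp only [dotProduct, mulVec, Matrix.mul_apply, transpose_apply]
    rw [this, hS.dot_self]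

/-! ## the radical -/

/-- `[[1, S], [0, 1]]` -/
def uM (S : Matrix (Fin n) (Fin n) F) : Matrix (I n) (I n) F := fromBlocks 1 S 0 1

theorem uM_mul (S S' : Matrix (Fin n) (Fin n) F) : uM S * uM S' = uM (S + S') := by
  unfold uM
  rw [fromBlocks_multiply]
  simp [add_comm]

theorem uM_zero : uM (0 : Matrix (Fin n) (Fin n) F) = 1 := by
  unfold uM
  exact fromBlocks_one

theorem uM_mulVec (S : Matrix (Fin n) (Fin n) F) (x : I n → F) :
    uM S *ᵥ x = Sum.elim (x ∘ Sum.inl + S *ᵥ (x ∘ Sum.inr)) (x ∘ Sum.inr) := by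
  unfold uM
  rw [fromBlocks_mulVec]
  simp

theorem uM_injective : Function.Injective (uM : Matrix (Fin n) (Fin n) F → _) := by
  intro S S' h
  unfold uM at h
  exact (fromBlocks_inj.1 h).2.1

theorem Q_eq_dot (x : I n → F) :
    Cfsg.quadFormPlus n F x = (x ∘ Sum.inl) ⬝ᵥ (x ∘ Sum.inr) := rfl

theorem uM_isometry {S : Matrix (Fin n) (Fin n) F} (hS : IsAlt S) (x : I n → F) :
    Cfsg.quadFormPlus n F (uM S *ᵥ x) = Cfsg.quadFormPlus n F x := by
  rw [Q_eq_dot, Q_eq_dot, uM_mulVec]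
  have h1 : (Sum.elim (x ∘ Sum.inl + S *ᵥ (x ∘ Sum.inr)) (x ∘ Sum.inr)) ∘ Sum.inl =
      x ∘ Sum.inl + S *ᵥ (x ∘ Sum.inr) := rfl
  have h2 : (Sum.elim (x ∘ Sum.inl + S *ᵥ (x ∘ Sum.inr)) (x ∘ Sum.inr)) ∘ Sum.inr = x ∘ Sum.inr := rfl
  rw [h1, h2, add_dotProduct, dotProduct_comm (S *ᵥ (x ∘ Sum.inr)), hS.dot_self, add_zero]

/-- `uO S = [[1, S], [0, 1]]` as an isometry -/
def uO (S : Matrix (Fin n) (Fin n) F) (hS : IsAlt S) : OG n F :=
  ⟨⟨uM S, uM (-S), by rw [uM_mul, add_neg_cancel, uM_zero], by rw [uM_mul, neg_add_cancel, uM_zero]⟩,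
    (mem_iso_iff' _ _).2 (fun x => uM_isometry hS x)⟩

@[simp] theorem uO_val (S : Matrix (Fin n) (Fin n) F) (hS : IsAlt S) :
    (((uO S hS : OG n F) : GL (I n) F) : Matrix (I n) (I n) F) = uM S := rfl

/-- two isometries with the same matrix are equal -/
theorem OG_ext {g h : OG n F}
    (H : ((g : GL (I n) F) : Matrix (I n) (I n) F) = ((h : GL (I n) F) : Matrix (I n) (I n) F)) : g = h :=
  Subtype.ext (Units.ext H)

theorem uO_mul (S S' : Matrix (Fin n) (Fin n) F) (hS : IsAlt S) (hS' : IsAlt S') :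
    uO S hS * uO S' hS' = uO (S + S') (hS.add hS') :=
  OG_ext (uM_mul S S')

theorem uO_zero : uO (0 : Matrix (Fin n) (Fin n) F) isAlt_zero = 1 :=
  OG_ext uM_zero

theorem uO_inv (S : Matrix (Fin n) (Fin n) F) (hS : IsAlt S) : (uO S hS)⁻¹ = uO (-S) hS.neg := by
  rw [inv_eq_iff_mul_eq_one, uO_mul]
  apply OG_ext
  show uM (S + -S) = 1
  rw [add_neg_cancel, uM_zero]

theorem uO_congr {S S' : Matrix (Fin n) (Fin n) F} (h : S = S') (hS : IsAlt S) :
    uO S hS = uO S' (h ▸ hS) := by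
  subst h; rfl

theorem uO_injective {S S' : Matrix (Fin n) (Fin n) F} (hS : IsAlt S) (hS' : IsAlt S')
    (h : uO S hS = uO S' hS') : S = S' := by
  have := congrArg (fun g : OG n F => ((g : GL (I n) F) : Matrix (I n) (I n) F)) h
  exact uM_injective this

/-! ## the Levi complement -/

/-- `levO A = diag (A, A⁻ᵀ)` as an isometry -/
noncomputable def levO : GL (Fin n) F →* OG n F where
  toFun A := ⟨⟨leviM A, leviM A⁻¹, by rw [← leviM_mul, mul_inv_cancel, leviM_one],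
    by rw [← leviM_mul, inv_mul_cancel, leviM_one]⟩,
    (mem_iso_iff' _ _).2 (fun x => leviM_isometry A x)⟩
  map_one' := OG_ext leviM_one
  map_mul' A B := OG_ext (leviM_mul A B)

@[simp] theorem levO_val (A : GL (Fin n) F) :
    (((levO A : OG n F) : GL (I n) F) : Matrix (I n) (I n) F) =
      fromBlocks (A : Matrix (Fin n) (Fin n) F) 0 0
        ((A⁻¹ : GL (Fin n) F) : Matrix (Fin n) (Fin n) F)ᵀ := rfl

/-- the Levi complement normalises the radical -/
theorem lev_conj (A : GL (Fin n) F) (S : Matrix (Fin n) (Fin n) F) (hS : IsAlt S) :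
    levO A * uO S hS * (levO A)⁻¹ =
      uO ((A : Matrix (Fin n) (Fin n) F) * S * (A : Matrix (Fin n) (Fin n) F)ᵀ) (hS.conj _) := by
  rw [mul_inv_eq_iff_eq_mul]
  apply OG_ext
  show fromBlocks (A : Matrix (Fin n) (Fin n) F) 0 0
        ((A⁻¹ : GL (Fin n) F) : Matrix (Fin n) (Fin n) F)ᵀ * fromBlocks 1 S 0 1 =
      fromBlocks 1 ((A : Matrix (Fin n) (Fin n) F) * S * (A : Matrix (Fin n) (Fin n) F)ᵀ) 0 1 *
        fromBlocks (A : Matrix (Fin n) (Fin n) F) 0 0
        ((A⁻¹ : GL (Fin n) F) : Matrix (Fin n) (Fin n) F)ᵀ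
  rw [fromBlocks_multiply, fromBlocks_multiply]
  have h1 : (A : Matrix (Fin n) (Fin n) F)ᵀ * ((A⁻¹ : GL (Fin n) F) : Matrix (Fin n) (Fin n) F)ᵀ = 1 := by
    rw [← transpose_mul, ← Units.val_mul, inv_mul_cancel, Units.val_one, transpose_one]
  congr 1
  · simp
  · simp only [Matrix.mul_one, Matrix.mul_zero, zero_add, Matrix.one_mul, add_zero]
    rw [Matrix.mul_assoc, Matrix.mul_assoc, h1, Matrix.mul_one]
  · simp
  · simp

/-! ## membership in `Ω` -/

theorem commElem_mem (g h : OG n F) :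
    g * h * g⁻¹ * h⁻¹ ∈ Cfsg.Omega F (Cfsg.quadFormPlus n F) := by
  show g * h * g⁻¹ * h⁻¹ ∈ commutator _
  rw [commutator_def]
  exact Subgroup.commutator_mem_commutator (Subgroup.mem_top g) (Subgroup.mem_top h)

/-- a scalar `a ≠ 0` with `a ^ 2 ≠ 1` in a field with more than three elements -/
theorem exists_sq_ne_one [Fintype F] (h3 : 3 < Fintype.card F) : ∃ a : F, a ≠ 0 ∧ a ^ 2 ≠ 1 := by
  classical
  obtain ⟨a, ha⟩ : ∃ a : F, a ∉ ({0, 1, -1} : Finset F) := by
    by_contra hcon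
    push Not at hcon
    have : Fintype.card F ≤ ({0, 1, -1} : Finset F).card := by
      rw [← Finset.card_univ]
      exact Finset.card_le_card (fun x _ => hcon x)
    have h2 : ({0, 1, -1} : Finset F).card ≤ 3 := Finset.card_le_three
    omega
  simp only [Finset.mem_insert, Finset.mem_singleton, not_or] at ha
  refine ⟨a, ha.1, fun h => ?_⟩
  have : (a - 1) * (a + 1) = 0 := by linear_combination h
  rcases mul_eq_zero.1 this with h | h
  · exact ha.2.1 (sub_eq_zero.1 h)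
  · exact ha.2.2 (eq_neg_of_add_eq_zero_left h)

/-- the scalar matrix `a • 1` in `GL` -/
def scalarGL (a : F) (ha : a ≠ 0) : GL (Fin n) F :=
  ⟨a • 1, a⁻¹ • 1, by rw [smul_mul_smul_comm, mul_inv_cancel₀ ha, Matrix.one_mul, one_smul],
    by rw [smul_mul_smul_comm, inv_mul_cancel₀ ha, Matrix.one_mul, one_smul]⟩

/-- the radical lies in `Ω` when `|F| > 3` -/
theorem uO_mem_Omega [Fintype F] (h3 : 3 < Fintype.card F) (S : Matrix (Fin n) (Fin n) F)
    (hS : IsAlt S) : uO S hS ∈ Cfsg.Omega F (Cfsg.quadFormPlus n F) := by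
  obtain ⟨a, ha0, ha1⟩ := exists_sq_ne_one h3
  have hb : a ^ 2 - 1 ≠ 0 := sub_ne_zero.2 ha1
  set S' := (a ^ 2 - 1)⁻¹ • S with hS'def
  have hS' : IsAlt S' := hS.smul _
  have key : levO (scalarGL a ha0) * uO S' hS' * (levO (scalarGL a ha0))⁻¹ * (uO S' hS')⁻¹ = uO S hS := by
    rw [lev_conj, uO_inv, uO_mul]
    apply OG_ext
    show uM _ = uM S
    congr 1
    show (a • (1 : Matrix (Fin n) (Fin n) F)) * S' * (a • (1 : Matrix (Fin n) (Fin n) F))ᵀ + -S' = S
    rw [transpose_smul, transpose_one, Matrix.smul_mul, Matrix.one_mul, Matrix.mul_smul, Matrix.mul_one,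
      smul_smul, hS'def, smul_smul, ← sub_eq_add_neg, ← sub_smul]
    have : a * a * (a ^ 2 - 1)⁻¹ - (a ^ 2 - 1)⁻¹ = 1 := by
      field_simp
    rw [this, one_smul]
  rw [← key]
  exact commElem_mem _ _

/-- `levO A ∈ Ω` for `A` in the commutator subgroup of `GL` -/
theorem levO_mem_of_comm (A : GL (Fin n) F) (hA : A ∈ commutator (GL (Fin n) F)) :
    levO A ∈ Cfsg.Omega F (Cfsg.quadFormPlus n F) := by
  have h2 := Subgroup.mem_map_of_mem (levO : GL (Fin n) F →* OG n F) hA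
  rw [commutator_def, Subgroup.map_commutator] at h2
  show levO A ∈ commutator _
  rw [commutator_def]
  exact Subgroup.commutator_mono le_top le_top h2

/-- `levO A ∈ Ω` for `det A = 1`, `n ≥ 3` -/
theorem levO_mem_of_det_one (hn : 3 ≤ n) (A : GL (Fin n) F)
    (hA : Matrix.GeneralLinearGroup.det A = 1) :
    levO A ∈ Cfsg.Omega F (Cfsg.quadFormPlus n F) := by
  classical
  apply levO_mem_of_comm
  rw [Cfsg.Agent.Lib.H2.commutator_GL_eq_ker_det_of_three_le (by simpa using hn)]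
  exact hA

end Cfsg.Agent.Lib.H6.OPSiegel
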