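import Mathlib
import Cfsg.Prelude.Def_OddOrderLocal
import Cfsg.Prelude.Def_CaseTheorems
import Cfsg.Prelude.Def_PLocal
import Cfsg.Agent.Lib.H19.R2Defs
import Cfsg.Agent.Lib.H16.Metacyclic
import Cfsg.Agent.Lib.H1.NilpotentBasic

/-!
# S3888 piece BL: Blackburn's lemma by induction from the one-step version

`K ⊴ H`, `K ≤ ℧₁(H')γ₃(H)`, `H / K` metacyclic ⇒ `H` metacyclic, by induction on `|K|`: a nontrivial `K`
contains a central subgroup `L₀` of order `p`; pass to `H / L₀` (third isomorphism theorem) and use the step.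
-/

set_option autoImplicit false
set_option linter.unusedVariables false

namespace Cfsg.Agent.Lib.H6.R2

open Cfsg Cfsg.Agent.Lib.H19.R2
open scoped commutatorElement

universe u

variable {p : ℕ} [Fact p.Prime] {G : Type u} [Group G] [Finite G]

/-- the induction behind Blackburn's lemma -/
theorem bl_aux
    (step : ∀ (H : Type u) [Group H] [Finite H], IsPGroup p H → ∀ (L₀ : Subgroup H) [L₀.Normal],
      Nat.card L₀ = p → L₀ ≤ LB p H → Cfsg.IsMetacyclic (H ⧸ L₀) → Cfsg.IsMetacyclic H) :
    ∀ (n : ℕ) (H : Type u) [Group H] [Finite H], IsPGroup p H → ∀ (K : Subgroup H) [K.Normal],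
      Nat.card K = n → K ≤ LB p H → Cfsg.IsMetacyclic (H ⧸ K) → Cfsg.IsMetacyclic H := by
  have hp : p.Prime := Fact.out
  intro n
  induction n using Nat.strong_induction_on with
  | _ n ih =>
    intro H _ _ hH K _ hcard hle hq
    by_cases hK : K = ⊥
    · subst hK
      exact Cfsg.Agent.Lib.H16.Meta.isMetacyclic_of_mulEquiv hq QuotientGroup.quotientBot
    · have : Group.IsNilpotent H := hH.isNilpotent
      have hne := Cfsg.Agent.Lib.H1.normal_inf_center_ne_bot K hK
      have hpz : IsPGroup p ↥(K ⊓ Subgroup.center H) := hH.to_subgroup _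
      have hdvd : p ∣ Nat.card ↥(K ⊓ Subgroup.center H) := by
        rcases hpz.card_eq_or_dvd with h1 | h1
        · exact absurd (Subgroup.card_eq_one.mp h1) hne
        · exact h1
      obtain ⟨z, hz⟩ := exists_prime_orderOf_dvd_card' p hdvd
      have hzK : (z : H) ∈ K := z.2.1
      have hzc : (z : H) ∈ Subgroup.center H := z.2.2
      have hzo : orderOf (z : H) = p := by rw [Subgroup.orderOf_coe, hz]
      have hz1 : (z : H) ≠ 1 := by
        intro h1
        rw [h1, orderOf_one] at hzo
        exact hp.one_lt.ne hzo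
      set L₀ : Subgroup H := Subgroup.zpowers (z : H) with hL₀
      have hL₀c : L₀ ≤ Subgroup.center H := by rw [hL₀, Subgroup.zpowers_le]; exact hzc
      have hL₀n : L₀.Normal := by
        constructor
        intro a ha g
        have hac : a ∈ Subgroup.center H := hL₀c ha
        have : g * a * g⁻¹ = a := by
          rw [Subgroup.mem_center_iff] at hac
          rw [hac g, mul_inv_cancel_right]
        rw [this]; exact ha
      have hL₀card : Nat.card L₀ = p := by rw [hL₀, Nat.card_zpowers, hzo]
      have hL₀K : L₀ ≤ K := by rw [hL₀, Subgroup.zpowers_le]; exact hzK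
      have hπs : Function.Surjective (QuotientGroup.mk' L₀) := QuotientGroup.mk'_surjective L₀
      have hlt : Nat.card ↥(K.map (QuotientGroup.mk' L₀)) < n := by
        classical
        rw [← hcard]
        have := Fintype.ofFinite K
        have := Fintype.ofFinite ↥(K.map (QuotientGroup.mk' L₀))
        rw [Nat.card_eq_fintype_card, Nat.card_eq_fintype_card]
        apply Fintype.card_lt_of_surjective_not_injective ((QuotientGroup.mk' L₀).subgroupMap K)
          ((QuotientGroup.mk' L₀).subgroupMap_surjective K)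
        intro hinj
        have h1 : (QuotientGroup.mk' L₀).subgroupMap K ⟨z, hzK⟩ =
            (QuotientGroup.mk' L₀).subgroupMap K 1 := by
          apply Subtype.ext
          rw [map_one]
          change QuotientGroup.mk' L₀ (z : H) = 1
          rw [QuotientGroup.mk'_apply, QuotientGroup.eq_one_iff]
          exact Subgroup.mem_zpowers _
        have h2 := congrArg Subtype.val (hinj h1)
        exact hz1 h2
      have hKb_le : K.map (QuotientGroup.mk' L₀) ≤ LB p (H ⧸ L₀) := by
        rw [← map_LB_of_surjective (p := p) (QuotientGroup.mk' L₀) hπs]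
        exact Subgroup.map_mono hle
      have hqq : Cfsg.IsMetacyclic ((H ⧸ L₀) ⧸ K.map (QuotientGroup.mk' L₀)) :=
        Cfsg.Agent.Lib.H16.Meta.isMetacyclic_of_mulEquiv hq
          (QuotientGroup.quotientQuotientEquivQuotient L₀ K hL₀K).symm
      have hmid : Cfsg.IsMetacyclic (H ⧸ L₀) :=
        ih _ hlt (H ⧸ L₀) (hH.to_quotient L₀) (K.map (QuotientGroup.mk' L₀)) rfl hKb_le hqq
      exact step H hH L₀ hL₀card (hL₀K.trans hle) hmid

/-- BL.  Blackburn's lemma: `G / ℧₁(G')γ₃(G)` metacyclic ⇒ `G` metacyclic. -/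
theorem blackburn
    (step : ∀ (H : Type u) [Group H] [Finite H], IsPGroup p H → ∀ (L₀ : Subgroup H) [L₀.Normal],
      Nat.card L₀ = p → L₀ ≤ LB p H → Cfsg.IsMetacyclic (H ⧸ L₀) → Cfsg.IsMetacyclic H)
    (hG : IsPGroup p G) (hq : Cfsg.IsMetacyclic (G ⧸ LB p G)) : Cfsg.IsMetacyclic G :=
  bl_aux step _ G hG (LB p G) rfl le_rfl hq

end Cfsg.Agent.Lib.H6.R2
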