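import Mathlib
import Cfsg.Prelude.Def_OddOrderLocal
import Cfsg.Prelude.Def_CaseTheorems
import Cfsg.Prelude.Def_PLocal
import Cfsg.Agent.Lib.H19.R2Defs

/-!
# S3888 piece HUP: Huppert's criterion from the class-two case and Blackburn's lemma

`Q = G / ℧₁(G')γ₃(G)` has class at most two, commutators of exponent `p`, and `|Q : ℧₁(Q)| ≤ |G : ℧₁(G)|`.
-/

set_option autoImplicit false
set_option linter.unusedVariables false
set_option linter.unusedSectionVars false

namespace Cfsg.Agent.Lib.H6.R2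

open Cfsg Cfsg.Agent.Lib.H19.R2
open scoped commutatorElement

universe u

variable {p : ℕ} [Fact p.Prime] {G : Type u} [Group G] [Finite G]

/-- HUP.  Huppert: `p` odd, `|G : ℧₁(G)| ≤ p²` ⇒ metacyclic. -/
theorem metacyclic_of_index_agemo_le
    (hup2 : ∀ (Q : Type u) [Group Q] [Finite Q], IsPGroup p Q → (∀ a b c : Q, ⁅⁅a, b⁆, c⁆ = 1) →
      (∀ a b : Q, ⁅a, b⁆ ^ p = 1) → (agemo p Q).index ≤ p ^ 2 → Cfsg.IsMetacyclic Q)
    (bl : ∀ (H : Type u) [Group H] [Finite H], IsPGroup p H → Cfsg.IsMetacyclic (H ⧸ LB p H) →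
      Cfsg.IsMetacyclic H)
    (hG : IsPGroup p G) (hidx : (agemo p G).index ≤ p ^ 2) : Cfsg.IsMetacyclic G := by
  have hLn : (LB p G).Normal := inferInstance
  have hπs : Function.Surjective (QuotientGroup.mk' (LB p G)) := QuotientGroup.mk'_surjective _
  have hcm : ∀ a b : G, ⁅a, b⁆ ∈ commutator G := fun a b =>
    Subgroup.commutator_mem_commutator (Subgroup.mem_top a) (Subgroup.mem_top b)
  apply bl G hG
  apply hup2 (G ⧸ LB p G) (hG.to_quotient _)
  · intro a b c
    obtain ⟨a, rfl⟩ := QuotientGroup.mk_surjective a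
    obtain ⟨b, rfl⟩ := QuotientGroup.mk_surjective b
    obtain ⟨c, rfl⟩ := QuotientGroup.mk_surjective c
    have h1 : ⁅⁅a, b⁆, c⁆ ∈ LB p G := by
      apply (le_sup_right : (⊤ : Subgroup G).lowerCentralSeries 2 ≤ LB p G)
      rw [Subgroup.lowerCentralSeries_succ, Subgroup.top_lowerCentralSeries_one]
      exact Subgroup.commutator_mem_commutator (hcm a b) (Subgroup.mem_top c)
    have h2 : ((⁅⁅a, b⁆, c⁆ : G) : G ⧸ LB p G) = 1 := (QuotientGroup.eq_one_iff _).mpr h1
    rw [← h2]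
    simp [commutatorElement_def]
  · intro a b
    obtain ⟨a, rfl⟩ := QuotientGroup.mk_surjective a
    obtain ⟨b, rfl⟩ := QuotientGroup.mk_surjective b
    have h1 : ⁅a, b⁆ ^ p ∈ LB p G :=
      (le_sup_left : agemoOf p (commutator G) ≤ LB p G) (pow_mem_agemoOf p (hcm a b))
    have h2 : ((⁅a, b⁆ ^ p : G) : G ⧸ LB p G) = 1 := (QuotientGroup.eq_one_iff _).mpr h1
    rw [← h2]
    simp [commutatorElement_def]
  · rw [← map_agemo_of_surjective (p := p) (QuotientGroup.mk' (LB p G)) hπs]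
    have hdvd : ((agemo p G).map (QuotientGroup.mk' (LB p G))).index ∣ (agemo p G).index :=
      Subgroup.index_map_dvd _ hπs
    have hpos : 0 < (agemo p G).index := Nat.pos_of_ne_zero (Subgroup.index_ne_zero_of_finite)
    exact (Nat.le_of_dvd hpos hdvd).trans hidx

end Cfsg.Agent.Lib.H6.R2
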