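import Mathlib
import Cfsg.Prelude.Def_OddOrderLocal
import Cfsg.Prelude.Def_CaseTheorems
import Cfsg.Prelude.Def_PLocal
import Cfsg.Agent.Lib.H19.R2Defs
import Cfsg.Agent.Lib.H16.Metacyclic

/-!
# S3888 piece HUPE: a metacyclic `p`-group has `|G : ℧₁(G)| ≤ p²`
-/

set_option autoImplicit false
set_option linter.unusedVariables false

namespace Cfsg.Agent.Lib.H6.R2

open Cfsg Cfsg.Agent.Lib.H19.R2
open scoped commutatorElement

universe u

variable {p : ℕ} [Fact p.Prime] {G : Type u} [Group G] [Finite G]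

/-- HUPE.  metacyclic ⇒ `|G : ℧₁(G)| ≤ p²`. -/
theorem index_agemo_le_of_metacyclic (hG : IsPGroup p G) (hmc : Cfsg.IsMetacyclic G) :
    (agemo p G).index ≤ p ^ 2 := by
  have hp : p.Prime := Fact.out
  have hn : (agemo p G).Normal := inferInstance
  have hq : Cfsg.IsMetacyclic (G ⧸ agemo p G) := Cfsg.Agent.Lib.H16.Meta.isMetacyclic_quot hmc (agemo p G)
  rw [Subgroup.index_eq_card]
  apply Cfsg.Agent.Lib.H16.Meta.card_le_sq_of_pow_eq_one hq hp.pos
  intro x
  obtain ⟨g, rfl⟩ := QuotientGroup.mk_surjective x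
  rw [← QuotientGroup.mk_pow, QuotientGroup.eq_one_iff]
  exact pow_mem_agemo p g

end Cfsg.Agent.Lib.H6.R2
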