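import Mathlib
import Cfsg.Agent.Lib.H7.T648Defs
import Cfsg.Agent.Lib.H7.T648Model

/-!
# S3702, piece CNT (helper7 blueprint, tools/blueprints/S3702.md)

`cnt648 (tr w1) (tr w2) (tr w) = 729 * lcnt w1 w2 w`: the conjugate `g * tr w * g⁻¹ = tr (g.act w)` only
depends on the linear part of `g`, so each of the two sums over `M648` is `27` times a sum over the linear
parts.
-/

set_option autoImplicit false

namespace Cfsg.Agent.Lib.H6.T648

open Cfsg Cfsg.Agent.Lib.H7.T648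

theorem cnt_tr_sz (w : Fin 3 → ZMod 3) (j : Fin 3) : (tr w).sz j = 1 := by
  have h : (tr w).sg j = 1 := sgf_one j
  unfold M648.sz
  rw [h]
  simp

theorem cnt_tr_sg (w : Fin 3 → ZMod 3) (j : Fin 3) : (tr w).sg j = 1 := sgf_one j

theorem cnt_tr_mul (w w' : Fin 3 → ZMod 3) : tr w * tr w' = tr (w + w') := by
  apply M648.ext
  · funext i
    rw [M648.mul_v, cnt_tr_sz]
    show 1 * w' i + w i = w i + w' i
    ring
  · rw [M648.mul_a, cnt_tr_sg]; rfl
  · rw [M648.mul_b, cnt_tr_sg]; rfl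
  · rfl

theorem cnt_tr_injective : Function.Injective tr := by
  intro w w' h
  exact congrArg M648.v h

theorem cnt_conj_tr (x : M648) (w : Fin 3 → ZMod 3) : x * tr w * x⁻¹ = tr (x.act w) := by
  apply M648.ext
  · funext i
    rw [M648.mul_v, M648.sz_mul, M648.mul_v, M648.inv_v, cnt_tr_sz, M648.inv_p]
    show x.sz (x.p⁻¹ i) * 1 * -(x.sz (x.p⁻¹ i) * x.v (x.p⁻¹ i)) +
      (x.sz (x.p⁻¹ i) * w (x.p⁻¹ i) + x.v (x.p⁻¹ i)) = x.sz (x.p⁻¹ i) * w (x.p⁻¹ i)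
    have h := x.sz_sq (x.p⁻¹ i)
    linear_combination (-(x.v (x.p⁻¹ i))) * h
  · rw [M648.mul_a, M648.sg_mul, cnt_tr_sg, M648.inv_a, M648.inv_p, mul_one]
    show x.sg (x.p⁻¹ 0) * x.sg (x.p⁻¹ 0) = 1
    exact x.sg_sq _
  · rw [M648.mul_b, M648.sg_mul, cnt_tr_sg, M648.inv_b, M648.inv_p, mul_one]
    show x.sg (x.p⁻¹ 1) * x.sg (x.p⁻¹ 1) = 1
    exact x.sg_sq _
  · show x.p * 1 * x.p⁻¹ = 1
    rw [mul_one, mul_inv_cancel]

theorem cnt_act_lin (g : M648) (w : Fin 3 → ZMod 3) : g.act w = (lin g.a g.b g.p).act w := rfl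

theorem cnt_card_vec : Fintype.card (Fin 3 → ZMod 3) = 27 := by
  simp [ZMod.card]

/-- a sum over `M648` of a function of the linear part only -/
theorem cnt_sum_lin (F : M648 → ℕ) (F' : ℤˣ × ℤˣ × Equiv.Perm (Fin 3) → ℕ)
    (hF : ∀ g : M648, F g = F' (g.a, g.b, g.p)) :
    ∑ g : M648, F g = 27 * ∑ l, F' l := by
  rw [← Equiv.sum_comp M648.equivProd.symm F, Fintype.sum_prod_type]
  have h1 : ∀ (x : Fin 3 → ZMod 3) (y : ℤˣ × ℤˣ × Equiv.Perm (Fin 3)),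
      F (M648.equivProd.symm (x, y)) = F' y := by
    intro x y
    rw [hF]
    rfl
  simp only [h1]
  rw [Finset.sum_const, Finset.card_univ, cnt_card_vec, smul_eq_mul]

/-- CNT.  The class-multiplication count on `J648` only depends on the linear parts. -/
theorem cnt648_tr (w1 w2 w : Fin 3 → ZMod 3) :
    cnt648 (tr w1) (tr w2) (tr w) = 729 * lcnt w1 w2 w := by
  have hiff : ∀ g k : M648, ((g * tr w1 * g⁻¹) * (k * tr w2 * k⁻¹) = tr w) ↔
      ((lin g.a g.b g.p).act w1 + (lin k.a k.b k.p).act w2 = w) := by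
    intro g k
    rw [cnt_conj_tr, cnt_conj_tr, cnt_tr_mul, cnt_act_lin g, cnt_act_lin k]
    exact ⟨fun h => cnt_tr_injective h, fun h => by rw [h]⟩
  unfold cnt648 lcnt
  have hin : ∀ g : M648, (∑ k : M648,
      if (g * tr w1 * g⁻¹) * (k * tr w2 * k⁻¹) = tr w then 1 else 0) =
      27 * ∑ l2 : ℤˣ × ℤˣ × Equiv.Perm (Fin 3),
        if (lin g.a g.b g.p).act w1 + (lin l2.1 l2.2.1 l2.2.2).act w2 = w then 1 else 0 := by
    intro g
    apply cnt_sum_lin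
    intro k
    exact if_congr (hiff g k) rfl rfl
  simp only [hin]
  rw [cnt_sum_lin _ (fun l1 : ℤˣ × ℤˣ × Equiv.Perm (Fin 3) =>
    27 * ∑ l2 : ℤˣ × ℤˣ × Equiv.Perm (Fin 3),
        if (lin l1.1 l1.2.1 l1.2.2).act w1 + (lin l2.1 l2.2.1 l2.2.2).act w2 = w then 1 else 0)
    (fun g => rfl)]
  rw [← Finset.mul_sum, ← mul_assoc]
  norm_num

end Cfsg.Agent.Lib.H6.T648
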