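import Mathlib
import Cfsg.Agent.Lib.H7.T648Defs
import Cfsg.Agent.Lib.H7.T648Model
import Cfsg.Agent.Lib.H6.T648CNT

/-!
# S3702, piece MODG (helper7 blueprint, tools/blueprints/S3702.md)

The elements of order `3` of the centraliser of a good element (weight `1` or `2`) of `J648` lie in
`J648`: the linear part `l` of `α` satisfies `l³ = 1` and fixes a nonzero vector with a zero coordinate;
a `decide` over the `24` linear parts and the `27` vectors.
-/

set_option autoImplicit false

namespace Cfsg.Agent.Lib.H6.T648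

open Cfsg Cfsg.Agent.Lib.H7.T648

/-- the linear part of an element -/
def linOf (x : M648) : M648 := lin x.a x.b x.p

theorem linOf_mul (x y : M648) : linOf (x * y) = linOf x * linOf y := by
  apply M648.ext
  · funext i
    rw [M648.mul_v]
    show (0 : ZMod 3) = (linOf x).sz ((linOf y).p i) * 0 + 0
    ring
  · rfl
  · rfl
  · rfl

theorem linOf_one : linOf 1 = 1 := rfl

/-- the linear part as a homomorphism -/
def linHom : M648 →* M648 where
  toFun := linOf
  map_one' := linOf_one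
  map_mul' := linOf_mul

theorem linOf_pow (x : M648) (k : ℕ) : linOf (x ^ k) = linOf x ^ k := map_pow linHom x k

set_option synthInstance.maxHeartbeats 400000 in
set_option synthInstance.maxSize 2048 in
theorem modg_dec : ∀ (a b : ℤˣ) (p : Equiv.Perm (Fin 3)) (w0 w1 w2 : ZMod 3),
    (w0 ≠ 0 ∨ w1 ≠ 0 ∨ w2 ≠ 0) → (w0 = 0 ∨ w1 = 0 ∨ w2 = 0) →
    (((lin a b p) ^ 3).a = 1 ∧ ((lin a b p) ^ 3).b = 1 ∧ ((lin a b p) ^ 3).p = 1) →
    (lin a b p).act ![w0, w1, w2] = ![w0, w1, w2] → a = 1 ∧ b = 1 ∧ p = 1 := by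
  decide

theorem vec_eq (w : Fin 3 → ZMod 3) : w = ![w 0, w 1, w 2] := by
  funext i
  fin_cases i <;> rfl

/-- MODG.  The elements of order `3` of the centraliser of a good element (weight `1` or `2`) lie in
`J648`. -/
theorem mem_J648_of_comm_good (t α : M648) (ht : Good t) (hα : α ^ 3 = 1) (hc : α * t = t * α) :
    α ∈ J648 := by
  obtain ⟨htJ, ht1, i, hi⟩ := ht
  obtain ⟨hta, htb, htp⟩ := mem_J648.mp htJ
  have htr : t = tr t.v := by
    apply M648.ext
    · rfl
    · exact hta
    · exact htb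
    · exact htp
  have hact : α.act t.v = t.v := by
    have h1 : α * t * α⁻¹ = t := by rw [hc, mul_inv_cancel_right]
    rw [htr, cnt_conj_tr] at h1
    exact cnt_tr_injective h1
  have hlin3' : (lin α.a α.b α.p) ^ 3 = 1 := by
    have := linOf_pow α 3
    rw [hα, linOf_one] at this
    exact this.symm
  have hlin3 : ((lin α.a α.b α.p) ^ 3).a = 1 ∧ ((lin α.a α.b α.p) ^ 3).b = 1 ∧
      ((lin α.a α.b α.p) ^ 3).p = 1 := by
    rw [hlin3']
    exact ⟨rfl, rfl, rfl⟩
  have hne : t.v 0 ≠ 0 ∨ t.v 1 ≠ 0 ∨ t.v 2 ≠ 0 := by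
    by_contra hcon
    push Not at hcon
    apply ht1
    rw [htr]
    have : t.v = 0 := by
      funext j
      fin_cases j
      · exact hcon.1
      · exact hcon.2.1
      · exact hcon.2.2
    rw [this]
    rfl
  have hz : t.v 0 = 0 ∨ t.v 1 = 0 ∨ t.v 2 = 0 := by
    fin_cases i
    · exact Or.inl hi
    · exact Or.inr (Or.inl hi)
    · exact Or.inr (Or.inr hi)
  have hact' : (lin α.a α.b α.p).act ![t.v 0, t.v 1, t.v 2] = ![t.v 0, t.v 1, t.v 2] := by
    rw [← vec_eq]
    exact hact
  exact mem_J648.mpr (modg_dec α.a α.b α.p (t.v 0) (t.v 1) (t.v 2) hne hz hlin3 hact')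

end Cfsg.Agent.Lib.H6.T648
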