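import Cfsg.Agent.Lib.H6.CYLOC

/-!
# S1950 (helper6): (O) and (STAR) in the shapes of helper15's `H15.CY.four_identity`

`z` of order `p` in an abelian Sylow `p`-subgroup `P`, all `C_G(z^c)` with a normal `p`-complement;
`f χ a = χ (z ^ a.val)` for `a : ZMod p`, `E` the fusion set `{j ≠ 0 | z^j ~ z}`.

* `gram_O`  : `∑_{χ ∈ B₀} χ(z^a) conj χ(z^c) = if (∃ t ∈ E, a = c t) then |P| else 0`.
* `star_identity` : `∑_{χ ∈ B₀} χ(z^a) χ(z^b) conj χ(z^c) / χ(1) = (|P| / e) #{j ∈ E | ∃ t ∈ E, j a + b = c t}`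
  from the count (EQUI) `e * #{y ∈ cls(z^b) | z^a y ∈ section(z^c)} = #cls(z^b) * #{j ∈ E | …}`.
-/

set_option autoImplicit false

namespace Cfsg.Agent.Lib.H6.CY

open Cfsg Cfsg.Agent.Lib.H23
open scoped ComplexConjugate

section powers

variable {G : Type*} [Group G] {p : ℕ} [Fact p.Prime]

theorem pow_val_mul {z : G} (hz : z ^ p = 1) (c t : ZMod p) :
    (z ^ c.val) ^ t.val = z ^ (c * t).val := by
  rw [← pow_mul, ZMod.val_mul, ← pow_eq_pow_mod _ hz]

theorem pElement_pow {z : G} (hz : z ^ p = 1) (n : ℕ) : ∃ k : ℕ, orderOf (z ^ n) = p ^ k := by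
  have hp : p.Prime := Fact.out
  have h1 : (z ^ n) ^ p = 1 := by rw [← pow_mul, mul_comm, pow_mul, hz, one_pow]
  rcases (Nat.dvd_prime hp).1 (orderOf_dvd_of_pow_eq_one h1) with h | h
  · exact ⟨0, by rw [h, pow_zero]⟩
  · exact ⟨1, by rw [h, pow_one]⟩

/-- `z^a ~ z^c ↔ a ∈ c E`. -/
theorem isConj_pow_iff {z : G} (hz : z ^ p = 1) (E : Finset (ZMod p))
    (hE : ∀ j : ZMod p, j ∈ E ↔ j ≠ 0 ∧ IsConj (z ^ j.val) z) (a c : ZMod p) (ha : a ≠ 0) (hc : c ≠ 0) :
    IsConj (z ^ a.val) (z ^ c.val) ↔ ∃ t ∈ E, a = c * t := by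
  have hp : p.Prime := Fact.out
  constructor
  · intro h
    obtain ⟨g, hg⟩ := isConj_iff.1 h
    refine ⟨a * c⁻¹, (hE _).2 ⟨mul_ne_zero ha (inv_ne_zero hc), ?_⟩, ?_⟩
    · refine isConj_iff.2 ⟨g, ?_⟩
      have h1 : g * (z ^ a.val) ^ (c⁻¹).val * g⁻¹ = (z ^ c.val) ^ (c⁻¹).val := by
        rw [← hg, conj_pow]
      rw [pow_val_mul hz, pow_val_mul hz, mul_inv_cancel₀ hc] at h1
      have h2 : (1 : ZMod p).val = 1 := by
        haveI : Fact (1 < p) := ⟨hp.one_lt⟩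
        exact ZMod.val_one p
      rw [h2, pow_one] at h1
      exact h1
    · field_simp
  · rintro ⟨t, ht, rfl⟩
    obtain ⟨_, hconj⟩ := (hE t).1 ht
    obtain ⟨g, hg⟩ := isConj_iff.1 hconj
    refine isConj_iff.2 ⟨g, ?_⟩
    have h1 : g * (z ^ t.val) ^ c.val * g⁻¹ = z ^ c.val := by
      rw [← conj_pow, hg]
    rw [pow_val_mul hz, mul_comm] at h1
    exact h1

/-- a `p`-element `u` lies in the `p`-section of `a` iff it is conjugate to `a`. -/
theorem pElement_mem_pSection_iff {u a : G} (hu : ∃ k : ℕ, orderOf u = p ^ k) :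
    u ∈ pSection p a ↔ IsConj u a := by
  have hp : p.Prime := Fact.out
  constructor
  · rintro ⟨x, hx, hxa⟩
    have : u = x := IsPPart.unique hp (isPPart_self hp hu) hx
    rw [this]
    exact hxa
  · intro h
    exact ⟨u, isPPart_self hp hu, h⟩

end powers

variable {G : Type*} [Group G] [Finite G] {p : ℕ} [Fact p.Prime] {M : Ideal AlgInt}

/-- **(O)** in the shape of `H15.CY.four_identity`. -/
theorem gram_O (hM : IsPModular p M) (P : Sylow p G)
    (hPc : ∀ x ∈ (P : Subgroup G), ∀ y ∈ (P : Subgroup G), x * y = y * x)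
    (z : G) (hzP : z ∈ (P : Subgroup G)) (hz : z ^ p = 1)
    (hnpc : ∀ c : ZMod p, c ≠ 0 →
      HasNormalPComplement p ↥(Subgroup.centralizer ({z ^ c.val} : Set G)))
    (E : Finset (ZMod p)) (hE : ∀ j : ZMod p, j ∈ E ↔ j ≠ 0 ∧ IsConj (z ^ j.val) z)
    (a c : ZMod p) (ha : a ≠ 0) (hc : c ≠ 0) [Decidable (∃ t ∈ E, a = c * t)] :
    ∑ χ ∈ (Set.toFinite (principalBlock M G)).toFinset,
        (χ : G → ℂ) (z ^ a.val) * conj ((χ : G → ℂ) (z ^ c.val)) =
      if (∃ t ∈ E, a = c * t) then (Nat.card (P : Subgroup G) : ℂ) else 0 := by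
  classical
  have hPC : (P : Subgroup G) ≤ Subgroup.centralizer ({z ^ c.val} : Set G) := by
    intro x hx
    rw [Subgroup.mem_centralizer_singleton_iff]
    exact hPc x hx _ (Subgroup.pow_mem _ hzP _)
  have h1 := psi_section_of_npc hM (z ^ c.val) (pElement_pow hz _) (hnpc c hc) P hPC (z ^ a.val)
  rw [finsum_mem_eq_finite_toFinset_sum _ (Set.toFinite (principalBlock M G))] at h1
  have h2 : ∀ χ : IrrCharacter G, (χ : G → ℂ) (z ^ c.val)⁻¹ = conj ((χ : G → ℂ) (z ^ c.val)) :=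
    fun χ => Cfsg.Agent.Lib.L0.isCharacter_apply_inv (Cfsg.Agent.Lib.L0.isCharacter_of_irr χ.2) _
  simp only [h2] at h1
  rw [h1]
  have h3 : z ^ a.val ∈ pSection p (z ^ c.val) ↔ ∃ t ∈ E, a = c * t := by
    rw [pElement_mem_pSection_iff (pElement_pow hz _), isConj_pow_iff hz E hE a c ha hc]
  by_cases h : ∃ t ∈ E, a = c * t
  · rw [if_pos h, if_pos (h3.2 h)]
  · rw [if_neg h, if_neg (fun h' => h (h3.1 h'))]

/-- **(STAR)** in the shape of `H15.CY.four_identity`, from the count (EQUI). -/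
theorem star_identity [Fintype G] [DecidableEq G] (hM : IsPModular p M) (P : Sylow p G)
    (hPc : ∀ x ∈ (P : Subgroup G), ∀ y ∈ (P : Subgroup G), x * y = y * x)
    (z : G) (hzP : z ∈ (P : Subgroup G)) (hz : z ^ p = 1)
    (hnpc : ∀ c : ZMod p, c ≠ 0 →
      HasNormalPComplement p ↥(Subgroup.centralizer ({z ^ c.val} : Set G)))
    (E : Finset (ZMod p)) (hE1 : E.Nonempty)
    (a b c : ZMod p) (hc : c ≠ 0)
    [DecidablePred (fun j : ZMod p => ∃ t ∈ E, j * a + b = c * t)]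
    [DecidablePred (· ∈ pSection p (z ^ c.val))]
    (hequi : E.card * ((Cfsg.Agent.Lib.H9.AECS.cls (z ^ b.val)).filter
        (fun y => z ^ a.val * y ∈ pSection p (z ^ c.val))).card =
      (Cfsg.Agent.Lib.H9.AECS.cls (z ^ b.val)).card *
        (E.filter (fun j => ∃ t ∈ E, j * a + b = c * t)).card) :
    ∑ χ ∈ (Set.toFinite (principalBlock M G)).toFinset,
        (χ : G → ℂ) (z ^ a.val) * (χ : G → ℂ) (z ^ b.val) * conj ((χ : G → ℂ) (z ^ c.val)) /
          (χ : G → ℂ) 1 =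
      ((Nat.card (P : Subgroup G) : ℂ) / (E.card : ℂ)) *
        ((E.filter (fun j => ∃ t ∈ E, j * a + b = c * t)).card : ℂ) := by
  have hPC : (P : Subgroup G) ≤ Subgroup.centralizer ({z ^ c.val} : Set G) := by
    intro x hx
    rw [Subgroup.mem_centralizer_singleton_iff]
    exact hPc x hx _ (Subgroup.pow_mem _ hzP _)
  have h1 := cube_count_of_npc hM (z ^ c.val) (pElement_pow hz _) (hnpc c hc) P hPC
    (z ^ b.val) (z ^ a.val)
  rw [finsum_mem_eq_finite_toFinset_sum _ (Set.toFinite (principalBlock M G))] at h1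
  have h2 : ∀ χ : IrrCharacter G, (χ : G → ℂ) (z ^ c.val)⁻¹ = conj ((χ : G → ℂ) (z ^ c.val)) :=
    fun χ => Cfsg.Agent.Lib.L0.isCharacter_apply_inv (Cfsg.Agent.Lib.L0.isCharacter_of_irr χ.2) _
  simp only [h2] at h1
  have he : (E.card : ℂ) ≠ 0 := by
    have : 0 < E.card := Finset.card_pos.2 hE1
    exact_mod_cast this.ne'
  have hk : ((Cfsg.Agent.Lib.H9.AECS.cls (z ^ b.val)).card : ℂ) ≠ 0 := by
    have : 0 < (Cfsg.Agent.Lib.H9.AECS.cls (z ^ b.val)).card :=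
      Finset.card_pos.2 ⟨z ^ b.val, Cfsg.Agent.Lib.H9.AECS.mem_cls.2 (IsConj.refl _)⟩
    exact_mod_cast this.ne'
  have hequiC : (E.card : ℂ) * (((Cfsg.Agent.Lib.H9.AECS.cls (z ^ b.val)).filter
        (fun y => z ^ a.val * y ∈ pSection p (z ^ c.val))).card : ℂ) =
      ((Cfsg.Agent.Lib.H9.AECS.cls (z ^ b.val)).card : ℂ) *
        ((E.filter (fun j => ∃ t ∈ E, j * a + b = c * t)).card : ℂ) := by
    exact_mod_cast hequi
  -- the sum in the shape of `h1`
  have h3 : ∑ χ ∈ (Set.toFinite (principalBlock M G)).toFinset,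
        (χ : G → ℂ) (z ^ a.val) * (χ : G → ℂ) (z ^ b.val) * conj ((χ : G → ℂ) (z ^ c.val)) /
          (χ : G → ℂ) 1 =
      ∑ χ ∈ (Set.toFinite (principalBlock M G)).toFinset,
        conj ((χ : G → ℂ) (z ^ c.val)) *
          ((χ : G → ℂ) (z ^ b.val) * (χ : G → ℂ) (z ^ a.val) / (χ : G → ℂ) 1) := by
    refine Finset.sum_congr rfl fun χ _ => ?_
    ring
  rw [h3]
  -- cancel `#cls`
  have h4 : ((Cfsg.Agent.Lib.H9.AECS.cls (z ^ b.val)).card : ℂ) *
      ∑ χ ∈ (Set.toFinite (principalBlock M G)).toFinset,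
        conj ((χ : G → ℂ) (z ^ c.val)) *
          ((χ : G → ℂ) (z ^ b.val) * (χ : G → ℂ) (z ^ a.val) / (χ : G → ℂ) 1) =
      ((Cfsg.Agent.Lib.H9.AECS.cls (z ^ b.val)).card : ℂ) *
        (((Nat.card (P : Subgroup G) : ℂ) / (E.card : ℂ)) *
          ((E.filter (fun j => ∃ t ∈ E, j * a + b = c * t)).card : ℂ)) := by
    rw [← h1]
    have h5 : (((Cfsg.Agent.Lib.H9.AECS.cls (z ^ b.val)).filter
        (fun y => z ^ a.val * y ∈ pSection p (z ^ c.val))).card : ℂ) =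
        ((Cfsg.Agent.Lib.H9.AECS.cls (z ^ b.val)).card : ℂ) *
          ((E.filter (fun j => ∃ t ∈ E, j * a + b = c * t)).card : ℂ) / (E.card : ℂ) := by
      rw [eq_div_iff he, mul_comm]
      exact hequiC
    rw [h5]
    ring
  exact mul_left_cancel₀ hk h4

end Cfsg.Agent.Lib.H6.CY
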