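import Cfsg.Agent.S0925
import Cfsg.Agent.Lib.H23.BlockPrincipal
import Cfsg.Agent.Lib.L0.PrincipalBrauerPair
import Cfsg.Agent.Lib.H23.PPart2
import Cfsg.Agent.Lib.H9.AECS

/-!
# S1950 (helper6): the class function `Ψ_a = ∑_{χ ∈ B₀} χ(a⁻¹) χ` is `t` times the indicator of the
`p`-section of `a`, and the resulting class-sum identity (cube identity with three parameters)

`pSection p a` : the elements whose `p`-part is conjugate to `a`.
* `psi_eq_zero_of_not_mem` : `Ψ_a` vanishes off the `p`-section of `a` (landed S0925 (ii)).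
* `psi_section` : if every `χ ∈ B₀` is constant `= χ a` on the `p`-section of `a` and the section has
  `|G| / t` elements, then `Ψ_a = t` on the section.
* `cube_count` : `t * #{y ∈ b^G | x y ∈ section(a)} = |b^G| ∑_{χ ∈ B₀} χ(a⁻¹) χ(b) χ(x) / χ(1)`.
-/

set_option autoImplicit false

namespace Cfsg.Agent.Lib.H6.CY

open Cfsg
open scoped ComplexConjugate

variable {G : Type*} [Group G]

/-- the `p`-section of `a`: the elements whose `p`-part is conjugate to `a`. -/
def pSection (p : ℕ) (a : G) : Set G := {g | ∃ x : G, IsPPart p g x ∧ IsConj x a}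

theorem mem_pSection {p : ℕ} {a g : G} :
    g ∈ pSection p a ↔ ∃ x : G, IsPPart p g x ∧ IsConj x a := Iff.rfl

/-- a `p`-element is its own `p`-part. -/
theorem isPPart_self {p : ℕ} (hp : p.Prime) {a : G} (hap : ∃ k : ℕ, orderOf a = p ^ k) :
    IsPPart p a a := by
  refine ⟨1, mul_one a, Commute.one_right a, hap, ?_⟩
  rw [orderOf_one]
  exact hp.one_lt.ne' ∘ Nat.dvd_one.1

theorem self_mem_pSection {p : ℕ} (hp : p.Prime) {a : G} (hap : ∃ k : ℕ, orderOf a = p ^ k) :
    a ∈ pSection p a := ⟨a, isPPart_self hp hap, IsConj.refl a⟩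

variable [Finite G] {p : ℕ} [Fact p.Prime] {M : Ideal AlgInt}

/-- `Ψ_a` vanishes off the `p`-section of `a`. -/
theorem psi_eq_zero_of_not_mem (hM : IsPModular p M) (a : G)
    (hap : ∃ k : ℕ, orderOf a = p ^ k) (g : G) (hg : g ∉ pSection p a) :
    ∑ᶠ χ ∈ principalBlock M G, (χ : G → ℂ) g * (χ : G → ℂ) a⁻¹ = 0 := by
  have hp : p.Prime := Fact.out
  obtain ⟨x, hx⟩ := Cfsg.Agent.Lib.H23.exists_isPPart hp g (isOfFinOrder_of_finite g)
  refine (Cfsg.Agent.S0925.result p M hM).2 g a x a hx (isPPart_self hp hap) ?_ _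
    (Cfsg.Agent.Lib.L0.PrincipalBrauerPair.isPBlock_principalBlock M G)
  intro h
  exact hg ⟨x, hx, h⟩

/-- `Ψ_a = t` on the `p`-section of `a`, `0` off it. -/
theorem psi_section (hM : IsPModular p M) (a : G)
    (hap : ∃ k : ℕ, orderOf a = p ^ k) (t : ℕ)
    (hconst : ∀ χ ∈ principalBlock M G, ∀ g ∈ pSection p a, (χ : G → ℂ) g = (χ : G → ℂ) a)
    (hcount : Nat.card (pSection p a) * t = Nat.card G) (g : G) [Decidable (g ∈ pSection p a)] :
    ∑ᶠ χ ∈ principalBlock M G, (χ : G → ℂ) g * (χ : G → ℂ) a⁻¹ =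
      if g ∈ pSection p a then (t : ℂ) else 0 := by
  classical
  have hp : p.Prime := Fact.out
  let _ : Fintype G := Fintype.ofFinite G
  let _ : Fintype (IrrCharacter G) := Fintype.ofFinite _
  have hPr : M.IsPrime := Cfsg.Agent.Lib.H23.isPrime_of_isPModular hM
  set B := principalBlock M G with hB
  set c : ℂ := ∑ᶠ χ ∈ B, (χ : G → ℂ) a * (χ : G → ℂ) a⁻¹ with hc
  set Ψ : G → ℂ := fun g => ∑ᶠ χ ∈ B, (χ : G → ℂ) g * (χ : G → ℂ) a⁻¹ with hΨ
  have hΨreg : ∀ g : G, g ∉ pSection p a → Ψ g = 0 := fun g hg =>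
    psi_eq_zero_of_not_mem hM a hap g hg
  have hΨsing : ∀ g : G, g ∈ pSection p a → Ψ g = c := by
    intro g hg
    simp only [hΨ, hc]
    refine finsum_mem_congr rfl fun χ hχ => ?_
    rw [hconst χ hχ g hg]
  -- the sum of `Ψ` over `G`, first way
  have hsum1 : ∑ g : G, Ψ g = (Nat.card (pSection p a) : ℂ) * c := by
    have h1 : ∀ g : G, Ψ g = if g ∈ pSection p a then c else 0 := by
      intro g
      split_ifs with h
      · exact hΨsing g h
      · exact hΨreg g h
    simp only [h1]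
    rw [Finset.sum_ite, Finset.sum_const_zero, add_zero, Finset.sum_const, nsmul_eq_mul,
      Nat.card_eq_fintype_card]
    congr 2
    rw [Fintype.card_subtype]
  -- second way
  have hΨfin : ∀ g : G, Ψ g = ∑ χ : IrrCharacter G,
      if χ ∈ B then (χ : G → ℂ) g * (χ : G → ℂ) a⁻¹ else 0 := by
    intro g
    simp only [hΨ]
    rw [finsum_eq_sum_of_fintype]
    exact Finset.sum_congr rfl fun χ _ => finsum_eq_if
  have hortho : ∀ χ : IrrCharacter G, ∑ g : G, (χ : G → ℂ) g =
      if χ = Cfsg.Agent.Lib.H24.trivialIrr G then (Nat.card G : ℂ) else 0 := by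
    intro χ
    have h := Cfsg.Agent.Lib.H24.irr_orthonormal χ (Cfsg.Agent.Lib.H24.trivialIrr G)
    unfold classInner at h
    have hG0 : (Nat.card G : ℂ) ≠ 0 := by exact_mod_cast (Nat.card_pos (α := G)).ne'
    have h2 : ∑ g : G, (χ : G → ℂ) g * conj ((Cfsg.Agent.Lib.H24.trivialIrr G : G → ℂ) g) =
        ∑ g : G, (χ : G → ℂ) g := by
      refine Finset.sum_congr rfl fun g _ => ?_
      rw [Cfsg.Agent.Lib.H24.trivialIrr_apply, map_one, mul_one]
    rw [h2] at h
    split_ifs with hχ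
    · rw [if_pos hχ] at h
      field_simp at h
      exact h
    · rw [if_neg hχ] at h
      rcases mul_eq_zero.1 h with h3 | h3
      · exact absurd (inv_eq_zero.1 h3) hG0
      · exact h3
  have hsum2 : ∑ g : G, Ψ g = (Nat.card G : ℂ) := by
    simp only [hΨfin]
    rw [Finset.sum_comm]
    have h1 : ∀ χ : IrrCharacter G, ∑ g : G,
        (if χ ∈ B then (χ : G → ℂ) g * (χ : G → ℂ) a⁻¹ else 0) =
        if χ = Cfsg.Agent.Lib.H24.trivialIrr G then (Nat.card G : ℂ) else 0 := by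
      intro χ
      by_cases hχ : χ ∈ B
      · simp only [if_pos hχ]
        rw [← Finset.sum_mul, hortho χ]
        split_ifs with h
        · rw [h, Cfsg.Agent.Lib.H24.trivialIrr_apply, mul_one]
        · rw [zero_mul]
      · simp only [if_neg hχ]
        rw [Finset.sum_const_zero, if_neg]
        intro h
        apply hχ
        rw [h]
        exact Cfsg.Agent.Lib.H23.trivialIrr_mem_principalBlock
    simp only [h1]
    rw [Finset.sum_ite_eq' Finset.univ (Cfsg.Agent.Lib.H24.trivialIrr G), if_pos (Finset.mem_univ _)]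
  -- compare
  have hS0 : (Nat.card (pSection p a) : ℂ) ≠ 0 := by
    have : Nonempty (pSection p a) := ⟨⟨a, self_mem_pSection hp hap⟩⟩
    exact_mod_cast (Nat.card_pos (α := pSection p a)).ne'
  have hct : c = (t : ℂ) := by
    have h1 : (Nat.card (pSection p a) : ℂ) * c = (Nat.card (pSection p a) : ℂ) * (t : ℂ) := by
      rw [← hsum1, hsum2]
      exact_mod_cast hcount.symm
    exact mul_left_cancel₀ hS0 h1
  split_ifs with hg
  · rw [← hct]
    exact hΨsing g hg
  · exact hΨreg g hg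

/-- **cube count**: `t * #{y ∈ b^G | x y ∈ section(a)} = |b^G| ∑_{χ ∈ B₀} χ(a⁻¹) χ(b) χ(x) / χ(1)`. -/
theorem cube_count [Fintype G] [DecidableEq G] (hM : IsPModular p M) (a : G)
    (hap : ∃ k : ℕ, orderOf a = p ^ k) (t : ℕ)
    (hconst : ∀ χ ∈ principalBlock M G, ∀ g ∈ pSection p a, (χ : G → ℂ) g = (χ : G → ℂ) a)
    (hcount : Nat.card (pSection p a) * t = Nat.card G) [DecidablePred (· ∈ pSection p a)]
    (b x : G) :
    (t : ℂ) * (((Cfsg.Agent.Lib.H9.AECS.cls b).filter (fun y => x * y ∈ pSection p a)).card : ℂ) =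
      ((Cfsg.Agent.Lib.H9.AECS.cls b).card : ℂ) *
        ∑ᶠ χ ∈ principalBlock M G, (χ : G → ℂ) a⁻¹ *
          ((χ : G → ℂ) b * (χ : G → ℂ) x / (χ : G → ℂ) 1) := by
  have h1 := Cfsg.Agent.Lib.H9.AECS.sum_class_finsum (principalBlock M G)
    (fun χ => (χ : G → ℂ) a⁻¹) b x
  rw [← h1]
  have h2 : ∀ y : G, ∑ᶠ χ ∈ principalBlock M G, (χ : G → ℂ) a⁻¹ * (χ : G → ℂ) (x * y) =
      if x * y ∈ pSection p a then (t : ℂ) else 0 := by
    intro y
    rw [← psi_section hM a hap t hconst hcount (x * y)]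
    refine finsum_mem_congr rfl fun χ _ => ?_
    rw [mul_comm]
  simp only [h2]
  rw [Finset.sum_ite, Finset.sum_const, Finset.sum_const_zero, add_zero, nsmul_eq_mul, mul_comm]

end Cfsg.Agent.Lib.H6.CY
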