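import Cfsg.Agent.Lib.H6.OPMinArith

/-!
# S2345 piece ARITH-3 (helper6): integrality kills `D = B_n - 1`
-/

set_option autoImplicit false

namespace Cfsg.Agent.Lib.H6.OPMin

/-- `B_n = r + N + 1` with `N = (q ^ n - q) / (q - 1)` -/
theorem B_eq (q n r : ℕ) (hq : 2 ≤ q) (hn : 4 ≤ n)
    (hr : r * (q ^ 2 - 1) = (q ^ n - 1) * (q ^ (n - 1) - 1)) :
    (q ^ n - 1) * (q ^ (n - 1) + q) / (q ^ 2 - 1) = r + (q ^ n - q) / (q - 1) + 1 := by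
  obtain ⟨k, rfl⟩ : ∃ k, n = k + 4 := ⟨n - 4, by omega⟩
  have hq2 : 4 ≤ q ^ 2 := by
    have : 2 ^ 2 ≤ q ^ 2 := Nat.pow_le_pow_left hq 2
    omega
  have hq21 : 0 < q ^ 2 - 1 := by omega
  have hq1 : 0 < q - 1 := by omega
  -- `N * (q - 1) = q ^ n - q`
  have hNd : (q - 1) ∣ (q ^ (k + 4) - q) := by
    have h1 : q ^ (k + 4) - q = q * (q ^ (k + 3) - 1) := by
      rw [Nat.mul_sub, mul_one, pow_succ]
      ring_nf
    rw [h1]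
    exact Dvd.dvd.mul_left (Nat.sub_one_dvd_pow_sub_one q (k + 3)) q
  have hN : (q ^ (k + 4) - q) / (q - 1) * (q - 1) = q ^ (k + 4) - q := Nat.div_mul_cancel hNd
  set N := (q ^ (k + 4) - q) / (q - 1) with hNdef
  apply Nat.eq_of_mul_eq_mul_right hq21
  rw [B_mul q k hq]
  have e1 : k + 4 - 1 = k + 3 := by omega
  rw [e1] at hr
  have hqe : q ^ 2 - 1 = (q - 1) * (q + 1) := by
    obtain ⟨s, rfl⟩ : ∃ s, q = s + 1 := ⟨q - 1, by omega⟩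
    have : (s + 1) ^ 2 = (s + 1 - 1) * (s + 1 + 1) + 1 := by
      rw [Nat.add_sub_cancel]; ring
    rw [this, Nat.add_sub_cancel]
  have hN' : N * (q ^ 2 - 1) = (q ^ (k + 4) - q) * (q + 1) := by
    rw [hqe, ← mul_assoc, hN]
  rw [add_mul, add_mul, hr, hN', one_mul]
  -- everything in terms of `X = q ^ (k + 2)`
  have hX : 1 ≤ q ^ (k + 2) := Nat.one_le_pow _ _ (by omega)
  obtain ⟨x, hx⟩ : ∃ x, q ^ (k + 2) = x + 1 := ⟨q ^ (k + 2) - 1, by omega⟩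
  have p4 : q ^ (k + 4) = q ^ 2 * (x + 1) := by rw [← hx, ← pow_add]; congr 1; omega
  have p3 : q ^ (k + 3) = q * (x + 1) := by rw [← hx, pow_succ]; ring
  rw [p4, p3, hx]
  obtain ⟨s, rfl⟩ : ∃ s, q = s + 2 := ⟨q - 2, by omega⟩
  have a1 : (s + 2) ^ 2 * (x + 1) - 1 = (s + 2) ^ 2 * x + (s + 2) ^ 2 - 1 := by ring_nf
  have a2 : (s + 2) ^ 2 * x + (s + 2) ^ 2 - 1 = (s + 2) ^ 2 * x + (s ^ 2 + 4 * s + 3) := by
    have : (s + 2) ^ 2 = s ^ 2 + 4 * s + 3 + 1 := by ring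
    omega
  have a3 : (s + 2) * (x + 1) - 1 = (s + 2) * x + (s + 1) := by
    have : (s + 2) * (x + 1) = (s + 2) * x + (s + 1) + 1 := by ring
    omega
  have a4 : (s + 2) ^ 2 * (x + 1) - (s + 2) = (s + 2) ^ 2 * x + (s ^ 2 + 3 * s + 2) := by
    have : (s + 2) ^ 2 * (x + 1) = (s + 2) ^ 2 * x + (s ^ 2 + 3 * s + 2) + (s + 2) := by ring
    omega
  have a5 : (s + 2) ^ 2 - 1 = s ^ 2 + 4 * s + 3 := by
    have : (s + 2) ^ 2 = s ^ 2 + 4 * s + 3 + 1 := by ring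
    omega
  rw [a1, a2, a3, a4, a5]
  ring

/-- ARITH-3: integrality kills `D = B_n - 1` -/
theorem arith_int (q n D f₀ r Tc : ℕ) (hq : 2 ≤ q) (hn : 4 ≤ n) (hD : D = f₀ + r)
    (hf₀ : (q ^ n - q) / (q - 1) ≤ f₀)
    (hr : r * (q ^ 2 - 1) = (q ^ n - 1) * (q ^ (n - 1) - 1))
    (hT : Tc * (q ^ 2 - 1) = (q ^ n - 1) * (q ^ (n - 1) + 1) * (q ^ (n - 1) - 1) * (q ^ (n - 2) + 1))
    (hdiv : (D : ℤ) ∣ (Tc : ℤ) * ((D : ℤ) - (q : ℤ) ^ (2 * n - 3))) :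
    (q ^ n - 1) * (q ^ (n - 1) + q) / (q ^ 2 - 1) ≤ D := by
  have hB := B_eq q n r hq hn hr
  by_contra hlt
  push Not at hlt
  have hD1 : D + 1 = (q ^ n - 1) * (q ^ (n - 1) + q) / (q ^ 2 - 1) := by
    rw [hB] at hlt ⊢
    omega
  exact arithT q n D Tc hq hn hD1 hT hdiv

end Cfsg.Agent.Lib.H6.OPMin
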