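import Cfsg.Agent.Lib.H12.OPMinDefs
import Cfsg.Agent.Lib.H6.OPSiegel

/-!
# S2345 pieces SQ and STR-U (helper6): a unit whose square is not one; the radical lies in `Ω`
-/

set_option autoImplicit false

namespace Cfsg.Agent.Lib.H6.OPMin

open Matrix Cfsg.Agent.Lib.H12.OPMin

variable {F : Type*} [Field F]

/-- SQ -/
theorem exists_sq_ne_one [Fintype F] (hq : 4 ≤ Fintype.card F) : ∃ t : Fˣ, (t : F) ^ 2 ≠ 1 := by
  obtain ⟨a, ha0, ha1⟩ := Cfsg.Agent.Lib.H6.OPSiegel.exists_sq_ne_one (F := F) (by omega)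
  exact ⟨Units.mk0 a ha0, ha1⟩

/-- STR-U -/
theorem uO_mem_Omega [Fintype F] (hq : 4 ≤ Fintype.card F) {n : ℕ} (S : Alt n F) :
    uO S ∈ Cfsg.Omega F (Cfsg.quadFormPlus n F) := by
  have h := Cfsg.Agent.Lib.H6.OPSiegel.uO_mem_Omega (F := F) (n := n) (by omega) S.1
    ⟨transpose_of_mem S.2, diag_of_mem S.2⟩
  have e : uO S = Cfsg.Agent.Lib.H6.OPSiegel.uO S.1 ⟨transpose_of_mem S.2, diag_of_mem S.2⟩ :=
    OG_ext rfl
  rw [e]
  exact h

end Cfsg.Agent.Lib.H6.OPMin
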