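import Cfsg.Agent.Lib.H12.OPMinDefs
import Cfsg.Agent.Lib.H6.OPSiegel

/-!
# S2345 piece STR-L (helper6): the Levi elements of square determinant lie in `Ω`
-/

set_option autoImplicit false

namespace Cfsg.Agent.Lib.H6.OPMin

open Matrix Cfsg.Agent.Lib.H12.OPMin
open Cfsg.Agent.Lib.H13.PlusLevi Cfsg.Agent.Lib.H13 Cfsg.Agent.Lib.H2

variable {F : Type*} [Field F]

/-- `lO` is helper6's `levO` -/
theorem lO_eq_levO {n : ℕ} (A : GL (Fin n) F) : lO A = Cfsg.Agent.Lib.H6.OPSiegel.levO A :=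
  OG_ext rfl

/-- `diag (b², 1, …; b⁻², 1, …) ∈ Ω` (transfer of helper13's `levi_diagOne_sq_mem`) -/
theorem lO_diagOne_sq_mem {n : ℕ} (i : Fin n) (b : F) (hb : b ≠ 0) :
    lO (diagOne i (b * b) (mul_ne_zero hb hb)) ∈ Cfsg.Omega F (Cfsg.quadFormPlus n F) := by
  have key : ∀ Q₀ : (Fin n ⊕ Fin n → F) → F, ⇑(plusQF F n) = Q₀ →
      ∀ g : ↥(Cfsg.isometryGroup F Q₀),
        ((g : GL (Fin n ⊕ Fin n) F) : Matrix (Fin n ⊕ Fin n) (Fin n ⊕ Fin n) F) =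
          leviM (diagOne i (b * b) (mul_ne_zero hb hb)) → g ∈ Cfsg.Omega F Q₀ := by
    rintro _ rfl g hg
    have : g = levi (diagOne i (b * b) (mul_ne_zero hb hb)) := Subtype.ext (Units.ext hg)
    rw [this]
    exact levi_diagOne_sq_mem i b hb
  exact key _ (Cfsg.Agent.S0287.coe_plusQF n) _ rfl

/-- STR-L -/
theorem lO_mem_Omega {n : ℕ} (hn : 3 ≤ n) (A : GL (Fin n) F) (hA : A ∈ sqGL n F) :
    lO A ∈ Cfsg.Omega F (Cfsg.quadFormPlus n F) := by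
  classical
  obtain ⟨c, hc⟩ := mem_sqGL.1 hA
  set i₀ : Fin n := ⟨0, by omega⟩
  have hc0 : (c : F) ≠ 0 := c.ne_zero
  set D := diagOne i₀ ((c : F) * (c : F)) (mul_ne_zero hc0 hc0) with hD
  have hdetD : Matrix.GeneralLinearGroup.det D = c ^ 2 := by
    apply Units.ext
    rw [Matrix.GeneralLinearGroup.val_det_apply]
    show (diagonal (fun k => if k = i₀ then (c : F) * (c : F) else 1)).det = ((c ^ 2 : Fˣ) : F)
    rw [Matrix.det_diagonal, Finset.prod_ite_eq' Finset.univ i₀ (fun _ => (c : F) * (c : F))]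
    simp [pow_two]
  have hA₁ : Matrix.GeneralLinearGroup.det (A * D⁻¹) = 1 := by
    rw [map_mul, map_inv, hdetD, ← hc, mul_inv_cancel]
  have h1 : lO (A * D⁻¹) ∈ Cfsg.Omega F (Cfsg.quadFormPlus n F) := by
    rw [lO_eq_levO]
    exact Cfsg.Agent.Lib.H6.OPSiegel.levO_mem_of_det_one hn _ hA₁
  have h2 : lO D ∈ Cfsg.Omega F (Cfsg.quadFormPlus n F) := lO_diagOne_sq_mem i₀ (c : F) hc0
  have e : lO A = lO (A * D⁻¹) * lO D := by
    rw [← map_mul, inv_mul_cancel_right]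
  rw [e]
  exact Subgroup.mul_mem _ h1 h2

end Cfsg.Agent.Lib.H6.OPMin
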