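import Mathlib
import Cfsg.Prelude.Def_LieExceptional
import Cfsg.Agent.Lib.H12.InvCell4
import Cfsg.Agent.Lib.H12.InvCell5
import Cfsg.Agent.Lib.H10.ICCOMB
import Cfsg.Agent.Lib.H5.ICHCONJ

/-!
# Involutions of a Chevalley group in characteristic two: the table-driven case analysis

Generic over helper29's `Cert12` tower, on top of helper12's maximal-cell theorem `exists_conj_monomial` (with SUPP,
COMB), JTAB, NHAT and HCONJ. A table gives for every subset `J` of the fundamental roots (a bitmask `k < 2 ^ l`) either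
a word `w` (for which `J` turns out to be contradictory) or a list of reflection words in pairwise strongly commuting
roots whose product is the Weyl group element attached to `J`. Conclusion: every involution is conjugate in the group to
the product `y_S` of the root elements `x_r(1)`, `r ∈ S`, for one of the root sets `S` of the table.
-/

set_option autoImplicit false
set_option linter.unusedSectionVars false
set_option linter.unusedSimpArgs false
set_option linter.unusedVariables false

namespace Cfsg.Agent.Lib.H6.Inv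

open Cfsg Cfsg.Lie Matrix Cfsg.Agent.Lib.H29.Chev Cfsg.Agent.Lib.H12.F4V Cfsg.Agent.Lib.H12.InvCell

variable {D : ChevalleyDatum} {fd : FD} {fx : FX} {fc : FC} {fz : FZ} {F : Type*} [Field F]

/-- the root elements of `s` and `r` commute in characteristic two, by the table of the commutator formula -/
def comm2 (fd : FD) (s r : ℕ) : Bool :=
  Nat.beq s r || (!(Nat.beq r (fd.n - 1 - s)) && (fd.commT s r).all fun c => intBeq (c.2.1 % 2) 0)

theorem comm2_comm [CharP F 2] (C : Cert12 D fd fx fc fz) (s r : ℕ) (hs : s < fd.n) (hr : r < fd.n)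
    (h : comm2 fd s r = true) (t u : F) : Commute (C.c6.c2.xA s t) (C.c6.c2.xA r u) := by
  unfold comm2 at h
  rw [Bool.or_eq_true] at h
  rcases h with h | h
  · have e : s = r := (natBeq_iff _ _).mp h
    subst e
    show C.c6.c2.xA s t * C.c6.c2.xA s u = C.c6.c2.xA s u * C.c6.c2.xA s t
    rw [C.c6.c2.xA_mul, C.c6.c2.xA_mul, add_comm]
  · rw [Bool.and_eq_true] at h
    obtain ⟨h1, h2⟩ := h
    have h1' : r ≠ fd.n - 1 - s := by
      intro e
      have : Nat.beq r (fd.n - 1 - s) = true := (natBeq_iff _ _).mpr e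
      simp [this] at h1
    by_cases hsr : r = s
    · subst hsr
      show C.c6.c2.xA r t * C.c6.c2.xA r u = C.c6.c2.xA r u * C.c6.c2.xA r t
      rw [C.c6.c2.xA_mul, C.c6.c2.xA_mul, add_comm]
    · apply C.xA_comm_of_coef s r hs hr hsr h1'
      intro c hc
      have := List.all_eq_true.mp h2 c hc
      have hdvd : (2 : ℤ) ∣ c.2.1 := Int.dvd_of_emod_eq_zero ((intBeq_iff _ _).mp this)
      obtain ⟨k, hk⟩ := hdvd
      have h2F : ((2 : ℤ) : F) = 0 := by
        have := CharP.cast_eq_zero F 2
        exact_mod_cast this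
      rw [hk, Int.cast_mul, h2F, zero_mul]

/-- strong commutation of the root subgroups `X_{±r}`, `X_{±r'}` in characteristic two -/
def scommB (fd : FD) (r r' : ℕ) : Bool :=
  comm2 fd r r' && comm2 fd r (fd.n - 1 - r') && comm2 fd (fd.n - 1 - r) r' && comm2 fd (fd.n - 1 - r) (fd.n - 1 - r')

/-- a Boolean pairwise test -/
def pairwiseB (f : ℕ → ℕ → Bool) : List ℕ → Bool
  | [] => true
  | a :: l => l.all (f a) && pairwiseB f l

theorem pairwiseB_spec (f : ℕ → ℕ → Bool) (l : List ℕ) (h : pairwiseB f l = true) :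
    l.Pairwise fun a b => f a b = true := by
  induction l with
  | nil => exact List.Pairwise.nil
  | cons a l ih =>
    simp only [pairwiseB, Bool.and_eq_true, List.all_eq_true] at h
    exact List.Pairwise.cons h.1 (ih h.2)

/-- an entry of the table: a word (contradictory subset), or reflection words of strongly commuting roots -/
abbrev Ent := List ℕ ⊕ List (List ℕ × ℕ)

/-- the word of an entry -/
def entW : Ent → List ℕ
  | .inl w => w
  | .inr Ws => Ws.flatMap fun p => reflWord p.1 p.2

/-- the root of a reflection word -/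
def wsRoot (fd : FD) (fx : FX) (p : List ℕ × ℕ) : ℕ := fd.wordP fx p.1 (fd.simples.getD p.2 0)

def isWdB (k : ℕ) (w : List ℕ) : Bool := w.all fun i => Nat.blt i k

theorem isWdB_spec {k : ℕ} {w : List ℕ} (h : isWdB k w = true) : IsWd k w := by
  intro i hi
  simp only [isWdB, List.all_eq_true, natBlt_iff] at h
  exact h i hi

/-- the table condition of JTAB for the subset with bitmask `k` -/
def htabB (fd : FD) (fx : FX) (k : ℕ) (w : List ℕ) : Bool :=
  (List.range fd.l).all fun i =>
    ((List.range fd.l).any fun k' =>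
      k.testBit k' && Nat.beq (fd.wordP fx w.reverse (fd.simples.getD i 0)) (fd.simples.getD k' 0)) ||
    (Nat.blt (fd.wordP fx w.reverse (fd.simples.getD i 0)) (fd.n / 2) &&
      (List.range fd.l).any fun j =>
        !k.testBit j && !intBeq (fd.rcZ fx (fd.n - 1 - fd.wordP fx w.reverse (fd.simples.getD i 0)) j) 0)

theorem htabB_spec {k : ℕ} {w : List ℕ} (h : htabB fd fx k w = true) :
    ∀ i < fd.l, (∃ k' < fd.l, k.testBit k' = true ∧
        fd.wordP fx w.reverse (fd.simples.getD i 0) = fd.simples.getD k' 0) ∨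
      (fd.wordP fx w.reverse (fd.simples.getD i 0) < fd.n / 2 ∧
        ∃ j < fd.l, k.testBit j = false ∧
          fd.rcZ fx (fd.n - 1 - fd.wordP fx w.reverse (fd.simples.getD i 0)) j ≠ 0) := by
  intro i hi
  simp only [htabB, List.all_eq_true, List.mem_range, Bool.or_eq_true, List.any_eq_true, Bool.and_eq_true,
    natBeq_iff, natBlt_iff, Bool.not_eq_true'] at h
  rcases h i hi with ⟨k', hk', h1, h2⟩ | ⟨h1, j, hj, h2, h3⟩
  · exact Or.inl ⟨k', hk', h1, h2⟩
  · refine Or.inr ⟨h1, j, hj, h2, ?_⟩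
    intro e
    have : intBeq (fd.rcZ fx (fd.n - 1 - fd.wordP fx w.reverse (fd.simples.getD i 0)) j) 0 = true :=
      (intBeq_iff _ _).mpr e
    rw [this] at h3
    exact Bool.noConfusion h3

/-- the check of the entry for the bitmask `k` -/
def chkEnt (fd : FD) (fx : FX) (k : ℕ) : Ent → Bool
  | .inl w => isWdB fd.l w && htabB fd fx k w &&
      (List.range fd.l).any fun i =>
        k.testBit i && !Nat.beq (fd.wordP fx w (fd.simples.getD i 0)) (fd.simples.getD i 0)
  | .inr Ws => (Ws.all fun p => isWdB fd.l p.1 && Nat.blt p.2 fd.l) && htabB fd fx k (entW (.inr Ws)) &&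
      pairwiseB (scommB fd) (Ws.map (wsRoot fd fx))

/-- the product of the root elements `x_r(1)` over the roots of the reflection words -/
noncomputable def yS (C : Cert12 D fd fx fc fz) (F : Type*) [Field F] (Ws : List (List ℕ × ℕ)) : GL D.Idx F :=
  lp C (Ws.map fun p => (wsRoot fd fx p, (1 : F)))

theorem lp_ones_sq [CharP F 2] (C : Cert12 D fd fx fc fz) (rs : List ℕ)
    (hc : rs.Pairwise fun r r' => ∀ t u : F, Commute (C.c6.c2.xA r t) (C.c6.c2.xA r' u)) :
    lp C (rs.map fun r => (r, (1 : F))) * lp C (rs.map fun r => (r, (1 : F))) = 1 := by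
  induction rs with
  | nil => rw [List.map_nil, lp_nil, mul_one]
  | cons r rs ih =>
    rw [List.pairwise_cons] at hc
    rw [List.map_cons, lp_cons]
    simp only
    have hcm : Commute (C.c6.c2.xA r (1 : F)) (lp C (rs.map fun r => (r, (1 : F)))) := by
      apply commute_lp
      intro q hq
      obtain ⟨q', hq', rfl⟩ := List.mem_map.mp hq
      exact hc.1 q' hq' 1 1
    calc C.c6.c2.xA r (1 : F) * lp C (rs.map fun r => (r, (1 : F))) *
          (C.c6.c2.xA r (1 : F) * lp C (rs.map fun r => (r, (1 : F))))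
        = C.c6.c2.xA r (1 : F) * (lp C (rs.map fun r => (r, (1 : F))) * C.c6.c2.xA r (1 : F)) *
            lp C (rs.map fun r => (r, (1 : F))) := by group
      _ = C.c6.c2.xA r (1 : F) * (C.c6.c2.xA r (1 : F) * lp C (rs.map fun r => (r, (1 : F)))) *
            lp C (rs.map fun r => (r, (1 : F))) := by rw [hcm.eq]
      _ = (C.c6.c2.xA r (1 : F) * C.c6.c2.xA r (1 : F)) *
            (lp C (rs.map fun r => (r, (1 : F))) * lp C (rs.map fun r => (r, (1 : F)))) := by group
      _ = 1 := by rw [xA_sq_char2 C, ih hc.2, mul_one]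

/-- **every involution is conjugate to the product of root elements of an admissible entry of the table** -/
theorem exists_conj_yS [Fintype F] [CharP F 2] (C : Cert12 D fd fx fc fz) (hlow : LowStmt fd fx)
    (hodd : Odd (Nat.card ↥(D.diagonalSubgroup F))) (tab : ℕ → Ent)
    (htab : ∀ k < 2 ^ fd.l, chkEnt fd fx k (tab k) = true)
    (g : GL D.Idx F) (hg : g ∈ D.group F) (hg2 : g * g = 1) :
    ∃ k < 2 ^ fd.l, ∃ Ws, tab k = .inr Ws ∧ ∃ h ∈ D.group F, h * g * h⁻¹ = yS C F Ws := by
  classical
  have hCS : CombStmt fd fx := fun π hlin hlt hinv hJ r hr hpos hπr =>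
    Cfsg.Agent.Lib.H10.IC.comb C π hlin hlt hinv hJ r hr hpos hπr
  obtain ⟨z, hz, m, hm, hzm, π, hπ, hlin, hinv, hJ, hcomb⟩ :=
    exists_conj_monomial C (suppStmt C) hCS hlow g hg hg2
  set f : Fin fd.l → Bool := fun i => decide (π (fd.simples.getD i.val 0) = fd.simples.getD i.val 0) with hf
  set k := Nat.ofBits f with hk
  have hklt : k < 2 ^ fd.l := Nat.ofBits_lt_two_pow f
  have hbit : ∀ i (hi : i < fd.l), k.testBit i = decide (π (fd.simples.getD i 0) = fd.simples.getD i 0) := by
    intro i hi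
    rw [hk, Nat.testBit_ofBits_lt f i hi]
  have hJ' : ∀ i < fd.l, (k.testBit i = true → π (fd.simples.getD i 0) = fd.simples.getD i 0) ∧
      (k.testBit i = false → π (fd.simples.getD i 0) < fd.n / 2) := by
    intro i hi
    rw [hbit i hi]
    constructor
    · intro h; exact of_decide_eq_true h
    · intro h
      have hne : π (fd.simples.getD i 0) ≠ fd.simples.getD i 0 := of_decide_eq_false h
      rcases hJ i hi with h1 | h1
      · exact h1
      · exact absurd h1 hne
  have hcomb' : ∀ r, r < fd.n → fd.n / 2 ≤ r → fd.n / 2 ≤ π r →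
      ∀ j < fd.l, π (fd.simples.getD j 0) < fd.n / 2 → fd.rcZ fx r j = 0 :=
    fun r hr hpos hπr => (hcomb r hr hpos hπr).2
  have hchk := htab k hklt
  refine ⟨k, hklt, ?_⟩
  cases hE : tab k with
  | inl w =>
    exfalso
    rw [hE] at hchk
    simp only [chkEnt, Bool.and_eq_true, List.any_eq_true, List.mem_range, Bool.not_eq_true'] at hchk
    obtain ⟨⟨hw, ht⟩, i, hi, hki, hne⟩ := hchk
    have hwd := isWdB_spec hw
    obtain ⟨_, hπw⟩ := mem_diag_of_table C m hm π hπ hcomb' w hwd (fun j => k.testBit j) hJ' (htabB_spec ht)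
    have h1 := hπw _ (C.c6.c2.simple_lt i hi)
    have h2 := (hJ' i hi).1 hki
    rw [h2] at h1
    have : Nat.beq (fd.wordP fx w (fd.simples.getD i 0)) (fd.simples.getD i 0) = true :=
      (natBeq_iff _ _).mpr h1.symm
    rw [this] at hne
    exact Bool.noConfusion hne
  | inr Ws =>
    rw [hE] at hchk
    simp only [chkEnt, Bool.and_eq_true, List.all_eq_true, natBlt_iff] at hchk
    obtain ⟨⟨hWs, ht⟩, hpw⟩ := hchk
    have hW : ∀ p ∈ Ws, IsWd fd.l p.1 ∧ p.2 < fd.l := fun p hp => ⟨isWdB_spec (hWs p hp).1, (hWs p hp).2⟩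
    have hwd : IsWd fd.l (entW (.inr Ws)) := by
      intro i hi
      simp only [entW, List.mem_flatMap] at hi
      obtain ⟨p, hp, hip⟩ := hi
      exact reflWord_isWd p.1 p.2 (hW p hp).1 (hW p hp).2 i hip
    obtain ⟨hd, _⟩ := mem_diag_of_table C m hm π hπ hcomb' (entW (.inr Ws)) hwd (fun j => k.testBit j) hJ'
      (htabB_spec ht)
    have hrlt : ∀ p ∈ Ws, wsRoot fd fx p < fd.n := fun p hp =>
      C.wordP_lt p.1 (hW p hp).1 _ (C.c6.c2.simple_lt p.2 (hW p hp).2)
    have hev := C.c6.c2.heven
    -- strong commutation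
    have hpw' := pairwiseB_spec _ _ hpw
    have hsc : (Ws.map fun p => fd.wordP fx p.1 (fd.simples.getD p.2 0)).Pairwise fun r r' =>
        ∀ t u : F, Commute (C.c6.c2.xA r t) (C.c6.c2.xA r' u) ∧
          Commute (C.c6.c2.xA r t) (C.c6.c2.xA (fd.n - 1 - r') u) ∧
          Commute (C.c6.c2.xA (fd.n - 1 - r) t) (C.c6.c2.xA r' u) ∧
          Commute (C.c6.c2.xA (fd.n - 1 - r) t) (C.c6.c2.xA (fd.n - 1 - r') u) := by
      have hmem : ∀ r ∈ Ws.map (wsRoot fd fx), r < fd.n := by
        intro r hr
        obtain ⟨p, hp, rfl⟩ := List.mem_map.mp hr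
        exact hrlt p hp
      show (Ws.map (wsRoot fd fx)).Pairwise _
      refine List.Pairwise.imp_of_mem ?_ hpw'
      intro r r' hr hr' hrr' t u
      have h1 := hmem r hr
      have h2 := hmem r' hr'
      simp only [scommB, Bool.and_eq_true] at hrr'
      obtain ⟨⟨⟨c1, c2⟩, c3⟩, c4⟩ := hrr'
      exact ⟨comm2_comm C _ _ h1 h2 c1 t u, comm2_comm C _ _ h1 (by omega) c2 t u,
        comm2_comm C _ _ (by omega) h2 c3 t u, comm2_comm C _ _ (by omega) (by omega) c4 t u⟩
    obtain ⟨c, hcG, hcw⟩ := wordN_refl_conj C Ws hW hsc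
    have hy2 : yS C F Ws * yS C F Ws = 1 := by
      have := lp_ones_sq C (Ws.map (wsRoot fd fx)) (hsc.imp fun h t u => (h t u).1)
      rw [List.map_map] at this
      exact this
    set n := C.wordN F (entW (.inr Ws)) with hn
    have hnn : n * n = 1 := by
      have e : n = c * yS C F Ws * c⁻¹ := hcw
      rw [e]
      calc c * yS C F Ws * c⁻¹ * (c * yS C F Ws * c⁻¹) = c * (yS C F Ws * yS C F Ws) * c⁻¹ := by group
        _ = 1 := by rw [hy2]; group
    have hmm : m * m = 1 := by
      rw [← hzm]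
      calc z * g * z⁻¹ * (z * g * z⁻¹) = z * (g * g) * z⁻¹ := by group
        _ = 1 := by rw [hg2]; group
    obtain ⟨k', hk', hkm⟩ := Cfsg.Agent.Lib.H5.IC.conj_of_mul_inv_mem (D.diagonalSubgroup F) hodd m n hd hmm hnn
    refine ⟨Ws, rfl, c⁻¹ * k' * z, ?_, ?_⟩
    · exact mul_mem (mul_mem (inv_mem hcG) (C.c6.c2.diag_le_group hk')) hz
    · have e : n = c * yS C F Ws * c⁻¹ := hcw
      calc c⁻¹ * k' * z * g * (c⁻¹ * k' * z)⁻¹ = c⁻¹ * (k' * (z * g * z⁻¹) * k'⁻¹) * c := by group
        _ = c⁻¹ * n * c := by rw [hzm, hkm]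
        _ = yS C F Ws := by rw [e]; group

end Cfsg.Agent.Lib.H6.Inv
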