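import Mathlib
import Cfsg.Prelude.Def_ChevStructure
import Cfsg.Agent.Lib.H29.ChevIso1
import Cfsg.Agent.Lib.H29.ChevGen16

/-!
# Words in the root elements `x_r(1)`: sparse integer models, identities modulo `p`, rank certificates

On helper29's Chevalley tower. The matrix of a word `x_{r_1}(1) ⋯ x_{r_k}(1)` over a field is the image of the dense
matrix of the sparse integer matrix `wordSM fd [r_1, …, r_k]`, so identities between such words in characteristic `p`
and bounds for the rank of `(word) - 1` are checked by evaluation on the packed tables.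
-/

set_option autoImplicit false
set_option linter.unusedSectionVars false
set_option linter.unusedSimpArgs false
set_option linter.unusedVariables false

namespace Cfsg.Agent.Lib.H6.Inv

open Cfsg.Lie Matrix Cfsg.Agent.Lib.H29.Chev

variable {D : ChevalleyDatum} {fd : FD} {fx : FX} {F : Type*} [Field F]

/-- the sparse integer matrix of the word `x_{r_1}(1) ⋯ x_{r_k}(1)` -/
def wordSM (fd : FD) : List ℕ → SM
  | [] => fun c => [(c, 1)]
  | r :: L => SM.mul (fd.colX r 1) (wordSM fd L)

theorem bdd_smul (N : ℕ) (a : ℤ) (v : SV) (hv : SV.bdd N v = true) : SV.bdd N (SV.smul a v) = true := by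
  simp only [SV.bdd, SV.smul, List.all_eq_true, List.mem_map, decide_eq_true_eq] at hv ⊢
  rintro q ⟨q', hq', rfl⟩
  exact hv q' hq'

theorem bdd_append (N : ℕ) (v w : SV) (hv : SV.bdd N v = true) (hw : SV.bdd N w = true) :
    SV.bdd N (v ++ w) = true := by
  simp only [SV.bdd, List.all_append, Bool.and_eq_true] at hv hw ⊢
  exact ⟨hv, hw⟩

theorem bdd_apply (N : ℕ) (M : SM) (v : SV) (hM : ∀ c < N, SV.bdd N (M c) = true) (hv : SV.bdd N v = true) :
    SV.bdd N (SM.apply M v) = true := by
  induction v with
  | nil => rfl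
  | cons q v ih =>
    simp only [SV.bdd, List.all_cons, Bool.and_eq_true, decide_eq_true_eq] at hv
    have h1 : SV.bdd N (SM.apply M v) = true := ih (by simpa [SV.bdd] using hv.2)
    have h2 : SV.bdd N (SV.smul q.2 (M q.1)) = true := bdd_smul N _ _ (hM q.1 hv.1)
    show SV.bdd N (SV.smul q.2 (M q.1) ++ SM.apply M v) = true
    exact bdd_append N _ _ h2 h1

theorem colX_bdd (C : Cert2 D fd fx) (r : ℕ) (hr : r < fd.n) (c : ℕ) (hc : c < fd.l + fd.n) :
    SV.bdd (fd.l + fd.n) (fd.colX r 1 c) = true :=
  (fd.chkN_spec C.chk.nn r c hr hc).1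

theorem wordSM_bdd (C : Cert2 D fd fx) (L : List ℕ) (hL : ∀ r ∈ L, r < fd.n) (c : ℕ) (hc : c < fd.l + fd.n) :
    SV.bdd (fd.l + fd.n) (wordSM fd L c) = true := by
  induction L with
  | nil => simp [wordSM, SV.bdd, hc]
  | cons r L ih =>
    have ih' := ih (fun s hs => hL s (List.mem_cons_of_mem _ hs))
    show SV.bdd (fd.l + fd.n) (SM.apply (fd.colX r 1) (wordSM fd L c)) = true
    exact bdd_apply _ _ _ (fun c' hc' => colX_bdd C r (hL r List.mem_cons_self) c' hc') ih'

theorem code_surj' (C : Cert2 D fd fx) : ∀ k < fd.l + fd.n, ∃ a : D.Idx, code D a = k := by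
  intro k hk
  exact code_surj D k (by rw [C.agrees.hl, C.agrees.hn]; exact hk)

theorem code_lt' (C : Cert2 D fd fx) (a : D.Idx) : code D a < fd.l + fd.n := by
  rw [← C.agrees.hl, ← C.agrees.hn]; exact code_lt D a

theorem dens_id : SM.dens (code D) (fun c => [(c, 1)]) = (1 : Matrix D.Idx D.Idx ℤ) := by
  ext a b
  rw [SM.dens_apply, Matrix.one_apply]
  simp only [SV.get_cons, SV.get_nil, add_zero]
  by_cases hab : a = b
  · subst hab; simp
  · have : code D b ≠ code D a := fun h => hab (code_injective D h).symm
    simp [this, hab]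

/-- the word over `ℤ` -/
theorem wordZ (C : Cert2 D fd fx) (L : List ℕ) (hL : ∀ r ∈ L, r < fd.n) :
    (L.map fun r => XR D ℤ r 1).prod = SM.dens (code D) (wordSM fd L) := by
  induction L with
  | nil => simp [wordSM, dens_id]
  | cons r L ih =>
    have ih' := ih (fun s hs => hL s (List.mem_cons_of_mem _ hs))
    rw [List.map_cons, List.prod_cons, ih', XZ_eq_dens C.agrees C.chk.pref r (hL r List.mem_cons_self) 1]
    rw [SM.dens_mul (code D) (code_injective D) (fd.l + fd.n) (code_surj' C)]
    · rfl
    · intro j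
      exact wordSM_bdd C L (fun s hs => hL s (List.mem_cons_of_mem _ hs)) _ (code_lt' C j)

/-- the word over a field -/
theorem wordF (C : Cert2 D fd fx) (L : List ℕ) (hL : ∀ r ∈ L, r < fd.n) :
    (L.map fun r => D.x F r 1).prod = (SM.dens (code D) (wordSM fd L)).map (Int.castRingHom F) := by
  rw [← wordZ C L hL]
  induction L with
  | nil => simp
  | cons r L ih =>
    have ih' := ih (fun s hs => hL s (List.mem_cons_of_mem _ hs))
    rw [List.map_cons, List.prod_cons, List.map_cons, List.prod_cons, Matrix.map_mul, ← ih',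
      XR_map, x_eq_XR C.agrees r (hL r List.mem_cons_self)]
    simp

/-- the word in the group -/
noncomputable def wordG (C : Cert2 D fd fx) (F : Type*) [Field F] (L : List ℕ) : GL D.Idx F :=
  (L.map fun r => C.xA r (1 : F)).prod

theorem wordG_val (C : Cert2 D fd fx) (L : List ℕ) :
    ((wordG C F L : GL D.Idx F) : Matrix D.Idx D.Idx F) = (L.map fun r => D.x F r 1).prod := by
  induction L with
  | nil => simp [wordG]
  | cons r L ih =>
    unfold wordG at ih ⊢
    rw [List.map_cons, List.prod_cons, List.map_cons, List.prod_cons, Units.val_mul, ih, C.xA_val]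

theorem wordG_mem (C : Cert2 D fd fx) (L : List ℕ) : wordG C F L ∈ D.group F := by
  unfold wordG
  apply Subgroup.list_prod_mem
  intro x hx
  obtain ⟨r, _, rfl⟩ := List.mem_map.mp hx
  exact C.xA_mem_group r 1

theorem wordG_append (C : Cert2 D fd fx) (L L' : List ℕ) :
    wordG C F (L ++ L') = wordG C F L * wordG C F L' := by
  unfold wordG
  rw [List.map_append, List.prod_append]

/-- equality of the images of two sparse matrices congruent modulo the characteristic -/
theorem dens_map_congr (p : ℕ) [CharP F p] (C : Cert2 D fd fx) (M P : SM)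
    (hc : ∀ c < fd.l + fd.n, SV.eqMod p (M c) (P c) = true) :
    (SM.dens (code D) M).map (Int.castRingHom F) = (SM.dens (code D) P).map (Int.castRingHom F) := by
  ext a b
  simp only [Matrix.map_apply, SM.dens_apply, Int.coe_castRingHom]
  exact cast_eq_of_dvd_sub p _ _ (SV.eqMod_spec (hc _ (code_lt' C b)) (code D a))

/-- the check of a word identity modulo `p` -/
def chkWord (fd : FD) (p : ℕ) (L L' : List ℕ) : Bool :=
  (List.range (fd.l + fd.n)).all fun c => SV.eqMod p (wordSM fd L c) (wordSM fd L' c)

/-- identities between words in the `x_r(1)` in characteristic `p` -/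
theorem word_eq (p : ℕ) [CharP F p] (C : Cert2 D fd fx) (L L' : List ℕ) (hL : ∀ r ∈ L, r < fd.n)
    (hL' : ∀ r ∈ L', r < fd.n) (hc : chkWord fd p L L' = true) : wordG C F L = wordG C F L' := by
  apply Units.ext
  rw [wordG_val, wordG_val, wordF C L hL, wordF C L' hL']
  apply dens_map_congr p C
  intro c hc'
  simp only [chkWord, List.all_eq_true, List.mem_range] at hc
  exact hc c hc'

end Cfsg.Agent.Lib.H6.Inv
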