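import Mathlib
import Cfsg.Agent.Lib.H18.S1950RG

/-!
# S3017 (helper6): ENDA — the pure CASE A of helper7's proof of Shult's theorem

No groups `G`, no blocks: `A` a finite abelian group, `N` a finite group acting on `A` through `φ : N →* MulAut A`,
a finite family `χ i : A → ℂ` of `N`-invariant functions with natural "multiplicities" against every linear
character of `A`, the ORTH identity in pair-count form and the CS identity off the diagonal.  If `N` is not
transitive on `A ∖ {1}` then `N` acts trivially on `A`.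

* `conj_char`, `sum_char`, `sum_char_mul_conj` : linear characters `A →* ℂˣ` of a finite abelian group.
* `card_pairs_eq` : orbit–stabilizer, `#{(n,n') | x = φ n' c}`-type conversion between the pair count and the orbit count.
* `four` : the Fourier step.
* `enda` : the theorem.
-/

set_option autoImplicit false

namespace Cfsg.Agent.Lib.H6.SH

open scoped ComplexConjugate
open Finset

section chars

variable {A : Type*} [CommGroup A] [Fintype A]

theorem norm_char (l : A →* ℂˣ) (a : A) : ‖((l a : ℂˣ) : ℂ)‖ = 1 := by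
  have h1 : ((l a : ℂˣ) : ℂ) ^ Fintype.card A = 1 := by
    rw [← Units.val_pow_eq_pow_val, ← map_pow, pow_card_eq_one, map_one, Units.val_one]
  have h2 : ‖((l a : ℂˣ) : ℂ)‖ ^ Fintype.card A = 1 := by rw [← norm_pow, h1, norm_one]
  exact (pow_eq_one_iff_of_nonneg (norm_nonneg _) Fintype.card_ne_zero).1 h2

theorem conj_char (l : A →* ℂˣ) (a : A) : conj ((l a : ℂˣ) : ℂ) = ((l a⁻¹ : ℂˣ) : ℂ) := by
  rw [map_inv, Units.val_inv_eq_inv_val, Complex.inv_eq_conj (norm_char l a)]

theorem sum_char (l : A →* ℂˣ) (hl : l ≠ 1) : ∑ b, ((l b : ℂˣ) : ℂ) = 0 := by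
  obtain ⟨a, ha⟩ : ∃ a, l a ≠ 1 := by
    by_contra h
    exact hl (MonoidHom.ext fun a => by_contra fun ha => h ⟨a, ha⟩)
  have h1 : ((l a : ℂˣ) : ℂ) * ∑ b, ((l b : ℂˣ) : ℂ) = ∑ b, ((l b : ℂˣ) : ℂ) := by
    rw [Finset.mul_sum]
    exact Fintype.sum_equiv (Equiv.mulLeft a) _ _ (fun b => by simp [map_mul])
  have h2 : ((l a : ℂˣ) : ℂ) ≠ 1 := fun h => ha (Units.ext h)
  have h3 : (((l a : ℂˣ) : ℂ) - 1) * ∑ b, ((l b : ℂˣ) : ℂ) = 0 := by
    rw [sub_mul, h1, one_mul, sub_self]
  rcases mul_eq_zero.1 h3 with h | h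
  · exact absurd (sub_eq_zero.1 h) h2
  · exact h

theorem sum_char_mul_conj [DecidableEq (A →* ℂˣ)] (l l' : A →* ℂˣ) :
    ∑ b, ((l b : ℂˣ) : ℂ) * conj ((l' b : ℂˣ) : ℂ) = if l = l' then (Fintype.card A : ℂ) else 0 := by
  have h1 : ∀ b, ((l b : ℂˣ) : ℂ) * conj ((l' b : ℂˣ) : ℂ) = (((l * l'⁻¹) b : ℂˣ) : ℂ) := by
    intro b
    rw [conj_char, MonoidHom.mul_apply, MonoidHom.inv_apply, Units.val_mul, map_inv]
  rw [Finset.sum_congr rfl (fun b _ => h1 b)]
  by_cases h : l = l'
  · rw [if_pos h, h]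
    have h2 : ∀ b, (((l' * l'⁻¹) b : ℂˣ) : ℂ) = 1 := by
      intro b
      rw [MonoidHom.mul_apply, MonoidHom.inv_apply, mul_inv_cancel, Units.val_one]
    rw [Finset.sum_congr rfl (fun b _ => h2 b)]
    simp
  · rw [if_neg h]
    apply sum_char
    intro h2
    exact h (mul_inv_eq_one.1 h2)

end chars

section count

variable {A N : Type*} [CommGroup A] [Fintype A] [DecidableEq A] [Group N] [Fintype N]

/-- summing a function against the pair count. -/
theorem sum_mul_card_pairs (φ : N →* MulAut A) (F : A → ℂ) (a c : A) :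
    ∑ b, F b * (((Finset.univ : Finset (N × N)).filter (fun x => a * φ x.1 b = φ x.2 c)).card : ℂ) =
      ∑ n : N, ∑ n' : N, F ((φ n).symm (a⁻¹ * φ n' c)) := by
  have h1 : ∀ b, F b * (((Finset.univ : Finset (N × N)).filter (fun x => a * φ x.1 b = φ x.2 c)).card : ℂ) =
      ∑ x : N × N, if b = (φ x.1).symm (a⁻¹ * φ x.2 c) then F b else 0 := by
    intro b
    rw [Finset.natCast_card_filter, Finset.mul_sum]
    refine Finset.sum_congr rfl fun x _ => ?_
    have hiff : a * φ x.1 b = φ x.2 c ↔ b = (φ x.1).symm (a⁻¹ * φ x.2 c) := by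
      constructor
      · intro h
        rw [← h, inv_mul_cancel_left, MulEquiv.symm_apply_apply]
      · intro h
        rw [h, MulEquiv.apply_symm_apply, mul_inv_cancel_left]
    by_cases h : a * φ x.1 b = φ x.2 c
    · rw [if_pos h, if_pos (hiff.1 h), mul_one]
    · rw [if_neg h, if_neg (fun h' => h (hiff.2 h')), mul_zero]
  rw [Finset.sum_congr rfl (fun b _ => h1 b), Finset.sum_comm, Fintype.sum_prod_type]
  refine Finset.sum_congr rfl fun n _ => Finset.sum_congr rfl fun n' _ => ?_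
  rw [Finset.sum_ite_eq' Finset.univ ((φ n).symm (a⁻¹ * φ n' c)) F, if_pos (Finset.mem_univ _)]

/-- fibres of `n' ↦ φ n' c` over the orbit have the size of the stabilizer. -/
theorem card_fiber_eq (φ : N →* MulAut A) (c x : A) (hx : ∃ n₀ : N, φ n₀ c = x) :
    (Finset.univ.filter (fun n' : N => φ n' c = x)).card =
      (Finset.univ.filter (fun n' : N => φ n' c = c)).card := by
  obtain ⟨n₀, rfl⟩ := hx
  refine Finset.card_nbij' (fun n' => n₀⁻¹ * n') (fun n' => n₀ * n') ?_ ?_ ?_ ?_
  · intro n' hn'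
    rw [Finset.mem_coe, Finset.mem_filter] at hn' ⊢
    refine ⟨Finset.mem_univ _, ?_⟩
    rw [map_mul, MulAut.mul_apply, hn'.2, ← MulAut.mul_apply, ← map_mul, inv_mul_cancel, map_one,
      MulAut.one_apply]
  · intro n' hn'
    rw [Finset.mem_coe, Finset.mem_filter] at hn' ⊢
    refine ⟨Finset.mem_univ _, ?_⟩
    rw [map_mul, MulAut.mul_apply, hn'.2]
  · intro n' _
    exact mul_inv_cancel_left n₀ n'
  · intro n' _
    exact inv_mul_cancel_left n₀ n'

/-- the pair count is `|Stab c|` times the orbit count. -/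
theorem card_pairs_eq (φ : N →* MulAut A) (a b c : A) :
    ((Finset.univ : Finset (N × N)).filter (fun x => a * φ x.1 b = φ x.2 c)).card =
      (Finset.univ.filter (fun n' : N => φ n' c = c)).card *
        (Finset.univ.filter (fun n : N => ∃ n' : N, a * φ n b = φ n' c)).card := by
  classical
  rw [Finset.card_filter, Fintype.sum_prod_type]
  have h1 : ∀ n : N, (∑ n' : N, if a * φ n b = φ n' c then 1 else 0) =
      if (∃ n' : N, a * φ n b = φ n' c) then
        (Finset.univ.filter (fun n' : N => φ n' c = c)).card else 0 := by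
    intro n
    rw [← Finset.card_filter]
    by_cases h : ∃ n' : N, a * φ n b = φ n' c
    · rw [if_pos h]
      obtain ⟨n₀, hn₀⟩ := h
      rw [← card_fiber_eq φ c (a * φ n b) ⟨n₀, hn₀.symm⟩]
      congr 1
      ext n'
      simp only [Finset.mem_filter, Finset.mem_univ, true_and]
      exact eq_comm
    · rw [if_neg h, Finset.card_eq_zero, Finset.filter_eq_empty_iff]
      intro n' _ h'
      exact h ⟨n', h'⟩
  rw [Finset.sum_congr rfl (fun n _ => h1 n), Finset.sum_ite, Finset.sum_const_zero, add_zero,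
    Finset.sum_const, smul_eq_mul, mul_comm]

end count

section main

variable {A N ι : Type*} [CommGroup A] [Fintype A] [DecidableEq A] [Group N] [Fintype N] [Fintype ι]

/-- the orbit sum of a linear character. -/
noncomputable def orbS (φ : N →* MulAut A) (l : A →* ℂˣ) (a : A) : ℂ :=
  ∑ n : N, ((l (φ n a) : ℂˣ) : ℂ)

theorem orbS_one_right (φ : N →* MulAut A) (l : A →* ℂˣ) : orbS φ l 1 = (Fintype.card N : ℂ) := by
  unfold orbS
  simp

theorem orbS_one_left (φ : N →* MulAut A) (a : A) : orbS φ 1 a = (Fintype.card N : ℂ) := by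
  unfold orbS
  simp

/-- **FOUR**: the Fourier step. -/
theorem four (φ : N →* MulAut A) (χ : ι → A → ℂ) (κ : A → ℝ)
    (hORTH : ∀ a b c : A, c ≠ 1 → ∑ i, χ i a * χ i b * conj (χ i c) / χ i 1 =
      (κ c : ℂ) * (((Finset.univ : Finset (N × N)).filter (fun x => a * φ x.1 b = φ x.2 c)).card : ℂ))
    (l : A →* ℂˣ) (a c : A) (hc : c ≠ 1) :
    ∑ i, ((∑ b, χ i b * conj ((l b : ℂˣ) : ℂ)) / χ i 1) * χ i a * conj (χ i c) =
      (κ c : ℂ) * orbS φ l a * conj (orbS φ l c) := by
  have h1 : ∑ i, ((∑ b, χ i b * conj ((l b : ℂˣ) : ℂ)) / χ i 1) * χ i a * conj (χ i c) =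
      ∑ b, conj ((l b : ℂˣ) : ℂ) * ∑ i, χ i a * χ i b * conj (χ i c) / χ i 1 := by
    simp only [Finset.mul_sum, Finset.sum_div, Finset.sum_mul]
    rw [Finset.sum_comm]
    refine Finset.sum_congr rfl fun b _ => Finset.sum_congr rfl fun i _ => ?_
    ring
  rw [h1]
  have h2 : ∑ b, conj ((l b : ℂˣ) : ℂ) * ∑ i, χ i a * χ i b * conj (χ i c) / χ i 1 =
      (κ c : ℂ) * ∑ b, conj ((l b : ℂˣ) : ℂ) *
        (((Finset.univ : Finset (N × N)).filter (fun x => a * φ x.1 b = φ x.2 c)).card : ℂ) := by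
    rw [Finset.mul_sum]
    refine Finset.sum_congr rfl fun b _ => ?_
    rw [hORTH a b c hc]
    ring
  rw [h2, sum_mul_card_pairs φ (fun b => conj ((l b : ℂˣ) : ℂ)) a c, mul_assoc]
  congr 1
  have h3 : ∀ n n' : N, conj ((l ((φ n).symm (a⁻¹ * φ n' c)) : ℂˣ) : ℂ) =
      ((l (φ n⁻¹ a) : ℂˣ) : ℂ) * conj ((l (φ (n⁻¹ * n') c) : ℂˣ) : ℂ) := by
    intro n n'
    have hs : ∀ x, (φ n).symm x = φ n⁻¹ x := fun x => by rw [map_inv]; rfl
    have e1 : (φ n).symm (a⁻¹ * φ n' c) = (φ n⁻¹ a)⁻¹ * φ (n⁻¹ * n') c := by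
      rw [hs, map_mul (φ n⁻¹), map_inv (φ n⁻¹) a, map_mul φ, MulAut.mul_apply]
    rw [e1, map_mul, Units.val_mul, map_mul, conj_char, inv_inv]
  simp only [h3]
  have h4 : ∀ n : N, ∑ n' : N, ((l (φ n⁻¹ a) : ℂˣ) : ℂ) * conj ((l (φ (n⁻¹ * n') c) : ℂˣ) : ℂ) =
      ((l (φ n⁻¹ a) : ℂˣ) : ℂ) * conj (orbS φ l c) := by
    intro n
    rw [← Finset.mul_sum]
    congr 1
    unfold orbS
    rw [map_sum]
    exact Fintype.sum_equiv (Equiv.mulLeft n⁻¹) _ _ (fun n' => rfl)
  simp only [h4]
  rw [← Finset.sum_mul]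
  congr 1
  unfold orbS
  exact Fintype.sum_equiv (Equiv.inv N) _ _ (fun n => rfl)


/-- **ENDA**: the pure CASE A. -/
theorem enda (φ : N →* MulAut A) (χ : ι → A → ℂ) (f : ι → ℕ)
    (hf : ∀ i, 0 < f i ∧ χ i 1 = (f i : ℂ))
    (i₀ : ι) (hi₀ : ∀ a, χ i₀ a = 1)
    (hker : ∀ i, (∀ a, χ i a = χ i 1) → i = i₀)
    (hm : ∀ i (l : A →* ℂˣ), ∃ m : ℕ,
      ∑ b, χ i b * conj ((l b : ℂˣ) : ℂ) = (Fintype.card A : ℂ) * (m : ℂ))
    (κ : A → ℝ)
    (hORTH : ∀ a b c : A, c ≠ 1 → ∑ i, χ i a * χ i b * conj (χ i c) / χ i 1 =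
      (κ c : ℂ) * (((Finset.univ : Finset (N × N)).filter (fun x => a * φ x.1 b = φ x.2 c)).card : ℂ))
    (hCS0 : ∀ i (a b : A), (∀ n, a * φ n b ≠ 1) →
      χ i a * χ i b / χ i 1 = (∑ n, χ i (a * φ n b)) / (Fintype.card N : ℂ))
    (hnt : ∃ a b : A, a ≠ 1 ∧ b ≠ 1 ∧ ∀ n, a * φ n b ≠ 1) :
    ∀ (n : N) (a : A), φ n a = a := by
  classical
  obtain ⟨a₁, b₁, ha₁, hb₁, hab⟩ := hnt
  choose m hm using hm
  have hq0 : (Fintype.card A : ℂ) ≠ 0 := Nat.cast_ne_zero.2 Fintype.card_ne_zero
  have hν0 : (Fintype.card N : ℂ) ≠ 0 := Nat.cast_ne_zero.2 Fintype.card_ne_zero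
  have hfC : ∀ i, (f i : ℂ) ≠ 0 := fun i => Nat.cast_ne_zero.2 (hf i).1.ne'
  -- the weights
  have hW0 : ∀ (l : A →* ℂˣ) (i : ι), (0 : ℝ) ≤ ((Fintype.card A * m i l : ℕ) : ℝ) / (f i : ℝ) :=
    fun l i => div_nonneg (Nat.cast_nonneg _) (Nat.cast_nonneg _)
  have hWC : ∀ (l : A →* ℂˣ) (i : ι), (((((Fintype.card A * m i l : ℕ) : ℝ) / (f i : ℝ) : ℝ)) : ℂ) =
      (∑ b, χ i b * conj ((l b : ℂˣ) : ℂ)) / χ i 1 := by
    intro l i
    rw [hm i l, (hf i).2]
    push_cast
    rfl
  have hWpos : ∀ (l : A →* ℂˣ) (i : ι), 0 < m i l →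
      (0 : ℝ) < ((Fintype.card A * m i l : ℕ) : ℝ) / (f i : ℝ) := by
    intro l i h
    apply div_pos
    · exact_mod_cast Nat.mul_pos Fintype.card_pos h
    · exact_mod_cast (hf i).1
  -- FOUR in weight form
  have hfour : ∀ (l : A →* ℂˣ) (a c : A), c ≠ 1 →
      ∑ i, (((((Fintype.card A * m i l : ℕ) : ℝ) / (f i : ℝ) : ℝ)) : ℂ) * χ i a * conj (χ i c) =
        (κ c : ℂ) * orbS φ l a * conj (orbS φ l c) := by
    intro l a c hc
    have h := four φ χ κ hORTH l a c hc
    simp only [← hWC] at h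
    exact h
  -- `κ` is constant off `1`
  have hκ : ∀ a c : A, a ≠ 1 → c ≠ 1 → κ c = κ a := by
    intro a c ha hc
    have h1 := hfour 1 a c hc
    have h2 := congrArg conj (hfour 1 c a ha)
    rw [map_sum] at h2
    simp only [map_mul, Complex.conj_conj, Complex.conj_ofReal, orbS_one_left, Complex.conj_natCast]
      at h1 h2
    have h3 : (κ c : ℂ) * (Fintype.card N : ℂ) * (Fintype.card N : ℂ) =
        (κ a : ℂ) * (Fintype.card N : ℂ) * (Fintype.card N : ℂ) := by
      rw [← h1, ← h2]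
      refine Finset.sum_congr rfl fun i _ => ?_
      ring
    have h4 := mul_right_cancel₀ hν0 (mul_right_cancel₀ hν0 h3)
    exact_mod_cast h4
  -- rank one
  have hrank : ∀ (l : A →* ℂˣ) (i : ι), 0 < m i l → ∀ a c : A, a ≠ 1 → c ≠ 1 →
      χ i a * orbS φ l c = χ i c * orbS φ l a := by
    intro l i hmi a c ha hc
    exact Cfsg.Agent.Lib.H18.RG.rank_one_rigid (A := {a : A // a ≠ 1})
      (fun i => ((Fintype.card A * m i l : ℕ) : ℝ) / (f i : ℝ)) (hW0 l)
      (fun i a => χ i a.1) (fun a => orbS φ l a.1) (κ a₁ : ℂ)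
      (fun a c => by rw [hfour l a.1 c.1 c.2, hκ a₁ c.1 ha₁ c.2]) i (hWpos l i hmi) ⟨a, ha⟩ ⟨c, hc⟩
  -- `l = 1`: constant off `1`
  have hconst : ∀ i, 0 < m i 1 → ∀ a c : A, a ≠ 1 → c ≠ 1 → χ i a = χ i c := by
    intro i hmi a c ha hc
    have h := hrank 1 i hmi a c ha hc
    rw [orbS_one_left, orbS_one_left] at h
    exact mul_right_cancel₀ hν0 h
  -- CS off the diagonal: the constant is `0` or `i = i₀`
  have hd : ∀ i, 0 < m i 1 → χ i a₁ = 0 ∨ i = i₀ := by
    intro i hmi
    by_cases h0 : χ i a₁ = 0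
    · exact Or.inl h0
    · right
      apply hker
      have h := hCS0 i a₁ b₁ hab
      have h1 : ∀ n, χ i (a₁ * φ n b₁) = χ i a₁ := fun n => hconst i hmi _ _ (hab n) ha₁
      rw [Finset.sum_congr rfl (fun n _ => h1 n), Finset.sum_const, Finset.card_univ, nsmul_eq_mul,
        mul_div_cancel_left₀ _ hν0, hconst i hmi b₁ a₁ hb₁ ha₁] at h
      have h2 : χ i a₁ = χ i 1 := by
        have hχ1 : χ i 1 ≠ 0 := by rw [(hf i).2]; exact hfC i
        rw [div_eq_iff hχ1] at h
        exact mul_left_cancel₀ h0 h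
      intro a
      by_cases ha : a = 1
      · rw [ha]
      · rw [hconst i hmi a a₁ ha ha₁, h2]
  -- multiplicities of `i₀`
  have hm0 : ∀ l : A →* ℂˣ, l ≠ 1 → m i₀ l = 0 := by
    intro l hl
    have h := hm i₀ l
    have h1 : ∑ b, χ i₀ b * conj ((l b : ℂˣ) : ℂ) = 0 := by
      simp only [hi₀, one_mul]
      rw [← map_sum, sum_char l hl, map_zero]
    rw [h1] at h
    rcases mul_eq_zero.1 h.symm with h2 | h2
    · exact absurd h2 hq0
    · exact_mod_cast h2
  -- the diagonal of `l = 1`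
  have hκq : (κ a₁ : ℂ) * (Fintype.card N : ℂ) * (Fintype.card N : ℂ) = (Fintype.card A : ℂ) := by
    have h := hfour 1 a₁ a₁ ha₁
    rw [orbS_one_left, Complex.conj_natCast] at h
    rw [← h]
    have hterm : ∀ i, (((((Fintype.card A * m i 1 : ℕ) : ℝ) / (f i : ℝ) : ℝ)) : ℂ) * χ i a₁ *
        conj (χ i a₁) = if i = i₀ then (Fintype.card A : ℂ) else 0 := by
      intro i
      by_cases hii : i = i₀
      · rw [if_pos hii, hWC, hii]
        simp [hi₀]
      · rw [if_neg hii]
        by_cases hmi : 0 < m i 1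
        · rcases hd i hmi with h0 | h0
          · rw [h0]; simp
          · exact absurd h0 hii
        · have h3 : m i 1 = 0 := by omega
          rw [h3]; simp
    rw [Finset.sum_congr rfl (fun i _ => hterm i), Finset.sum_ite_eq' Finset.univ i₀,
      if_pos (Finset.mem_univ _)]
  -- orbit sums
  have hSsum : ∀ l : A →* ℂˣ, l ≠ 1 → ∑ a, orbS φ l a = 0 := by
    intro l hl
    unfold orbS
    rw [Finset.sum_comm]
    refine Finset.sum_eq_zero fun n _ => ?_
    rw [← sum_char l hl]
    exact Fintype.sum_equiv (φ n).toEquiv _ _ (fun a => rfl)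
  have hSl : ∀ l l' : A →* ℂˣ, ∑ b, orbS φ l b * conj ((l' b : ℂˣ) : ℂ) =
      (Fintype.card A : ℂ) *
        ((Finset.univ.filter (fun n : N => l.comp (φ n).toMonoidHom = l')).card : ℂ) := by
    intro l l'
    unfold orbS
    simp only [Finset.sum_mul]
    rw [Finset.sum_comm, Finset.natCast_card_filter, Finset.mul_sum]
    refine Finset.sum_congr rfl fun n _ => ?_
    have h := sum_char_mul_conj (l.comp (φ n).toMonoidHom) l'
    simp only [MonoidHom.comp_apply, MulEquiv.coe_toMonoidHom] at h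
    rw [h]
    split_ifs <;> simp
  -- every `l ≠ 1` is fixed by `N`
  have hstab : ∀ l : A →* ℂˣ, l ≠ 1 → ∀ n : N, l.comp (φ n).toMonoidHom = l := by
    intro l hl
    obtain ⟨c0, hc0, hSc0⟩ : ∃ c0 : A, c0 ≠ 1 ∧ orbS φ l c0 ≠ 0 := by
      by_contra h
      have h' : ∀ c0 : A, c0 ≠ 1 → orbS φ l c0 = 0 := by
        intro c0 hc0
        by_contra h2
        exact h ⟨c0, hc0, h2⟩
      have h1 := hSsum l hl
      rw [Finset.sum_eq_single (1 : A) (fun b _ hb => h' b hb)
        (fun h2 => absurd (Finset.mem_univ _) h2), orbS_one_right] at h1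
      exact hν0 h1
    have key : ∀ i, 0 < m i l → χ i c0 ≠ 0 →
        χ i c0 = (f i : ℂ) * orbS φ l c0 / (Fintype.card N : ℂ) ∧
        m i l * Fintype.card N =
          f i * (Finset.univ.filter (fun n : N => l.comp (φ n).toMonoidHom = l)).card := by
      intro i hmi hχ
      have hform : ∀ a : A, a ≠ 1 →
          χ i a = ((Fintype.card N : ℂ) * χ i c0 / orbS φ l c0) * orbS φ l a /
            (Fintype.card N : ℂ) := by
        intro a ha
        have h := hrank l i hmi a c0 ha hc0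
        field_simp
        rw [h]
      have hm1 : m i 1 = 0 := by
        by_contra hpos
        have hpos' : 0 < m i 1 := Nat.pos_of_ne_zero hpos
        rcases hd i hpos' with h0 | h0
        · exact hχ (by rw [hconst i hpos' c0 a₁ hc0 ha₁, h0])
        · rw [h0, hm0 l hl] at hmi
          exact lt_irrefl _ hmi
      have hsum : ∀ l' : A →* ℂˣ, ∑ b, χ i b * conj ((l' b : ℂˣ) : ℂ) =
          (f i : ℂ) - ((Fintype.card N : ℂ) * χ i c0 / orbS φ l c0) +
            ((Fintype.card N : ℂ) * χ i c0 / orbS φ l c0) / (Fintype.card N : ℂ) *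
              ∑ b, orbS φ l b * conj ((l' b : ℂˣ) : ℂ) := by
        intro l'
        have hb : ∀ b : A, χ i b * conj ((l' b : ℂˣ) : ℂ) =
            ((Fintype.card N : ℂ) * χ i c0 / orbS φ l c0) / (Fintype.card N : ℂ) *
              (orbS φ l b * conj ((l' b : ℂˣ) : ℂ)) +
            (if b = 1 then (f i : ℂ) - ((Fintype.card N : ℂ) * χ i c0 / orbS φ l c0) else 0) := by
          intro b
          by_cases hb : b = 1
          · rw [hb, if_pos rfl, (hf i).2, orbS_one_right, map_one, Units.val_one, map_one]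
            field_simp
            ring
          · rw [if_neg hb, add_zero, hform b hb]
            ring
        rw [Finset.sum_congr rfl (fun b _ => hb b), Finset.sum_add_distrib, ← Finset.mul_sum,
          Finset.sum_ite_eq' Finset.univ (1 : A), if_pos (Finset.mem_univ _)]
        ring
      have hτf : (Fintype.card N : ℂ) * χ i c0 / orbS φ l c0 = (f i : ℂ) := by
        have h := hsum 1
        rw [hm i 1, hm1, hSl l 1] at h
        have hempty : (Finset.univ.filter (fun n : N => l.comp (φ n).toMonoidHom = 1)).card = 0 := by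
          rw [Finset.card_eq_zero, Finset.filter_eq_empty_iff]
          intro n _ h'
          apply hl
          ext a
          have h2 := congrArg (fun g : A →* ℂˣ => g ((φ n).symm a)) h'
          simpa using h2
        rw [hempty] at h
        simp only [Nat.cast_zero, mul_zero, add_zero] at h
        exact (sub_eq_zero.1 h.symm).symm
      constructor
      · have h := hform c0 hc0
        rw [hτf] at h
        exact h
      · have h := hsum l
        rw [hm i l, hτf, hSl l l] at h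
        have h2 : (m i l : ℂ) * (Fintype.card N : ℂ) = (f i : ℂ) *
            ((Finset.univ.filter (fun n : N => l.comp (φ n).toMonoidHom = l)).card : ℂ) := by
          have h3 : (Fintype.card A : ℂ) * ((m i l : ℂ) * (Fintype.card N : ℂ)) =
              (Fintype.card A : ℂ) * ((f i : ℂ) *
                ((Finset.univ.filter (fun n : N => l.comp (φ n).toMonoidHom = l)).card : ℂ)) := by
            have h4 : (Fintype.card A : ℂ) * (m i l : ℂ) * (Fintype.card N : ℂ) =
                ((f i : ℂ) - (f i : ℂ) + (f i : ℂ) / (Fintype.card N : ℂ) *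
                  ((Fintype.card A : ℂ) *
                    ((Finset.univ.filter (fun n : N => l.comp (φ n).toMonoidHom = l)).card : ℂ))) *
                  (Fintype.card N : ℂ) := by rw [h]
            rw [← mul_assoc, h4]
            field_simp
            ring
          exact mul_left_cancel₀ hq0 h3
        exact_mod_cast h2
    -- the diagonal at `c0`
    have hdiag := hfour l c0 c0 hc0
    rw [hκ a₁ c0 ha₁ hc0] at hdiag
    have hterm : ∀ i, (((((Fintype.card A * m i l : ℕ) : ℝ) / (f i : ℝ) : ℝ)) : ℂ) * χ i c0 *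
        conj (χ i c0) =
        (if 0 < m i l ∧ χ i c0 ≠ 0 then ((m i l * f i : ℕ) : ℂ) else 0) *
          ((Fintype.card A : ℂ) * (orbS φ l c0 * conj (orbS φ l c0)) /
            ((Fintype.card N : ℂ) * (Fintype.card N : ℂ))) := by
      intro i
      by_cases hI : 0 < m i l ∧ χ i c0 ≠ 0
      · rw [if_pos hI, (key i hI.1 hI.2).1]
        have hfi := hfC i
        simp only [map_div₀, map_mul, Complex.conj_natCast]
        push_cast
        field_simp
      · rw [if_neg hI, zero_mul]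
        by_cases hmi : 0 < m i l
        · have h3 : χ i c0 = 0 := by
            by_contra h
            exact hI ⟨hmi, h⟩
          rw [h3]; simp
        · have h3 : m i l = 0 := by omega
          rw [h3]; simp
    rw [Finset.sum_congr rfl (fun i _ => hterm i), ← Finset.sum_mul] at hdiag
    have hsum1 : (∑ i, if 0 < m i l ∧ χ i c0 ≠ 0 then ((m i l * f i : ℕ) : ℂ) else 0) = 1 := by
      have hSS : orbS φ l c0 * conj (orbS φ l c0) ≠ 0 :=
        mul_ne_zero hSc0 ((map_ne_zero _).2 hSc0)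
      have hκ' : (κ a₁ : ℂ) = (Fintype.card A : ℂ) / ((Fintype.card N : ℂ) * (Fintype.card N : ℂ)) := by
        rw [eq_div_iff (mul_ne_zero hν0 hν0), ← mul_assoc]
        exact hκq
      rw [hκ'] at hdiag
      have h5 : (∑ i, if 0 < m i l ∧ χ i c0 ≠ 0 then ((m i l * f i : ℕ) : ℂ) else 0) *
          ((Fintype.card A : ℂ) * (orbS φ l c0 * conj (orbS φ l c0)) /
            ((Fintype.card N : ℂ) * (Fintype.card N : ℂ))) =
          1 * ((Fintype.card A : ℂ) * (orbS φ l c0 * conj (orbS φ l c0)) /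
            ((Fintype.card N : ℂ) * (Fintype.card N : ℂ))) := by
        rw [hdiag]
        ring
      exact mul_right_cancel₀ (div_ne_zero (mul_ne_zero hq0 hSS) (mul_ne_zero hν0 hν0)) h5
    have hsumN : ∑ i, (if 0 < m i l ∧ χ i c0 ≠ 0 then m i l * f i else 0) = 1 := by
      have h6 : ((∑ i, (if 0 < m i l ∧ χ i c0 ≠ 0 then m i l * f i else 0) : ℕ) : ℂ) = 1 := by
        rw [← hsum1]
        push_cast
        refine Finset.sum_congr rfl fun i _ => ?_
        split_ifs <;> simp
      exact_mod_cast h6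
    obtain ⟨i, hiI⟩ : ∃ i, 0 < m i l ∧ χ i c0 ≠ 0 := by
      by_contra h
      have h7 : ∑ i, (if 0 < m i l ∧ χ i c0 ≠ 0 then m i l * f i else 0) = 0 :=
        Finset.sum_eq_zero fun i _ => if_neg (fun hI => h ⟨i, hI⟩)
      rw [h7] at hsumN
      exact zero_ne_one hsumN
    have hle : m i l * f i ≤ 1 := by
      have h8 : (if 0 < m i l ∧ χ i c0 ≠ 0 then m i l * f i else 0) ≤
          ∑ i, (if 0 < m i l ∧ χ i c0 ≠ 0 then m i l * f i else 0) :=
        Finset.single_le_sum (f := fun i => if 0 < m i l ∧ χ i c0 ≠ 0 then m i l * f i else 0)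
          (fun _ _ => Nat.zero_le _) (Finset.mem_univ i)
      rw [if_pos hiI, hsumN] at h8
      exact h8
    have hfi1 : 0 < f i := (hf i).1
    have hml : m i l = 1 := by
      have := hiI.1
      nlinarith
    have hfi : f i = 1 := by nlinarith
    have hst := (key i hiI.1 hiI.2).2
    rw [hml, hfi, one_mul, one_mul] at hst
    intro n
    have hall : Finset.univ.filter (fun n : N => l.comp (φ n).toMonoidHom = l) = Finset.univ := by
      apply Finset.eq_of_subset_of_card_le (Finset.filter_subset _ _)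
      rw [Finset.card_univ, ← hst]
    have hn : n ∈ Finset.univ.filter (fun n : N => l.comp (φ n).toMonoidHom = l) := by
      rw [hall]
      exact Finset.mem_univ n
    exact (Finset.mem_filter.1 hn).2
  -- characters separate points
  intro n a
  by_contra hne
  have hne' : φ n a * a⁻¹ ≠ 1 := fun h => hne (mul_inv_eq_one.1 h)
  obtain ⟨l, hl⟩ := CommGroup.exists_apply_ne_one_of_hasEnoughRootsOfUnity A ℂ hne'
  have hl1 : l ≠ 1 := by
    rintro rfl
    exact hl rfl
  have h := hstab l hl1 n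
  apply hl
  have h2 : l (φ n a) = l a := by
    have h3 := congrArg (fun g : A →* ℂˣ => g a) h
    simpa using h3
  rw [map_mul, map_inv, h2, mul_inv_cancel]

end main

end Cfsg.Agent.Lib.H6.SH
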