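import Mathlib
import Cfsg.Agent.Lib.H6.SHENDA

/-!
# helper6: ENDA exports the constant (for the odd-`p` twin S3016 of S3017)

Same hypotheses as `Cfsg.Agent.Lib.H6.SH.enda`; conclusion: the ORTH constant satisfies
`κ c * |N|² = |A|` for every `c ≠ 1` ("`β = q`").  With `κ c = (∑_{B₀} |χ c|²) / (|N| * |Stab_N c|)` and the
conclusion of `enda` (`N` acts trivially) this reads `∑_{χ ∈ B₀} |χ c|² = |A|`.
-/

set_option autoImplicit false

namespace Cfsg.Agent.Lib.H6.SHK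

open scoped ComplexConjugate
open Finset
open Cfsg.Agent.Lib.H6.SH

variable {A N ι : Type*} [CommGroup A] [Fintype A] [DecidableEq A] [Group N] [Fintype N] [Fintype ι]

/-- **ENDA, the constant**: `κ c * |N|² = |A|` off `1`. -/
theorem enda_kappa (φ : N →* MulAut A) (χ : ι → A → ℂ) (f : ι → ℕ)
    (hf : ∀ i, 0 < f i ∧ χ i 1 = (f i : ℂ))
    (i₀ : ι) (hi₀ : ∀ a, χ i₀ a = 1)
    (hker : ∀ i, (∀ a, χ i a = χ i 1) → i = i₀)
    (hm : ∀ i (l : A →* ℂˣ), ∃ m : ℕ,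
      ∑ b, χ i b * conj ((l b : ℂˣ) : ℂ) = (Fintype.card A : ℂ) * (m : ℂ))
    (κ : A → ℝ)
    (hORTH : ∀ a b c : A, c ≠ 1 → ∑ i, χ i a * χ i b * conj (χ i c) / χ i 1 =
      (κ c : ℂ) * (((Finset.univ : Finset (N × N)).filter (fun x => a * φ x.1 b = φ x.2 c)).card : ℂ))
    (hCS0 : ∀ i (a b : A), (∀ n, a * φ n b ≠ 1) →
      χ i a * χ i b / χ i 1 = (∑ n, χ i (a * φ n b)) / (Fintype.card N : ℂ))
    (hnt : ∃ a b : A, a ≠ 1 ∧ b ≠ 1 ∧ ∀ n, a * φ n b ≠ 1) :
    ∀ c : A, c ≠ 1 →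
      (κ c : ℂ) * (Fintype.card N : ℂ) * (Fintype.card N : ℂ) = (Fintype.card A : ℂ) := by
  classical
  obtain ⟨a₁, b₁, ha₁, hb₁, hab⟩ := hnt
  choose m hm using hm
  have hq0 : (Fintype.card A : ℂ) ≠ 0 := Nat.cast_ne_zero.2 Fintype.card_ne_zero
  have hν0 : (Fintype.card N : ℂ) ≠ 0 := Nat.cast_ne_zero.2 Fintype.card_ne_zero
  have hfC : ∀ i, (f i : ℂ) ≠ 0 := fun i => Nat.cast_ne_zero.2 (hf i).1.ne'
  -- the weights
  have hW0 : ∀ (l : A →* ℂˣ) (i : ι), (0 : ℝ) ≤ ((Fintype.card A * m i l : ℕ) : ℝ) / (f i : ℝ) :=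
    fun l i => div_nonneg (Nat.cast_nonneg _) (Nat.cast_nonneg _)
  have hWC : ∀ (l : A →* ℂˣ) (i : ι), (((((Fintype.card A * m i l : ℕ) : ℝ) / (f i : ℝ) : ℝ)) : ℂ) =
      (∑ b, χ i b * conj ((l b : ℂˣ) : ℂ)) / χ i 1 := by
    intro l i
    rw [hm i l, (hf i).2]
    push_cast
    rfl
  have hWpos : ∀ (l : A →* ℂˣ) (i : ι), 0 < m i l →
      (0 : ℝ) < ((Fintype.card A * m i l : ℕ) : ℝ) / (f i : ℝ) := by
    intro l i h
    apply div_pos
    · exact_mod_cast Nat.mul_pos Fintype.card_pos h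
    · exact_mod_cast (hf i).1
  -- FOUR in weight form
  have hfour : ∀ (l : A →* ℂˣ) (a c : A), c ≠ 1 →
      ∑ i, (((((Fintype.card A * m i l : ℕ) : ℝ) / (f i : ℝ) : ℝ)) : ℂ) * χ i a * conj (χ i c) =
        (κ c : ℂ) * orbS φ l a * conj (orbS φ l c) := by
    intro l a c hc
    have h := four φ χ κ hORTH l a c hc
    simp only [← hWC] at h
    exact h
  -- `κ` is constant off `1`
  have hκ : ∀ a c : A, a ≠ 1 → c ≠ 1 → κ c = κ a := by
    intro a c ha hc
    have h1 := hfour 1 a c hc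
    have h2 := congrArg conj (hfour 1 c a ha)
    rw [map_sum] at h2
    simp only [map_mul, Complex.conj_conj, Complex.conj_ofReal, orbS_one_left, Complex.conj_natCast]
      at h1 h2
    have h3 : (κ c : ℂ) * (Fintype.card N : ℂ) * (Fintype.card N : ℂ) =
        (κ a : ℂ) * (Fintype.card N : ℂ) * (Fintype.card N : ℂ) := by
      rw [← h1, ← h2]
      refine Finset.sum_congr rfl fun i _ => ?_
      ring
    have h4 := mul_right_cancel₀ hν0 (mul_right_cancel₀ hν0 h3)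
    exact_mod_cast h4
  -- rank one
  have hrank : ∀ (l : A →* ℂˣ) (i : ι), 0 < m i l → ∀ a c : A, a ≠ 1 → c ≠ 1 →
      χ i a * orbS φ l c = χ i c * orbS φ l a := by
    intro l i hmi a c ha hc
    exact Cfsg.Agent.Lib.H18.RG.rank_one_rigid (A := {a : A // a ≠ 1})
      (fun i => ((Fintype.card A * m i l : ℕ) : ℝ) / (f i : ℝ)) (hW0 l)
      (fun i a => χ i a.1) (fun a => orbS φ l a.1) (κ a₁ : ℂ)
      (fun a c => by rw [hfour l a.1 c.1 c.2, hκ a₁ c.1 ha₁ c.2]) i (hWpos l i hmi) ⟨a, ha⟩ ⟨c, hc⟩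
  -- `l = 1`: constant off `1`
  have hconst : ∀ i, 0 < m i 1 → ∀ a c : A, a ≠ 1 → c ≠ 1 → χ i a = χ i c := by
    intro i hmi a c ha hc
    have h := hrank 1 i hmi a c ha hc
    rw [orbS_one_left, orbS_one_left] at h
    exact mul_right_cancel₀ hν0 h
  -- CS off the diagonal: the constant is `0` or `i = i₀`
  have hd : ∀ i, 0 < m i 1 → χ i a₁ = 0 ∨ i = i₀ := by
    intro i hmi
    by_cases h0 : χ i a₁ = 0
    · exact Or.inl h0
    · right
      apply hker
      have h := hCS0 i a₁ b₁ hab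
      have h1 : ∀ n, χ i (a₁ * φ n b₁) = χ i a₁ := fun n => hconst i hmi _ _ (hab n) ha₁
      rw [Finset.sum_congr rfl (fun n _ => h1 n), Finset.sum_const, Finset.card_univ, nsmul_eq_mul,
        mul_div_cancel_left₀ _ hν0, hconst i hmi b₁ a₁ hb₁ ha₁] at h
      have h2 : χ i a₁ = χ i 1 := by
        have hχ1 : χ i 1 ≠ 0 := by rw [(hf i).2]; exact hfC i
        rw [div_eq_iff hχ1] at h
        exact mul_left_cancel₀ h0 h
      intro a
      by_cases ha : a = 1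
      · rw [ha]
      · rw [hconst i hmi a a₁ ha ha₁, h2]
  -- multiplicities of `i₀`
  have hm0 : ∀ l : A →* ℂˣ, l ≠ 1 → m i₀ l = 0 := by
    intro l hl
    have h := hm i₀ l
    have h1 : ∑ b, χ i₀ b * conj ((l b : ℂˣ) : ℂ) = 0 := by
      simp only [hi₀, one_mul]
      rw [← map_sum, sum_char l hl, map_zero]
    rw [h1] at h
    rcases mul_eq_zero.1 h.symm with h2 | h2
    · exact absurd h2 hq0
    · exact_mod_cast h2
  -- the diagonal of `l = 1`
  have hκq : (κ a₁ : ℂ) * (Fintype.card N : ℂ) * (Fintype.card N : ℂ) = (Fintype.card A : ℂ) := by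
    have h := hfour 1 a₁ a₁ ha₁
    rw [orbS_one_left, Complex.conj_natCast] at h
    rw [← h]
    have hterm : ∀ i, (((((Fintype.card A * m i 1 : ℕ) : ℝ) / (f i : ℝ) : ℝ)) : ℂ) * χ i a₁ *
        conj (χ i a₁) = if i = i₀ then (Fintype.card A : ℂ) else 0 := by
      intro i
      by_cases hii : i = i₀
      · rw [if_pos hii, hWC, hii]
        simp [hi₀]
      · rw [if_neg hii]
        by_cases hmi : 0 < m i 1
        · rcases hd i hmi with h0 | h0
          · rw [h0]; simp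
          · exact absurd h0 hii
        · have h3 : m i 1 = 0 := by omega
          rw [h3]; simp
    rw [Finset.sum_congr rfl (fun i _ => hterm i), Finset.sum_ite_eq' Finset.univ i₀,
      if_pos (Finset.mem_univ _)]
  intro c hc
  rw [hκ a₁ c ha₁ hc]
  exact hκq

end Cfsg.Agent.Lib.H6.SHK
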