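import Mathlib
import Cfsg.Agent.Lib.H12.SHCASEA
import Cfsg.Agent.Lib.H6.SHENDAK

/-!
# helper6: CASE A on the group side exports `∑_{χ ∈ B₀} χ(c) χ(c⁻¹) = |H|` (general prime `p`)

Same hypotheses as helper12's general-`p` `Cfsg.Agent.Lib.H12.SH.caseA` (LocData, fusion control, `⟨H^G⟩ = G`,
`N_G(H)` not transitive on `H#`).  Besides `N_G(H) = C_G(H)` (helper12's `caseA`) the argument gives the
value of the block column sum at every `c ∈ H#`: it is `|H|` ("`β = q`").  Intended for the odd-`p` twin S3016.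
The setup is a copy of helper12's glue with `enda_kappa` in place of `enda`.
-/

set_option autoImplicit false

namespace Cfsg.Agent.Lib.H6.SHK

open scoped ComplexConjugate
open Cfsg
open Cfsg.Agent.Lib.H12.SH

variable {G : Type*} [Group G] [Finite G] {p : ℕ} [Fact p.Prime]

/-- **CASE A, the constant**: the principal-block column sum at `c ∈ H#` equals `|H|`. -/
theorem caseA_sq (M : Ideal AlgInt) (hM : IsPModular p M) (H : Subgroup G)
    (hHp : IsPGroup p H) (hHab : ∀ a ∈ H, ∀ b ∈ H, a * b = b * a)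
    (hloc : Cfsg.Agent.Lib.H11.SH.LocData p H (principalBlock M G))
    (hfus : ∀ h ∈ H, ∀ c ∈ H, IsConj h c →
      ∃ n ∈ Subgroup.normalizer (H : Set G), n * c * n⁻¹ = h)
    (hncl : Subgroup.normalClosure (H : Set G) = ⊤) (hnt : ¬ TransN H) :
    ∀ c ∈ H, c ≠ 1 →
      ∑ᶠ χ ∈ principalBlock M G, (χ : G → ℂ) c * (χ : G → ℂ) c⁻¹ = (Nat.card ↥H : ℂ) := by
  have hcent := caseA M hM H hHp hHab hloc hfus hncl hnt
  classical
  haveI : Fintype G := Fintype.ofFinite G
  haveI hPr : M.IsPrime := Cfsg.Agent.Lib.H23.isPrime_of_isPModular hM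
  letI instA : CommGroup ↥H :=
    { (inferInstance : Group ↥H) with mul_comm := fun a b => Subtype.ext (hHab a a.2 b b.2) }
  haveI : Fintype ↥H := Fintype.ofFinite _
  haveI : Fintype ↥(Subgroup.normalizer (H : Set G)) := Fintype.ofFinite _
  haveI : Fintype ↥(principalBlock M G) := Fintype.ofFinite _
  have hdeg : ∀ i : ↥(principalBlock M G), ∃ n : ℕ, 0 < n ∧ (i.1 : G → ℂ) 1 = n :=
    fun i => Cfsg.Agent.Lib.L0.irr_apply_one_pos i.1.2
  choose f hf0 hf1 using hdeg
  have key : ∀ c : ↥H, c ≠ 1 →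
      (((∑ i : ↥(principalBlock M G), Complex.normSq ((i.1 : G → ℂ) (c : G))) /
        ((Fintype.card ↥(Subgroup.normalizer (H : Set G)) : ℝ) *
          ((Finset.univ.filter (fun n' : ↥(Subgroup.normalizer (H : Set G)) =>
            H.normalizerMonoidHom n' c = c)).card : ℝ)) : ℝ) : ℂ) *
        (Fintype.card ↥(Subgroup.normalizer (H : Set G)) : ℂ) *
        (Fintype.card ↥(Subgroup.normalizer (H : Set G)) : ℂ) = (Fintype.card ↥H : ℂ) := by
    refine Cfsg.Agent.Lib.H6.SHK.enda_kappa (A := ↥H) (N := ↥(Subgroup.normalizer (H : Set G)))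
      (ι := ↥(principalBlock M G)) H.normalizerMonoidHom
      (fun i a => (i.1 : G → ℂ) (a : G)) f ?_
      ⟨Cfsg.Agent.Lib.H24.trivialIrr G, Cfsg.Agent.Lib.H23.trivialIrr_mem_principalBlock⟩ ?_ ?_ ?_
      (fun c => (∑ i : ↥(principalBlock M G), Complex.normSq ((i.1 : G → ℂ) (c : G))) /
        ((Fintype.card ↥(Subgroup.normalizer (H : Set G)) : ℝ) *
          ((Finset.univ.filter (fun n' : ↥(Subgroup.normalizer (H : Set G)) =>
            H.normalizerMonoidHom n' c = c)).card : ℝ)))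
      ?_ ?_ ?_
    · -- hf
      intro i
      exact ⟨hf0 i, hf1 i⟩
    · -- hi₀
      intro a
      rfl
    · -- hker
      intro i hconst
      have h1 : (i.1 : G → ℂ) = fun _ => 1 :=
        ker i.1.2 H hncl (fun a ha => hconst ⟨a, ha⟩)
      exact Subtype.ext (Subtype.ext h1)
    · -- hm
      intro i l
      exact mult (Cfsg.Agent.Lib.L0.isCharacter_of_irr i.1.2) H l
    · -- hORTH
      intro a b c hc1
      have hc1' : (c : G) ≠ 1 := fun h => hc1 (Subtype.ext h)
      have hO := orth_orbit M hM hHp hloc hfus (a : G) (b : G) (c : G) a.2 b.2 c.2 hc1'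
      have e1 : ∑ i : ↥(principalBlock M G), (i.1 : G → ℂ) (a : G) * (i.1 : G → ℂ) (b : G) *
            conj ((i.1 : G → ℂ) (c : G)) / (i.1 : G → ℂ) ((1 : ↥H) : G) =
          ∑ᶠ χ ∈ principalBlock M G,
            (χ : G → ℂ) (a : G) * (χ : G → ℂ) (b : G) * (χ : G → ℂ) (c : G)⁻¹ / (χ : G → ℂ) 1 := by
        rw [← finsum_set_coe_eq_finsum_mem, finsum_eq_sum_of_fintype]
        refine Finset.sum_congr rfl (fun i _ => ?_)
        rw [Cfsg.Agent.Lib.H24.irr_inv]
        rfl
      have e2 : ∑ᶠ χ ∈ principalBlock M G, (χ : G → ℂ) (c : G) * (χ : G → ℂ) (c : G)⁻¹ =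
          ((∑ i : ↥(principalBlock M G), Complex.normSq ((i.1 : G → ℂ) (c : G)) : ℝ) : ℂ) := by
        rw [← finsum_set_coe_eq_finsum_mem, finsum_eq_sum_of_fintype, Complex.ofReal_sum]
        refine Finset.sum_congr rfl (fun i _ => ?_)
        rw [Cfsg.Agent.Lib.H24.irr_inv, Complex.mul_conj]
      have e3 := Cfsg.Agent.Lib.H6.SH.card_pairs_eq H.normalizerMonoidHom a b c
      have e4 : (Finset.univ.filter (fun n : ↥(Subgroup.normalizer (H : Set G)) =>
            ∃ n' : ↥(Subgroup.normalizer (H : Set G)),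
              a * H.normalizerMonoidHom n b = H.normalizerMonoidHom n' c)).card =
          (Finset.univ.filter (fun n : ↥(Subgroup.normalizer (H : Set G)) =>
            ∃ n' : ↥(Subgroup.normalizer (H : Set G)),
              (a : G) * ((n : G) * (b : G) * (n : G)⁻¹) = (n' : G) * (c : G) * (n' : G)⁻¹)).card := by
        congr 1
        apply Finset.filter_congr
        intro n _
        constructor
        · rintro ⟨n', h⟩
          exact ⟨n', congrArg Subtype.val h⟩
        · rintro ⟨n', h⟩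
          exact ⟨n', Subtype.ext h⟩
      have hstab : 0 < (Finset.univ.filter (fun n' : ↥(Subgroup.normalizer (H : Set G)) =>
            H.normalizerMonoidHom n' c = c)).card := by
        apply Finset.card_pos.2
        exact ⟨1, by simp⟩
      have hN0 : (Nat.card ↥(Subgroup.normalizer (H : Set G)) : ℂ) ≠ 0 := by
        have : 0 < Nat.card ↥(Subgroup.normalizer (H : Set G)) := Nat.card_pos
        exact_mod_cast this.ne'
      show ∑ i : ↥(principalBlock M G), (i.1 : G → ℂ) (a : G) * (i.1 : G → ℂ) (b : G) *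
            conj ((i.1 : G → ℂ) (c : G)) / (i.1 : G → ℂ) ((1 : ↥H) : G) = _
      rw [e1]
      have hS : ∑ᶠ χ ∈ principalBlock M G,
            (χ : G → ℂ) (a : G) * (χ : G → ℂ) (b : G) * (χ : G → ℂ) (c : G)⁻¹ / (χ : G → ℂ) 1 =
          (∑ᶠ χ ∈ principalBlock M G, (χ : G → ℂ) (c : G) * (χ : G → ℂ) (c : G)⁻¹) *
            ((Finset.univ.filter (fun n : ↥(Subgroup.normalizer (H : Set G)) =>
              ∃ n' : ↥(Subgroup.normalizer (H : Set G)),
                (a : G) * ((n : G) * (b : G) * (n : G)⁻¹) = (n' : G) * (c : G) * (n' : G)⁻¹)).card : ℂ) /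
            (Nat.card ↥(Subgroup.normalizer (H : Set G)) : ℂ) := by
        rw [eq_div_iff hN0, mul_comm]
        exact hO
      rw [hS, e2, e3, e4, Nat.card_eq_fintype_card]
      have hstabC : ((Finset.univ.filter (fun n' : ↥(Subgroup.normalizer (H : Set G)) =>
            H.normalizerMonoidHom n' c = c)).card : ℂ) ≠ 0 := by
        exact_mod_cast hstab.ne'
      have hN0' : (Fintype.card ↥(Subgroup.normalizer (H : Set G)) : ℂ) ≠ 0 := by
        rw [← Nat.card_eq_fintype_card]
        exact hN0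
      push_cast
      field_simp
    · -- hCS0
      intro i a b hab
      have h := Cfsg.Agent.Lib.H11.SH.cs_good hloc i.1 i.2 (a : G) (b : G) a.2 b.2
        (fun n h' => hab n (Subtype.ext h'))
      rw [Nat.card_eq_fintype_card] at h
      exact h
    · -- hnt
      obtain ⟨a, ha, b, hb, ha1, hb1, h⟩ := nt hnt
      exact ⟨⟨a, ha⟩, ⟨b, hb⟩, fun h' => ha1 (congrArg Subtype.val h'),
        fun h' => hb1 (congrArg Subtype.val h'),
        fun n h' => h n n.2 (congrArg Subtype.val h')⟩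
  intro c hc hc1
  have hk := key ⟨c, hc⟩ (fun h => hc1 (congrArg Subtype.val h))
  have hfilt : (Finset.univ.filter (fun n' : ↥(Subgroup.normalizer (H : Set G)) =>
      H.normalizerMonoidHom n' ⟨c, hc⟩ = ⟨c, hc⟩)) = Finset.univ := by
    apply Finset.filter_true_of_mem
    intro n' _
    exact Subtype.ext (hcent n'.1 n'.2 c hc)
  rw [hfilt, Finset.card_univ] at hk
  have e2 : ∑ᶠ χ ∈ principalBlock M G, (χ : G → ℂ) c * (χ : G → ℂ) c⁻¹ =
      ((∑ i : ↥(principalBlock M G), Complex.normSq ((i.1 : G → ℂ) c) : ℝ) : ℂ) := by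
    rw [← finsum_set_coe_eq_finsum_mem, finsum_eq_sum_of_fintype, Complex.ofReal_sum]
    refine Finset.sum_congr rfl (fun i _ => ?_)
    rw [Cfsg.Agent.Lib.H24.irr_inv, Complex.mul_conj]
  have hN0 : (Fintype.card ↥(Subgroup.normalizer (H : Set G)) : ℂ) ≠ 0 :=
    Nat.cast_ne_zero.2 Fintype.card_ne_zero
  rw [e2, Nat.card_eq_fintype_card, ← hk]
  push_cast
  field_simp

end Cfsg.Agent.Lib.H6.SHK
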