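/-
EO project (Aschbacher's theorem, even-dimensional orthogonal case), the **all-q toolkit**
(the part where, for `q` even, the quadratic form `Q` is not determined by its polar form):

* `singPart` : the singular part `{w ∈ W | Q w = 0}` of a subspace `W` that is totally isotropic
  for the polar form; it is a subspace of codimension at most one in `W`;
* `eq_zero_of_invariant_additive`, `quad_eq_of_polar_eq` : an irreducible set of matrices
  fixes at most one quadratic form with a given polar form;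
* `exists_vec_of_semilinear` (`2 = 0`) : two quadratic forms with the same non-degenerate
  polar form `f` differ by `v ↦ (f v a) ^ 2` for a unique vector `a`, fixed by every common
  isometry;
* `ts_pair_quad` : class 2, pair of totally isotropic subspaces: they are totally singular;
* `areIsometricFor_of_map`, `isOrthogonalMDecomposition_of_transitive` : class 2, blocks permuted
  transitively by isometries are isometric;
* `quad_rational_of_polar_rational` : class 5, a rational structure of the polar form of an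
  irreducible group written over the subfield is a rational structure of the quadratic form.
-/
import Mathlib
import Cfsg.Prelude.Def_GeometricClasses
import Cfsg.Agent.Lib.H6.AschU3a
import Cfsg.Agent.Lib.H2.SuSubFF
import Cfsg.Agent.Lib.H18.AschSD

set_option autoImplicit false
set_option linter.unusedSectionVars false
set_option linter.unusedVariables false

namespace Cfsg.Agent.Lib.H6.AschE

open Cfsg Cfsg.Geo
open scoped MatrixGroups Matrix

variable {F : Type*} [Field F] {ι : Type} [Fintype ι] [DecidableEq ι]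

/-! ### Basics -/

theorem quad_zero (Q : (ι → F) → F) (hQ : IsNondegenerateQuadraticForm Q) : Q 0 = 0 := by
  have h := hQ.smul 0 0
  rw [zero_smul] at h
  rw [h]
  ring

theorem quad_add (Q : (ι → F) → F) (u v : ι → F) :
    Q (u + v) = Q u + Q v + QuadraticMap.polar Q u v := by
  rw [QuadraticMap.polar]
  ring

theorem polar_self_eq (Q : (ι → F) → F) (hQ : IsNondegenerateQuadraticForm Q) (v : ι → F) :
    QuadraticMap.polar Q v v = 2 * Q v := by
  have h2 : v + v = (2 : F) • v := (two_smul F v).symm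
  rw [QuadraticMap.polar, h2, hQ.smul]
  ring

theorem fixesForm_polar_of_fixes (S : Set (Matrix ι ι F)) (Q : (ι → F) → F)
    (hfix : FixesQuadForm S Q) : FixesForm S (QuadraticMap.polar Q) := by
  intro s hs u v
  rw [QuadraticMap.polar, QuadraticMap.polar, ← Matrix.mulVec_add, hfix s hs, hfix s hs, hfix s hs]

theorem mem_isometryGroup_iff' (Q : (ι → F) → F) (g : GL ι F) :
    g ∈ isometryGroup F Q ↔ ∀ v, Q ((g : Matrix ι ι F) *ᵥ v) = Q v := by
  constructor
  · intro h v
    exact h v v
  · intro h u v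
    exact h u

theorem fixesQuadForm_of_le (Q : (ι → F) → F) (H : Subgroup (GL ι F))
    (hH : H ≤ isometryGroup F Q) : FixesQuadForm (matrixSet H) Q := by
  rintro _ ⟨g, hg, rfl⟩ v
  exact (mem_isometryGroup_iff' Q g).1 (hH hg) v

/-- in characteristic two squaring is injective -/
theorem sq_inj_of_two_eq_zero (h2 : (2 : F) = 0) {x y : F} (h : x ^ 2 = y ^ 2) : x = y := by
  have h1 : (x - y) ^ 2 = 0 := by
    have : (x - y) ^ 2 = x ^ 2 + y ^ 2 - 2 * (x * y) := by ring
    rw [this, h2, h]
    have : y ^ 2 + y ^ 2 = 2 * y ^ 2 := by ring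
    rw [this, h2]
    ring
  exact sub_eq_zero.1 (pow_eq_zero_iff (two_ne_zero) |>.1 h1)

theorem ringChar_eq_two_of_two_eq_zero (h2 : (2 : F) = 0) : ringChar F = 2 :=
  CharP.ringChar_of_prime_eq_zero Nat.prime_two (by exact_mod_cast h2)

/-! ### (T1) the singular part of a totally isotropic subspace -/

/-- the vectors of the totally isotropic subspace `W` on which `Q` vanishes -/
def singPart (Q : (ι → F) → F) (hQ : IsNondegenerateQuadraticForm Q) (W : Submodule F (ι → F))
    (hW : IsTotallySingularFor (QuadraticMap.polar Q) W) : Submodule F (ι → F) where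
  carrier := {w | w ∈ W ∧ Q w = 0}
  add_mem' := by
    rintro u v ⟨hu, hu0⟩ ⟨hv, hv0⟩
    refine ⟨W.add_mem hu hv, ?_⟩
    rw [quad_add Q, hu0, hv0, hW u hu v hv]
    ring
  zero_mem' := ⟨W.zero_mem, quad_zero Q hQ⟩
  smul_mem' := by
    rintro c v ⟨hv, hv0⟩
    refine ⟨W.smul_mem c hv, ?_⟩
    rw [hQ.smul, hv0, mul_zero]

theorem mem_singPart {Q : (ι → F) → F} {hQ : IsNondegenerateQuadraticForm Q}
    {W : Submodule F (ι → F)} {hW : IsTotallySingularFor (QuadraticMap.polar Q) W} {w : ι → F} :
    w ∈ singPart Q hQ W hW ↔ w ∈ W ∧ Q w = 0 := Iff.rfl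

theorem singPart_le (Q : (ι → F) → F) (hQ : IsNondegenerateQuadraticForm Q)
    (W : Submodule F (ι → F)) (hW : IsTotallySingularFor (QuadraticMap.polar Q) W) :
    singPart Q hQ W hW ≤ W := fun _ h => h.1

theorem isTotallySingularQuad_singPart (Q : (ι → F) → F) (hQ : IsNondegenerateQuadraticForm Q)
    (W : Submodule F (ι → F)) (hW : IsTotallySingularFor (QuadraticMap.polar Q) W) :
    IsTotallySingularQuad Q (singPart Q hQ W hW) := fun _ h => h.2

/-- for `2 ≠ 0` a totally isotropic subspace is totally singular -/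
theorem singPart_eq_of_two_ne_zero (Q : (ι → F) → F) (hQ : IsNondegenerateQuadraticForm Q)
    (W : Submodule F (ι → F)) (hW : IsTotallySingularFor (QuadraticMap.polar Q) W)
    (h2 : (2 : F) ≠ 0) : singPart Q hQ W hW = W := by
  refine le_antisymm (singPart_le Q hQ W hW) (fun w hw => ⟨hw, ?_⟩)
  have h := polar_self_eq Q hQ w
  rw [hW w hw w hw] at h
  rcases mul_eq_zero.1 h.symm with h3 | h3
  · exact absurd h3 h2
  · exact h3

/-- an isometry mapping `W` into `W'` maps the singular part into the singular part -/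
theorem singPart_map (Q : (ι → F) → F) (hQ : IsNondegenerateQuadraticForm Q)
    (W W' : Submodule F (ι → F)) (hW : IsTotallySingularFor (QuadraticMap.polar Q) W)
    (hW' : IsTotallySingularFor (QuadraticMap.polar Q) W') (s : Matrix ι ι F)
    (hs : ∀ v, Q (s *ᵥ v) = Q v) (hWW' : W.map (Matrix.toLin' s) ≤ W') :
    (singPart Q hQ W hW).map (Matrix.toLin' s) ≤ singPart Q hQ W' hW' := by
  rintro _ ⟨w, ⟨hw, hw0⟩, rfl⟩
  refine ⟨hWW' ⟨w, hw, rfl⟩, ?_⟩
  rw [Matrix.toLin'_apply, hs, hw0]

/-- the singular part has codimension at most one (finite field) -/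
theorem finrank_le_singPart_add_one [Fintype F] (Q : (ι → F) → F)
    (hQ : IsNondegenerateQuadraticForm Q) (W : Submodule F (ι → F))
    (hW : IsTotallySingularFor (QuadraticMap.polar Q) W) :
    Module.finrank F W ≤ Module.finrank F (singPart Q hQ W hW) + 1 := by
  by_cases h2 : (2 : F) = 0
  · by_cases hall : ∀ w ∈ W, Q w = 0
    · have : singPart Q hQ W hW = W :=
        le_antisymm (singPart_le Q hQ W hW) (fun w hw => ⟨hw, hall w hw⟩)
      rw [this]
      omega
    · push Not at hall
      obtain ⟨w₀, hw₀, hw₀Q⟩ := hall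
      have hle : W ≤ singPart Q hQ W hW ⊔ Submodule.span F {w₀} := by
        intro w hw
        obtain ⟨c, hc⟩ := FiniteField.isSquare_of_char_two (ringChar_eq_two_of_two_eq_zero h2)
          (Q w / Q w₀)
        have hmem : w + c • w₀ ∈ singPart Q hQ W hW := by
          refine ⟨W.add_mem hw (W.smul_mem c hw₀), ?_⟩
          rw [quad_add Q, hQ.smul, hQ.polar_bilinear.smul_right, hW w hw w₀ hw₀, mul_zero, add_zero,
            pow_two, ← hc, div_mul_cancel₀ _ hw₀Q]
          have : Q w + Q w = 2 * Q w := by ring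
          rw [this, h2, zero_mul]
        have hw' : w = (w + c • w₀) + (-c) • w₀ := by
          rw [neg_smul]
          abel
        rw [hw']
        exact Submodule.add_mem_sup hmem
          (Submodule.smul_mem _ _ (Submodule.mem_span_singleton_self w₀))
      have h1 := Submodule.finrank_mono hle
      have h3 := Submodule.finrank_add_le_finrank_add_finrank (singPart Q hQ W hW)
        (Submodule.span F {w₀})
      have h4 : Module.finrank F (Submodule.span F {w₀}) ≤ 1 := by
        have := finrank_span_le_card (R := F) ({w₀} : Set (ι → F))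
        simpa using this
      omega
  · rw [singPart_eq_of_two_ne_zero Q hQ W hW h2]
    omega


/-- the stabiliser of a totally isotropic subspace in the isometry group stabilises the singular
part -/
theorem singPart_map_eq (Q : (ι → F) → F) (hQ : IsNondegenerateQuadraticForm Q)
    (W : Submodule F (ι → F)) (hW : IsTotallySingularFor (QuadraticMap.polar Q) W) (g : GL ι F)
    (hg : g ∈ isometryGroup F Q) (hgW : W.map (Matrix.toLin' (g : Matrix ι ι F)) = W) :
    (singPart Q hQ W hW).map (Matrix.toLin' (g : Matrix ι ι F)) = singPart Q hQ W hW := by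
  refine le_antisymm (singPart_map Q hQ W W hW hW _ ((mem_isometryGroup_iff' Q g).1 hg) hgW.le) ?_
  intro w hw
  have hw1 : w ∈ W.map (Matrix.toLin' (g : Matrix ι ι F)) := by rw [hgW]; exact hw.1
  obtain ⟨u, hu, rfl⟩ := hw1
  refine ⟨u, ⟨hu, ?_⟩, rfl⟩
  have := hw.2
  rw [Matrix.toLin'_apply, (mem_isometryGroup_iff' Q g).1 hg] at this
  exact this

/-! ### (T2) uniqueness of the invariant quadratic form with a given polar form -/

/-- an additive function `F^ι → F` (`|ι| ≥ 2`, `F` finite) whose kernel is closed under scalars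
and which is invariant under an irreducible set of matrices is zero -/
theorem eq_zero_of_invariant_additive [Fintype F] (S : Set (Matrix ι ι F))
    (hirr : ActsIrreducibly S) (hn : 2 ≤ Fintype.card ι) (d : (ι → F) → F)
    (hadd : ∀ u v, d (u + v) = d u + d v) (hsmul : ∀ (c : F) v, d v = 0 → d (c • v) = 0)
    (hinv : ∀ s ∈ S, ∀ v, d (s *ᵥ v) = d v) (v : ι → F) : d v = 0 := by
  have hd0 : d 0 = 0 := by
    have := hadd 0 0
    rw [add_zero] at this
    have h4 : d 0 + d 0 = d 0 + 0 := by rw [add_zero]; exact this.symm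
    exact add_left_cancel h4
  let W : Submodule F (ι → F) :=
    { carrier := {v | d v = 0}
      add_mem' := by
        intro u v hu hv
        show d (u + v) = 0
        have hu' : d u = 0 := hu
        have hv' : d v = 0 := hv
        rw [hadd, hu', hv', add_zero]
      zero_mem' := hd0
      smul_mem' := by
        intro a v hv
        exact hsmul a v hv }
  have hWinv : ∀ s ∈ S, W.map (Matrix.toLin' s) ≤ W := by
    intro s hs
    rintro _ ⟨v, hv, rfl⟩
    have hv' : d v = 0 := hv
    show d (Matrix.toLin' s v) = 0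
    rw [Matrix.toLin'_apply, hinv s hs, hv']
  rcases hirr W hWinv with hW | hW
  · exfalso
    let q : (ι → F) →+ F :=
      { toFun := d
        map_zero' := hd0
        map_add' := hadd }
    have hinj : Function.Injective q := by
      rw [injective_iff_map_eq_zero]
      intro v hv
      have : v ∈ W := hv
      rw [hW] at this
      exact (Submodule.mem_bot F).1 this
    have hcard := Fintype.card_le_of_injective q hinj
    rw [Fintype.card_fun] at hcard
    have h1 : 1 < Fintype.card F := Fintype.one_lt_card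
    have h3 : Fintype.card F ^ 1 < Fintype.card F ^ Fintype.card ι :=
      Nat.pow_lt_pow_right h1 (by omega)
    rw [pow_one] at h3
    omega
  · have : v ∈ W := by rw [hW]; trivial
    exact this

/-- **(T2)** an irreducible set of matrices fixes at most one quadratic form with a given polar
form -/
theorem quad_eq_of_polar_eq [Fintype F] (S : Set (Matrix ι ι F)) (hirr : ActsIrreducibly S)
    (hn : 2 ≤ Fintype.card ι) (Q Q' : (ι → F) → F)
    (hQs : ∀ (c : F) v, Q (c • v) = c ^ 2 * Q v) (hQ's : ∀ (c : F) v, Q' (c • v) = c ^ 2 * Q' v)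
    (hpol : ∀ u v, QuadraticMap.polar Q u v = QuadraticMap.polar Q' u v)
    (hfix : FixesQuadForm S Q) (hfix' : FixesQuadForm S Q') : Q = Q' := by
  funext v
  have := eq_zero_of_invariant_additive S hirr hn (fun v => Q v - Q' v)
    (by
      intro u v
      show Q (u + v) - Q' (u + v) = (Q u - Q' u) + (Q v - Q' v)
      rw [quad_add Q, quad_add Q', hpol]
      ring)
    (by
      intro c v hv
      show Q (c • v) - Q' (c • v) = 0
      have hv' : Q v - Q' v = 0 := hv
      rw [hQs, hQ's, ← mul_sub, hv', mul_zero])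
    (by
      intro s hs v
      show Q (s *ᵥ v) - Q' (s *ᵥ v) = Q v - Q' v
      rw [hfix s hs, hfix' s hs]) v
  exact sub_eq_zero.1 this

/-- **(T2)**, for a subgroup of both isometry groups -/
theorem quad_eq_of_polar_eq_of_le [Fintype F] (H : Subgroup (GL ι F))
    (hirr : ActsIrreducibly (matrixSet H)) (hn : 2 ≤ Fintype.card ι) (Q Q' : (ι → F) → F)
    (hQ : IsNondegenerateQuadraticForm Q) (hQ's : ∀ (c : F) v, Q' (c • v) = c ^ 2 * Q' v)
    (hpol : ∀ u v, QuadraticMap.polar Q' u v = QuadraticMap.polar Q u v)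
    (hH : H ≤ isometryGroup F Q) (hH' : H ≤ isometryGroup F Q') : Q' = Q :=
  quad_eq_of_polar_eq (matrixSet H) hirr hn Q' Q hQ's hQ.smul hpol
    (fixesQuadForm_of_le Q' H hH') (fixesQuadForm_of_le Q H hH)


/-! ### (T3) characteristic two: the difference of two quadratic forms with the same polar form -/

theorem bilin_sub_right {f : (ι → F) → (ι → F) → F} (hf : IsBilinearForm f) (v x y : ι → F) :
    f v (x - y) = f v x - f v y := by
  have : x - y = x + (-1 : F) • y := by rw [neg_one_smul]; abel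
  rw [this, hf.add_right, hf.smul_right]
  ring

/-- a vector is determined by the squares of its products (`2 = 0`) -/
theorem vec_unique_of_sq_eq (h2 : (2 : F) = 0) (f : (ι → F) → (ι → F) → F) (hf : IsBilinearForm f)
    (hnd : IsNondegenerateForm f) (a a' : ι → F) (h : ∀ v, (f v a) ^ 2 = (f v a') ^ 2) :
    a = a' := by
  by_contra hne
  have hne' : a - a' ≠ 0 := sub_ne_zero.2 hne
  obtain ⟨x, hx⟩ := (hnd _ hne').1
  apply hx
  rw [bilin_sub_right hf, sq_inj_of_two_eq_zero h2 (h x), sub_self]

/-- **(T3)** in characteristic two an additive function `d` with `d (c v) = c² d v` is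
`v ↦ (f v a)²` for a vector `a` -/
theorem exists_vec_of_semilinear [Fintype F] (h2 : (2 : F) = 0) (f : (ι → F) → (ι → F) → F)
    (hf : IsBilinearForm f) (hnd : IsNondegenerateForm f) (d : (ι → F) → F)
    (hadd : ∀ u v, d (u + v) = d u + d v) (hsmul : ∀ (c : F) v, d (c • v) = c ^ 2 * d v) :
    ∃ a : ι → F, ∀ v, d v = (f v a) ^ 2 := by
  have hsq : ∀ x : F, ∃ r : F, r ^ 2 = x := by
    intro x
    obtain ⟨r, hr⟩ := FiniteField.isSquare_of_char_two (ringChar_eq_two_of_two_eq_zero h2) x
    exact ⟨r, by rw [hr, pow_two]⟩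
  choose r hr using hsq
  have hadd2 : ∀ x y : F, (x + y) ^ 2 = x ^ 2 + y ^ 2 := by
    intro x y
    have : (x + y) ^ 2 = x ^ 2 + y ^ 2 + 2 * (x * y) := by ring
    rw [this, h2, zero_mul, add_zero]
  let L : (ι → F) →ₗ[F] F :=
    { toFun := fun v => r (d v)
      map_add' := by
        intro u v
        apply sq_inj_of_two_eq_zero h2
        rw [hadd2, hr, hr, hr, hadd]
      map_smul' := by
        intro c v
        apply sq_inj_of_two_eq_zero h2
        rw [RingHom.id_apply, smul_eq_mul, mul_pow, hr, hr, hsmul] }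
  have hL : ∀ v, L v = r (d v) := fun v => rfl
  obtain ⟨B, hB⟩ := Cfsg.Agent.Lib.H6.Asch.exists_rep_of_bilinear f hf
  have hBdet : IsUnit B.det := hB.isUnit_det hnd
  have hB' : ∀ u v, f u v = u ⬝ᵥ (B *ᵥ v) := fun u v => hB u v
  let lam : ι → F := fun i => L (fun j => if i = j then 1 else 0)
  have hlam : ∀ v, L v = v ⬝ᵥ lam := by
    intro v
    rw [LinearMap.pi_apply_eq_sum_univ L v]
    rfl
  refine ⟨B⁻¹ *ᵥ lam, fun v => ?_⟩
  rw [hB', Matrix.mulVec_mulVec, Matrix.mul_nonsing_inv _ hBdet, Matrix.one_mulVec, ← hlam, hL, hr]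

/-- the vector of (T3) is fixed by every invertible matrix preserving `f` and `d` -/
theorem vec_fixed_of_invariant (h2 : (2 : F) = 0) (f : (ι → F) → (ι → F) → F)
    (hf : IsBilinearForm f) (hnd : IsNondegenerateForm f) (d : (ι → F) → F) (a : ι → F)
    (ha : ∀ v, d v = (f v a) ^ 2) (g : GL ι F)
    (hgf : ∀ u v, f ((g : Matrix ι ι F) *ᵥ u) ((g : Matrix ι ι F) *ᵥ v) = f u v)
    (hgd : ∀ v, d ((g : Matrix ι ι F) *ᵥ v) = d v) : (g : Matrix ι ι F) *ᵥ a = a := by
  apply vec_unique_of_sq_eq h2 f hf hnd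
  intro x
  have hx : (g : Matrix ι ι F) *ᵥ (((g⁻¹ : GL ι F) : Matrix ι ι F) *ᵥ x) = x := by
    rw [Matrix.mulVec_mulVec, ← Units.val_mul, mul_inv_cancel, Units.val_one, Matrix.one_mulVec]
  rw [← ha x]
  conv_lhs => rw [← hx]
  rw [hgf, ← ha, ← hgd, hx]

/-- **(T3)** two quadratic forms with the same non-degenerate polar form `f` (`2 = 0`) differ by
`v ↦ (f v a)²`, and `a` is fixed by every common isometry -/
theorem exists_fixed_vec_of_polar_eq [Fintype F] (h2 : (2 : F) = 0) (Q Q' : (ι → F) → F)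
    (hQ : IsNondegenerateQuadraticForm Q) (hQ's : ∀ (c : F) v, Q' (c • v) = c ^ 2 * Q' v)
    (hpol : ∀ u v, QuadraticMap.polar Q' u v = QuadraticMap.polar Q u v) :
    ∃ a : ι → F, (∀ v, Q' v = Q v + (QuadraticMap.polar Q v a) ^ 2) ∧
      ∀ g : GL ι F, g ∈ isometryGroup F Q → g ∈ isometryGroup F Q' →
        (g : Matrix ι ι F) *ᵥ a = a := by
  obtain ⟨a, ha⟩ := exists_vec_of_semilinear h2 (QuadraticMap.polar Q) hQ.polar_bilinear
    hQ.nondegenerate (fun v => Q' v - Q v)
    (by
      intro u v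
      show Q' (u + v) - Q (u + v) = (Q' u - Q u) + (Q' v - Q v)
      rw [quad_add Q, quad_add Q', hpol]
      ring)
    (by
      intro c v
      show Q' (c • v) - Q (c • v) = c ^ 2 * (Q' v - Q v)
      rw [hQ's, hQ.smul]
      ring)
  refine ⟨a, fun v => ?_, fun g hg hg' => ?_⟩
  · rw [← ha v]
    ring
  · refine vec_fixed_of_invariant h2 (QuadraticMap.polar Q) hQ.polar_bilinear hQ.nondegenerate
      (fun v => Q' v - Q v) a ha g ?_ ?_
    · intro u v
      have h1 := (mem_isometryGroup_iff' Q g).1 hg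
      rw [QuadraticMap.polar, QuadraticMap.polar, ← Matrix.mulVec_add, h1, h1, h1]
    · intro v
      show Q' _ - Q _ = Q' v - Q v
      rw [(mem_isometryGroup_iff' Q g).1 hg, (mem_isometryGroup_iff' Q' g).1 hg']

/-! ### (T4) class 2: a pair of totally isotropic subspaces -/

/-- **(T4)** an irreducible group of isometries stabilising a decomposition into two totally
isotropic subspaces of dimension at least two: the two subspaces are totally singular -/
theorem ts_pair_quad [Fintype F] (Q : (ι → F) → F) (hQ : IsNondegenerateQuadraticForm Q)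
    (H : Subgroup (GL ι F)) (hH : H ≤ isometryGroup F Q)
    (hirr : ActsIrreducibly (matrixSet H)) (k : ℕ) (hk : 2 ≤ k)
    (D : Fin 2 → Submodule F (ι → F)) (hD : IsMDecomposition k D)
    (hti : ∀ i, IsTotallySingularFor (QuadraticMap.polar Q) (D i))
    (hstab : H ≤ decompositionStabilizer D) : ∀ i, IsTotallySingularQuad Q (D i) := by
  set S : Fin 2 → Submodule F (ι → F) := fun i => singPart Q hQ (D i) (hti i) with hS
  have hSle : ∀ i, S i ≤ D i := fun i => singPart_le Q hQ (D i) (hti i)
  have hSne : ∀ i, S i ≠ ⊥ := by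
    intro i h0
    have h1 := finrank_le_singPart_add_one Q hQ (D i) (hti i)
    have h3 : Module.finrank F (singPart Q hQ (D i) (hti i)) = 0 := by
      have : singPart Q hQ (D i) (hti i) = ⊥ := h0
      rw [this, finrank_bot]
    rw [hD.finrank_eq i] at h1
    omega
  set T : Submodule F (ι → F) := S 0 ⊔ S 1 with hT
  have hTinv : ∀ s ∈ matrixSet H, T.map (Matrix.toLin' s) ≤ T := by
    rintro _ ⟨g, hg, rfl⟩
    obtain ⟨σ, hσ⟩ := hstab hg
    have hmap : ∀ i, (S i).map (Matrix.toLin' (g : Matrix ι ι F)) ≤ S (σ i) := fun i =>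
      singPart_map Q hQ (D i) (D (σ i)) (hti i) (hti (σ i)) _
        ((mem_isometryGroup_iff' Q g).1 (hH hg)) (hσ i).le
    have hST : ∀ j, S j ≤ T := by
      intro j
      fin_cases j
      · exact le_sup_left
      · exact le_sup_right
    rw [hT, Submodule.map_sup]
    exact sup_le ((hmap 0).trans (hST _)) ((hmap 1).trans (hST _))
  have hTtop : T = ⊤ := by
    rcases hirr T hTinv with h | h
    · exfalso
      apply hSne 0
      rw [eq_bot_iff, ← h]
      exact le_sup_left
    · exact h
  have hdisj : Disjoint (D 0) (D 1) := hD.indep.pairwiseDisjoint (by decide)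
  have key : ∀ i j : Fin 2, i ≠ j → S i ⊔ S j = ⊤ → Disjoint (D i) (D j) → D i ≤ S i := by
    intro i j hij htop hdis w hw
    have hw' : w ∈ S i ⊔ S j := by rw [htop]; trivial
    obtain ⟨a, ha, b, hb, hab⟩ := Submodule.mem_sup.1 hw'
    have hbD : b ∈ D i := by
      have : b = w - a := by rw [← hab]; abel
      rw [this]
      exact (D i).sub_mem hw (hSle i ha)
    have hb0 : b = 0 := by
      have := (Submodule.disjoint_def.1 hdis) b hbD (hSle j hb)
      exact this
    rw [← hab, hb0, add_zero]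
    exact ha
  intro i w hw
  fin_cases i
  · exact (key 0 1 (by decide) hTtop hdisj hw).2
  · have h10 : S 1 ⊔ S 0 = ⊤ := by rw [sup_comm]; exact hTtop
    exact (key 1 0 (by decide) h10 hdisj.symm hw).2

/-! ### (T5) class 2: blocks in one orbit of a group of isometries are isometric -/

theorem areIsometricFor_of_map (Q : (ι → F) → F) (g : GL ι F) (hg : g ∈ isometryGroup F Q)
    (W W' : Submodule F (ι → F)) (h : W.map (Matrix.toLin' (g : Matrix ι ι F)) = W') :
    AreIsometricFor Q W W' := by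
  subst h
  have hinj : Function.Injective (Matrix.toLin' (g : Matrix ι ι F)) := by
    intro u v huv
    have h1 := congrArg (fun w => ((g⁻¹ : GL ι F) : Matrix ι ι F) *ᵥ w) huv
    simp only [Matrix.toLin'_apply, Matrix.mulVec_mulVec, ← Units.val_mul, inv_mul_cancel,
      Units.val_one, Matrix.one_mulVec] at h1
    exact h1
  refine ⟨Submodule.equivMapOfInjective _ hinj W, fun w => ?_⟩
  rw [Submodule.coe_equivMapOfInjective_apply, Matrix.toLin'_apply]
  exact (mem_isometryGroup_iff' Q g).1 hg _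

/-- **(T5)** -/
theorem isOrthogonalMDecomposition_of_transitive (Q : (ι → F) → F) (H : Subgroup (GL ι F))
    (hH : H ≤ isometryGroup F Q) {t : ℕ} (k : ℕ) (D : Fin t → Submodule F (ι → F))
    (hD : IsNondegenerateMDecomposition (QuadraticMap.polar Q) k D)
    (htrans : ∀ i j, ∃ g ∈ H, (D i).map (Matrix.toLin' (g : Matrix ι ι F)) = D j) :
    IsOrthogonalMDecomposition Q k D := by
  refine ⟨hD, fun i j => ?_⟩
  obtain ⟨g, hg, hgij⟩ := htrans i j
  exact areIsometricFor_of_map Q g (hH hg) _ _ hgij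


/-! ### (T6) class 5: rational structures of the polar form and of the quadratic form -/

/-- **(T6)** let the irreducible set `S` of isometries of `Q` be written over the subfield `F₀` in
the basis `P`; if the `F₀`-structure of `P` carries `ζ` times the polar form of `Q` then it carries
`ζ • Q` (all `q`; for `q` even this is where the irreducibility is used). -/
theorem quad_rational_of_polar_rational [Fintype F] (Q : (ι → F) → F)
    (hQs : ∀ (c : F) v, Q (c • v) = c ^ 2 * Q v) (hQb : IsBilinearForm (QuadraticMap.polar Q))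
    (hn : 2 ≤ Fintype.card ι) (S : Set (Matrix ι ι F)) (hirr : ActsIrreducibly S)
    (hfix : FixesQuadForm S Q) (F₀ : Subfield F) (P : GL ι F)
    (hrat : ∀ s ∈ S, ∀ i j,
      (((P⁻¹ : GL ι F) : Matrix ι ι F) * s * (P : Matrix ι ι F)) i j ∈ F₀)
    (ζ : F) (hform : IsFormRationalStructure (QuadraticMap.polar Q) F₀ ζ P) :
    IsQuadFormRationalStructure (fun v => ζ * Q v) F₀ P := by
  set Pm : Matrix ι ι F := (P : Matrix ι ι F) with hPm
  set Pi' : Matrix ι ι F := ((P⁻¹ : GL ι F) : Matrix ι ι F) with hPi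
  have hPiPm : Pi' * Pm = 1 := by
    rw [hPi, hPm, ← Units.val_mul, inv_mul_cancel, Units.val_one]
  have hPmPi : Pm * Pi' = 1 := by
    rw [hPi, hPm, ← Units.val_mul, mul_inv_cancel, Units.val_one]
  obtain ⟨φ, hφ⟩ := Cfsg.Agent.Lib.H2.SuSub.ff_exists_frob (F := F) (F₀ := F₀) rfl
  have hφfix : ∀ x ∈ F₀, φ x = x := fun x hx => by
    rw [hφ]; exact Cfsg.Agent.Lib.H18.AschS.pow_card_of_mem F₀ hx
  have hφmem : ∀ x, φ x = x → x ∈ F₀ := fun x hx => by
    rw [hφ] at hx; exact Cfsg.Agent.Lib.H18.AschS.mem_of_pow_card F₀ hx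
  -- the form in the coordinates of `P`
  set Q₁ : (ι → F) → F := fun u => ζ * Q (Pm *ᵥ u) with hQ₁
  set f₁ : (ι → F) → (ι → F) → F := fun u v => ζ * QuadraticMap.polar Q (Pm *ᵥ u) (Pm *ᵥ v)
    with hf₁
  have hQ₁add : ∀ u v, Q₁ (u + v) = Q₁ u + Q₁ v + f₁ u v := by
    intro u v
    show ζ * Q (Pm *ᵥ (u + v)) = ζ * Q (Pm *ᵥ u) + ζ * Q (Pm *ᵥ v)
      + ζ * QuadraticMap.polar Q (Pm *ᵥ u) (Pm *ᵥ v)
    rw [Matrix.mulVec_add, quad_add Q]
    ring
  have hQ₁smul : ∀ (c : F) u, Q₁ (c • u) = c ^ 2 * Q₁ u := by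
    intro c u
    show ζ * Q (Pm *ᵥ (c • u)) = c ^ 2 * (ζ * Q (Pm *ᵥ u))
    rw [Matrix.mulVec_smul, hQs]
    ring
  have hf₁b : IsBilinearForm f₁ := by
    refine ⟨fun x y v => ?_, fun c x v => ?_, fun v x y => ?_, fun c v x => ?_⟩
    · show ζ * _ = ζ * _ + ζ * _
      rw [Matrix.mulVec_add, hQb.add_left]; ring
    · show ζ * _ = c * (ζ * _)
      rw [Matrix.mulVec_smul, hQb.smul_left]; ring
    · show ζ * _ = ζ * _ + ζ * _
      rw [Matrix.mulVec_add, hQb.add_right]; ring
    · show ζ * _ = c * (ζ * _)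
      rw [Matrix.mulVec_smul, hQb.smul_right]; ring
  obtain ⟨B, hB⟩ := Cfsg.Agent.Lib.H6.Asch.exists_rep_of_bilinear f₁ hf₁b
  have hB' : ∀ u v, f₁ u v = u ⬝ᵥ (B *ᵥ v) := fun u v => hB u v
  have hBmem : ∀ i j, B i j ∈ F₀ := by
    intro i j
    rw [← hB.apply_single i j]
    refine hform (Pi.single i 1) (Pi.single j 1) (fun k => ?_) (fun k => ?_)
    · by_cases hk : k = i
      · subst hk; simp [F₀.one_mem]
      · rw [Pi.single_eq_of_ne hk]; exact F₀.zero_mem
    · by_cases hk : k = j
      · subst hk; simp [F₀.one_mem]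
      · rw [Pi.single_eq_of_ne hk]; exact F₀.zero_mem
  have hBmap : B.map φ = B := by
    ext i j
    rw [Matrix.map_apply]
    exact hφfix _ (hBmem i j)
  have hf₁φ : ∀ u v : ι → F, f₁ (fun i => φ (u i)) (fun i => φ (v i)) = φ (f₁ u v) := by
    intro u v
    rw [hB', hB', RingHom.map_dotProduct]
    have h1 : (φ ∘ (B *ᵥ v)) = B.map φ *ᵥ (fun i => φ (v i)) :=
      Cfsg.Agent.Lib.H6.Asch.map_mulVec_fun φ B v
    rw [h1, hBmap]
    rfl
  -- the twisted difference, transported back
  set d : (ι → F) → F := fun u => Q₁ (fun i => φ (u i)) - φ (Q₁ u) with hd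
  have hdadd : ∀ u v, d (u + v) = d u + d v := by
    intro u v
    show Q₁ (fun i => φ ((u + v) i)) - φ (Q₁ (u + v)) =
      (Q₁ (fun i => φ (u i)) - φ (Q₁ u)) + (Q₁ (fun i => φ (v i)) - φ (Q₁ v))
    have h1 : (fun i => φ ((u + v) i)) = (fun i => φ (u i)) + (fun i => φ (v i)) := by
      funext i
      simp
    rw [h1, hQ₁add, hQ₁add, hf₁φ, map_add, map_add]
    ring
  have hdsmul : ∀ (c : F) u, d (c • u) = (φ c) ^ 2 * d u := by
    intro c u
    show Q₁ (fun i => φ ((c • u) i)) - φ (Q₁ (c • u)) =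
      (φ c) ^ 2 * (Q₁ (fun i => φ (u i)) - φ (Q₁ u))
    have h1 : (fun i => φ ((c • u) i)) = φ c • (fun i => φ (u i)) := by
      funext i
      simp
    rw [h1, hQ₁smul, hQ₁smul, map_mul, map_pow]
    ring
  have hdinv : ∀ s ∈ S, ∀ u, d ((Pi' * s * Pm) *ᵥ u) = d u := by
    intro s hs u
    have hQ₁inv : ∀ w, Q₁ ((Pi' * s * Pm) *ᵥ w) = Q₁ w := by
      intro w
      show ζ * Q (Pm *ᵥ ((Pi' * s * Pm) *ᵥ w)) = ζ * Q (Pm *ᵥ w)
      rw [Matrix.mulVec_mulVec, ← Matrix.mul_assoc, ← Matrix.mul_assoc, hPmPi, Matrix.one_mul,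
        ← Matrix.mulVec_mulVec, hfix s hs]
    have hmap : (Pi' * s * Pm).map φ = Pi' * s * Pm := by
      ext i j
      rw [Matrix.map_apply]
      exact hφfix _ (hrat s hs i j)
    show Q₁ (fun i => φ (((Pi' * s * Pm) *ᵥ u) i)) - φ (Q₁ ((Pi' * s * Pm) *ᵥ u)) =
      Q₁ (fun i => φ (u i)) - φ (Q₁ u)
    rw [Cfsg.Agent.Lib.H6.Asch.map_mulVec_fun φ (Pi' * s * Pm) u, hmap, hQ₁inv, hQ₁inv]
  have hd0 : ∀ x, d (Pi' *ᵥ x) = 0 := by
    intro x
    refine eq_zero_of_invariant_additive S hirr hn (fun x => d (Pi' *ᵥ x)) ?_ ?_ ?_ x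
    · intro u v
      show d (Pi' *ᵥ (u + v)) = d (Pi' *ᵥ u) + d (Pi' *ᵥ v)
      rw [Matrix.mulVec_add, hdadd]
    · intro c v hv
      show d (Pi' *ᵥ (c • v)) = 0
      have hv' : d (Pi' *ᵥ v) = 0 := hv
      rw [Matrix.mulVec_smul, hdsmul, hv', mul_zero]
    · intro s hs v
      show d (Pi' *ᵥ (s *ᵥ v)) = d (Pi' *ᵥ v)
      rw [← hdinv s hs (Pi' *ᵥ v), Matrix.mulVec_mulVec, Matrix.mulVec_mulVec, Matrix.mul_assoc,
        Matrix.mul_assoc, hPmPi, Matrix.mul_one]
  intro u hu
  have h1 := hd0 (Pm *ᵥ u)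
  rw [Matrix.mulVec_mulVec, hPiPm, Matrix.one_mulVec] at h1
  have h3 : (fun i => φ (u i)) = u := by
    funext i
    exact hφfix _ (hu i)
  have h4 : Q₁ u - φ (Q₁ u) = 0 := by
    have : d u = Q₁ (fun i => φ (u i)) - φ (Q₁ u) := rfl
    rw [this, h3] at h1
    exact h1
  exact hφmem _ (sub_eq_zero.1 h4).symm

/-- **(T6)**, for a subgroup of the isometry group of a non-degenerate quadratic form -/
theorem quad_rational_of_polar_rational_of_le [Fintype F] (Q : (ι → F) → F)
    (hQ : IsNondegenerateQuadraticForm Q) (hn : 2 ≤ Fintype.card ι) (N : Subgroup (GL ι F))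
    (hN : N ≤ isometryGroup F Q) (hirr : ActsIrreducibly (matrixSet N)) (F₀ : Subfield F)
    (P : GL ι F)
    (hrat : ∀ s ∈ matrixSet N, ∀ i j,
      (((P⁻¹ : GL ι F) : Matrix ι ι F) * s * (P : Matrix ι ι F)) i j ∈ F₀)
    (ζ : F) (hform : IsFormRationalStructure (QuadraticMap.polar Q) F₀ ζ P) :
    IsQuadFormRationalStructure (fun v => ζ * Q v) F₀ P :=
  quad_rational_of_polar_rational Q hQ.smul hQ.polar_bilinear hn (matrixSet N) hirr
    (fixesQuadForm_of_le Q N hN) F₀ P hrat ζ hform


/-! ### (T7) class 3: the elements of the commutant scale `Q` -/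

/-- **(T7)** a matrix `k` commuting with an irreducible set `S` of isometries of `Q` and scaling
the polar form by `c` scales `Q` by `c` (for `q` odd this is immediate from `Q = f / 2`) -/
theorem quad_scale_of_commute [Fintype F] (Q : (ι → F) → F)
    (hQs : ∀ (c : F) v, Q (c • v) = c ^ 2 * Q v) (hn : 2 ≤ Fintype.card ι)
    (S : Set (Matrix ι ι F)) (hirr : ActsIrreducibly S) (hfix : FixesQuadForm S Q)
    (k : Matrix ι ι F) (hk : ∀ s ∈ S, k * s = s * k) (c : F)
    (hc : ∀ u v, QuadraticMap.polar Q (k *ᵥ u) (k *ᵥ v) = c * QuadraticMap.polar Q u v)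
    (v : ι → F) : Q (k *ᵥ v) = c * Q v := by
  have h := quad_eq_of_polar_eq S hirr hn (fun v => Q (k *ᵥ v)) (fun v => c * Q v)
    (by
      intro a v
      show Q (k *ᵥ (a • v)) = a ^ 2 * Q (k *ᵥ v)
      rw [Matrix.mulVec_smul, hQs])
    (by
      intro a v
      show c * Q (a • v) = a ^ 2 * (c * Q v)
      rw [hQs]
      ring)
    (by
      intro u v
      have h1 := hc u v
      simp only [QuadraticMap.polar] at h1 ⊢
      rw [Matrix.mulVec_add]
      linear_combination h1)
    (by
      intro s hs v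
      show Q (k *ᵥ (s *ᵥ v)) = Q (k *ᵥ v)
      rw [Matrix.mulVec_mulVec, hk s hs, ← Matrix.mulVec_mulVec, hfix s hs])
    (by
      intro s hs v
      show c * Q (s *ᵥ v) = c * Q v
      rw [hfix s hs])
  exact congrFun h v

end Cfsg.Agent.Lib.H6.AschE
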