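/-
S5673 project (Aschbacher's theorem, orthogonal case in odd dimension), tool **OT5'**:
an absolutely irreducible group fixing a non-degenerate bilinear form and a unitary form
is realisable over the fixed field of the involution (Galois descent); hence class 5.
-/
import Mathlib
import Cfsg.Agent.Lib.H24.AschODefs
import Cfsg.Agent.Lib.H6.AschU3c
import Cfsg.Agent.Lib.H25.AschUT5f

set_option autoImplicit false
set_option linter.unusedSectionVars false
set_option linter.unusedVariables false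

namespace Cfsg.Agent.Lib.H6.Asch

open Cfsg Cfsg.Geo Cfsg.Agent.Lib.Lead.Asch Cfsg.Agent.Lib.H24.Asch
open scoped MatrixGroups Matrix

variable {F : Type*} [Field F] [Fintype F] {n : ℕ}

/-- the norm of an involution of a finite field is onto the fixed field -/
theorem exists_norm_eq_of_involution (σ : F ≃+* F) (hσ : σ ≠ RingEquiv.refl F)
    (hσ2 : ∀ a, σ (σ a) = a) (κ : F) (hκ0 : κ ≠ 0) (hκ : σ κ = κ) :
    ∃ μ : F, μ ≠ 0 ∧ μ * σ μ = κ := by
  classical
  let σu : Fˣ →* Fˣ := Units.map (σ : F →* F)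
  have hσu : ∀ u : Fˣ, ((σu u : Fˣ) : F) = σ (u : F) := fun u => rfl
  let Nm : Fˣ →* Fˣ :=
    { toFun := fun u => u * σu u
      map_one' := by simp
      map_mul' := by
        intro a b
        rw [map_mul]
        exact mul_mul_mul_comm _ _ _ _ }
  let D : Fˣ →* Fˣ :=
    { toFun := fun u => u * (σu u)⁻¹
      map_one' := by simp
      map_mul' := by
        intro a b
        rw [map_mul, mul_inv]
        exact mul_mul_mul_comm _ _ _ _ }
  have hNm : ∀ u, Nm u = u * σu u := fun u => rfl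
  have hD : ∀ u, D u = u * (σu u)⁻¹ := fun u => rfl
  have hσuσu : ∀ u, σu (σu u) = u := by
    intro u
    apply Units.ext
    rw [hσu, hσu, hσ2]
  have hker : Nm.ker = D.range := by
    ext u
    rw [MonoidHom.mem_ker, MonoidHom.mem_range]
    constructor
    · intro hu
      have h1 : (u : F) * σ (u : F) = 1 := by
        have := congrArg (fun w : Fˣ => (w : F)) hu
        simpa [hNm, hσu] using this
      obtain ⟨a, ha0, ha⟩ := hilbert90_two σ hσ hσ2 (u : F) h1
      refine ⟨Units.mk0 a ha0, ?_⟩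
      rw [hD, mul_inv_eq_iff_eq_mul]
      apply Units.ext
      rw [Units.val_mul, hσu, Units.val_mk0]
      exact ha.symm
    · rintro ⟨a, rfl⟩
      rw [hNm, hD, map_mul, map_inv, hσuσu, mul_assoc, inv_mul_cancel_left, mul_inv_cancel]
  have hrange : Nm.range ≤ D.ker := by
    rintro _ ⟨a, rfl⟩
    rw [MonoidHom.mem_ker, hD, hNm, map_mul, hσuσu, mul_comm (σu a) a, mul_inv_cancel]
  have h1 : Nat.card Nm.ker * Nat.card Nm.range = Nat.card Fˣ := by
    rw [← Subgroup.index_ker]
    exact Subgroup.card_mul_index _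
  have h2 : Nat.card D.ker * Nat.card D.range = Nat.card Fˣ := by
    rw [← Subgroup.index_ker]
    exact Subgroup.card_mul_index _
  have hpos : 0 < Nat.card D.range := Nat.card_pos
  have h3 : Nat.card Nm.range = Nat.card D.ker := by
    rw [hker, ← h2, mul_comm] at h1
    exact Nat.eq_of_mul_eq_mul_right hpos h1
  have heq : Nm.range = D.ker := Subgroup.eq_of_le_of_card_ge hrange h3.ge
  have hmem : Units.mk0 κ hκ0 ∈ D.ker := by
    rw [MonoidHom.mem_ker, hD, mul_inv_eq_one]
    apply Units.ext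
    rw [hσu, Units.val_mk0]
    exact hκ.symm
  rw [← heq] at hmem
  obtain ⟨μ, hμ⟩ := hmem
  refine ⟨(μ : F), μ.ne_zero, ?_⟩
  have := congrArg (fun w : Fˣ => (w : F)) hμ
  simpa [hNm, hσu] using this

/-- **Galois descent**: an absolutely irreducible group fixing a non-degenerate bilinear form
and a unitary form is realisable over the fixed field of the involution. -/
theorem realisable_of_fixes_bilinear_unitary (hn : 0 < n) (N : Subgroup (GL (Fin n) F))
    (habs : ActsAbsolutelyIrreducibly (matrixSet N))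
    (f : (Fin n → F) → (Fin n → F) → F) (hf : IsBilinearForm f) (hfnd : IsNondegenerateForm f)
    (hfixf : FixesForm (matrixSet N) f)
    (σ : F ≃+* F) (g : (Fin n → F) → (Fin n → F) → F) (hg : IsUnitaryForm σ g)
    (hfixg : FixesForm (matrixSet N) g) :
    ∃ F₀ : Subfield F, F₀ ≠ ⊤ ∧ (∀ a, a ∈ F₀ ↔ σ a = a) ∧ RealisableOver F₀ (matrixSet N) := by
  classical
  set τ : F →+* F := (σ : F →+* F) with hτ
  have hτσ : ∀ a, τ a = σ a := fun a => rfl
  have hτ2 : ∀ a, τ (τ a) = a := hg.involutive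
  have hττ : ∀ X : Matrix (Fin n) (Fin n) F, (X.map τ).map τ = X := by
    intro X
    ext i j
    exact hτ2 (X i j)
  obtain ⟨J, hJ⟩ := exists_rep_of_bilinear f hf
  obtain ⟨M, hM⟩ := exists_rep_of_unitary σ g hg
  have hJdet : IsUnit J.det := hJ.isUnit_det hfnd
  have hMdet : IsUnit M.det := hM.isUnit_det hg.nondegenerate
  have hfixJ : ∀ s ∈ matrixSet N, sᵀ * J * s = J := by
    intro s hs
    have := hJ.matrix_eq s 1 (fun u v => by rw [hfixf s hs, one_mul])
    rw [one_smul, map_id_eq] at this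
    exact this
  have hfixM : ∀ s ∈ matrixSet N, sᵀ * M * s.map τ = M := by
    intro s hs
    have := hM.matrix_eq s 1 (fun u v => by rw [hfixg s hs, one_mul])
    rw [one_smul] at this
    exact this
  set B : Matrix (Fin n) (Fin n) F := J⁻¹ * M with hB
  have hJJ : J * J⁻¹ = 1 := Matrix.mul_nonsing_inv J hJdet
  have hBdet : IsUnit B.det := by
    rw [hB, Matrix.det_mul, Matrix.det_nonsing_inv]
    exact (Ring.inverse_unit hJdet.unit ▸ (hJdet.unit⁻¹).isUnit).mul hMdet
  -- `s B = B τ(s)`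
  have key : ∀ s ∈ matrixSet N, s * B = B * s.map τ := by
    intro s hs
    have hsdet : IsUnit s.det := isUnit_det_of_mem_matrixSet N s hs
    have hU : IsUnit (sᵀ * J) := by
      rw [Matrix.isUnit_iff_isUnit_det, Matrix.det_mul, Matrix.det_transpose]
      exact hsdet.mul hJdet
    apply hU.mul_right_injective
    show sᵀ * J * (s * B) = sᵀ * J * (B * s.map τ)
    have e1 : sᵀ * J * (s * B) = M := by
      rw [← Matrix.mul_assoc, hfixJ s hs, hB, ← Matrix.mul_assoc, hJJ, Matrix.one_mul]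
    have e2 : sᵀ * J * (B * s.map τ) = M := by
      rw [hB, Matrix.mul_assoc sᵀ, ← Matrix.mul_assoc J, ← Matrix.mul_assoc J, hJJ, Matrix.one_mul,
        ← Matrix.mul_assoc]
      exact hfixM s hs
    rw [e1, e2]
  -- `B τ(B)` is a scalar
  obtain ⟨κ, hκ⟩ := habs.2 (B * B.map τ) (by
    intro s hs
    have h1 := key s hs
    have h2 : s.map τ * B.map τ = B.map τ * s := by
      have := congrArg (fun X : Matrix (Fin n) (Fin n) F => X.map τ) h1
      simp only [Matrix.map_mul, hττ] at this
      exact this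
    rw [Matrix.mul_assoc, ← h2, ← Matrix.mul_assoc, ← h1, Matrix.mul_assoc])
  have hBτdet : IsUnit (B.map τ).det := by
    have : (B.map τ).det = τ B.det := (RingHom.map_det τ B).symm
    rw [this]
    exact hBdet.map τ
  have hκ0 : κ ≠ 0 := by
    rintro rfl
    haveI : Nonempty (Fin n) := ⟨⟨0, hn⟩⟩
    have h1 : (B * B.map τ).det = 0 := by
      rw [hκ, zero_smul, Matrix.det_zero]
    rw [Matrix.det_mul] at h1
    rcases mul_eq_zero.1 h1 with h | h
    · exact hBdet.ne_zero h
    · exact hBτdet.ne_zero h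
  have hκσ : σ κ = κ := by
    have h1 : B * (κ⁻¹ • B.map τ) = 1 := by
      rw [Matrix.mul_smul, hκ, smul_smul, inv_mul_cancel₀ hκ0, one_smul]
    have h2 : (κ⁻¹ • B.map τ) * B = 1 := mul_eq_one_comm.1 h1
    have h3 : B.map τ * B = κ • (1 : Matrix (Fin n) (Fin n) F) := by
      rw [Matrix.smul_mul] at h2
      have := congrArg (fun X : Matrix (Fin n) (Fin n) F => κ • X) h2
      simp only [smul_smul, mul_inv_cancel₀ hκ0, one_smul] at this
      exact this
    have h4 := congrArg (fun X : Matrix (Fin n) (Fin n) F => X.map τ) hκ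
    simp only [Matrix.map_mul, hττ] at h4
    rw [h3] at h4
    have h5 := congrFun (congrFun h4 ⟨0, hn⟩) ⟨0, hn⟩
    simp at h5
    rw [← hτσ]
    exact h5.symm
  obtain ⟨μ, hμ0, hμ⟩ := exists_norm_eq_of_involution σ hg.ne_refl hg.involutive κ⁻¹
    (inv_ne_zero hκ0) (by rw [map_inv₀, hκσ])
  set T₁ : Matrix (Fin n) (Fin n) F := μ • B with hT₁
  have hT₁τ : T₁.map τ = τ μ • B.map τ := by
    rw [hT₁]
    ext i j
    simp
  have hT₁inv : T₁ * T₁.map τ = 1 := by
    rw [hT₁τ, hT₁, Matrix.smul_mul, Matrix.mul_smul, hκ, smul_smul, smul_smul, hτσ,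
      hμ, inv_mul_cancel₀ hκ0, one_smul]
  have key3 : ∀ s ∈ matrixSet N, T₁ * s.map τ = s * T₁ := by
    intro s hs
    rw [hT₁, Matrix.smul_mul, ← key s hs, Matrix.mul_smul]
  obtain ⟨ω, hω⟩ : ∃ ω, τ ω ≠ ω := by
    by_contra hcon
    push Not at hcon
    exact hg.ne_refl (RingEquiv.ext hcon)
  obtain ⟨P, hP⟩ := Cfsg.Agent.Lib.H25.Asch.exists_GL_of_semilinear_involution τ hτ2 ⟨ω, hω⟩ T₁
    hT₁inv
  refine ⟨τ.eqLocusField (RingHom.id F), ?_, fun a => Iff.rfl, P⁻¹, ?_⟩
  · intro htop
    apply hω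
    have : ω ∈ τ.eqLocusField (RingHom.id F) := by rw [htop]; trivial
    exact this
  · intro s hs i j
    rw [inv_inv]
    show τ _ = _
    set Pm : Matrix (Fin n) (Fin n) F := (P : Matrix (Fin n) (Fin n) F) with hPm
    set Pi : Matrix (Fin n) (Fin n) F := ((P⁻¹ : GL (Fin n) F) : Matrix (Fin n) (Fin n) F) with hPi
    have hPiP : Pi * Pm = 1 := by
      rw [hPi, hPm, ← Units.val_mul, inv_mul_cancel, Units.val_one]
    have hPPi : Pm * Pi = 1 := by
      rw [hPi, hPm, ← Units.val_mul, mul_inv_cancel, Units.val_one]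
    obtain ⟨y, hy⟩ : ∃ y : Matrix (Fin n) (Fin n) F, y = Pi * s * Pm := ⟨_, rfl⟩
    rw [← hy]
    have hPy : Pm * y = s * Pm := by
      rw [hy, ← Matrix.mul_assoc, ← Matrix.mul_assoc, hPPi, Matrix.one_mul]
    have h1 : Pm * y.map τ = Pm * y := by
      calc Pm * y.map τ = T₁ * (Pm * y).map τ := by
            rw [Matrix.map_mul, ← Matrix.mul_assoc, hP]
        _ = T₁ * s.map τ * Pm.map τ := by
            rw [hPy, Matrix.map_mul, Matrix.mul_assoc]
        _ = s * (T₁ * Pm.map τ) := by
            rw [key3 s hs, Matrix.mul_assoc]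
        _ = Pm * y := by rw [hP, hPy]
    have h2 : y.map τ = y := by
      have := congrArg (fun X => Pi * X) h1
      simp only [← Matrix.mul_assoc, hPiP, Matrix.one_mul] at this
      exact this
    have := congrFun (congrFun h2 i) j
    rw [Matrix.map_apply] at this
    exact this

/-- **OT5'**, with the statement of OT5 for `H`, `N` as a hypothesis. -/
theorem oc5_of_fixes_unitary_aux (Q : (Fin n → F) → F) (hQ : OData Q) (hn : 2 ≤ n)
    (H N : Subgroup (GL (Fin n) F)) (hH : H ≤ isometryGroup F Q) (hNH : N ≤ H)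
    (hnorm : NormalizedBy H N) (habs : ActsAbsolutelyIrreducibly (matrixSet N))
    (hOT5 : ∀ F₁ : Subfield F, F₁ ≠ ⊤ → RealisableOver F₁ (matrixSet N) → OC5 Q H)
    (σ : F ≃+* F) (g : (Fin n → F) → (Fin n → F) → F) (hg : IsUnitaryForm σ g)
    (hfix : FixesForm (matrixSet N) g) : OC5 Q H := by
  have hfixQ : FixesQuadForm (matrixSet N) Q := by
    rintro _ ⟨x, hx, rfl⟩ v
    exact hH (hNH hx) v v
  obtain ⟨F₀, hne, -, hreal⟩ := realisable_of_fixes_bilinear_unitary (by omega) N habs
    (QuadraticMap.polar Q) hQ.quad.polar_bilinear hQ.quad.nondegenerate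
    (fixesForm_polar (matrixSet N) Q hfixQ) σ g hg hfix
  exact hOT5 F₀ hne hreal

end Cfsg.Agent.Lib.H6.Asch
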