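/-
EO project (Aschbacher's theorem, even-dimensional orthogonal case, all q), tool **ET5'**
modulo ET5: an absolutely irreducible normal subgroup `N` of `H ≤ O(Q)` fixing a unitary form is
realisable over the fixed field of the involution (`Lib/H6/AschOT5p`, Galois descent, valid in
every characteristic), hence class 5 by ET5 (here a hypothesis; the exact-signature wrapper is
`Lib/H6/AschET5pW`).
-/
import Cfsg.Agent.Lib.H6.AschOT5p
import Cfsg.Agent.Lib.H6.AschEQ
import Cfsg.Agent.Lib.H26.AschEDefs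

set_option autoImplicit false

namespace Cfsg.Agent.Lib.H6.AschE

open Cfsg Cfsg.Geo Cfsg.Agent.Lib.Lead.Asch Cfsg.Agent.Lib.H26.AschE
open scoped MatrixGroups Matrix Kronecker

variable {F : Type*} [Field F] [Fintype F] {n : ℕ}

/-- **ET5'** with ET5 as a hypothesis -/
theorem ec5_of_fixes_unitary_aux (Q : (Fin n → F) → F) (hQ : IsNondegenerateQuadraticForm Q)
    (hn : 2 ≤ n) (H N : Subgroup (GL (Fin n) F)) (hH : H ≤ isometryGroup F Q) (hNH : N ≤ H)
    (hnorm : NormalizedBy H N) (habs : ActsAbsolutelyIrreducibly (matrixSet N))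
    (hET5 : ∀ F₁ : Subfield F, F₁ ≠ ⊤ → RealisableOver F₁ (matrixSet N) → EC5 Q H)
    (σ : F ≃+* F) (g : (Fin n → F) → (Fin n → F) → F) (hg : IsUnitaryForm σ g)
    (hfix : FixesForm (matrixSet N) g) : EC5 Q H := by
  have hfixQ : FixesQuadForm (matrixSet N) Q := fixesQuadForm_of_le Q N (hNH.trans hH)
  obtain ⟨F₀, hne, -, hreal⟩ := Cfsg.Agent.Lib.H6.Asch.realisable_of_fixes_bilinear_unitary
    (by omega) N habs (QuadraticMap.polar Q) hQ.polar_bilinear hQ.nondegenerate
    (fixesForm_polar_of_fixes (matrixSet N) Q hfixQ) σ g hg hfix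
  exact hET5 F₀ hne hreal

end Cfsg.Agent.Lib.H6.AschE
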