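/-
EO phase 2 (helper21), task **EO2-T5**, bundled part: odd-dimensional non-degenerate quadratic
spaces over a finite field of odd characteristic (on top of helper13's `OES` library).

* `exists_witt_odd` : `W` non-degenerate of dimension `2 s + 1` contains a non-singular `z` and a
  totally singular `T ⟂ z` of dimension `s`;
* `plusOn_top_iff_of_witt` : `V = W ⟂ W'` with such data: plus type iff `- (Q z * Q z')` is a square;
* `iso_of_witt` : such data with `Q z = ρ² Q z'` give an isometry `W ≃ W'`.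
-/
import Mathlib
import Cfsg.Agent.Lib.H13.OES1
import Cfsg.Agent.Lib.H24.OnBasic

set_option autoImplicit false
set_option linter.unusedSectionVars false
set_option linter.unusedVariables false

namespace Cfsg.Agent.Lib.H6.EOP2

open Module
open Cfsg.Agent.Lib.H24.Elus
open Cfsg.Agent.Lib.H13.OSS Cfsg.Agent.Lib.H13.OES
open Cfsg.Agent.Lib.H10.OrtNd (PB TS PlusOn PB_apply PB_symm PB_self TS_mono)

variable {F : Type*} [Field F] [Fintype F] {V : Type*} [AddCommGroup V] [Module F V]
  [FiniteDimensional F V]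
variable (Q : QuadraticForm F V)

/-- Witt data of an odd-dimensional subspace `W`: a non-singular vector `z ∈ W` and a totally
singular subspace `T ≤ W` of dimension `s`, orthogonal to `z`. -/
structure WittData (W : Submodule F V) (s : ℕ) (z : V) (T : Submodule F V) : Prop where
  mem : z ∈ W
  ne : Q z ≠ 0
  le : T ≤ W
  ts : TS Q T
  finrank_eq : finrank F T = s
  orth : ∀ t ∈ T, PB Q t z = 0

/-- **Witt step in odd dimension** -/
theorem exists_witt_odd (W : Submodule F V) (hW : NDon (PB Q) W) (s : ℕ)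
    (hk : finrank F W = 2 * s + 1) : ∃ (z : V) (T : Submodule F V), WittData Q W s z T := by
  obtain ⟨T, hTW, hT, hTd⟩ := exists_ts_in_NDon Q s W hW (by omega)
  -- the map `W → T^*`
  let φ : W →ₗ[F] (T →ₗ[F] F) := (PB Q).domRestrict₁₂ W T
  have hφ : ∀ (w : W) (t : T), φ w t = PB Q (w : V) (t : V) := fun w t => rfl
  have hrange : finrank F (LinearMap.range φ) ≤ s := by
    have h1 := Submodule.finrank_le (LinearMap.range φ)
    have h2 : finrank F (T →ₗ[F] F) = s := by
      rw [← hTd]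
      exact Subspace.dual_finrank_eq
    omega
  have hker : s + 1 ≤ finrank F (LinearMap.ker φ) := by
    have := LinearMap.finrank_range_add_finrank_ker φ
    omega
  -- `T` inside `W`
  set TW : Submodule F W := T.comap W.subtype with hTW'
  have hTWd : finrank F TW = s := by
    rw [← hTd]
    exact LinearEquiv.finrank_eq (Submodule.comapSubtypeEquivOfLe hTW)
  obtain ⟨z, hzk, hzT⟩ : ∃ z : W, z ∈ LinearMap.ker φ ∧ z ∉ TW := by
    by_contra hcon
    push Not at hcon
    have hle : LinearMap.ker φ ≤ TW := hcon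
    have := Submodule.finrank_mono hle
    omega
  have hzT' : (z : V) ∉ T := fun h => hzT h
  have hzorth : ∀ t ∈ T, PB Q t (z : V) = 0 := by
    intro t ht
    rw [PB_symm]
    have := LinearMap.mem_ker.1 hzk
    have h1 := congrArg (fun f : T →ₗ[F] F => f ⟨t, ht⟩) this
    exact h1
  have hz0 : (z : V) ≠ 0 := fun h => hzT' (h ▸ T.zero_mem)
  refine ⟨(z : V), T, z.2, ?_, hTW, hT, hTd, hzorth⟩
  -- `Q z ≠ 0`, else `T + ⟨z⟩` is totally singular of dimension `s + 1`
  intro hQz
  have hTS : TS Q (T ⊔ Submodule.span F {(z : V)}) := by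
    intro w hw
    obtain ⟨t, ht, y, hy, rfl⟩ := Submodule.mem_sup.1 hw
    obtain ⟨c, rfl⟩ := Submodule.mem_span_singleton.1 hy
    rw [Q_add, hT t ht, QuadraticMap.map_smul, hQz, map_smul, hzorth t ht]
    simp
  have hle : T ⊔ Submodule.span F {(z : V)} ≤ W :=
    sup_le hTW ((Submodule.span_singleton_le_iff_mem _ _).2 z.2)
  have hdim : finrank F (T ⊔ Submodule.span F {(z : V)} : Submodule F V) = s + 1 := by
    have h := Submodule.finrank_sup_add_finrank_inf_eq T (Submodule.span F {(z : V)})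
    have hdisj : T ⊓ Submodule.span F {(z : V)} = ⊥ :=
      disjoint_iff.1 ((Submodule.disjoint_span_singleton' hz0).2 hzT')
    rw [hdisj, finrank_bot, add_zero, hTd, finrank_span_singleton hz0] at h
    exact h
  have := finrank_ts_le Q W _ hW hle hTS
  omega


/-! ### The subspace `A = W ⊓ z^⊥` -/

theorem PB_smul_smul (c c' : F) (u v : V) : PB Q (c • u) (c' • v) = c * c' * PB Q u v := by
  simp only [map_smul, LinearMap.smul_apply, smul_eq_mul]
  ring

theorem NDon_span_of_ne (h2 : (2 : F) ≠ 0) {z : V} (hz : Q z ≠ 0) :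
    NDon (PB Q) (Submodule.span F {z}) := by
  intro u hu h
  obtain ⟨c, rfl⟩ := Submodule.mem_span_singleton.1 hu
  have h1 := h z (Submodule.mem_span_singleton_self z)
  rw [map_smul, LinearMap.smul_apply, PB_self, smul_eq_mul] at h1
  have hc : c = 0 := by
    rcases mul_eq_zero.1 h1 with h3 | h3
    · exact h3
    · exact absurd h3 (mul_ne_zero h2 hz)
  rw [hc, zero_smul]

theorem ne_zero_of_quad_ne {z : V} (hz : Q z ≠ 0) : z ≠ 0 := by
  rintro rfl
  exact hz (map_zero Q)

/-- the perpendicular of the non-singular vector `z` in `W` -/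
def perpIn (W : Submodule F V) (z : V) : Submodule F V :=
  W ⊓ (PB Q).orthogonal (Submodule.span F {z})

theorem mem_perpIn {W : Submodule F V} {z a : V} :
    a ∈ perpIn Q W z ↔ a ∈ W ∧ PB Q a z = 0 := by
  unfold perpIn
  rw [Submodule.mem_inf, LinearMap.BilinForm.mem_orthogonal_iff]
  constructor
  · rintro ⟨h1, h3⟩
    refine ⟨h1, ?_⟩
    rw [PB_symm]
    exact h3 z (Submodule.mem_span_singleton_self z)
  · rintro ⟨h1, h3⟩
    refine ⟨h1, ?_⟩
    intro y hy
    obtain ⟨c, rfl⟩ := Submodule.mem_span_singleton.1 hy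
    show PB Q (c • z) a = 0
    rw [map_smul, LinearMap.smul_apply, PB_symm, h3, smul_zero]

variable {Q}

theorem WittData.perp_facts (h2 : (2 : F) ≠ 0) {W : Submodule F V} (hW : NDon (PB Q) W) {s : ℕ}
    (hk : finrank F W = 2 * s + 1) {z : V} {T : Submodule F V} (h : WittData Q W s z T) :
    NDon (PB Q) (perpIn Q W z) ∧ finrank F (perpIn Q W z) = 2 * s ∧ PlusOn Q (perpIn Q W z) ∧
      Submodule.span F {z} ⊔ perpIn Q W z = W := by
  have hrefl := PB_refl Q
  have hZ := NDon_span_of_ne Q h2 h.ne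
  have hZW : Submodule.span F {z} ≤ W := (Submodule.span_singleton_le_iff_mem _ _).2 h.mem
  have hfin := finrank_perp_inR (PB Q) hrefl W _ hZ hZW
  rw [finrank_span_singleton (ne_zero_of_quad_ne Q h.ne), hk] at hfin
  have hfin' : finrank F (perpIn Q W z) = 2 * s := by
    unfold perpIn
    omega
  refine ⟨NDon_perp_inR (PB Q) hrefl W _ hW hZ hZW, hfin', ?_, sup_perp_inR (PB Q) hrefl W _ hZ hZW⟩
  refine ⟨T, ?_, h.ts, by rw [h.finrank_eq, hfin']⟩
  intro t ht
  exact (mem_perpIn Q).2 ⟨h.le ht, h.orth t ht⟩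

variable (Q)

/-- a non-degenerate plane with an orthogonal basis `z, z'` is of plus type iff `- Q z * Q z'`
is a square -/
theorem plusOn_plane_iff (h2 : (2 : F) ≠ 0) (z z' : V) (hz : Q z ≠ 0) (hz' : Q z' ≠ 0)
    (horth : PB Q z z' = 0) :
    PlusOn Q (Submodule.span F {z} ⊔ Submodule.span F {z'}) ↔ IsSquare (-(Q z * Q z')) := by
  have hrefl := PB_refl Q
  have hZ := NDon_span_of_ne Q h2 hz
  have hz0 := ne_zero_of_quad_ne Q hz
  have hz'0 := ne_zero_of_quad_ne Q hz'
  have horth' : ∀ u ∈ Submodule.span F {z}, ∀ v ∈ Submodule.span F {z'}, PB Q u v = 0 := by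
    intro u hu v hv
    obtain ⟨c, rfl⟩ := Submodule.mem_span_singleton.1 hu
    obtain ⟨c', rfl⟩ := Submodule.mem_span_singleton.1 hv
    rw [PB_smul_smul, horth, mul_zero]
  have hdisj : Submodule.span F {z} ⊓ Submodule.span F {z'} = ⊥ :=
    inf_eq_bot_of_orthR (PB Q) hrefl _ _ hZ horth'
  have hdim : finrank F (Submodule.span F {z} ⊔ Submodule.span F {z'} : Submodule F V) = 2 := by
    have h := Submodule.finrank_sup_add_finrank_inf_eq (Submodule.span F {z}) (Submodule.span F {z'})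
    rw [hdisj, finrank_bot, add_zero, finrank_span_singleton hz0, finrank_span_singleton hz'0] at h
    exact h
  have hQxy : ∀ x y : F, Q (x • z + y • z') = x * x * Q z + y * y * Q z' := by
    intro x y
    rw [Q_add, QuadraticMap.map_smul, QuadraticMap.map_smul, PB_smul_smul, horth, mul_zero,
      add_zero, smul_eq_mul, smul_eq_mul]
  constructor
  · rintro ⟨U, hU, hUts, hUd⟩
    rw [hdim] at hUd
    have hU1 : finrank F U = 1 := by omega
    have hUne : U ≠ ⊥ := by
      intro h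
      rw [h, finrank_bot] at hU1
      omega
    obtain ⟨v, hvU, hv0⟩ := Submodule.exists_mem_ne_zero_of_ne_bot hUne
    obtain ⟨a, ha, b, hb, hab⟩ := Submodule.mem_sup.1 (hU hvU)
    obtain ⟨x, rfl⟩ := Submodule.mem_span_singleton.1 ha
    obtain ⟨y, rfl⟩ := Submodule.mem_span_singleton.1 hb
    have hQ0 : x * x * Q z + y * y * Q z' = 0 := by
      rw [← hQxy, hab]
      exact hUts v hvU
    have hy : y ≠ 0 := by
      rintro rfl
      have hx : x = 0 := by
        have h1 : x * x * Q z = 0 := by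
          rw [← hQ0]
          ring
        rcases mul_eq_zero.1 h1 with h3 | h3
        · exact mul_self_eq_zero.1 h3
        · exact absurd h3 hz
      apply hv0
      rw [← hab, hx]
      simp
    refine ⟨Q z * x / y, ?_⟩
    rw [div_mul_div_comm, eq_div_iff (mul_ne_zero hy hy)]
    linear_combination (-(Q z)) * hQ0
  · rintro ⟨r, hr⟩
    refine ⟨Submodule.span F {r • z + Q z • z'}, ?_, ?_, ?_⟩
    · rw [Submodule.span_singleton_le_iff_mem]
      exact Submodule.add_mem_sup (Submodule.smul_mem _ _ (Submodule.mem_span_singleton_self z))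
        (Submodule.smul_mem _ _ (Submodule.mem_span_singleton_self z'))
    · apply TS_span_singleton
      rw [hQxy]
      linear_combination (-(Q z)) * hr
    · rw [hdim, finrank_span_singleton]
      intro h0
      -- the `z'`-component is non-zero
      have h1 : Q z • z' ∈ Submodule.span F {z} ⊓ Submodule.span F {z'} := by
        refine ⟨?_, Submodule.smul_mem _ _ (Submodule.mem_span_singleton_self z')⟩
        have : Q z • z' = -(r • z) := by
          rw [eq_neg_iff_add_eq_zero, add_comm]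
          exact h0
        rw [this]
        exact Submodule.neg_mem _ (Submodule.smul_mem _ _ (Submodule.mem_span_singleton_self z))
      rw [hdisj, Submodule.mem_bot] at h1
      rcases smul_eq_zero.1 h1 with h3 | h3
      · exact hz h3
      · exact hz'0 h3

/-- types multiply in orthogonal sums (relative version of helper13's `plus_top_iff`) -/
theorem plus_sup_iff (A A' : Submodule F V) (hA : NDon (PB Q) A) (hA' : NDon (PB Q) A')
    (horth : ∀ u ∈ A, ∀ v ∈ A', PB Q u v = 0) (hev : Even (finrank F A))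
    (hev' : Even (finrank F A')) : PlusOn Q (A ⊔ A') ↔ (PlusOn Q A ↔ PlusOn Q A') := by
  have hrefl := PB_refl Q
  have hUnd : NDon (PB Q) (A ⊔ A') := NDon_supR (PB Q) hrefl A A' hA hA' horth
  have hinj := Submodule.injective_subtype (A ⊔ A')
  have hB : (A.comap (A ⊔ A').subtype).map (A ⊔ A').subtype = A := by
    rw [Submodule.map_comap_subtype]
    exact inf_eq_right.2 le_sup_left
  have hB' : (A'.comap (A ⊔ A').subtype).map (A ⊔ A').subtype = A' := by
    rw [Submodule.map_comap_subtype]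
    exact inf_eq_right.2 le_sup_right
  have hnB : NDon (PB (restrQ Q (A ⊔ A'))) (A.comap (A ⊔ A').subtype) := by
    apply (Cfsg.Agent.Lib.H24.On.NDon_map_iff Q (restrQ Q (A ⊔ A')) (A ⊔ A').subtype (fun _ => rfl)
      hinj _).1
    rw [hB]
    exact hA
  have hnB' : NDon (PB (restrQ Q (A ⊔ A'))) (A'.comap (A ⊔ A').subtype) := by
    apply (Cfsg.Agent.Lib.H24.On.NDon_map_iff Q (restrQ Q (A ⊔ A')) (A ⊔ A').subtype (fun _ => rfl)
      hinj _).1
    rw [hB']
    exact hA'
  have hpB : PlusOn (restrQ Q (A ⊔ A')) (A.comap (A ⊔ A').subtype) ↔ PlusOn Q A := by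
    rw [← Cfsg.Agent.Lib.H24.On.PlusOn_map_iff Q (restrQ Q (A ⊔ A')) (A ⊔ A').subtype (fun _ => rfl)
      hinj, hB]
  have hpB' : PlusOn (restrQ Q (A ⊔ A')) (A'.comap (A ⊔ A').subtype) ↔ PlusOn Q A' := by
    rw [← Cfsg.Agent.Lib.H24.On.PlusOn_map_iff Q (restrQ Q (A ⊔ A')) (A ⊔ A').subtype (fun _ => rfl)
      hinj, hB']
  have hfB : finrank F (A.comap (A ⊔ A').subtype) = finrank F A := by
    rw [← Cfsg.Agent.Lib.H24.On.finrank_map_inj (A ⊔ A').subtype hinj, hB]
  have hfB' : finrank F (A'.comap (A ⊔ A').subtype) = finrank F A' := by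
    rw [← Cfsg.Agent.Lib.H24.On.finrank_map_inj (A ⊔ A').subtype hinj, hB']
  have hsup : A.comap (A ⊔ A').subtype ⊔ A'.comap (A ⊔ A').subtype = ⊤ := by
    apply Submodule.map_injective_of_injective hinj
    rw [Submodule.map_sup, hB, hB', Submodule.map_top, Submodule.range_subtype]
  rw [Cfsg.Agent.Lib.H24.On.PlusOn_iff_restr Q (A ⊔ A'),
    plus_top_iff (restrQ Q (A ⊔ A')) (nondeg_restrQ Q hUnd) _ _ hnB hnB'
      (fun u hu v hv => horth u hu v hv) hsup (by rw [hfB]; exact hev) (by rw [hfB']; exact hev'),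
    hpB, hpB']

/-- **type formula**: `W ⟂ W'`, both of dimension `2 s + 1` with Witt data -/
theorem plusOn_sup_iff_of_witt (h2 : (2 : F) ≠ 0)
    (W W' : Submodule F V) (hW : NDon (PB Q) W) (hW' : NDon (PB Q) W')
    (horth : ∀ u ∈ W, ∀ v ∈ W', PB Q u v = 0) (s : ℕ)
    (hk : finrank F W = 2 * s + 1) (hk' : finrank F W' = 2 * s + 1) (z z' : V)
    (T T' : Submodule F V) (h : WittData Q W s z T) (h' : WittData Q W' s z' T') :
    PlusOn Q (W ⊔ W') ↔ IsSquare (-(Q z * Q z')) := by
  have hrefl := PB_refl Q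
  obtain ⟨hA, hAd, hAp, hAs⟩ := h.perp_facts h2 hW hk
  obtain ⟨hA', hA'd, hA'p, hA's⟩ := h'.perp_facts h2 hW' hk'
  set A := perpIn Q W z with hAdef
  set A' := perpIn Q W' z' with hA'def
  have hAW : A ≤ W := inf_le_left
  have hA'W' : A' ≤ W' := inf_le_left
  have hAA' : ∀ u ∈ A, ∀ v ∈ A', PB Q u v = 0 := fun u hu v hv => horth u (hAW hu) v (hA'W' hv)
  have hB : NDon (PB Q) (A ⊔ A') := NDon_supR (PB Q) hrefl A A' hA hA' hAA'
  have hBp : PlusOn Q (A ⊔ A') := PlusOn_sup Q A A' hA hAA' hAp hA'p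
  have hzz' : PB Q z z' = 0 := horth z h.mem z' h'.mem
  have hZ := NDon_span_of_ne Q h2 h.ne
  have hZ' := NDon_span_of_ne Q h2 h'.ne
  have hZZ' : ∀ u ∈ Submodule.span F {z}, ∀ v ∈ Submodule.span F {z'}, PB Q u v = 0 := by
    intro u hu v hv
    obtain ⟨c, rfl⟩ := Submodule.mem_span_singleton.1 hu
    obtain ⟨c', rfl⟩ := Submodule.mem_span_singleton.1 hv
    rw [PB_smul_smul, hzz', mul_zero]
  have hP : NDon (PB Q) (Submodule.span F {z} ⊔ Submodule.span F {z'}) :=
    NDon_supR (PB Q) hrefl _ _ hZ hZ' hZZ'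
  have hBP : ∀ u ∈ A ⊔ A', ∀ v ∈ Submodule.span F {z} ⊔ Submodule.span F {z'}, PB Q u v = 0 := by
    intro u hu v hv
    obtain ⟨a, ha, a', ha', rfl⟩ := Submodule.mem_sup.1 hu
    obtain ⟨y, hy, y', hy', rfl⟩ := Submodule.mem_sup.1 hv
    obtain ⟨c, rfl⟩ := Submodule.mem_span_singleton.1 hy
    obtain ⟨c', rfl⟩ := Submodule.mem_span_singleton.1 hy'
    have e1 : PB Q a z = 0 := ((mem_perpIn Q).1 ha).2
    have e2 : PB Q a z' = 0 := horth a (hAW ha) z' h'.mem
    have e3 : PB Q a' z = 0 := hrefl _ _ (horth z h.mem a' (hA'W' ha'))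
    have e4 : PB Q a' z' = 0 := ((mem_perpIn Q).1 ha').2
    simp only [map_add, LinearMap.add_apply, map_smul, LinearMap.smul_apply, e1, e2, e3, e4,
      smul_zero, add_zero]
  have hsup' : (A ⊔ A') ⊔ (Submodule.span F {z} ⊔ Submodule.span F {z'}) = W ⊔ W' := by
    rw [sup_sup_sup_comm, sup_comm A, sup_comm A', hAs, hA's]
  have hevB : Even (finrank F (A ⊔ A' : Submodule F V)) := by
    obtain ⟨U, -, -, hUd⟩ := hBp
    exact ⟨finrank F U, by omega⟩
  have hPd : finrank F (Submodule.span F {z} ⊔ Submodule.span F {z'} : Submodule F V) = 2 := by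
    have hh := Submodule.finrank_sup_add_finrank_inf_eq (Submodule.span F {z})
      (Submodule.span F {z'})
    rw [inf_eq_bot_of_orthR (PB Q) hrefl _ _ hZ hZZ', finrank_bot, add_zero,
      finrank_span_singleton (ne_zero_of_quad_ne Q h.ne),
      finrank_span_singleton (ne_zero_of_quad_ne Q h'.ne)] at hh
    exact hh
  have hevP : Even (finrank F (Submodule.span F {z} ⊔ Submodule.span F {z'} : Submodule F V)) := by
    rw [hPd]
    exact even_two
  rw [← hsup', plus_sup_iff Q _ _ hB hP hBP hevB hevP,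
    ← plusOn_plane_iff Q h2 z z' h.ne h'.ne hzz']
  exact ⟨fun hh => hh.1 hBp, fun hh => ⟨fun _ => hh, fun _ => hBp⟩⟩


/-! ### The isometry -/

/-- isometric even-dimensional parts of plus type -/
theorem exists_iso_perp (W W' : Submodule F V) (z z' : V) (s : ℕ)
    (hA : NDon (PB Q) (perpIn Q W z)) (hA' : NDon (PB Q) (perpIn Q W' z'))
    (hAd : finrank F (perpIn Q W z) = 2 * s) (hA'd : finrank F (perpIn Q W' z') = 2 * s)
    (hAp : PlusOn Q (perpIn Q W z)) (hA'p : PlusOn Q (perpIn Q W' z')) :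
    ∃ Φ : perpIn Q W z ≃ₗ[F] perpIn Q W' z', ∀ a, Q ((Φ a : perpIn Q W' z') : V) = Q (a : V) := by
  rcases Nat.eq_zero_or_pos s with hs | hs
  · subst hs
    have h1 : perpIn Q W z = ⊥ := Submodule.finrank_eq_zero.1 (by rw [hAd])
    have h2 : perpIn Q W' z' = ⊥ := Submodule.finrank_eq_zero.1 (by rw [hA'd])
    have e1 : ∀ a : perpIn Q W z, (a : V) = 0 := by
      intro a
      have h3 : (a : V) ∈ (⊥ : Submodule F V) := h1 ▸ a.2
      exact (Submodule.mem_bot F).1 h3
    have e2 : ∀ a : perpIn Q W' z', (a : V) = 0 := by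
      intro a
      have h3 : (a : V) ∈ (⊥ : Submodule F V) := h2 ▸ a.2
      exact (Submodule.mem_bot F).1 h3
    haveI : Subsingleton (perpIn Q W z) := ⟨fun a b => Subtype.ext (by rw [e1 a, e1 b])⟩
    haveI : Subsingleton (perpIn Q W' z') := ⟨fun a b => Subtype.ext (by rw [e2 a, e2 b])⟩
    refine ⟨LinearEquiv.ofSubsingleton _ _, fun a => ?_⟩
    rw [e1 a, e2]
  · obtain ⟨Φ, hΦ⟩ := iso_of_same_type (restrQ Q (perpIn Q W z)) (restrQ Q (perpIn Q W' z'))
      (nondeg_restrQ Q hA) (nondeg_restrQ Q hA') s hs hAd hA'd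
      ⟨fun _ => (Cfsg.Agent.Lib.H24.On.PlusOn_iff_restr Q _).1 hA'p,
        fun _ => (Cfsg.Agent.Lib.H24.On.PlusOn_iff_restr Q _).1 hAp⟩
    exact ⟨Φ, fun a => hΦ a⟩

/-- **isometry from Witt data** -/
theorem iso_of_witt (h2 : (2 : F) ≠ 0) (W W' : Submodule F V) (hW : NDon (PB Q) W)
    (hW' : NDon (PB Q) W') (s : ℕ) (hk : finrank F W = 2 * s + 1)
    (hk' : finrank F W' = 2 * s + 1) (z z' : V) (T T' : Submodule F V)
    (h : WittData Q W s z T) (h' : WittData Q W' s z' T') (ρ : F)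
    (hρ : Q z = ρ * ρ * Q z') :
    ∃ e : W ≃ₗ[F] W', ∀ w : W, Q ((e w : W') : V) = Q (w : V) := by
  have hrefl := PB_refl Q
  obtain ⟨hA, hAd, hAp, hAs⟩ := h.perp_facts h2 hW hk
  obtain ⟨hA', hA'd, hA'p, hA's⟩ := h'.perp_facts h2 hW' hk'
  obtain ⟨Φ, hΦ⟩ := exists_iso_perp Q W W' z z' s hA hA' hAd hA'd hAp hA'p
  have hd0 : (2 * Q z) ≠ 0 := mul_ne_zero h2 h.ne
  -- the coordinate along `z` and the projection to `z^⊥`
  let c : V →ₗ[F] F := (2 * Q z)⁻¹ • (PB Q z)
  have hc : ∀ w, c w = (2 * Q z)⁻¹ * PB Q z w := fun w => rfl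
  let π : V →ₗ[F] V := LinearMap.id - c.smulRight z
  have hπ : ∀ w, π w = w - c w • z := fun w => rfl
  have hπA : ∀ w ∈ W, π w ∈ perpIn Q W z := by
    intro w hw
    rw [mem_perpIn, hπ]
    refine ⟨W.sub_mem hw (W.smul_mem _ h.mem), ?_⟩
    rw [map_sub, LinearMap.sub_apply, map_smul, LinearMap.smul_apply, PB_self, hc, smul_eq_mul,
      PB_symm Q w z]
    have hh : (2 * Q z)⁻¹ * (2 * Q z) = 1 := inv_mul_cancel₀ hd0
    linear_combination (-(PB Q z w)) * hh
  let πA : W →ₗ[F] perpIn Q W z := (π.domRestrict W).codRestrict (perpIn Q W z)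
    (fun w => hπA w w.2)
  have hπA' : ∀ w : W, ((πA w : perpIn Q W z) : V) = π (w : V) := fun w => rfl
  let e₀ : W →ₗ[F] V := (perpIn Q W' z').subtype ∘ₗ Φ.toLinearMap ∘ₗ πA +
    (c.domRestrict W).smulRight (ρ • z')
  have he₀ : ∀ w : W, e₀ w = ((Φ (πA w) : perpIn Q W' z') : V) + c (w : V) • (ρ • z') :=
    fun w => rfl
  have hQe : ∀ w : W, Q (e₀ w) = Q (w : V) := by
    intro w
    have hmem := (Φ (πA w)).2
    have e1 : PB Q ((Φ (πA w) : perpIn Q W' z') : V) z' = 0 := ((mem_perpIn Q).1 hmem).2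
    have e2 : PB Q (π (w : V)) z = 0 := ((mem_perpIn Q).1 (hπA w w.2)).2
    have hw : (w : V) = π (w : V) + c (w : V) • z := by
      rw [hπ]
      abel
    rw [he₀, Q_add, hΦ, hπA', QuadraticMap.map_smul, QuadraticMap.map_smul, map_smul, map_smul, e1]
    conv_rhs => rw [hw, Q_add, QuadraticMap.map_smul, map_smul, e2]
    rw [hρ]
    simp only [smul_eq_mul, mul_zero, add_zero]
    try ring
  have hmemW' : ∀ w : W, e₀ w ∈ W' := by
    intro w
    rw [he₀]
    refine W'.add_mem ?_ (W'.smul_mem _ (W'.smul_mem _ h'.mem))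
    exact ((mem_perpIn Q).1 (Φ (πA w)).2).1
  have hPBe : ∀ u v : W, PB Q (e₀ u) (e₀ v) = PB Q (u : V) (v : V) := by
    intro u v
    rw [PB_apply, PB_apply, QuadraticMap.polar, QuadraticMap.polar, ← map_add, hQe, hQe, hQe]
    rfl
  have hinj : Function.Injective e₀ := by
    rw [← LinearMap.ker_eq_bot, LinearMap.ker_eq_bot']
    intro u hu
    apply Subtype.ext
    apply hW (u : V) u.2
    intro v hv
    have := hPBe u ⟨v, hv⟩
    rw [hu, map_zero, LinearMap.zero_apply] at this
    exact this.symm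
  let e₁ : W →ₗ[F] W' := e₀.codRestrict W' hmemW'
  have hinj₁ : Function.Injective e₁ := by
    intro u v huv
    apply hinj
    exact congrArg Subtype.val huv
  have hbij : Function.Bijective e₁ :=
    ⟨hinj₁, (LinearMap.injective_iff_surjective_of_finrank_eq_finrank (by rw [hk, hk'])).1 hinj₁⟩
  exact ⟨LinearEquiv.ofBijective e₁ hbij, fun w => hQe w⟩

/-! ### Transport of Witt data and the main equivalence -/

variable {Q}

theorem WittData.transport {W W' : Submodule F V} {s : ℕ} {z : V} {T : Submodule F V}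
    (h : WittData Q W s z T) (e : W ≃ₗ[F] W') (he : ∀ w : W, Q ((e w : W') : V) = Q (w : V)) :
    WittData Q W' s ((e ⟨z, h.mem⟩ : W') : V)
      ((T.comap W.subtype).map (W'.subtype ∘ₗ e.toLinearMap)) := by
  have hPBe : ∀ u v : W, PB Q ((e u : W') : V) ((e v : W') : V) = PB Q (u : V) (v : V) := by
    intro u v
    have h1 : ((e (u + v) : W') : V) = ((e u : W') : V) + ((e v : W') : V) := by
      rw [map_add]
      rfl
    have h3 := he (u + v)
    rw [h1] at h3
    rw [PB_apply, PB_apply, QuadraticMap.polar, QuadraticMap.polar, h3, he u, he v]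
    rfl
  have hinj : Function.Injective (W'.subtype ∘ₗ e.toLinearMap) :=
    (Submodule.injective_subtype W').comp e.injective
  refine ⟨(e ⟨z, h.mem⟩).2, ?_, ?_, ?_, ?_, ?_⟩
  · rw [he]
    exact h.ne
  · rintro _ ⟨w, -, rfl⟩
    exact (e w).2
  · rintro _ ⟨w, hw, rfl⟩
    show Q ((e w : W') : V) = 0
    rw [he]
    exact h.ts _ hw
  · rw [Cfsg.Agent.Lib.H24.On.finrank_map_inj _ hinj, ← h.finrank_eq]
    exact LinearEquiv.finrank_eq (Submodule.comapSubtypeEquivOfLe h.le)
  · rintro _ ⟨w, hw, rfl⟩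
    show PB Q ((e w : W') : V) ((e ⟨z, h.mem⟩ : W') : V) = 0
    rw [hPBe]
    exact h.orth _ hw

variable (Q)

theorem isSquare_neg_mul_self_iff {d : F} (hd : d ≠ 0) :
    IsSquare (-(d * d)) ↔ IsSquare (-1 : F) := by
  constructor
  · rintro ⟨r, hr⟩
    refine ⟨r / d, ?_⟩
    rw [div_mul_div_comm, eq_div_iff (mul_ne_zero hd hd)]
    linear_combination hr
  · rintro ⟨r, hr⟩
    refine ⟨r * d, ?_⟩
    linear_combination (d * d) * hr

theorem isSquare_neg_iff_of_not_isSquare (h2 : (2 : F) ≠ 0) {a : F} (ha : ¬ IsSquare a) :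
    IsSquare (-a) ↔ ¬ IsSquare (-1 : F) := by
  classical
  have hchar : ringChar F ≠ 2 := by
    intro h
    apply h2
    have := CharP.cast_eq_zero F (ringChar F)
    rw [h] at this
    exact_mod_cast this
  have ha0 : a ≠ 0 := by
    rintro rfl
    exact ha ⟨0, by simp⟩
  have hna0 : -a ≠ 0 := neg_ne_zero.2 ha0
  have h1 : quadraticChar F a = -1 := (quadraticChar_neg_one_iff_not_isSquare).2 ha
  have h3 : quadraticChar F (-a) = quadraticChar F (-1) * quadraticChar F a := by
    rw [← map_mul]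
    congr 1
    ring
  rw [← quadraticChar_one_iff_isSquare hna0, h3, h1,
    ← quadraticChar_neg_one_iff_not_isSquare (F := F)]
  constructor
  · intro h
    have : quadraticChar F (-1) = -(quadraticChar F (-1) * -1) := by ring
    rw [this, h]
  · intro h
    rw [h]
    norm_num

/-- **EO2-T5, bundled**: two orthogonal non-degenerate subspaces of the same odd dimension:
their sum is of plus type iff (they are isometric iff `-1` is a square) -/
theorem plusOn_sup_iff_iso (h2 : (2 : F) ≠ 0) (W W' : Submodule F V) (hW : NDon (PB Q) W)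
    (hW' : NDon (PB Q) W') (horth : ∀ u ∈ W, ∀ v ∈ W', PB Q u v = 0) (s : ℕ)
    (hk : finrank F W = 2 * s + 1) (hk' : finrank F W' = 2 * s + 1) :
    PlusOn Q (W ⊔ W') ↔
      ((∃ e : W ≃ₗ[F] W', ∀ w : W, Q ((e w : W') : V) = Q (w : V)) ↔ IsSquare (-1 : F)) := by
  obtain ⟨z, T, h⟩ := exists_witt_odd Q W hW s hk
  by_cases hiso : ∃ e : W ≃ₗ[F] W', ∀ w : W, Q ((e w : W') : V) = Q (w : V)
  · obtain ⟨e, he⟩ := hiso
    have h' := h.transport e he
    rw [plusOn_sup_iff_of_witt Q h2 W W' hW hW' horth s hk hk' _ _ _ _ h h', he,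
      isSquare_neg_mul_self_iff h.ne]
    exact ⟨fun hh => ⟨fun _ => hh, fun _ => ⟨e, he⟩⟩, fun hh => hh.1 ⟨e, he⟩⟩
  · obtain ⟨z', T', h'⟩ := exists_witt_odd Q W' hW' s hk'
    have hns : ¬ IsSquare (Q z * Q z') := by
      rintro ⟨r, hr⟩
      apply hiso
      refine iso_of_witt Q h2 W W' hW hW' s hk hk' z z' T T' h h' (r / Q z') ?_
      have hz' := h'.ne
      field_simp
      linear_combination hr
    rw [plusOn_sup_iff_of_witt Q h2 W W' hW hW' horth s hk hk' _ _ _ _ h h',
      isSquare_neg_iff_of_not_isSquare h2 hns]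
    exact ⟨fun hh => ⟨fun h3 => absurd h3 hiso, fun h3 => absurd h3 hh⟩,
      fun hh h3 => hiso (hh.2 h3)⟩

end Cfsg.Agent.Lib.H6.EOP2
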