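import Mathlib

/-!
# S2536 piece L1C : the counting contradiction in the binomial lemma
-/

namespace Cfsg.Agent.Lib.H6.HS

open Finset

/-- `a ! ≤ (t+1)^a` for `a = 2 t + 1` (pairing `j` with `a + 1 - j`). -/
theorem hsl1c_factorial_le (t : ℕ) : (2 * t + 1).factorial ≤ (t + 1) ^ (2 * t + 1) := by
  set a := 2 * t + 1 with ha
  have h1 : a.factorial = ∏ j ∈ range a, (j + 1) := (Finset.prod_range_add_one_eq_factorial a).symm
  have h2 : a.factorial = ∏ j ∈ range a, (a - 1 - j + 1) := by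
    rw [h1]
    exact (Finset.prod_range_reflect (fun j => j + 1) a).symm
  have h3 : a.factorial ^ 2 = ∏ j ∈ range a, ((j + 1) * (a - 1 - j + 1)) := by
    rw [Finset.prod_mul_distrib, ← h1, ← h2, sq]
  have h4 : ∀ j ∈ range a, (j + 1) * (a - 1 - j + 1) ≤ (t + 1) ^ 2 := by
    intro j hj
    have hj' : j < a := Finset.mem_range.mp hj
    have e : a - 1 - j + 1 = 2 * t + 1 - j := by omega
    rw [e]
    obtain ⟨d, hd⟩ : ∃ d, 2 * t + 1 - j = d := ⟨_, rfl⟩
    rw [hd]
    have hsum : (j + 1) + d = 2 * (t + 1) := by omega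
    nlinarith [sq_nonneg ((j + 1 : ℤ) - d), sq_nonneg ((j : ℤ) + 1 - (t + 1)),
      mul_self_nonneg ((j + 1 : ℕ) - d : ℤ)]
  have h5 : a.factorial ^ 2 ≤ ((t + 1) ^ a) ^ 2 := by
    rw [h3]
    calc ∏ j ∈ range a, ((j + 1) * (a - 1 - j + 1)) ≤ ∏ _j ∈ range a, (t + 1) ^ 2 :=
          Finset.prod_le_prod' h4
      _ = ((t + 1) ^ a) ^ 2 := by
          rw [Finset.prod_const, Finset.card_range, ← pow_mul, ← pow_mul, mul_comm]
  exact (Nat.pow_le_pow_iff_left (by norm_num : (2 : ℕ) ≠ 0)).mp h5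

/-- L1C: the counting contradiction. -/
theorem L1C {t m : ℕ} (ht : 1 ≤ t) (hm : 2 * (t + 1) ^ 2 < m) (hev : Even m)
    (hC : ∀ l : ℕ, l.Prime → l ≤ m → ¬ l ∣ (2 * t + 1 + m).choose (2 * t + 1)) : False := by
  obtain ⟨k, hk⟩ := hev
  set a := 2 * t + 1 with ha
  set C := (a + m).choose a with hCdef
  -- the product of the even members
  set E := ∏ i ∈ range t, (m + 1 + (2 * i + 1)) with hE
  have hkt : t ≤ k := by nlinarith
  -- E divides the ascending factorial
  have hasc : (m + 1).ascFactorial a = a.factorial * C := by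
    rw [Nat.ascFactorial_eq_factorial_mul_choose, hCdef, Nat.add_comm m a]
  have hprod : (m + 1).ascFactorial a = ∏ i ∈ range a, (m + 1 + i) :=
    Nat.ascFactorial_eq_prod_range _ _
  have hEdvd : E ∣ a.factorial * C := by
    rw [← hasc, hprod, hE]
    have hinj : Set.InjOn (fun i : ℕ => 2 * i + 1) (range t : Finset ℕ) := by
      intro x _ y _ hxy
      simp only at hxy
      omega
    have him : ∏ i ∈ range t, (m + 1 + (2 * i + 1))
        = ∏ j ∈ (range t).image (fun i : ℕ => 2 * i + 1), (m + 1 + j) := by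
      rw [Finset.prod_image hinj]
    rw [him]
    apply Finset.prod_dvd_prod_of_subset
    intro j hj
    rcases Finset.mem_image.mp hj with ⟨i, hi, rfl⟩
    have : i < t := Finset.mem_range.mp hi
    exact Finset.mem_range.mpr (by omega)
  -- E is coprime to C
  have hcop : Nat.Coprime E C := by
    rw [hE]
    apply Nat.Coprime.prod_left
    intro i hi
    have hit : i < t := Finset.mem_range.mp hi
    apply Nat.coprime_of_dvd
    intro l hl hld hlC
    have hfac : m + 1 + (2 * i + 1) = 2 * (k + i + 1) := by omega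
    rw [hfac] at hld
    have hle : l ≤ m := by
      rcases (Nat.Prime.dvd_mul hl).mp hld with h2 | h2
      · have : l ≤ 2 := Nat.le_of_dvd (by norm_num) h2
        nlinarith
      · have : l ≤ k + i + 1 := Nat.le_of_dvd (by omega) h2
        omega
    exact hC l hl hle hlC
  have hEa : E ∣ a.factorial := hcop.dvd_of_dvd_mul_right hEdvd
  have hEle : E ≤ a.factorial := Nat.le_of_dvd (Nat.factorial_pos a) hEa
  -- lower bound for E
  have hElow : (2 * (t + 1) ^ 2 + 2) ^ t ≤ E := by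
    rw [hE]
    calc (2 * (t + 1) ^ 2 + 2) ^ t = ∏ _i ∈ range t, (2 * (t + 1) ^ 2 + 2) := by
          rw [Finset.prod_const, Finset.card_range]
      _ ≤ ∏ i ∈ range t, (m + 1 + (2 * i + 1)) := by
          apply Finset.prod_le_prod'
          intro i _
          omega
  have hstrict : (2 * (t + 1) ^ 2) ^ t < (2 * (t + 1) ^ 2 + 2) ^ t :=
    Nat.pow_lt_pow_left (by omega) (by omega)
  have h2t : t + 1 ≤ 2 ^ t := Nat.lt_two_pow_self
  have hpow : (t + 1) ^ (2 * t + 1) ≤ (2 * (t + 1) ^ 2) ^ t := by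
    calc (t + 1) ^ (2 * t + 1) = (t + 1) * ((t + 1) ^ 2) ^ t := by
          rw [← pow_mul, pow_succ, mul_comm]
      _ ≤ 2 ^ t * ((t + 1) ^ 2) ^ t := Nat.mul_le_mul_right _ h2t
      _ = (2 * (t + 1) ^ 2) ^ t := by rw [mul_pow]
  have hfl : a.factorial ≤ (t + 1) ^ (2 * t + 1) := hsl1c_factorial_le t
  omega

end Cfsg.Agent.Lib.H6.HS
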