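import Cfsg.Agent.Lib.H13.HSDefs

/-!
# S2536 piece P6 : degree 9 (a transitive Hall subgroup containing a Sylow 2- and 3-subgroup
of `S_9` contains `A_9`, so 5 divides its order)
-/

namespace Cfsg.Agent.Lib.H6.HS

open Equiv MulAction Cfsg.Agent.Lib.H13.HS
open scoped Pointwise

/-- An element of prime power order `r ^ k`, `r ∈ π`, is conjugate into a Hall `π`-subgroup. -/
theorem hsp6_conj_elt {G : Type*} [Group G] [Finite G] {π : Set ℕ} {H : Subgroup G}
    (hH : Cfsg.IsPiHall π H) {r : ℕ} (hr : r.Prime) (hrπ : r ∈ π)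
    (x : G) (k : ℕ) (hx : orderOf x = r ^ k) : ∃ g : G, g * x * g⁻¹ ∈ H := by
  haveI : Fact r.Prime := ⟨hr⟩
  let P : Sylow r H := default
  let Q : Subgroup G := (P : Subgroup H).map H.subtype
  have hQH : Q ≤ H := by
    rintro y ⟨z, _, rfl⟩
    exact z.2
  have hidx : ¬ r ∣ H.index := hH.2 r hr hrπ
  have hfac : (Nat.card G).factorization r = (Nat.card H).factorization r := by
    rw [← Subgroup.card_mul_index H, Nat.factorization_mul Nat.card_pos.ne' (Subgroup.index_ne_zero_of_finite),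
      Finsupp.add_apply, Nat.factorization_eq_zero_of_not_dvd hidx, add_zero]
  have hQcard : Nat.card Q = r ^ (Nat.card G).factorization r := by
    have h1 : Nat.card Q = Nat.card (P : Subgroup H) :=
      Subgroup.card_map_of_injective (Subgroup.subtype_injective H)
    rw [h1, hfac]
    exact Sylow.card_eq_multiplicity P
  let Q' : Sylow r G := Sylow.ofCard Q hQcard
  have hX : IsPGroup r (Subgroup.zpowers x) := by
    apply IsPGroup.of_card (n := k)
    rw [Nat.card_zpowers, hx]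
  obtain ⟨R, hR⟩ := hX.exists_le_sylow
  obtain ⟨g, hg⟩ := MulAction.exists_smul_eq G R Q'
  refine ⟨g, hQH ?_⟩
  have hxR : x ∈ (R : Subgroup G) := hR (Subgroup.mem_zpowers x)
  have h1 : MulAut.conj g • x ∈ MulAut.conj g • (R : Subgroup G) :=
    Subgroup.smul_mem_pointwise_smul _ _ _ hxR
  have h2 : ((g • R : Sylow r G) : Subgroup G) = MulAut.conj g • (R : Subgroup G) := rfl
  have h3 : ((g • R : Sylow r G) : Subgroup G) = Q := by rw [hg]; rfl
  rw [← h2, h3] at h1
  simpa [MulAut.smul_def] using h1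

/-- P6 CASE-E : degree 9. -/
theorem caseE {α : Type*} [Finite α] (h9 : Nat.card α = 9) {π : Set ℕ} {H : Subgroup (Perm α)}
    (hH : Cfsg.IsPiHall π H) (htr : IsPretransitive H α) (h2 : 2 ∈ π) (h3 : 3 ∈ π) (h5 : 5 ∉ π) :
    False := by
  classical
  haveI : Fintype α := Fintype.ofFinite α
  have hcard : Fintype.card α = 9 := by rw [← Nat.card_eq_fintype_card, h9]
  -- an 8-cycle in H
  obtain ⟨σ₀, hσ₀⟩ : ∃ g : Perm α, g.cycleType = ({8} : Multiset ℕ) := by
    rw [Equiv.Perm.exists_with_cycleType_iff]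
    refine ⟨by simp [hcard], ?_⟩
    intro a ha
    rw [Multiset.mem_singleton] at ha
    omega
  have hord₀ : orderOf σ₀ = 2 ^ 3 := by
    rw [← Equiv.Perm.lcm_cycleType, hσ₀]
    simp
  obtain ⟨g₀, hg₀⟩ := hsp6_conj_elt hH Nat.prime_two h2 σ₀ 3 hord₀
  set σ := g₀ * σ₀ * g₀⁻¹ with hσdef
  have hσ : σ.cycleType = ({8} : Multiset ℕ) := by rw [hσdef, Equiv.Perm.cycleType_conj, hσ₀]
  have hσcyc : σ.IsCycle := by
    rw [← Equiv.Perm.card_cycleType_eq_one, hσ]
    rfl
  have hσsupp : σ.support.card = 8 := by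
    rw [← Equiv.Perm.sum_cycleType, hσ]
    simp
  -- the unique fixed point
  have hcompl : (σ.supportᶜ).card = 1 := by
    rw [Finset.card_compl, hcard, hσsupp]
  obtain ⟨p₀, hp₀⟩ := Finset.card_eq_one.mp hcompl
  have hfix : ∀ x : α, σ x = x ↔ x = p₀ := by
    intro x
    have : x ∈ σ.supportᶜ ↔ x ∈ ({p₀} : Finset α) := by rw [hp₀]
    rw [Finset.mem_compl, Equiv.Perm.mem_support, not_not, Finset.mem_singleton] at this
    exact this
  -- a 3-cycle in H
  obtain ⟨τ₀, hτ₀⟩ : ∃ g : Perm α, g.cycleType = ({3} : Multiset ℕ) := by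
    rw [Equiv.Perm.exists_with_cycleType_iff]
    refine ⟨by simp [hcard], ?_⟩
    intro a ha
    rw [Multiset.mem_singleton] at ha
    omega
  have hordτ : orderOf τ₀ = 3 ^ 1 := by
    rw [← Equiv.Perm.lcm_cycleType, hτ₀]
    simp
  obtain ⟨g₁, hg₁⟩ := hsp6_conj_elt hH Nat.prime_three h3 τ₀ 1 hordτ
  have hτ : (g₁ * τ₀ * g₁⁻¹).IsThreeCycle := by
    unfold Equiv.Perm.IsThreeCycle
    rw [Equiv.Perm.cycleType_conj, hτ₀]
  -- H is 2-transitive, hence primitive
  have h2tr : IsMultiplyPretransitive H α 2 := by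
    rw [MulAction.is_two_pretransitive_iff]
    intro a b c d hab hcd
    obtain ⟨h₁, hh₁⟩ := htr.exists_smul_eq a p₀
    obtain ⟨h₂, hh₂⟩ := htr.exists_smul_eq c p₀
    have hb : σ (h₁ • b) ≠ h₁ • b := by
      rw [Ne, hfix, ← hh₁]
      intro h
      exact hab (smul_left_cancel h₁ h).symm
    have hd : σ (h₂ • d) ≠ h₂ • d := by
      rw [Ne, hfix, ← hh₂]
      intro h
      exact hcd (smul_left_cancel h₂ h).symm
    obtain ⟨i, hi⟩ := hσcyc.exists_zpow_eq hb hd
    have hσH : (σ ^ i) ∈ H := H.zpow_mem hg₀ i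
    have hfixi : (σ ^ i) p₀ = p₀ := by
      have : σ p₀ = p₀ := (hfix p₀).mpr rfl
      exact Equiv.Perm.zpow_apply_eq_self_of_apply_eq_self this i
    refine ⟨h₂⁻¹ * ⟨σ ^ i, hσH⟩ * h₁, ?_, ?_⟩
    · rw [mul_smul, mul_smul, hh₁]
      have : (⟨σ ^ i, hσH⟩ : H) • p₀ = p₀ := hfixi
      rw [this, ← hh₂, inv_smul_smul]
    · rw [mul_smul, mul_smul]
      have : (⟨σ ^ i, hσH⟩ : H) • (h₁ • b) = h₂ • d := hi
      rw [this, inv_smul_smul]
  have hprim : IsPreprimitive H α := MulAction.isPreprimitive_of_is_two_pretransitive h2tr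
  have hA : alternatingGroup α ≤ H :=
    Equiv.Perm.alternatingGroup_le_of_isPreprimitive_of_isThreeCycle_mem hprim hτ hg₁
  -- 5 divides the order of H
  haveI : Nontrivial α := by
    rw [← Fintype.one_lt_card_iff_nontrivial, hcard]
    norm_num
  have hAcard : Nat.card (alternatingGroup α) = 181440 := by
    rw [nat_card_alternatingGroup, h9]
    decide
  have h5H : 5 ∣ Nat.card H := by
    have hdvd : Nat.card (alternatingGroup α) ∣ Nat.card H := Subgroup.card_dvd_of_le hA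
    rw [hAcard] at hdvd
    exact dvd_trans (by norm_num) hdvd
  exact h5 (hH.1 5 (by norm_num) h5H)

end Cfsg.Agent.Lib.H6.HS
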