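import Cfsg.Agent.Lib.H13.HSDefs2

/-!
# S2535 stage 2, piece Q2 CONJ : conjugacy statements in the symmetric group
-/

namespace Cfsg.Agent.Lib.H6.HS

open Equiv MulAction Cfsg.Agent.Lib.H13.HS
open scoped Pointwise

/-- a Hall `π`-subgroup is trivial when no prime of `π` divides the group order. -/
theorem hsq2_eq_bot {G : Type*} [Group G] [Finite G] {π : Set ℕ}
    (hno : ∀ r : ℕ, r.Prime → r ∈ π → ¬ r ∣ Nat.card G)
    {H : Subgroup G} (hH : Cfsg.IsPiHall π H) : H = ⊥ := by
  rw [← Subgroup.card_eq_one]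
  by_contra hne
  obtain ⟨p, hp, hpd⟩ := Nat.exists_prime_and_dvd hne
  exact hno p hp (hH.1 p hp hpd) (dvd_trans hpd (Subgroup.card_subgroup_dvd_card H))

/-- a Hall `π`-subgroup is a Sylow `r`-subgroup when `r` is the only prime of `π` dividing the order. -/
theorem hsq2_card {G : Type*} [Group G] [Finite G] {π : Set ℕ} {r : ℕ} (hr : r.Prime) (hrπ : r ∈ π)
    (honly : ∀ s : ℕ, s.Prime → s ∈ π → s ∣ Nat.card G → s = r)
    {H : Subgroup G} (hH : Cfsg.IsPiHall π H) :
    Nat.card H = r ^ (Nat.card G).factorization r := by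
  have hidx : ¬ r ∣ H.index := hH.2 r hr hrπ
  have hfac : (Nat.card G).factorization r = (Nat.card H).factorization r := by
    rw [← Subgroup.card_mul_index H,
      Nat.factorization_mul Nat.card_pos.ne' (Subgroup.index_ne_zero_of_finite),
      Finsupp.add_apply, Nat.factorization_eq_zero_of_not_dvd hidx, add_zero]
  have hpow : Nat.card H = r ^ (Nat.card H).primeFactorsList.length := by
    apply Nat.eq_prime_pow_of_unique_prime_dvd Nat.card_pos.ne'
    intro d hd hdH
    exact honly d hd (hH.1 d hd hdH) (dvd_trans hdH (Subgroup.card_subgroup_dvd_card H))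
  rw [hfac]
  conv_lhs => rw [hpow]
  conv_rhs => rw [hpow]
  rw [Nat.Prime.factorization_pow hr, Finsupp.single_eq_same]

/-- Q2 : conjugacy of Hall subgroups when at most one prime of `π` divides the order. -/
theorem conj_of_few {G : Type*} [Group G] [Finite G] {π : Set ℕ}
    (hfew : ∀ r s : ℕ, r.Prime → s.Prime → r ∈ π → s ∈ π → r ∣ Nat.card G → s ∣ Nat.card G → r = s)
    {H K : Subgroup G} (hH : Cfsg.IsPiHall π H) (hK : Cfsg.IsPiHall π K) :
    ∃ g : G, K = H.map (MulAut.conj g).toMonoidHom := by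
  by_cases hex : ∃ r : ℕ, r.Prime ∧ r ∈ π ∧ r ∣ Nat.card G
  · obtain ⟨r, hr, hrπ, hrG⟩ := hex
    haveI : Fact r.Prime := ⟨hr⟩
    have honly : ∀ s : ℕ, s.Prime → s ∈ π → s ∣ Nat.card G → s = r :=
      fun s hs hsπ hsG => hfew s r hs hr hsπ hrπ hsG hrG
    let P : Sylow r G := Sylow.ofCard H (hsq2_card hr hrπ honly hH)
    let Q : Sylow r G := Sylow.ofCard K (hsq2_card hr hrπ honly hK)
    obtain ⟨g, hg⟩ := MulAction.exists_smul_eq G P Q
    refine ⟨g, ?_⟩
    have h1 : ((g • P : Sylow r G) : Subgroup G) = MulAut.conj g • (P : Subgroup G) := rfl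
    have h2 : ((g • P : Sylow r G) : Subgroup G) = K := by rw [hg]; rfl
    have h3 : (P : Subgroup G) = H := rfl
    rw [← h2, h1, h3]
    rfl
  · have hno : ∀ r : ℕ, r.Prime → r ∈ π → ¬ r ∣ Nat.card G := fun r hr hrπ hrG => hex ⟨r, hr, hrπ, hrG⟩
    refine ⟨1, ?_⟩
    rw [hsq2_eq_bot hno hH, hsq2_eq_bot hno hK, Subgroup.map_bot]

/-- two subsets of the same size are translates of each other under the symmetric group. -/
theorem hsq2_exists_smul_eq {α : Type*} [Finite α] (s t : Set α) (h : s.ncard = t.ncard) :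
    ∃ g : Perm α, g • s = t := by
  classical
  have hcard : Nat.card {x // x ∈ s} = Nat.card {x // x ∈ t} := by
    have h1 : Nat.card {x // x ∈ s} = s.ncard := _root_.Nat.card_coe_set_eq s
    have h2 : Nat.card {x // x ∈ t} = t.ncard := _root_.Nat.card_coe_set_eq t
    rw [h1, h2, h]
  obtain ⟨e⟩ := (Finite.card_eq).mp hcard
  refine ⟨e.extendSubtype, ?_⟩
  ext y
  constructor
  · rintro ⟨x, hx, rfl⟩
    exact e.extendSubtype_mem x hx
  · intro hy
    refine ⟨(e.extendSubtype).symm y, ?_, ?_⟩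
    · by_contra hx
      have := e.extendSubtype_not_mem _ hx
      rw [Equiv.apply_symm_apply] at this
      exact this hy
    · show e.extendSubtype ((e.extendSubtype).symm y) = y
      rw [Equiv.apply_symm_apply]

/-- Q2 : stabilizers of two subsets of the same size are conjugate. -/
theorem stabilizer_conj_set {α : Type*} [Finite α] (s t : Set α) (h : s.ncard = t.ncard) :
    ∃ g : Perm α, g • s = t ∧
      stabilizer (Perm α) t = (stabilizer (Perm α) s).map (MulAut.conj g).toMonoidHom := by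
  obtain ⟨g, hg⟩ := hsq2_exists_smul_eq s t h
  refine ⟨g, hg, ?_⟩
  rw [← hg]
  exact MulAction.stabilizer_smul_eq_stabilizer_map_conj g s

/-- Q2 : stabilizers of two bipartitions with parts of the same size are conjugate. -/
theorem partStab_conj {α : Type*} [Finite α] (s t : Set α) (h : s.ncard = t.ncard) :
    ∃ g : Perm α, partStab t = (partStab s).map (MulAut.conj g).toMonoidHom := by
  obtain ⟨g, hg⟩ := hsq2_exists_smul_eq s t h
  refine ⟨g, ?_⟩
  have hset : g • ({s, sᶜ} : Set (Set α)) = {t, tᶜ} := by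
    rw [Set.smul_set_insert, Set.smul_set_singleton, Set.smul_set_compl, hg]
  unfold partStab
  rw [← hset]
  exact MulAction.stabilizer_smul_eq_stabilizer_map_conj g _

end Cfsg.Agent.Lib.H6.HS
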