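import Cfsg.Agent.Lib.H6.HSQ2
import Cfsg.Agent.Lib.H6.HSP6

/-!
# S2535 stage 2, piece Q3 : conjugacy of Hall subgroups of the alternating group

`alt_conj_of` takes the stage-2 black boxes (`alt_main`, `sym_hall_conj`, the numeric classification
coming from `main_aux`) as explicit hypotheses.
-/

namespace Cfsg.Agent.Lib.H6.HS

open Equiv MulAction Cfsg.Agent.Lib.H13.HS
open scoped Pointwise

theorem hsq3_altSub_normal {α : Type*} [Finite α] : (altSub α).Normal := by
  unfold altSub
  infer_instance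

theorem hsq3_mem_altSub {α : Type*} [Fintype α] [DecidableEq α] (g : Perm α) :
    g ∈ altSub α ↔ Equiv.Perm.sign g = 1 := by
  rw [altSub_eq]
  exact Equiv.Perm.mem_alternatingGroup

/-- the product of two odd permutations is even. -/
theorem hsq3_mul_mem {α : Type*} [Finite α] {g h : Perm α} (hg : g ∉ altSub α) (hh : h ∉ altSub α) :
    g * h ∈ altSub α := by
  classical
  haveI := Fintype.ofFinite α
  rw [hsq3_mem_altSub] at hg hh ⊢
  rw [Equiv.Perm.sign_mul]
  rcases Int.units_eq_one_or (Equiv.Perm.sign g) with h1 | h1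
  · exact absurd h1 hg
  rcases Int.units_eq_one_or (Equiv.Perm.sign h) with h2 | h2
  · exact absurd h2 hh
  rw [h1, h2]
  rfl

/-- a conjugate of a transposition is odd. -/
theorem hsq3_conj_swap_notMem {α : Type*} [Finite α] [DecidableEq α] {x y : α} (hxy : x ≠ y)
    (g : Perm α) : g * Equiv.swap x y * g⁻¹ ∉ altSub α := by
  haveI := Fintype.ofFinite α
  have hmem := hsq3_mem_altSub (g * Equiv.swap x y * g⁻¹)
  rw [hmem, Equiv.Perm.sign_mul, Equiv.Perm.sign_mul, Equiv.Perm.sign_inv, Equiv.Perm.sign_swap hxy]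
  rcases Int.units_eq_one_or (Equiv.Perm.sign g) with h1 | h1 <;> rw [h1] <;> decide

/-- conjugating by an element of the subgroup does not move the subgroup. -/
theorem hsq3_map_conj_of_mem {G : Type*} [Group G] {H : Subgroup G} {h : G} (hh : h ∈ H) :
    H.map (MulAut.conj h).toMonoidHom = H := by
  have := Subgroup.conj_smul_eq_self_of_mem hh
  exact this

theorem hsq3_map_conj_mul {G : Type*} [Group G] (H : Subgroup G) (g h : G) :
    H.map (MulAut.conj (g * h)).toMonoidHom
      = (H.map (MulAut.conj h).toMonoidHom).map (MulAut.conj g).toMonoidHom := by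
  rw [Subgroup.map_map]
  congr 1
  ext x
  simp [mul_assoc]

theorem hsq3_map_conj_normal {G : Type*} [Group G] (A : Subgroup G) [A.Normal] (g : G) :
    A.map (MulAut.conj g).toMonoidHom = A :=
  Subgroup.Normal.conj_smul_eq_self g A

theorem hsq3_map_conj_inf {G : Type*} [Group G] (H A : Subgroup G) [A.Normal] (g : G) :
    (H ⊓ A).map (MulAut.conj g).toMonoidHom = H.map (MulAut.conj g).toMonoidHom ⊓ A := by
  rw [Subgroup.map_inf_eq _ _ _ (MulAut.conj g).injective, hsq3_map_conj_normal A g]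

/-- `IsPiHallOf` unfolded to `IsPiHall` of the `subgroupOf`. -/
theorem hsq3_hallOf_iff {G : Type*} [Group G] {π : Set ℕ} {M A : Subgroup G} :
    Cfsg.IsPiHallOf π M A ↔ M ≤ A ∧ Cfsg.IsPiHall π (M.subgroupOf A) := by
  constructor
  · rintro ⟨hle, h1, h2⟩
    refine ⟨hle, ?_, ?_⟩
    · intro p hp hpd
      apply h1 p hp
      rwa [← Nat.card_congr (Subgroup.subgroupOfEquivOfLe hle).toEquiv]
    · intro p hp hpπ hpd
      exact h2 p hp hpπ hpd
  · rintro ⟨hle, h1, h2⟩
    refine ⟨hle, ?_, ?_⟩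
    · intro p hp hpd
      apply h1 p hp
      rwa [Nat.card_congr (Subgroup.subgroupOfEquivOfLe hle).toEquiv]
    · intro p hp hpπ hpd
      exact h2 p hp hpπ hpd

/-- conjugacy inside a subgroup `A`, transported to the ambient group. -/
theorem hsq3_conj_of_subgroupOf {G : Type*} [Group G] {A M M' : Subgroup G} (hM : M ≤ A) (hM' : M' ≤ A)
    (g : A) (h : M'.subgroupOf A = (M.subgroupOf A).map (MulAut.conj g).toMonoidHom) :
    M' = M.map (MulAut.conj (g : G)).toMonoidHom := by
  have h1 : M' = (M'.subgroupOf A).map A.subtype := (Subgroup.map_subgroupOf_eq_of_le hM').symm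
  rw [h1, h, Subgroup.map_map]
  have h2 : M = (M.subgroupOf A).map A.subtype := (Subgroup.map_subgroupOf_eq_of_le hM).symm
  conv_rhs => rw [h2]
  rw [Subgroup.map_map]
  congr 1

/-- Q3 core: conjugacy in `A_n` of the Hall subgroups of `A_n`, from the stage-2 black boxes. -/
theorem alt_conj_of {α : Type*} [Finite α] {π : Set ℕ}
    (h_alt_main : ∀ {M : Subgroup (Perm α)}, Cfsg.IsPiHallOf π M (altSub α) →
      ∃ M₀ : Subgroup (Perm α), Cfsg.IsPiHall π M₀ ∧ M = M₀ ⊓ altSub α)
    (h_sym_conj : ∀ {H K : Subgroup (Perm α)}, Cfsg.IsPiHall π H → Cfsg.IsPiHall π K →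
      ∃ g : Perm α, K = H.map (MulAut.conj g).toMonoidHom)
    (h_cls : ∀ H : Subgroup (Perm α), Cfsg.IsPiHall π H → Cls π (Nat.card α))
    {M M' : Subgroup (Perm α)}
    (hM : Cfsg.IsPiHallOf π M (altSub α)) (hM' : Cfsg.IsPiHallOf π M' (altSub α)) :
    ∃ g ∈ altSub α, M' = M.map (MulAut.conj g).toMonoidHom := by
  classical
  haveI := Fintype.ofFinite α
  haveI : (altSub α).Normal := hsq3_altSub_normal
  by_cases hfew : Few π (Nat.card α)
  · -- at most one prime: Sylow's theorem inside the alternating group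
    obtain ⟨hle, hH⟩ := hsq3_hallOf_iff.mp hM
    obtain ⟨hle', hK⟩ := hsq3_hallOf_iff.mp hM'
    have hdvd : ∀ r : ℕ, r.Prime → r ∣ Nat.card (altSub α) → r ≤ Nat.card α := by
      intro r hr hrd
      have h1 : r ∣ Nat.card (Perm α) := dvd_trans hrd (Subgroup.card_subgroup_dvd_card _)
      rw [Nat.card_perm] at h1
      exact (Nat.Prime.dvd_factorial hr).mp h1
    have hfew' : ∀ r s : ℕ, r.Prime → s.Prime → r ∈ π → s ∈ π →
        r ∣ Nat.card (altSub α) → s ∣ Nat.card (altSub α) → r = s :=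
      fun r s hr hs hrπ hsπ hrd hsd => hfew r s hr hs hrπ hsπ (hdvd r hr hrd) (hdvd s hs hsd)
    obtain ⟨g, hg⟩ := conj_of_few hfew' hH hK
    exact ⟨(g : Perm α), g.2, hsq3_conj_of_subgroupOf hle hle' g hg⟩
  · -- otherwise 2 ∈ π and a Hall subgroup of the symmetric group contains a transposition
    obtain ⟨M₀, hM₀, rfl⟩ := h_alt_main hM
    obtain ⟨M₀', hM₀', rfl⟩ := h_alt_main hM'
    obtain ⟨g, hg⟩ := h_sym_conj hM₀ hM₀'
    -- two distinct primes of π below n
    have hex : ∃ r s : ℕ, r.Prime ∧ s.Prime ∧ r ∈ π ∧ s ∈ π ∧ r ≤ Nat.card α ∧ s ≤ Nat.card α ∧ r ≠ s := by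
      by_contra hcon
      apply hfew
      intro r s hr hs hrπ hsπ hrn hsn
      by_contra hne
      exact hcon ⟨r, s, hr, hs, hrπ, hsπ, hrn, hsn, hne⟩
    obtain ⟨r, s, hr, hs, hrπ, hsπ, hrn, hsn, hrs⟩ := hex
    have h3 : 3 ≤ Nat.card α := by
      have h2r := hr.two_le
      have h2s := hs.two_le
      omega
    have h2π : 2 ∈ π := by
      rcases h_cls M₀ hM₀ with h | h | h | ⟨_, h⟩
      · exact absurd h hfew
      · exact h 2 Nat.prime_two (by omega)
      · exact (h.2 2 Nat.prime_two (by omega)).mpr (by omega)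
      · exact (h 2 Nat.prime_two (by omega)).mpr (Or.inl rfl)
    by_cases hgA : g ∈ altSub α
    · refine ⟨g, hgA, ?_⟩
      rw [hsq3_map_conj_inf, ← hg]
    · -- an odd element of M₀
      have hcard : 1 < Fintype.card α := by
        rw [← Nat.card_eq_fintype_card]; omega
      obtain ⟨x, y, hxy⟩ := Fintype.exists_pair_of_one_lt_card hcard
      have hord : orderOf (Equiv.swap x y) = 2 ^ 1 := by
        rw [pow_one]
        exact orderOf_eq_prime (by rw [sq]; exact Equiv.swap_mul_self x y)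
          (fun h => hxy (Equiv.swap_eq_one_iff.mp h))
      obtain ⟨g₀, hg₀⟩ := hsp6_conj_elt hM₀ Nat.prime_two h2π (Equiv.swap x y) 1 hord
      have hodd := hsq3_conj_swap_notMem hxy g₀
      set h := g₀ * Equiv.swap x y * g₀⁻¹ with hh
      refine ⟨g * h, hsq3_mul_mem hgA hodd, ?_⟩
      rw [hsq3_map_conj_inf, hsq3_map_conj_mul, hsq3_map_conj_of_mem hg₀, ← hg]

end Cfsg.Agent.Lib.H6.HS
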