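import Mathlib
import Cfsg.Agent.Lib.H13.O7Defs

/-!
# S2647 piece SCE (architect helper13): a nontrivial strongly closed subgroup of `S0 = 2^6 : D8`
contains the group `Esub` of even sign changes.
-/

set_option autoImplicit false

namespace Cfsg.Agent.Lib.H13.O7

open Matrix Equiv Cfsg

variable {F : Type*} [Field F]

theorem sce_tv_apply (a b m : Fin 7) :
    tv a b m = (if m = a then (-1 : ℤˣ) else 1) * (if m = b then (-1 : ℤˣ) else 1) := by
  simp only [tv, Pi.mul_apply, Pi.mulSingle_apply]

theorem sce_prod_tv (a b : Fin 7) : ∏ m, tv a b m = 1 := by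
  simp only [sce_tv_apply]
  rw [Finset.prod_mul_distrib, Finset.prod_ite_eq' Finset.univ a, Finset.prod_ite_eq' Finset.univ b]
  simp

theorem sce_tv_mul_self (a b : Fin 7) : tv a b * tv a b = 1 := by
  funext m
  simp only [Pi.mul_apply, Pi.one_apply, Int.units_mul_self]

/-- `tv i j ∘ σ = tv a b` when `σ a = i`, `σ b = j`. -/
theorem sce_tv_comp (σ : Perm (Fin 7)) {a b i j : Fin 7} (ha : σ a = i) (hb : σ b = j) :
    tv i j ∘ ⇑σ = tv a b := by
  funext m
  simp only [Function.comp_apply, sce_tv_apply]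
  have h1 : σ m = i ↔ m = a := by
    rw [← ha]; exact σ.injective.eq_iff
  have h2 : σ m = j ↔ m = b := by
    rw [← hb]; exact σ.injective.eq_iff
  simp only [h1, h2]

theorem sce_tv_symm (a b : Fin 7) : tv a b = tv b a := by
  funext m
  simp only [sce_tv_apply]
  exact mul_comm _ _

/-- Every even sign vector lies in a subgroup containing all `tv a b`. -/
theorem sce_mem_of_tv (W : Subgroup (Fin 7 → ℤˣ)) (htv : ∀ a b : Fin 7, a ≠ b → tv a b ∈ W) :
    ∀ n : ℕ, ∀ ε : Fin 7 → ℤˣ, ∏ i, ε i = 1 →
      (Finset.univ.filter (fun i => ε i = -1)).card = n → ε ∈ W := by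
  intro n
  induction n using Nat.strong_induction_on with
  | _ n ih =>
    intro ε hε hn
    by_cases hem : Finset.univ.filter (fun i => ε i = -1) = ∅
    · have : ε = 1 := by
        funext m
        rcases Int.units_eq_one_or (ε m) with h | h
        · exact h
        · exfalso
          have : m ∈ Finset.univ.filter (fun i => ε i = -1) := by simp [h]
          rw [hem] at this
          exact absurd this (Finset.notMem_empty m)
      rw [this]
      exact W.one_mem
    · obtain ⟨a, ha⟩ := Finset.nonempty_iff_ne_empty.mpr hem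
      have ha' : ε a = -1 := (Finset.mem_filter.mp ha).2
      obtain ⟨b, hba, hb'⟩ : ∃ b, b ≠ a ∧ ε b = -1 := by
        by_contra hcon
        push_neg at hcon
        have h1 : ∏ i, ε i = ε a := by
          apply Finset.prod_eq_single a
          · intro b _ hb
            rcases Int.units_eq_one_or (ε b) with h | h
            · exact h
            · exact absurd h (hcon b hb)
          · intro h
            exact absurd (Finset.mem_univ a) h
        rw [h1, ha'] at hε
        exact absurd hε (by decide)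
      set ε' : Fin 7 → ℤˣ := ε * tv a b with hε'
      have hprod : ∏ i, ε' i = 1 := by
        simp only [hε', Pi.mul_apply]
        rw [Finset.prod_mul_distrib, hε, sce_prod_tv, one_mul]
      have hsub : Finset.univ.filter (fun i => ε' i = -1) ⊂ Finset.univ.filter (fun i => ε i = -1) := by
        rw [Finset.ssubset_iff_of_subset]
        · refine ⟨a, ha, ?_⟩
          intro h
          have := (Finset.mem_filter.mp h).2
          rw [hε', Pi.mul_apply, ha', sce_tv_apply, if_pos rfl, if_neg (Ne.symm hba)] at this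
          exact absurd this (by decide)
        · intro m hm
          have hm' := (Finset.mem_filter.mp hm).2
          rw [Finset.mem_filter]
          refine ⟨Finset.mem_univ _, ?_⟩
          rw [hε', Pi.mul_apply, sce_tv_apply] at hm'
          by_cases hma : m = a
          · rw [hma]; exact ha'
          · by_cases hmb : m = b
            · rw [hmb]; exact hb'
            · rw [if_neg hma, if_neg hmb, mul_one, mul_one] at hm'
              exact hm'
      have hlt := Finset.card_lt_card hsub
      rw [hn] at hlt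
      have hmem' : ε' ∈ W := ih _ hlt ε' hprod rfl
      have : ε = ε' * tv a b := by
        rw [hε', mul_assoc, sce_tv_mul_self, mul_one]
      rw [this]
      exact W.mul_mem hmem' (htv a b (Ne.symm hba))

/-- **SCE**. -/
theorem Esub_le_of_sc (h2 : (2 : F) ≠ 0) (H : Subgroup (O7 F)) (hM : MA F ≤ H) (hS : S0 F ≤ H)
    (T : Subgroup (O7 F)) (hT : T ≤ S0 F)
    (hsc : ∀ x ∈ T, ∀ g ∈ H, g * x * g⁻¹ ∈ S0 F → g * x * g⁻¹ ∈ T) (hne : T ≠ ⊥) : Esub F ≤ T := by
  classical
  -- `T` is normal in `S0`
  have hnorm : ∀ x ∈ T, ∀ g ∈ S0 F, g * x * g⁻¹ ∈ T := by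
    intro x hx g hg
    exact hsc x hx g (hS hg) ((S0 F).mul_mem ((S0 F).mul_mem hg (hT hx)) ((S0 F).inv_mem hg))
  -- membership of `dg ε` in `S0`
  have hdgS : ∀ ε : Fin 7 → ℤˣ, ∏ i, ε i = 1 → dg (F := F) ε ∈ S0 F := by
    intro ε hε
    exact ⟨ε, 1, hε, Subgroup.one_mem _, rfl⟩
  have hprod_of_mem : ∀ ε : Fin 7 → ℤˣ, dg (F := F) ε ∈ T → ∏ i, ε i = 1 := by
    intro ε hε
    have := hT hε
    rw [dg_apply] at this
    exact ((mono_mem_MS h2 D8 ε 1).mp this).1
  -- the subgroup of sign vectors
  set W : Subgroup (Fin 7 → ℤˣ) := T.comap (dg (F := F)) with hW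
  have hWmem : ∀ ε, ε ∈ W ↔ dg (F := F) ε ∈ T := fun ε => Iff.rfl
  -- invariance under even permutations
  have hperm : ∀ σ : Perm (Fin 7), Perm.sign σ = 1 → ∀ ε, ε ∈ W → ε ∘ ⇑σ ∈ W := by
    intro σ hσ ε hε
    rw [hWmem] at hε ⊢
    have hpm : pm (F := F) σ⁻¹ ∈ H := by
      apply hM
      refine ⟨1, σ⁻¹, by simp, ?_, rfl⟩
      rw [Perm.mem_alternatingGroup, Perm.sign_inv, hσ]
    have hconj := pm_conj_dg (F := F) σ⁻¹ ε
    rw [inv_inv] at hconj
    have := hsc _ hε _ hpm (by
      rw [hconj]
      apply hdgS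
      rw [← hprod_of_mem ε hε]
      exact Equiv.prod_comp σ ε)
    rwa [hconj] at this
  -- a nontrivial element of `W`
  obtain ⟨ε₀, hε₀W, hε₀⟩ : ∃ ε₀ ∈ W, ε₀ ≠ 1 := by
    obtain ⟨⟨x, hxT⟩, hx1⟩ := (Subgroup.ne_bot_iff_exists_ne_one).mp hne
    have hx1' : x ≠ 1 := fun h => hx1 (Subtype.ext h)
    obtain ⟨ε, d, hε, hd, rfl⟩ := hT hxT
    by_cases hd1 : d = 1
    · subst hd1
      refine ⟨ε, hxT, ?_⟩
      rintro rfl
      exact hx1' mono_one
    · -- some `a` is moved by `d`
      obtain ⟨a, hda⟩ : ∃ a, d a ≠ a := by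
        by_contra hcon
        push_neg at hcon
        exact hd1 (Equiv.ext hcon)
      obtain ⟨c, hca, hcda⟩ : ∃ c : Fin 7, c ≠ a ∧ c ≠ d a := by
        by_contra hcon
        push_neg at hcon
        have hsub : (Finset.univ : Finset (Fin 7)) ⊆ {a, d a} := by
          intro c _
          by_cases h : c = a
          · rw [h]; exact Finset.mem_insert_self _ _
          · rw [hcon c h]
            exact Finset.mem_insert_of_mem (Finset.mem_singleton_self _)
        have h1 := Finset.card_le_card hsub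
        have h2 : ({a, d a} : Finset (Fin 7)).card ≤ 2 := Finset.card_le_two
        rw [Finset.card_univ, Fintype.card_fin] at h1
        omega
      set η : Fin 7 → ℤˣ := tv a c with hη
      have hηprod : ∏ i, η i = 1 := sce_prod_tv a c
      -- the commutator `[x, dg η]`
      have hconj : mono (F := F) ε d * dg η * (mono (F := F) ε d)⁻¹ = dg (η ∘ ⇑d⁻¹) := by
        rw [mono_eq ε d]
        have h1 := pm_conj_dg (F := F) d η
        calc dg ε * pm d * dg η * (dg ε * pm d)⁻¹
            = dg ε * (pm d * dg η * (pm d)⁻¹) * (dg ε)⁻¹ := by group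
          _ = dg ε * dg (η ∘ ⇑d⁻¹) * (dg ε)⁻¹ := by rw [h1]
          _ = dg (η ∘ ⇑d⁻¹) := by
            rw [← map_mul, mul_comm ε, map_mul]; group
      have hc1 : dg (F := F) η * (mono (F := F) ε d)⁻¹ * (dg (F := F) η)⁻¹ ∈ T :=
        hnorm _ (T.inv_mem hxT) _ (hdgS η hηprod)
      have hc2 : mono (F := F) ε d * (dg (F := F) η * (mono (F := F) ε d)⁻¹ * (dg (F := F) η)⁻¹) ∈ T :=
        T.mul_mem hxT hc1
      have hc3 : mono (F := F) ε d * (dg (F := F) η * (mono (F := F) ε d)⁻¹ * (dg (F := F) η)⁻¹)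
          = dg (η ∘ ⇑d⁻¹ * η⁻¹) := by
        rw [map_mul, map_inv, ← hconj]; group
      rw [hc3] at hc2
      refine ⟨_, hc2, ?_⟩
      intro h
      have h3 := congrFun h (d a)
      simp only [Pi.mul_apply, Function.comp_apply, Pi.inv_apply, Pi.one_apply] at h3
      have h4 : d⁻¹ (d a) = a := by simp
      rw [h4, hη, sce_tv_apply, sce_tv_apply, if_pos rfl, if_neg hca.symm, if_neg hda,
        if_neg (Ne.symm hcda)] at h3
      exact absurd h3 (by decide)
  -- `ε₀` takes both values
  have hε₀prod := hprod_of_mem ε₀ ((hWmem ε₀).mp hε₀W)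
  obtain ⟨i, hi⟩ : ∃ i, ε₀ i = -1 := by
    by_contra hcon
    push_neg at hcon
    apply hε₀
    funext m
    rcases Int.units_eq_one_or (ε₀ m) with h | h
    · exact h
    · exact absurd h (hcon m)
  obtain ⟨j, hj⟩ : ∃ j, ε₀ j = 1 := by
    by_contra hcon
    push_neg at hcon
    have hall : ∀ m, ε₀ m = -1 := by
      intro m
      rcases Int.units_eq_one_or (ε₀ m) with h | h
      · exact absurd h (hcon m)
      · exact h
    have : ∏ m, ε₀ m = ∏ _m : Fin 7, (-1 : ℤˣ) := Finset.prod_congr rfl (fun m _ => hall m)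
    rw [this] at hε₀prod
    simp at hε₀prod
    exact absurd hε₀prod (by decide)
  have hij : i ≠ j := by
    rintro rfl
    rw [hi] at hj
    exact absurd hj (by decide)
  -- two further indices with equal values
  obtain ⟨k, l, hkl, hki, hkj, hli, hlj, hklv⟩ :
      ∃ k l : Fin 7, k ≠ l ∧ k ≠ i ∧ k ≠ j ∧ l ≠ i ∧ l ≠ j ∧ ε₀ k = ε₀ l := by
    set s : Finset (Fin 7) := (Finset.univ.erase i).erase j with hs
    have hscard : s.card = 5 := by
      rw [hs, Finset.card_erase_of_mem, Finset.card_erase_of_mem (Finset.mem_univ i),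
        Finset.card_univ, Fintype.card_fin]
      exact Finset.mem_erase.mpr ⟨Ne.symm hij, Finset.mem_univ j⟩
    have hlt : (Finset.univ : Finset ℤˣ).card < s.card := by
      rw [hscard]
      decide
    obtain ⟨k, hk, l, hl, hkl, hv⟩ := Finset.exists_ne_map_eq_of_card_lt_of_maps_to hlt
      (f := ε₀) (fun m _ => Finset.mem_univ _)
    rw [hs, Finset.mem_erase, Finset.mem_erase] at hk hl
    exact ⟨k, l, hkl, hk.2.1, hk.1, hl.2.1, hl.1, hv⟩
  -- `tv i j ∈ W`
  have htvij : tv i j ∈ W := by
    set σ : Perm (Fin 7) := swap i j * swap k l with hσ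
    have hσs : Perm.sign σ = 1 := by
      rw [hσ, Perm.sign_mul, Perm.sign_swap hij, Perm.sign_swap hkl]
      decide
    have h1 := W.mul_mem hε₀W (hperm σ hσs ε₀ hε₀W)
    have h2 : ε₀ * ε₀ ∘ ⇑σ = tv i j := by
      funext m
      simp only [Pi.mul_apply, Function.comp_apply, sce_tv_apply, hσ, Perm.mul_apply]
      by_cases hmi : m = i
      · subst hmi
        rw [swap_apply_of_ne_of_ne hki.symm hli.symm, swap_apply_left, if_pos rfl, if_neg hij, hi, hj]
      · by_cases hmj : m = j
        · subst hmj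
          rw [swap_apply_of_ne_of_ne hkj.symm hlj.symm, swap_apply_right, if_neg hmi, if_pos rfl, hi, hj]
        · rw [if_neg hmi, if_neg hmj]
          by_cases hmk : m = k
          · subst hmk
            rw [swap_apply_left, swap_apply_of_ne_of_ne hli hlj, ← hklv, Int.units_mul_self]
            rfl
          · by_cases hml : m = l
            · subst hml
              rw [swap_apply_right, swap_apply_of_ne_of_ne hki hkj, hklv, Int.units_mul_self]
              rfl
            · rw [swap_apply_of_ne_of_ne hmk hml, swap_apply_of_ne_of_ne hmi hmj, Int.units_mul_self]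
              rfl
    rwa [h2] at h1
  -- all `tv a b ∈ W`
  have htv : ∀ a b : Fin 7, a ≠ b → tv a b ∈ W := by
    intro a b hab
    -- a permutation with `σ a = i`, `σ b = j`
    obtain ⟨σ, hσa, hσb⟩ : ∃ σ : Perm (Fin 7), σ a = i ∧ σ b = j := by
      set σ₁ : Perm (Fin 7) := swap a i with hσ₁
      have h1 : σ₁ a = i := swap_apply_left a i
      have h2 : σ₁ b ≠ i := by
        rw [← h1]
        exact fun h => hab (σ₁.injective h).symm
      refine ⟨swap (σ₁ b) j * σ₁, ?_, ?_⟩
      · rw [Perm.mul_apply, h1, swap_apply_of_ne_of_ne (Ne.symm h2) hij]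
      · rw [Perm.mul_apply, swap_apply_left]
    rcases Int.units_eq_one_or (Perm.sign σ) with hs | hs
    · have := hperm σ hs _ htvij
      rwa [sce_tv_comp σ hσa hσb] at this
    · set σ' : Perm (Fin 7) := swap i j * σ with hσ'
      have hs' : Perm.sign σ' = 1 := by
        rw [hσ', Perm.sign_mul, Perm.sign_swap hij, hs]
        decide
      have h1 : σ' a = j := by rw [hσ', Perm.mul_apply, hσa, swap_apply_left]
      have h2 : σ' b = i := by rw [hσ', Perm.mul_apply, hσb, swap_apply_right]
      have := hperm σ' hs' _ htvij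
      rw [sce_tv_symm i j, sce_tv_comp σ' h1 h2] at this
      exact this
  -- conclusion
  intro g hg
  obtain ⟨ε, hε, rfl⟩ := (mem_Esub g).mp hg
  exact (hWmem ε).mp (sce_mem_of_tv W htv _ ε hε rfl)

end Cfsg.Agent.Lib.H13.O7
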