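import Mathlib
import Cfsg.Agent.Lib.H5.S3777Defs

/-!
# S3777 (Vaughan-Lee), transport to a subgroup `K` seen as the type `↥K` (helper6)

Centraliser indices, derived groups and pairs of `↥K` in terms of subgroups of `G`; the
(PAIR-TRANSFER) piece: a pair `(G, M)` with bound `f` restricts to the pair `(↥K, M.subgroupOf K)`
with the same bound, for every subgroup `K` not inside `M`.
-/

set_option autoImplicit false

namespace Cfsg.Agent.Lib.H6.S3777Sub

open Cfsg.Agent.Lib.H5.S3777

universe u

variable {G : Type u} [Group G]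

/-- the centraliser of `k` in `↥K` -/
theorem centralizer_subtype (K : Subgroup G) (k : ↥K) :
    Subgroup.centralizer ({k} : Set ↥K)
      = (Subgroup.centralizer ({(k : G)} : Set G)).subgroupOf K := by
  ext x
  rw [Subgroup.mem_subgroupOf, Subgroup.mem_centralizer_iff, Subgroup.mem_centralizer_iff]
  constructor
  · intro h y hy
    rw [Set.mem_singleton_iff] at hy
    subst hy
    have := h k rfl
    exact congrArg Subtype.val this
  · intro h y hy
    rw [Set.mem_singleton_iff] at hy
    subst hy
    apply Subtype.ext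
    exact h (y : G) rfl

/-- the centraliser index of `k` in `↥K` is a relative index -/
theorem index_centralizer_subtype (K : Subgroup G) (k : ↥K) :
    (Subgroup.centralizer ({k} : Set ↥K)).index
      = (Subgroup.centralizer ({(k : G)} : Set G)).relIndex K := by
  rw [centralizer_subtype]
  rfl

/-- breadth does not grow in a subgroup -/
theorem index_centralizer_le [Finite G] (K : Subgroup G) (k : ↥K) :
    (Subgroup.centralizer ({k} : Set ↥K)).index
      ≤ (Subgroup.centralizer ({(k : G)} : Set G)).index := by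
  rw [index_centralizer_subtype, ← Subgroup.relIndex_top_right]
  apply Subgroup.relIndex_le_of_le_right le_top
  rw [Subgroup.relIndex_top_right]
  exact Subgroup.index_ne_zero_of_finite

/-- if the centraliser of `k` lies in `K` the two indices differ by `|G : K|` -/
theorem index_centralizer_mul_of_le (K : Subgroup G) (k : ↥K)
    (h : Subgroup.centralizer ({(k : G)} : Set G) ≤ K) :
    (Subgroup.centralizer ({k} : Set ↥K)).index * K.index
      = (Subgroup.centralizer ({(k : G)} : Set G)).index := by
  rw [index_centralizer_subtype]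
  exact Subgroup.relIndex_mul_index h

/-- the derived group of `↥K` has the order of `⁅K, K⁆` -/
theorem card_commutator_subtype (K : Subgroup G) :
    Nat.card ↥(commutator ↥K) = Nat.card ↥⁅K, K⁆ := by
  rw [← Subgroup.map_subtype_commutator K]
  exact (Subgroup.card_map_of_injective K.subtype_injective).symm

/-- the derived group of `A.subgroupOf K`, pushed to `G` -/
theorem map_commutator_subgroupOf (K A : Subgroup G) (hA : A ≤ K) :
    (⁅A.subgroupOf K, A.subgroupOf K⁆).map K.subtype = ⁅A, A⁆ := by
  rw [Subgroup.map_commutator, Subgroup.subgroupOf_map_subtype, inf_eq_left.2 hA]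

/-- `(↥K, A.subgroupOf K)` is residual iff `⁅A, A⁆ = ⁅K, K⁆` -/
theorem residual_iff (K A : Subgroup G) (hA : A ≤ K) :
    ⁅A.subgroupOf K, A.subgroupOf K⁆ = commutator ↥K ↔ ⁅A, A⁆ = ⁅K, K⁆ := by
  rw [← map_commutator_subgroupOf K A hA, ← Subgroup.map_subtype_commutator K]
  constructor
  · intro h
    rw [h]
  · intro h
    exact Subgroup.map_injective K.subtype_injective h

/-- the same with `M ⊓ K` written as `M.subgroupOf K` -/
theorem residual_iff_inf (K M : Subgroup G) :
    ⁅M.subgroupOf K, M.subgroupOf K⁆ = commutator ↥K ↔ ⁅M ⊓ K, M ⊓ K⁆ = ⁅K, K⁆ := by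
  rw [← Subgroup.inf_subgroupOf_right M K]
  exact residual_iff K (M ⊓ K) inf_le_right

/-- a subgroup of index `p` of a finite `p`-group is normal -/
theorem normal_of_index_eq [Finite G] {p : ℕ} [hp : Fact p.Prime] (hG : IsPGroup p G)
    (M : Subgroup G) (hM : M.index = p) : M.Normal := by
  apply Subgroup.normal_of_index_eq_minFac_card
  obtain ⟨n, hn⟩ := IsPGroup.iff_card.1 hG
  rw [hM, hn]
  have hn0 : n ≠ 0 := by
    rintro rfl
    rw [pow_zero] at hn
    have h1 : M.index ∣ Nat.card G := Subgroup.index_dvd_card M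
    rw [hM, hn] at h1
    exact hp.out.one_lt.ne' (Nat.dvd_one.1 h1)
  exact (Nat.Prime.pow_minFac hp.out hn0).symm

/-- the relative index of `M` (of index `p`) in a subgroup `K` not inside `M` is `p` -/
theorem relIndex_eq_of_not_le [Finite G] {p : ℕ} [hp : Fact p.Prime] (hG : IsPGroup p G)
    (M : Subgroup G) (hM : M.index = p) (K : Subgroup G) (hK : ¬ K ≤ M) : M.relIndex K = p := by
  have := normal_of_index_eq hG M hM
  have hd : M.relIndex K ∣ p := hM ▸ Subgroup.relIndex_dvd_index_of_normal (H := M) (K := K)
  rcases (Nat.dvd_prime hp.out).1 hd with h1 | h1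
  · exact absurd (Subgroup.relIndex_eq_one.1 h1) hK
  · exact h1

/-- (PAIR-TRANSFER): a pair restricts to every subgroup not inside `M` -/
theorem isPair_subgroupOf [Finite G] {p : ℕ} [Fact p.Prime] (hG : IsPGroup p G)
    {M : Subgroup G} {f : ℕ} (hM : IsPair p M f) (K : Subgroup G) (hK : ¬ K ≤ M) :
    IsPair p (M.subgroupOf K) f where
  idx := relIndex_eq_of_not_le hG M hM.idx K hK
  out := by
    intro y hy
    have hy' : (y : G) ∉ M := fun h => hy (Subgroup.mem_subgroupOf.2 h)
    exact (index_centralizer_le K y).trans (hM.out (y : G) hy')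

/-- the same for `(M ⊓ K).subgroupOf K` -/
theorem isPair_inf_subgroupOf [Finite G] {p : ℕ} [Fact p.Prime] (hG : IsPGroup p G)
    {M : Subgroup G} {f : ℕ} (hM : IsPair p M f) (K : Subgroup G) (hK : ¬ K ≤ M) :
    IsPair p ((M ⊓ K).subgroupOf K) f := by
  rw [Subgroup.inf_subgroupOf_right]
  exact isPair_subgroupOf hG hM K hK

/-- a pair inside a subgroup, with its own bound `f'` given on the elements of `K` outside `A` -/
theorem isPair_of_relIndex {p : ℕ} (K A : Subgroup G) (f' : ℕ) (hidx : A.relIndex K = p)
    (hout : ∀ k : G, k ∈ K → k ∉ A →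
      (Subgroup.centralizer ({k} : Set G)).relIndex K ≤ p ^ f') :
    IsPair p (A.subgroupOf K) f' where
  idx := hidx
  out := by
    intro y hy
    rw [index_centralizer_subtype]
    exact hout (y : G) y.2 (fun h => hy (Subgroup.mem_subgroupOf.2 h))

/-- a proper subgroup has smaller order -/
theorem card_lt_of_ne_top [Finite G] (K : Subgroup G) (hK : K ≠ ⊤) :
    Nat.card ↥K < Nat.card G := by
  have h1 := Subgroup.index_mul_card K
  have h2 : K.index ≠ 1 := fun h => hK (Subgroup.index_eq_one.1 h)
  have h3 : K.index ≠ 0 := Subgroup.index_ne_zero_of_finite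
  have h4 : 0 < Nat.card ↥K := Nat.card_pos
  have h5 : 2 ≤ K.index := by omega
  nlinarith

/-- a subgroup of index `p` has smaller order -/
theorem card_lt_of_index_eq [Finite G] {p : ℕ} [hp : Fact p.Prime] (K : Subgroup G)
    (hK : K.index = p) : Nat.card ↥K < Nat.card G := by
  apply card_lt_of_ne_top
  rintro rfl
  rw [Subgroup.index_top] at hK
  exact hp.out.one_lt.ne hK

/-- applying the induction hypothesis to a proper subgroup -/
theorem ih_subgroup [Finite G] {p : ℕ} (hG : IsPGroup p G) (hIH : IH.{u} p (Nat.card G))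
    (K : Subgroup G) (hK : K ≠ ⊤) : P1 p ↥K ∧ P2 p ↥K ∧ P3 p ↥K :=
  hIH ↥K (hG.to_subgroup K) (card_lt_of_ne_top K hK)

end Cfsg.Agent.Lib.H6.S3777Sub
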