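import Mathlib
import Cfsg.Prelude.Def_Blocks
import Cfsg.Agent.Lib.H21.AD.Defs
import Cfsg.Agent.Lib.H23.BlockCovering
import Cfsg.Agent.Lib.H23.BlockPrincipal
import Cfsg.Agent.Lib.H24.CharDefl
import Cfsg.Agent.Lib.H23.ADCC
import Cfsg.Agent.Lib.H23.ADBR
import Cfsg.Agent.Lib.H6.ADLC4Core
import Cfsg.Agent.S0174
import Cfsg.Agent.S0856

/-!
# S4551, piece (PART1) (helper6): members of `B_0(G)` restrict irreducibly into `B_0(N)`

`N ⊴ G` of index prime to `p`, `G = N C_G(Q)` with `Q ≤ N` of `p'`-index in `N`.  If every `θ ∈ B_0(N)` has an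
extension in `B_0(G)` (PART2, a hypothesis here), then every `χ ∈ B_0(G)` restricts to a member of `B_0(N)`:
a constituent `ψ` of `χ|_N` lies in `B_0(N)` (block covering), `χ = β χ_ψ` (Gallagher) with `β ∈ Irr(G/N)`,
and `β(c)/β(1) ≡ 1` on `C_G(Q)` (CC) forces `β = 1` since `p ∤ |G : N|`.
-/

set_option autoImplicit false

open Cfsg.Agent.Lib.H21.AD

namespace Cfsg.Agent.Lib.H6.AP

open Cfsg Cfsg.Agent.Lib.H23 Cfsg.Agent.Lib.H24 Cfsg.Agent.Lib.L0
open scoped ComplexConjugate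

variable {G : Type*} [Group G] [Finite G] {p : ℕ} {M : Ideal Cfsg.AlgInt}

omit [Finite G] in
/-- (PART1a) block covering: every constituent of `χ|_N`, `χ ∈ B_0(G)`, lies in `B_0(N)` -/
theorem constituent_mem_principal [Fintype G] (hM : Cfsg.IsPModular p M) (N : Subgroup G) [N.Normal]
    [Fintype N] (χ : Cfsg.IrrCharacter G) (hχ : χ ∈ Cfsg.principalBlock M G) (ψ : Cfsg.IrrCharacter N)
    (hψ : Cfsg.classInner (fun n : N => (χ : G → ℂ) n) (ψ : N → ℂ) ≠ 0) :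
    ψ ∈ Cfsg.principalBlock M N := by
  have hP := isPrime_of_isPModular hM
  have htriv : Cfsg.classInner (fun n : N => ((trivialIrr G : Cfsg.IrrCharacter G) : G → ℂ) n)
      ((trivialIrr N : Cfsg.IrrCharacter N) : N → ℂ) ≠ 0 := by
    have h1 := irr_classInner_self (trivialIrr N).2
    intro h0
    have h2 : Cfsg.classInner (fun n : N => ((trivialIrr G : Cfsg.IrrCharacter G) : G → ℂ) n)
        ((trivialIrr N : Cfsg.IrrCharacter N) : N → ℂ) = 1 := h1
    rw [h2] at h0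
    exact one_ne_zero h0
  have hs : Cfsg.SameBlock M ((trivialIrr G : Cfsg.IrrCharacter G) : G → ℂ) (χ : G → ℂ) := hχ
  obtain ⟨g, hg⟩ := exists_conj_mem_of_sameBlock N hM (trivialIrr G) χ hs (trivialIrr N) ψ htriv hψ
  have hg' : Cfsg.SameBlock M ((trivialIrr N : Cfsg.IrrCharacter N) : N → ℂ)
      (conjIrr N ψ g : N → ℂ) := hg
  have h2 := sameBlock_conjIrr N hg' g⁻¹
  rw [conjIrr_inv_cancel] at h2
  exact h2

/-- (PART1c) an irreducible character over the trivial character of `N ⊴ G` has `N` in its kernel -/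
theorem apply_eq_one_of_over_trivial [Fintype G] (N : Subgroup G) [hN : N.Normal] (β : G → ℂ)
    (hβ : Cfsg.IsIrrCharacter G β)
    (h : Cfsg.classInner (Cfsg.indFun N (fun _ : N => (1 : ℂ))) β ≠ 0) : ∀ n ∈ N, β n = β 1 := by
  classical
  have := Fintype.ofFinite N
  rw [frobenius_reciprocity N _ β (isClassFunction_of_isCharacter (isCharacter_of_irr hβ))] at h
  have hconst : Cfsg.classInner (fun n : N => β n) (fun _ : N => (1 : ℂ)) ≠ 0 := by
    rw [← classInner_conj_symm]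
    intro h0
    exact h ((map_eq_zero _).mp h0)
  have h1 := Cfsg.Agent.S0174.result N hN β hβ (fun _ : N => (1 : ℂ))
    Cfsg.Agent.Lib.H24.isIrrCharacter_one hconst
  have hS : {ψ : N → ℂ | ∃ g : G, ψ = fun n : N =>
      (fun _ : N => (1 : ℂ)) ⟨g * n * g⁻¹, hN.conj_mem n n.2 g⟩} = {fun _ : N => (1 : ℂ)} := by
    ext ψ
    constructor
    · rintro ⟨g, rfl⟩
      rfl
    · intro hψ
      exact ⟨1, hψ⟩
  rw [hS, finsum_mem_singleton] at h1
  intro n hn
  have h2 := congrFun h1 ⟨n, hn⟩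
  have h3 := congrFun h1 1
  simp only [Pi.smul_apply, smul_eq_mul, mul_one] at h2 h3
  rw [h2]
  exact h3.symm

/-- (PART1d) a character of `G/N` congruent to its degree on a set of coset representatives is trivial
when `p ∤ |G : N|` -/
theorem quotient_char_trivial (hM : Cfsg.IsPModular p M) (N : Subgroup G) [N.Normal]
    (hidx : ¬ p ∣ N.index) (C : Set G) (hcov : ∀ g : G, ∃ n ∈ N, ∃ z ∈ C, g = n * z)
    (β : G → ℂ) (hβ : Cfsg.IsIrrCharacter G β) (hker : ∀ n ∈ N, β n = β 1)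
    (hcong : ∀ z ∈ C, Cfsg.MemLocalIdeal M (β z / β 1 - 1)) : β = fun _ => 1 := by
  classical
  have hP := isPrime_of_isPModular hM
  have := Fintype.ofFinite (G ⧸ N)
  obtain ⟨βq, hβq⟩ := exists_deflation ⟨β, hβ⟩ N hker
  have hβq' : ∀ g : G, (βq : G ⧸ N → ℂ) (g : G ⧸ N) = β g := hβq
  by_cases htr : (βq : G ⧸ N → ℂ) = fun _ => 1
  · funext g
    rw [← hβq' g, htr]
  · exfalso
    have hsum := sum_irr_eq_zero βq htr
    have hmem : ∀ q : G ⧸ N, Cfsg.MemLocalIdeal M ((βq : G ⧸ N → ℂ) q / β 1 - 1) := by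
      intro q
      obtain ⟨g, rfl⟩ := QuotientGroup.mk_surjective q
      obtain ⟨n, hn, z, hz, rfl⟩ := hcov g
      have hq : ((n * z : G) : G ⧸ N) = (z : G ⧸ N) := by
        rw [QuotientGroup.mk_mul, (QuotientGroup.eq_one_iff n).mpr hn, one_mul]
      rw [hq, hβq' z]
      exact hcong z hz
    have h1 := memLocalIdeal_sum (M := M) Finset.univ
      (fun q : G ⧸ N => (βq : G ⧸ N → ℂ) q / β 1 - 1) (fun q _ => hmem q)
    rw [Finset.sum_sub_distrib, ← Finset.sum_div, hsum, zero_div, zero_sub, Finset.sum_const,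
      Finset.card_univ, nsmul_eq_mul, mul_one] at h1
    have h2 := memLocalIdeal_neg h1
    rw [neg_neg, ← Nat.card_eq_fintype_card, ← Subgroup.index_eq_card] at h2
    exact hidx ((natCast_memLocalIdeal_iff hM _).mp h2)

/-- `sSum p ⊤ f ≠ 0` puts the irreducible character `f` into the principal block of `G` -/
theorem mem_principalBlock_of_sSum_top (hM : Cfsg.IsPModular p M) (f : G → ℂ)
    (hf : Cfsg.IsIrrCharacter G f) (h0 : sSum p ⊤ f ≠ 0) :
    (⟨f, hf⟩ : Cfsg.IrrCharacter G) ∈ Cfsg.principalBlock M G := by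
  classical
  rw [Cfsg.Agent.Lib.H23.AD.br0 hM]
  intro h1
  apply h0
  rw [← h1]
  unfold sSum
  refine finsum_congr fun g => ?_
  by_cases hg : p ∣ orderOf g
  · simp [hg]
  · simp [hg]

/-- (PART1) every `χ ∈ B_0(G)` restricts to a member of `B_0(N)` -/
theorem restrict_principal (hM : Cfsg.IsPModular p M) (N : Subgroup G) [hN : N.Normal]
    (Q : Subgroup G) (hQN : Q ≤ N) (hQ : ¬ p ∣ Q.relIndex N)
    (hcov : ∀ g : G, ∃ n ∈ N, ∃ z ∈ Subgroup.centralizer (Q : Set G), g = n * z)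
    (hidx : ¬ p ∣ N.index)
    (hpart2 : ∀ θ : G → ℂ, Cfsg.IsIrrCharacter N (fun n : N => θ n) → sSum p N θ ≠ 0 →
      ∃ χ' : G → ℂ, Cfsg.IsIrrCharacter G χ' ∧ sSum p ⊤ χ' ≠ 0 ∧ ∀ n ∈ N, χ' n = θ n)
    (χ : G → ℂ) (hχ : Cfsg.IsIrrCharacter G χ) (hB : sSum p ⊤ χ ≠ 0) :
    Cfsg.IsIrrCharacter N (fun n : N => χ n) ∧ sSum p N χ ≠ 0 := by
  classical
  have := Fintype.ofFinite G
  have := Fintype.ofFinite N
  have hP := isPrime_of_isPModular hM
  have hp : p.Prime := prime_of_isPModular hM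
  have htop : ∀ f : G → ℂ, Cfsg.IsIrrCharacter G f →
      Cfsg.IsIrrCharacter (⊤ : Subgroup G) (fun y : (⊤ : Subgroup G) => f y) := by
    intro f hf
    exact isIrrCharacter_comp_of_surjective (Subgroup.topEquiv (G := G)).toMonoidHom
      (Subgroup.topEquiv (G := G)).surjective hf
  have hQtop : ¬ p ∣ Q.relIndex ⊤ := by
    rw [Subgroup.relIndex_top_right, ← Subgroup.relIndex_mul_index hQN]
    intro hd
    rcases (Nat.Prime.dvd_mul hp).mp hd with h | h
    · exact hQ h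
    · exact hidx h
  -- a constituent `ψ` of `χ|_N` in `B_0(N)`
  have hχB := mem_principalBlock_of_sSum_top hM χ hχ hB
  obtain ⟨ψ, hψ⟩ := exists_constituent_restrict N (⟨χ, hχ⟩ : Cfsg.IrrCharacter G)
  have hψB := constituent_mem_principal hM N ⟨χ, hχ⟩ hχB ψ hψ
  -- transport `ψ` to a function on `G`
  obtain ⟨θ, hθdef⟩ : ∃ θ : G → ℂ, ∀ n : N, θ n = (ψ : N → ℂ) n :=
    ⟨fun g => if h : g ∈ N then (ψ : N → ℂ) ⟨g, h⟩ else 0, fun n => by simp⟩
  have hθN : (fun n : N => θ n) = (ψ : N → ℂ) := funext hθdef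
  have hθirr : Cfsg.IsIrrCharacter N (fun n : N => θ n) := by rw [hθN]; exact ψ.2
  have hθB : sSum p N θ ≠ 0 := by
    rw [← Cfsg.Agent.Lib.H23.AD.br hM N θ hθirr]
    have e : (⟨fun y : N => θ y, hθirr⟩ : Cfsg.IrrCharacter N) = ψ := Subtype.ext hθN
    rw [e]
    exact hψB
  obtain ⟨χ', hχ', hB', hext⟩ := hpart2 θ hθirr hθB
  have hext' : ∀ n : N, χ' n = (ψ : N → ℂ) n := fun n => (hext n n.2).trans (hθdef n)
  -- Gallagher
  have hcf' := isClassFunction_of_isCharacter (isCharacter_of_irr hχ')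
  have hψinv : ∀ (g : G) (n : N), (ψ : N → ℂ) ⟨g * n * g⁻¹, hN.conj_mem (n : G) n.2 g⟩ =
      (ψ : N → ℂ) n := by
    intro g n
    rw [← hext' n, ← hext' ⟨g * n * g⁻¹, hN.conj_mem (n : G) n.2 g⟩]
    exact hcf' (n : G) g
  have h1ψ : ((fun _ : N => (1 : ℂ)) * (ψ : N → ℂ)) = (ψ : N → ℂ) := by
    funext n
    simp
  have hbij := Cfsg.Agent.S0856.result N (fun _ : N => (1 : ℂ)) (ψ : N → ℂ)
    Cfsg.Agent.Lib.H24.isIrrCharacter_one ψ.2 (fun _ _ => rfl) hψinv (by rw [h1ψ]; exact ψ.2)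
    χ' hχ' hext'
  have hχmem : χ ∈ {ψ' : G → ℂ | Cfsg.IsIrrCharacter G ψ' ∧
      Cfsg.classInner (Cfsg.indFun N ((fun _ : N => (1 : ℂ)) * (ψ : N → ℂ))) ψ' ≠ 0} := by
    refine ⟨hχ, ?_⟩
    rw [h1ψ, frobenius_reciprocity N _ χ (isClassFunction_of_isCharacter (isCharacter_of_irr hχ)),
      ← classInner_conj_symm]
    intro h0
    exact hψ ((map_eq_zero _).mp h0)
  obtain ⟨β, ⟨hβirr, hβind⟩, hβχ⟩ := hbij.surjOn hχmem
  have hβχ' : ∀ g : G, χ g = β g * χ' g := by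
    intro g
    rw [← hβχ]
    rfl
  have hker := apply_eq_one_of_over_trivial N β hβirr hβind
  -- `β(z)/β(1) ≡ 1` on `C_G(Q)`
  have hβ1 : β 1 ≠ 0 := irr_one_ne_zero ⟨β, hβirr⟩
  have hχ'1 : χ' 1 ≠ 0 := irr_one_ne_zero ⟨χ', hχ'⟩
  have hcong : ∀ z ∈ Subgroup.centralizer (Q : Set G), Cfsg.MemLocalIdeal M (β z / β 1 - 1) := by
    intro z hz
    have ha := Cfsg.Agent.Lib.H23.AD.cc hM ⊤ χ (htop χ hχ) hB Q le_top hQtop z (Subgroup.mem_top z) hz
    have hb := Cfsg.Agent.Lib.H23.AD.cc hM ⊤ χ' (htop χ' hχ') hB' Q le_top hQtop z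
      (Subgroup.mem_top z) hz
    have hbR : Cfsg.MemLocalRing M (χ' z / χ' 1) := by
      have h1 := memLocalRing_add (memLocalRing_of_memLocalIdeal hb) (memLocalRing_one hP.ne_top)
      rwa [sub_add_cancel] at h1
    have hbU : ¬ Cfsg.MemLocalIdeal M (χ' z / χ' 1) := by
      intro h1
      have h2 := memLocalIdeal_sub h1 hb
      rw [sub_sub_cancel] at h2
      exact not_memLocalIdeal_one h2
    have hb0 : χ' z / χ' 1 ≠ 0 := ne_zero_of_not_memLocalIdeal hbU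
    have hinv := memLocalRing_inv hbR hbU
    have h3 := memLocalIdeal_mul_right (memLocalIdeal_sub ha hb) hinv
    have h4 : (χ z / χ 1 - 1 - (χ' z / χ' 1 - 1)) * (χ' z / χ' 1)⁻¹ = β z / β 1 - 1 := by
      rw [hβχ' z, hβχ' 1]
      have hz0 : χ' z ≠ 0 := fun h => hb0 (by rw [h, zero_div])
      field_simp
      ring
    rwa [h4] at h3
  have hβtriv := quotient_char_trivial hM N hidx (Subgroup.centralizer (Q : Set G)) hcov β hβirr
    hker hcong
  have hχeq : ∀ g : G, χ g = χ' g := by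
    intro g
    rw [hβχ' g, hβtriv, one_mul]
  have hχN : (fun n : N => χ n) = (ψ : N → ℂ) := by
    funext n
    rw [hχeq n, hext' n]
  refine ⟨by rw [hχN]; exact ψ.2, ?_⟩
  rw [Cfsg.Agent.Lib.H6.AD.sSum_congr_on (p := p) N χ θ (fun g hg => by
    rw [hχeq g, hext g hg])]
  exact hθB

end Cfsg.Agent.Lib.H6.AP
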