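/-
S5634 farm-out (architect helper14), task **B1** `exists_root_of_not_stab`:
a subgroup `M ≥ Stab(blocks) ∩ SL` containing an element outside the block stabiliser contains a
full root subgroup `{1 + w (cψ)ᵀ}` whose centre `w` has two non-zero block components.
-/
import Cfsg.Agent.Lib.H14.C2Defs

set_option autoImplicit false
set_option linter.unusedSectionVars false
set_option linter.unusedVariables false

namespace Cfsg.Agent.Lib.H6.C2

open Matrix Cfsg.Agent.Lib.H14.C2

variable {ι : Type} [Fintype ι] [DecidableEq ι] {F : Type*} [Field F]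

/-! ### Transvections `1 + a φᵀ` -/

theorem vmv_sq (a φ : ι → F) (h : φ ⬝ᵥ a = 0) : vecMulVec a φ * vecMulVec a φ = 0 := by
  rw [vecMulVec_mul_vecMulVec, h, zero_smul]
  ext i j
  simp [vecMulVec_apply]

/-- the transvection `1 + a φᵀ` (`φ · a = 0`) as an element of `GL` -/
def tau (a φ : ι → F) (h : φ ⬝ᵥ a = 0) : GL ι F where
  val := 1 + vecMulVec a φ
  inv := 1 - vecMulVec a φ
  val_inv := by
    have h2 := vmv_sq a φ h
    calc (1 + vecMulVec a φ) * (1 - vecMulVec a φ)
        = 1 - vecMulVec a φ * vecMulVec a φ := by noncomm_ring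
      _ = 1 := by rw [h2, sub_zero]
  inv_val := by
    have h2 := vmv_sq a φ h
    calc (1 - vecMulVec a φ) * (1 + vecMulVec a φ)
        = 1 - vecMulVec a φ * vecMulVec a φ := by noncomm_ring
      _ = 1 := by rw [h2, sub_zero]

theorem tau_val (a φ : ι → F) (h : φ ⬝ᵥ a = 0) :
    ((tau a φ h : GL ι F) : Matrix ι ι F) = 1 + vecMulVec a φ := rfl

theorem tau_inv_val (a φ : ι → F) (h : φ ⬝ᵥ a = 0) :
    (((tau a φ h)⁻¹ : GL ι F) : Matrix ι ι F) = 1 - vecMulVec a φ := rfl

theorem tau_det (a φ : ι → F) (h : φ ⬝ᵥ a = 0) :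
    ((tau a φ h : GL ι F) : Matrix ι ι F).det = 1 := by
  rw [tau_val, vecMulVec_eq Unit, det_one_add_replicateCol_mul_replicateRow, h, add_zero]

theorem one_add_vmv_mulVec (a φ v : ι → F) :
    (1 + vecMulVec a φ) *ᵥ v = v + (φ ⬝ᵥ v) • a := by
  ext p
  rw [add_mulVec, one_mulVec, Pi.add_apply, Pi.add_apply, Pi.smul_apply, smul_eq_mul]
  congr 1
  simp only [mulVec, dotProduct, vecMulVec_apply]
  rw [Finset.sum_mul]
  apply Finset.sum_congr rfl
  intro x _
  ring

theorem one_sub_vmv_mulVec (a φ v : ι → F) :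
    (1 - vecMulVec a φ) *ᵥ v = v - (φ ⬝ᵥ v) • a := by
  ext p
  rw [sub_mulVec, one_mulVec, Pi.sub_apply, Pi.sub_apply, Pi.smul_apply, smul_eq_mul]
  congr 1
  simp only [mulVec, dotProduct, vecMulVec_apply]
  rw [Finset.sum_mul]
  apply Finset.sum_congr rfl
  intro x _
  ring

/-! ### Blocks -/

variable {t m : ℕ}

/-- an invertible matrix mapping every block into itself, together with its inverse, stabilises
the block decomposition -/
theorem mem_blockStab_of_maps (g : GL (Fin t × Fin m) F)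
    (h1 : ∀ k, ∀ v ∈ stdD (F := F) t m k,
      (g : Matrix (Fin t × Fin m) (Fin t × Fin m) F) *ᵥ v ∈ stdD (F := F) t m k)
    (h2 : ∀ k, ∀ v ∈ stdD (F := F) t m k,
      ((g⁻¹ : GL (Fin t × Fin m) F) : Matrix (Fin t × Fin m) (Fin t × Fin m) F) *ᵥ v ∈
        stdD (F := F) t m k) :
    g ∈ blockStab t m F := by
  refine ⟨1, fun k => ?_⟩
  rw [Equiv.Perm.coe_one, id]
  apply le_antisymm
  · rintro _ ⟨v, hv, rfl⟩
    rw [Matrix.toLin'_apply]
    exact h1 k v hv
  · intro v hv
    refine ⟨((g⁻¹ : GL (Fin t × Fin m) F) : Matrix (Fin t × Fin m) (Fin t × Fin m) F) *ᵥ v, h2 k v hv, ?_⟩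
    rw [Matrix.toLin'_apply, Matrix.mulVec_mulVec, ← Units.val_mul, mul_inv_cancel, Units.val_one,
      Matrix.one_mulVec]

theorem dot_eq_zero_of_blocks {i k : Fin t} (hik : k ≠ i) (φ v : Fin t × Fin m → F)
    (hφ : ∀ p : Fin t × Fin m, p.1 ≠ i → φ p = 0) (hv : v ∈ stdD (F := F) t m k) :
    φ ⬝ᵥ v = 0 := by
  rw [dotProduct]
  apply Finset.sum_eq_zero
  intro p _
  by_cases hp : p.1 = i
  · have : p.1 ≠ k := by rw [hp]; exact fun h => hik h.symm
    rw [(mem_stdD k v).1 hv p this, mul_zero]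
  · rw [hφ p hp, zero_mul]

/-- an in-block transvection lies in the block stabiliser -/
theorem tau_mem_blockStab (i : Fin t) (a φ : Fin t × Fin m → F) (h : φ ⬝ᵥ a = 0)
    (ha : a ∈ stdD (F := F) t m i) (hφ : ∀ p : Fin t × Fin m, p.1 ≠ i → φ p = 0) :
    tau a φ h ∈ blockStab t m F := by
  apply mem_blockStab_of_maps
  · intro k v hv
    rw [tau_val, one_add_vmv_mulVec]
    by_cases hki : k = i
    · subst hki
      exact (stdD (F := F) t m k).add_mem hv ((stdD (F := F) t m k).smul_mem _ ha)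
    · rw [dot_eq_zero_of_blocks hki φ v hφ hv, zero_smul, add_zero]
      exact hv
  · intro k v hv
    rw [tau_inv_val, one_sub_vmv_mulVec]
    by_cases hki : k = i
    · subst hki
      exact (stdD (F := F) t m k).sub_mem hv ((stdD (F := F) t m k).smul_mem _ ha)
    · rw [dot_eq_zero_of_blocks hki φ v hφ hv, zero_smul, sub_zero]
      exact hv

/-- the component of `v` in block `k` -/
def blk (k : Fin t) (v : Fin t × Fin m → F) : Fin t × Fin m → F :=
  fun p => if p.1 = k then v p else 0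

theorem blk_mem (k : Fin t) (v : Fin t × Fin m → F) : blk k v ∈ stdD (F := F) t m k := by
  intro p hp
  show (if p.1 = k then v p else 0) = 0
  rw [if_neg hp]

theorem sum_blk (v : Fin t × Fin m → F) : ∑ k, blk k v = v := by
  funext p
  rw [Finset.sum_apply]
  show ∑ k, (if p.1 = k then v p else 0) = v p
  rw [Finset.sum_ite_eq Finset.univ p.1 (fun _ => v p)]
  simp

theorem blk_of_mem {k : Fin t} {v : Fin t × Fin m → F} (hv : v ∈ stdD (F := F) t m k) :
    blk k v = v := by
  funext p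
  show (if p.1 = k then v p else 0) = v p
  by_cases hp : p.1 = k
  · rw [if_pos hp]
  · rw [if_neg hp, (mem_stdD k v).1 hv p hp]

theorem gl_mulVec_eq_zero (g : GL ι F) {v : ι → F} (h : (g : Matrix ι ι F) *ᵥ v = 0) : v = 0 := by
  have h1 := congrArg (fun w => ((g⁻¹ : GL ι F) : Matrix ι ι F) *ᵥ w) h
  simp only [Matrix.mulVec_mulVec, ← Units.val_mul, inv_mul_cancel, Units.val_one,
    Matrix.one_mulVec, Matrix.mulVec_zero] at h1
  exact h1

/-- an invertible matrix mapping every vector of every block to a vector supported in one block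
stabilises the block decomposition -/
theorem mem_blockStab_of_single_block (hm : 0 < m) (g : GL (Fin t × Fin m) F)
    (hsingle : ∀ i, ∀ a ∈ stdD (F := F) t m i, ∀ p p' : Fin t × Fin m,
      ((g : Matrix (Fin t × Fin m) (Fin t × Fin m) F) *ᵥ a) p ≠ 0 →
      ((g : Matrix (Fin t × Fin m) (Fin t × Fin m) F) *ᵥ a) p' ≠ 0 → p.1 = p'.1) :
    g ∈ blockStab t m F := by
  classical
  set gm : Matrix (Fin t × Fin m) (Fin t × Fin m) F := (g : Matrix (Fin t × Fin m) (Fin t × Fin m) F) with hgm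
  -- the base vector of block `i`
  let b : Fin t → (Fin t × Fin m → F) := fun i => Pi.single (i, ⟨0, hm⟩) 1
  have hb : ∀ i, b i ∈ stdD (F := F) t m i := by
    intro i p hp
    show (Pi.single (i, (⟨0, hm⟩ : Fin m)) (1 : F) : Fin t × Fin m → F) p = 0
    rw [Pi.single_eq_of_ne]
    intro h
    apply hp
    rw [h]
  have hb0 : ∀ i, b i ≠ 0 := by
    intro i h
    have := congrFun h (i, ⟨0, hm⟩)
    simp [b] at this
  have hgb : ∀ i, ∃ p, (gm *ᵥ b i) p ≠ 0 := by
    intro i
    by_contra hcon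
    push Not at hcon
    exact hb0 i (gl_mulVec_eq_zero g (funext hcon))
  choose pb hpb using hgb
  let σ₀ : Fin t → Fin t := fun i => (pb i).1
  -- `g` maps block `i` into block `σ₀ i`
  have hmap : ∀ i, ∀ a ∈ stdD (F := F) t m i, gm *ᵥ a ∈ stdD (F := F) t m (σ₀ i) := by
    intro i a ha p hp
    by_contra hne
    have hbp : (gm *ᵥ b i) p = 0 := by
      by_contra hne'
      exact hp (hsingle i (b i) (hb i) p (pb i) hne' (hpb i))
    have hap : (gm *ᵥ a) (pb i) = 0 := by
      by_contra hne'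
      exact hp (hsingle i a ha p (pb i) hne hne')
    have hab : a + b i ∈ stdD (F := F) t m i := (stdD t m i).add_mem ha (hb i)
    have h1 : (gm *ᵥ (a + b i)) p ≠ 0 := by
      rw [Matrix.mulVec_add, Pi.add_apply, hbp, add_zero]
      exact hne
    have h2 : (gm *ᵥ (a + b i)) (pb i) ≠ 0 := by
      rw [Matrix.mulVec_add, Pi.add_apply, hap, zero_add]
      exact hpb i
    exact hp (hsingle i (a + b i) hab p (pb i) h1 h2)
  -- decomposition of `g u`
  have hsum : ∀ u : Fin t × Fin m → F, gm *ᵥ u = ∑ k, gm *ᵥ blk k u := by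
    intro u
    conv_lhs => rw [← sum_blk u]
    rw [Matrix.mulVec_sum]
  -- surjectivity of `σ₀`
  have hsurj : Function.Surjective σ₀ := by
    intro j
    set u : Fin t × Fin m → F :=
      ((g⁻¹ : GL (Fin t × Fin m) F) : Matrix (Fin t × Fin m) (Fin t × Fin m) F) *ᵥ (Pi.single (j, ⟨0, hm⟩) 1) with hu
    have hgu : gm *ᵥ u = Pi.single (j, ⟨0, hm⟩) 1 := by
      rw [hu, hgm, Matrix.mulVec_mulVec, ← Units.val_mul, mul_inv_cancel, Units.val_one,
        Matrix.one_mulVec]
    have h1 : (gm *ᵥ u) (j, ⟨0, hm⟩) = 1 := by rw [hgu]; simp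
    rw [hsum u, Finset.sum_apply] at h1
    obtain ⟨k, -, hk⟩ : ∃ k ∈ (Finset.univ : Finset (Fin t)),
        (gm *ᵥ blk k u) (j, ⟨0, hm⟩) ≠ 0 := by
      by_contra hcon
      push Not at hcon
      rw [Finset.sum_eq_zero hcon] at h1
      exact zero_ne_one h1
    refine ⟨k, ?_⟩
    by_contra hne
    apply hk
    exact hmap k (blk k u) (blk_mem k u) (j, ⟨0, hm⟩) (fun h => hne h.symm)
  have hinj : Function.Injective σ₀ := Finite.injective_iff_surjective.2 hsurj
  have hbij : Function.Bijective σ₀ := ⟨hinj, hsurj⟩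
  refine ⟨Equiv.ofBijective σ₀ hbij, fun i => ?_⟩
  show Submodule.map (toLin' (g : Matrix (Fin t × Fin m) (Fin t × Fin m) F)) (stdD t m i) =
    stdD t m (σ₀ i)
  apply le_antisymm
  · rintro _ ⟨a, ha, rfl⟩
    rw [Matrix.toLin'_apply]
    exact hmap i a ha
  · intro v hv
    set u : Fin t × Fin m → F := ((g⁻¹ : GL (Fin t × Fin m) F) : Matrix (Fin t × Fin m) (Fin t × Fin m) F) *ᵥ v with hu
    have hgu : gm *ᵥ u = v := by
      rw [hu, hgm, Matrix.mulVec_mulVec, ← Units.val_mul, mul_inv_cancel, Units.val_one,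
        Matrix.one_mulVec]
    have hk0 : ∀ k, k ≠ i → blk k u = 0 := by
      intro k hki
      apply gl_mulVec_eq_zero g
      funext p
      rw [Pi.zero_apply]
      by_cases hp : p.1 = σ₀ k
      · have hvp : v p = 0 := by
          apply (mem_stdD (σ₀ i) v).1 hv p
          rw [hp]
          exact fun h => hki (hinj h)
        rw [← hgu, hsum u, Finset.sum_apply] at hvp
        rw [Finset.sum_eq_single k] at hvp
        · exact hvp
        · intro k' _ hk'
          apply hmap k' (blk k' u) (blk_mem k' u) p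
          rw [hp]
          exact fun h => hk' (hinj h).symm
        · intro h
          exact absurd (Finset.mem_univ k) h
      · exact hmap k (blk k u) (blk_mem k u) p hp
    have hui : u = blk i u := by
      conv_lhs => rw [← sum_blk u]
      rw [Finset.sum_eq_single i]
      · intro k _ hk
        exact hk0 k hk
      · intro h
        exact absurd (Finset.mem_univ i) h
    refine ⟨u, ?_, ?_⟩
    · rw [hui]
      exact blk_mem i u
    · rw [Matrix.toLin'_apply]
      exact hgu


/-- **B1** (the conclusion `RootIn M w ψ` of the blueprint is unfolded) -/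
theorem exists_root_of_not_stab [Fintype F] (t m : ℕ) (hm : 2 ≤ m) (ht : 2 ≤ t)
    (M : Subgroup (GL (Fin t × Fin m) F))
    (hHM : blockStab t m F ⊓ Cfsg.Geo.specialLinear (Fin t × Fin m) F ≤ M)
    (g : GL (Fin t × Fin m) F) (hg : g ∈ M) (hgs : g ∉ blockStab t m F) :
    ∃ w ψ : Fin t × Fin m → F, ψ ⬝ᵥ w = 0 ∧ ψ ≠ 0 ∧
      (∀ c : F, ∃ x ∈ M, (x : Matrix (Fin t × Fin m) (Fin t × Fin m) F) =
        1 + Matrix.vecMulVec w (c • ψ)) ∧
      ∃ p p' : Fin t × Fin m, p.1 ≠ p'.1 ∧ w p ≠ 0 ∧ w p' ≠ 0 := by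
  classical
  set gm : Matrix (Fin t × Fin m) (Fin t × Fin m) F := (g : Matrix (Fin t × Fin m) (Fin t × Fin m) F) with hgm
  set gi : Matrix (Fin t × Fin m) (Fin t × Fin m) F :=
    ((g⁻¹ : GL (Fin t × Fin m) F) : Matrix (Fin t × Fin m) (Fin t × Fin m) F) with hgi
  have hgig : gi * gm = 1 := by
    rw [hgi, hgm, ← Units.val_mul, inv_mul_cancel, Units.val_one]
  -- a vector of a block whose image has two non-zero block components
  obtain ⟨i, a, ha, p, p', hp1, hp2, hpp⟩ : ∃ (i : Fin t) (a : Fin t × Fin m → F),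
      a ∈ stdD (F := F) t m i ∧ ∃ p p' : Fin t × Fin m, (gm *ᵥ a) p ≠ 0 ∧ (gm *ᵥ a) p' ≠ 0 ∧
        p.1 ≠ p'.1 := by
    by_contra hcon
    apply hgs
    apply mem_blockStab_of_single_block (by omega) g
    intro i a ha p p' hp hp'
    by_contra hne
    exact hcon ⟨i, a, ha, p, p', hp, hp', hne⟩
  -- a functional of block `i` vanishing on `a`
  let k₁ : Fin t × Fin m := (i, ⟨0, by omega⟩)
  let k₂ : Fin t × Fin m := (i, ⟨1, by omega⟩)
  have hk12 : k₁ ≠ k₂ := by
    intro h
    have := congrArg (fun q : Fin t × Fin m => (q.2 : ℕ)) h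
    simp [k₁, k₂] at this
  obtain ⟨φ, hφa, hφ0, hφs⟩ : ∃ φ : Fin t × Fin m → F, φ ⬝ᵥ a = 0 ∧ φ ≠ 0 ∧
      ∀ q : Fin t × Fin m, q.1 ≠ i → φ q = 0 := by
    by_cases h1 : a k₁ = 0
    · refine ⟨Pi.single k₁ 1, ?_, ?_, ?_⟩
      · rw [single_one_dotProduct]
        exact h1
      · intro h
        have := congrFun h k₁
        simp at this
      · intro q hq
        rw [Pi.single_eq_of_ne]
        intro h
        apply hq
        rw [h]
    · refine ⟨a k₂ • Pi.single k₁ 1 - a k₁ • Pi.single k₂ 1, ?_, ?_, ?_⟩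
      · rw [sub_dotProduct, smul_dotProduct, smul_dotProduct, single_one_dotProduct,
          single_one_dotProduct, smul_eq_mul, smul_eq_mul]
        ring
      · intro h
        have := congrFun h k₂
        simp only [Pi.sub_apply, Pi.smul_apply, Pi.zero_apply, smul_eq_mul] at this
        rw [Pi.single_eq_of_ne hk12.symm, Pi.single_eq_same, mul_zero, mul_one, zero_sub,
          neg_eq_zero] at this
        exact h1 this
      · intro q hq
        have hq1 : q ≠ k₁ := by
          intro h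
          apply hq
          rw [h]
        have hq2 : q ≠ k₂ := by
          intro h
          apply hq
          rw [h]
        simp only [Pi.sub_apply, Pi.smul_apply, smul_eq_mul]
        rw [Pi.single_eq_of_ne hq1, Pi.single_eq_of_ne hq2, mul_zero, mul_zero, sub_zero]
  refine ⟨gm *ᵥ a, φ ᵥ* gi, ?_, ?_, ?_, p, p', hpp, hp1, hp2⟩
  · rw [← Matrix.dotProduct_mulVec, Matrix.mulVec_mulVec, hgig, Matrix.one_mulVec]
    exact hφa
  · intro h
    apply hφ0
    have h1 := congrArg (fun w => w ᵥ* gm) h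
    simp only [Matrix.vecMul_vecMul, hgig, Matrix.vecMul_one, Matrix.zero_vecMul] at h1
    exact h1
  · intro c
    have hc : (c • φ) ⬝ᵥ a = 0 := by rw [smul_dotProduct, hφa, smul_zero]
    have hτ : tau a (c • φ) hc ∈ M := by
      apply hHM
      refine ⟨tau_mem_blockStab i a (c • φ) hc ha ?_, ?_⟩
      · intro q hq
        rw [Pi.smul_apply, hφs q hq, smul_zero]
      · exact (mem_sl_iff _).2 (tau_det a (c • φ) hc)
    refine ⟨g * tau a (c • φ) hc * g⁻¹, M.mul_mem (M.mul_mem hg hτ) (M.inv_mem hg), ?_⟩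
    rw [Units.val_mul, Units.val_mul, tau_val, ← hgm, ← hgi, Matrix.mul_add, Matrix.add_mul,
      Matrix.mul_one, Matrix.mul_vecMulVec, Matrix.vecMulVec_mul, Matrix.smul_vecMul]
    congr 1
    rw [hgm, hgi, ← Units.val_mul, mul_inv_cancel, Units.val_one]

end Cfsg.Agent.Lib.H6.C2
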