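import Mathlib

namespace Cfsg.Agent.Lib.H6.DX

open scoped commutatorElement

section Square

variable {C : Type*} [Group C]

theorem comm_mem_center_of_class2 (h2 : commutator C ≤ Subgroup.center C) (a b : C) :
    ⁅a, b⁆ ∈ Subgroup.center C :=
  h2 (Subgroup.commutator_mem_commutator (Subgroup.mem_top a) (Subgroup.mem_top b))

/-- commutator is multiplicative in the 2nd variable when commutators are central -/
theorem comm_mul_right_of_class2 (h2 : commutator C ≤ Subgroup.center C) (a b c : C) :
    ⁅a, b * c⁆ = ⁅a, b⁆ * ⁅a, c⁆ := by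
  have hc := comm_mem_center_of_class2 h2 a c
  have h1 : ⁅a, b * c⁆ = ⁅a, b⁆ * (b * ⁅a, c⁆ * b⁻¹) := by
    simp only [commutatorElement_def]; group
  rw [h1, Subgroup.mem_center_iff.mp hc b]
  group

theorem comm_mul_left_of_class2 (h2 : commutator C ≤ Subgroup.center C) (a b c : C) :
    ⁅a * b, c⁆ = ⁅a, c⁆ * ⁅b, c⁆ := by
  have hc := comm_mem_center_of_class2 h2 b c
  have h1 : ⁅a * b, c⁆ = (a * ⁅b, c⁆ * a⁻¹) * ⁅a, c⁆ := by
    simp only [commutatorElement_def]; group
  rw [h1, Subgroup.mem_center_iff.mp hc a]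
  have h3 := Subgroup.mem_center_iff.mp hc ⁅a, c⁆
  rw [mul_inv_cancel_right, ← h3]

/-- the commutator pairing composed with a character of the centre, as a homomorphism
`C →* (M →* ℂˣ)` for a commutative group `M` mapping to `C`. -/
noncomputable def pairingHom (h2 : commutator C ≤ Subgroup.center C)
    (ι : ↥(Subgroup.center C) →* ℂˣ) {A : Type*} [CommGroup A] (j : A →* C) :
    C →* (A →* ℂˣ) where
  toFun c :=
    { toFun := fun m => ι ⟨⁅c, j m⁆, comm_mem_center_of_class2 h2 c (j m)⟩
      map_one' := by
        have : (⟨⁅c, j 1⁆, comm_mem_center_of_class2 h2 c (j 1)⟩ : ↥(Subgroup.center C)) = 1 := by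
          apply Subtype.ext; simp
        rw [this, map_one]
      map_mul' := fun m₁ m₂ => by
        rw [← map_mul]
        congr 1
        apply Subtype.ext
        simp only [map_mul, Subgroup.coe_mul]
        exact comm_mul_right_of_class2 h2 c (j m₁) (j m₂) }
  map_one' := by
    ext m
    simp only [MonoidHom.coe_mk, OneHom.coe_mk, commutatorElement_one_left, MonoidHom.one_apply]
    exact congrArg Units.val (map_one ι)
  map_mul' := fun c₁ c₂ => by
    ext m
    simp only [MonoidHom.coe_mk, OneHom.coe_mk, MonoidHom.mul_apply]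
    rw [← map_mul]
    congr 2
    apply Subtype.ext
    simp only [Subgroup.coe_mul]
    exact comm_mul_left_of_class2 h2 c₁ c₂ (j m)

theorem pairingHom_apply (h2 : commutator C ≤ Subgroup.center C)
    (ι : ↥(Subgroup.center C) →* ℂˣ) {A : Type*} [CommGroup A] (j : A →* C) (c : C) (m : A) :
    pairingHom h2 ι j c m = ι ⟨⁅c, j m⁆, comm_mem_center_of_class2 h2 c (j m)⟩ := rfl

theorem index_range_eq_of_selfCentralizing [Finite C] (h2 : commutator C ≤ Subgroup.center C)
    (ι : ↥(Subgroup.center C) →* ℂˣ) (hι : Function.Injective ι) {A : Type*} [CommGroup A]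
    [Finite A] (j : A →* C)
    (hcent : Subgroup.centralizer (j.range : Set C) ≤ j.range) :
    j.range.index = ((Subgroup.center C).comap j).index := by
  have hone : ∀ (c : C) (m : A), pairingHom h2 ι j c m = 1 ↔ ⁅c, j m⁆ = 1 := by
    intro c m
    rw [pairingHom_apply, ← map_one ι, hι.eq_iff, Subtype.ext_iff]
    rfl
  have hker : (pairingHom h2 ι j).ker = j.range := by
    ext c
    rw [MonoidHom.mem_ker]
    constructor
    · intro hc
      apply hcent
      rw [Subgroup.mem_centralizer_iff]
      rintro _ ⟨m, rfl⟩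
      have := (hone c m).mp (by rw [hc]; rfl)
      rw [commutatorElement_eq_one_iff_mul_comm] at this
      exact this.symm
    · rintro ⟨a, rfl⟩
      ext m
      have : pairingHom h2 ι j (j a) m = 1 := by
        rw [hone, commutatorElement_eq_one_iff_mul_comm, ← map_mul, ← map_mul, mul_comm]
      rw [this]; rfl
  have hcard : Nat.card (pairingHom h2 ι j).range = j.range.index := by
    rw [← hker, Subgroup.index_ker]
  have : NeZero (Monoid.exponent A) := ⟨Monoid.exponent_ne_zero_of_finite⟩
  have hann : (CommGroup.subgroupOrderIsoSubgroupMonoidHom A ℂ).symm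
      (OrderDual.toDual (pairingHom h2 ι j).range) = (Subgroup.center C).comap j := by
    ext m
    rw [CommGroup.mem_subgroupOrderIsoSubgroupMonoidHom_symm_iff, Subgroup.mem_comap,
      Subgroup.mem_center_iff]
    constructor
    · intro h c
      have := (hone c m).mp (h _ ⟨c, rfl⟩)
      rw [commutatorElement_eq_one_iff_mul_comm] at this
      exact this
    · rintro h _ ⟨c, rfl⟩
      rw [hone, commutatorElement_eq_one_iff_mul_comm]
      exact h c
  have h3 := CommGroup.card_subgroupOrderIsoSubgroupMonoidHom (M := ℂ)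
    ((CommGroup.subgroupOrderIsoSubgroupMonoidHom A ℂ).symm
      (OrderDual.toDual (pairingHom h2 ι j).range))
  rw [OrderIso.apply_symm_apply, OrderDual.ofDual_toDual, hann] at h3
  rw [← hcard, h3]
  rfl

theorem exists_injective_hom_of_isCyclic (Z : Type*) [Group Z] [Finite Z] [hZ : IsCyclic Z] :
    ∃ ι : Z →* ℂˣ, Function.Injective ι := by
  have : NeZero (Nat.card Z) := ⟨Nat.card_pos.ne'⟩
  have hord := HasEnoughRootsOfUnity.natCard_rootsOfUnity ℂ (Nat.card Z)
  let e : Z ≃* rootsOfUnity (Nat.card Z) ℂ := mulEquivOfCyclicCardEq hord.symm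
  exact ⟨(rootsOfUnity (Nat.card Z) ℂ).subtype.comp e.toMonoidHom,
    (Subgroup.subtype_injective _).comp e.injective⟩

variable [Finite C]

theorem exists_selfCentralizing_abelian :
    ∃ M : Subgroup C, (∀ a ∈ M, ∀ b ∈ M, a * b = b * a) ∧
      Subgroup.centralizer (M : Set C) ≤ M := by
  obtain ⟨M, -, hM⟩ := (Set.toFinite {M : Subgroup C | ∀ a ∈ M, ∀ b ∈ M, a * b = b * a}).exists_le_maximal
    (a := ⊥) (by
      intro a ha b hb
      rw [Subgroup.mem_bot] at ha hb
      rw [ha, hb])
  refine ⟨M, hM.prop, fun c hc => ?_⟩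
  rw [Subgroup.mem_centralizer_iff] at hc
  have hS : ∀ x ∈ insert c (M : Set C), ∀ y ∈ insert c (M : Set C), x * y = y * x := by
    intro x hx y hy
    rcases hx with rfl | hx <;> rcases hy with rfl | hy
    · rfl
    · exact (hc y hy).symm
    · exact hc x hx
    · exact hM.prop x hx y hy
  have hcl := Subgroup.isMulCommutative_closure hS
  have hle : M ≤ Subgroup.closure (insert c (M : Set C)) := fun x hx =>
    Subgroup.subset_closure (Set.mem_insert_of_mem _ hx)
  have hab : Subgroup.closure (insert c (M : Set C)) ∈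
      {M : Subgroup C | ∀ a ∈ M, ∀ b ∈ M, a * b = b * a} := fun a ha b hb =>
    setLike_mul_comm ha hb
  exact hM.le_of_ge hab hle (Subgroup.subset_closure (Set.mem_insert _ _))


open scoped IsMulCommutative in
/-- SQUARE -/
theorem isSquare_index_center {C : Type*} [Group C] [Finite C]
    (h2 : commutator C ≤ Subgroup.center C) (hcyc : IsCyclic (Subgroup.center C)) :
    IsSquare (Subgroup.center C).index := by
  obtain ⟨ι, hι⟩ := exists_injective_hom_of_isCyclic ↥(Subgroup.center C)
  obtain ⟨M, hMab, hMc⟩ := exists_selfCentralizing_abelian (C := C)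
  have hZM : Subgroup.center C ≤ M := (Subgroup.center_le_centralizer _).trans hMc
  have : IsMulCommutative ↥M := .of_setLike_mul_comm hMab
  have h := index_range_eq_of_selfCentralizing h2 ι hι M.subtype
    (by rw [Subgroup.range_subtype]; exact hMc)
  rw [Subgroup.range_subtype] at h
  have h' : M.index = (Subgroup.center C).relIndex M := h
  refine ⟨M.index, ?_⟩
  rw [← Subgroup.relIndex_mul_index hZM, ← h']

end Square

end Cfsg.Agent.Lib.H6.DX
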