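import Mathlib
import Cfsg.Agent.Lib.H6.TransvCent

set_option autoImplicit false

/-! Block structure of the centralizer of the transvection `T_01(1)` in `SL_{n+2}` (helper6). -/

namespace Cfsg.Agent.Lib.H6.TC2

open Cfsg Matrix
open Cfsg.Agent.Lib.H6.TransvCent

variable {F : Type*} [Field F] {n : ℕ}

theorem fin2_cases (k : Fin (n + 2)) : k = 0 ∨ k = 1 ∨ ∃ k' : Fin n, k = k'.succ.succ := by
  refine Fin.cases (Or.inl rfl) (fun k1 => ?_) k
  refine Fin.cases (Or.inr (Or.inl ?_)) (fun k2 => Or.inr (Or.inr ⟨k2, rfl⟩)) k1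
  exact Fin.succ_zero_eq_one

theorem sum_fin2 {M : Type*} [AddCommMonoid M] (φ : Fin (n + 2) → M) :
    ∑ k, φ k = φ 0 + φ 1 + ∑ k' : Fin n, φ k'.succ.succ := by
  rw [Fin.sum_univ_succ, Fin.sum_univ_succ, Fin.succ_zero_eq_one, ← add_assoc (φ 0)]

theorem ss_ne_zero (k : Fin n) : (k.succ.succ : Fin (n + 2)) ≠ 0 := Fin.succ_ne_zero _

theorem ss_ne_one (k : Fin n) : (k.succ.succ : Fin (n + 2)) ≠ 1 := by
  rw [← Fin.succ_zero_eq_one]
  intro h
  exact Fin.succ_ne_zero k (Fin.succ_injective _ h)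

theorem zero_ne_one' : (0 : Fin (n + 2)) ≠ 1 := by
  rw [← Fin.succ_zero_eq_one]
  exact (Fin.succ_ne_zero _).symm

theorem ss_inj {k l : Fin n} (h : (k.succ.succ : Fin (n + 2)) = l.succ.succ) : k = l :=
  Fin.succ_injective _ (Fin.succ_injective _ h)

/-- `[[1,0],[0,A]]` -/
def lift1 {m : ℕ} (A : Matrix (Fin m) (Fin m) F) : Matrix (Fin (m + 1)) (Fin (m + 1)) F :=
  Matrix.of (fun i j => Fin.cases (Fin.cases (1 : F) (fun _ => 0) j)
    (fun i' => Fin.cases (0 : F) (fun j' => A i' j') j) i)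

section lift1
variable {m : ℕ} (A B : Matrix (Fin m) (Fin m) F)

@[simp] theorem lift1_zero_zero : lift1 A 0 0 = 1 := rfl
@[simp] theorem lift1_zero_succ (j : Fin m) : lift1 A 0 j.succ = 0 := by simp [lift1]
@[simp] theorem lift1_succ_zero (i : Fin m) : lift1 A i.succ 0 = 0 := by simp [lift1]
@[simp] theorem lift1_succ_succ (i j : Fin m) : lift1 A i.succ j.succ = A i j := by simp [lift1]

theorem lift1_mul : lift1 (A * B) = lift1 A * lift1 B := by
  ext i j
  refine Fin.cases ?_ (fun i' => ?_) i <;> refine Fin.cases ?_ (fun j' => ?_) j <;>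
    simp [Matrix.mul_apply, Fin.sum_univ_succ]

theorem lift1_one : lift1 (1 : Matrix (Fin m) (Fin m) F) = 1 := by
  ext i j
  refine Fin.cases ?_ (fun i' => ?_) i <;> refine Fin.cases ?_ (fun j' => ?_) j
  · simp
  · simp [Matrix.one_apply_ne (Fin.succ_ne_zero j').symm]
  · simp [Matrix.one_apply_ne (Fin.succ_ne_zero i')]
  · simp [Matrix.one_apply, Fin.succ_inj]

end lift1

/-- expansion along a first column `(a,0,…,0)ᵀ` -/
theorem det_of_col_zero {m : ℕ} (M : Matrix (Fin (m + 1)) (Fin (m + 1)) F)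
    (h : ∀ i : Fin m, M i.succ 0 = 0) : M.det = M 0 0 * (M.submatrix Fin.succ Fin.succ).det := by
  rw [Matrix.det_succ_column_zero, Fin.sum_univ_succ]
  have : ∑ i : Fin m, (-1 : F) ^ (i.succ : ℕ) * M i.succ 0 *
      (M.submatrix i.succ.succAbove Fin.succ).det = 0 := by
    apply Finset.sum_eq_zero
    intro i _
    rw [h i, mul_zero, zero_mul]
  rw [this, add_zero]
  simp

/-- expansion along a first row `(a,0,…,0)` -/
theorem det_of_row_zero {m : ℕ} (M : Matrix (Fin (m + 1)) (Fin (m + 1)) F)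
    (h : ∀ j : Fin m, M 0 j.succ = 0) : M.det = M 0 0 * (M.submatrix Fin.succ Fin.succ).det := by
  rw [Matrix.det_succ_row_zero, Fin.sum_univ_succ]
  have : ∑ j : Fin m, (-1 : F) ^ (j.succ : ℕ) * M 0 j.succ *
      (M.submatrix Fin.succ j.succ.succAbove).det = 0 := by
    apply Finset.sum_eq_zero
    intro j _
    rw [h j, mul_zero, zero_mul]
  rw [this, add_zero]
  simp

theorem det_lift1 {m : ℕ} (A : Matrix (Fin m) (Fin m) F) : (lift1 A).det = A.det := by
  rw [det_of_col_zero _ (fun i => lift1_succ_zero A i), lift1_zero_zero, one_mul]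
  congr 1

/-- `diag(1,1,A)` -/
def blk2 (A : Matrix (Fin n) (Fin n) F) : Matrix (Fin (n + 2)) (Fin (n + 2)) F :=
  lift1 (lift1 A)

/-- the lower right `n × n` corner -/
def lr (g : Matrix (Fin (n + 2)) (Fin (n + 2)) F) : Matrix (Fin n) (Fin n) F :=
  Matrix.of fun k l => g k.succ.succ l.succ.succ

@[simp] theorem lr_apply (g : Matrix (Fin (n + 2)) (Fin (n + 2)) F) (k l : Fin n) :
    lr g k l = g k.succ.succ l.succ.succ := rfl

section blk2
variable (A B : Matrix (Fin n) (Fin n) F)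

theorem blk2_mul : blk2 (A * B) = blk2 A * blk2 B := by
  rw [blk2, lift1_mul, lift1_mul]; rfl

theorem blk2_one : blk2 (1 : Matrix (Fin n) (Fin n) F) = 1 := by
  rw [blk2, lift1_one, lift1_one]

theorem det_blk2 : (blk2 A).det = A.det := by
  rw [blk2, det_lift1, det_lift1]

@[simp] theorem lr_blk2 : lr (blk2 A) = A := by
  ext k l
  simp [blk2]

theorem blk2_col0 (k : Fin (n + 2)) : blk2 A k 0 = if k = 0 then 1 else 0 := by
  refine Fin.cases ?_ (fun k' => ?_) k
  · simp [blk2]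
  · rw [if_neg (Fin.succ_ne_zero _)]
    simp [blk2]

theorem blk2_row0 (l : Fin (n + 2)) : blk2 A 0 l = if l = 0 then 1 else 0 := by
  refine Fin.cases ?_ (fun l' => ?_) l
  · simp [blk2]
  · rw [if_neg (Fin.succ_ne_zero _)]
    simp [blk2]

theorem blk2_row1 (l : Fin (n + 2)) : blk2 A 1 l = if l = 1 then 1 else 0 := by
  rw [← Fin.succ_zero_eq_one]
  rcases fin2_cases l with rfl | rfl | ⟨l', rfl⟩
  · rw [if_neg (Fin.succ_ne_zero _).symm]
    exact lift1_succ_zero _ _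
  · rw [← Fin.succ_zero_eq_one, if_pos rfl]
    exact (lift1_succ_succ _ 0 0).trans (lift1_zero_zero A)
  · rw [if_neg (fun h => Fin.succ_ne_zero _ (Fin.succ_injective _ h))]
    exact (lift1_succ_succ _ 0 l'.succ).trans (lift1_zero_succ A l')

theorem blk2_col1 (k : Fin (n + 2)) : blk2 A k 1 = if k = 1 then 1 else 0 := by
  rw [← Fin.succ_zero_eq_one]
  rcases fin2_cases k with rfl | rfl | ⟨k', rfl⟩
  · rw [if_neg (Fin.succ_ne_zero _).symm]
    exact lift1_zero_succ _ _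
  · rw [← Fin.succ_zero_eq_one, if_pos rfl]
    exact (lift1_succ_succ _ 0 0).trans (lift1_zero_zero A)
  · rw [if_neg (fun h => Fin.succ_ne_zero _ (Fin.succ_injective _ h))]
    exact (lift1_succ_succ _ k'.succ 0).trans (lift1_succ_zero A k')

end blk2

theorem lr_mul (g h : Matrix (Fin (n + 2)) (Fin (n + 2)) F)
    (hg : ∀ k : Fin n, g k.succ.succ 0 = 0) (hh : ∀ l : Fin n, h 1 l.succ.succ = 0) :
    lr (g * h) = lr g * lr h := by
  ext k l
  rw [lr_apply, Matrix.mul_apply, sum_fin2, hg k, hh l, zero_mul, mul_zero, add_zero, zero_add,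
    Matrix.mul_apply]
  rfl

theorem lr_one : lr (1 : Matrix (Fin (n + 2)) (Fin (n + 2)) F) = 1 := by
  ext k l
  rw [lr_apply, Matrix.one_apply, Matrix.one_apply]
  by_cases h : k = l
  · rw [if_pos h, if_pos (by rw [h])]
  · rw [if_neg h, if_neg (fun h' => h (ss_inj h'))]

/-- the vector `e_0` -/
def e0 (F : Type*) [Field F] (n : ℕ) : Fin (n + 2) → F := Pi.single 0 1

/-- the covector `f_1` -/
def f1 (F : Type*) [Field F] (n : ℕ) : Fin (n + 2) → F := Pi.single 1 1

theorem f1_dot_e0 : f1 F n ⬝ᵥ e0 F n = 0 := by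
  rw [f1, e0, single_dotProduct, one_mul, Pi.single_apply, if_neg zero_ne_one'.symm]

theorem mem_Stab_iff_entries (g : SpecialLinearGroup (Fin (n + 2)) F) :
    g ∈ Stab (e0 F n) (f1 F n) ↔
      (∀ k, g.1 k 0 = if k = 0 then 1 else 0) ∧ (∀ l, g.1 1 l = if l = 1 then 1 else 0) := by
  constructor
  · intro h
    exact ⟨fun k => Stab_col h k, fun l => Stab_row h l⟩
  · rintro ⟨h1, h2⟩
    refine ⟨?_, ?_⟩
    · funext k
      rw [e0, mulVec_single_one, Pi.single_apply]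
      exact h1 k
    · funext l
      rw [f1, single_one_vecMul, Pi.single_apply]
      exact h2 l

theorem det_lr_of_mem {g : SpecialLinearGroup (Fin (n + 2)) F}
    (hg : g ∈ Stab (e0 F n) (f1 F n)) : (lr g.1).det = 1 := by
  obtain ⟨h1, h2⟩ := (mem_Stab_iff_entries g).1 hg
  have hd := g.2
  rw [det_of_col_zero g.1 (fun i => by rw [h1, if_neg (Fin.succ_ne_zero i)]), h1, if_pos rfl,
    one_mul] at hd
  rw [det_of_row_zero _ (fun j => by
      show g.1 (Fin.succ 0) j.succ.succ = 0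
      rw [Fin.succ_zero_eq_one, h2, if_neg (ss_ne_one j)])] at hd
  have h3 : (g.1.submatrix Fin.succ Fin.succ) 0 0 = 1 := by
    show g.1 (Fin.succ 0) (Fin.succ 0) = 1
    rw [Fin.succ_zero_eq_one, h2, if_pos rfl]
  rw [h3, one_mul] at hd
  exact hd

/-- the projection of the centralizer onto the Levi factor `SL_n` -/
def piHom (F : Type*) [Field F] (n : ℕ) :
    ↥(Stab (e0 F n) (f1 F n)) →* SpecialLinearGroup (Fin n) F where
  toFun g := (⟨lr g.1.1, det_lr_of_mem g.2⟩ : SpecialLinearGroup (Fin n) F)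
  map_one' := by
    apply Subtype.ext
    exact lr_one
  map_mul' g h := by
    apply Subtype.ext
    show lr (g.1.1 * h.1.1) = lr g.1.1 * lr h.1.1
    apply lr_mul
    · intro k
      rw [((mem_Stab_iff_entries g.1).1 g.2).1, if_neg (ss_ne_zero k)]
    · intro l
      rw [((mem_Stab_iff_entries h.1).1 h.2).2, if_neg (ss_ne_one l)]

theorem piHom_val (g : ↥(Stab (e0 F n) (f1 F n))) : (piHom F n g).1 = lr g.1.1 := rfl

/-- the Levi complement `diag(1,1,A)` -/
def iotaHom (F : Type*) [Field F] (n : ℕ) :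
    SpecialLinearGroup (Fin n) F →* SpecialLinearGroup (Fin (n + 2)) F where
  toFun A := (⟨blk2 A.1, by rw [det_blk2]; exact A.2⟩ : SpecialLinearGroup (Fin (n + 2)) F)
  map_one' := by
    apply Subtype.ext
    exact blk2_one
  map_mul' A B := by
    apply Subtype.ext
    exact blk2_mul A.1 B.1

theorem iotaHom_val (A : SpecialLinearGroup (Fin n) F) : (iotaHom F n A).1 = blk2 A.1 := rfl

theorem iotaHom_mem_Stab (A : SpecialLinearGroup (Fin n) F) :
    iotaHom F n A ∈ Stab (e0 F n) (f1 F n) := by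
  rw [mem_Stab_iff_entries]
  exact ⟨fun k => blk2_col0 A.1 k, fun l => blk2_row1 A.1 l⟩

theorem piHom_iotaHom (A : SpecialLinearGroup (Fin n) F) :
    piHom F n ⟨iotaHom F n A, iotaHom_mem_Stab A⟩ = A := by
  apply Subtype.ext
  rw [piHom_val]
  exact lr_blk2 A.1

theorem iotaHom_injective : Function.Injective (iotaHom F n) := by
  intro A B h
  have h1 := congrArg (fun g => lr g.1) h
  simp only [iotaHom_val, lr_blk2] at h1
  exact Subtype.ext h1

/-- the kernel of the projection, `O_2` of the centralizer -/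
def Q0 (F : Type*) [Field F] (n : ℕ) : Subgroup (SpecialLinearGroup (Fin (n + 2)) F) :=
  (piHom F n).ker.map (Stab (e0 F n) (f1 F n)).subtype

theorem mem_Q0_iff (g : SpecialLinearGroup (Fin (n + 2)) F) :
    g ∈ Q0 F n ↔ g ∈ Stab (e0 F n) (f1 F n) ∧ lr g.1 = 1 := by
  constructor
  · rintro ⟨x, hx, rfl⟩
    refine ⟨x.2, ?_⟩
    have h3 : piHom F n x = 1 := MonoidHom.mem_ker.1 hx
    have h4 := congrArg Subtype.val h3
    exact h4
  · rintro ⟨h1, h2⟩
    refine ⟨⟨g, h1⟩, ?_, rfl⟩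
    rw [SetLike.mem_coe, MonoidHom.mem_ker]
    apply Subtype.ext
    exact h2

theorem Q0_le_Stab : Q0 F n ≤ Stab (e0 F n) (f1 F n) := fun _ hg => ((mem_Q0_iff _).1 hg).1

theorem Stab_le_normalizer_Q0 :
    Stab (e0 F n) (f1 F n) ≤ Subgroup.normalizer (Q0 F n : Set (SpecialLinearGroup (Fin (n + 2)) F)) := by
  apply le_normalizer_of_conj_mem
  intro c hc g hg
  obtain ⟨x, hx, rfl⟩ := hg
  refine ⟨⟨c, hc⟩ * x * ⟨c, hc⟩⁻¹, ?_, rfl⟩
  exact (MonoidHom.normal_ker (piHom F n)).conj_mem x hx ⟨c, hc⟩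

/-- the Levi complement as a subgroup -/
def K0 (F : Type*) [Field F] (n : ℕ) : Subgroup (SpecialLinearGroup (Fin (n + 2)) F) :=
  (iotaHom F n).range

theorem K0_le_Stab : K0 F n ≤ Stab (e0 F n) (f1 F n) := by
  rintro _ ⟨A, rfl⟩
  exact iotaHom_mem_Stab A

theorem Q0_inf_K0 : Q0 F n ⊓ K0 F n = ⊥ := by
  rw [eq_bot_iff]
  rintro g ⟨hgQ, ⟨A, rfl⟩⟩
  rw [Subgroup.mem_bot]
  have h := ((mem_Q0_iff _).1 hgQ).2
  rw [iotaHom_val, lr_blk2] at h
  have : A = 1 := Subtype.ext h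
  rw [this, map_one]

theorem Q0_sup_K0 : Q0 F n ⊔ K0 F n = Stab (e0 F n) (f1 F n) := by
  apply le_antisymm (sup_le Q0_le_Stab K0_le_Stab)
  intro g hg
  set A := piHom F n ⟨g, hg⟩ with hA
  have h1 : g = (g * (iotaHom F n A)⁻¹) * iotaHom F n A := by group
  rw [h1]
  apply Subgroup.mul_mem_sup _ (show iotaHom F n A ∈ K0 F n from ⟨A, rfl⟩)
  have h2 : (⟨g, hg⟩ * (⟨iotaHom F n A, iotaHom_mem_Stab A⟩ : ↥(Stab (e0 F n) (f1 F n)))⁻¹) ∈
      (piHom F n).ker := by
    rw [MonoidHom.mem_ker, map_mul, map_inv, piHom_iotaHom, ← hA, mul_inv_cancel]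
  exact ⟨_, h2, rfl⟩

/-- `K0 ≃* SL_n` -/
noncomputable def K0Equiv (F : Type*) [Field F] (n : ℕ) :
    ↥(K0 F n) ≃* SpecialLinearGroup (Fin n) F :=
  (MonoidHom.ofInjective iotaHom_injective).symm

end Cfsg.Agent.Lib.H6.TC2
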