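import Mathlib
import Cfsg.Agent.Lib.H6.TC2Block
import Cfsg.Agent.Lib.H6.TransvSL

set_option autoImplicit false

/-! Structure of `Q0 = O_2(C(T_01(1)))` in `SL_{n+2}(2)` (helper6). -/

namespace Cfsg.Agent.Lib.H6.TC2

open Cfsg Matrix
open Cfsg.Agent.Lib.H6.TransvCent

variable {F : Type*} [Field F] {n : ℕ}

theorem Q0_entries {g : SpecialLinearGroup (Fin (n + 2)) F} (hg : g ∈ Q0 F n) :
    (∀ k, g.1 k 0 = if k = 0 then 1 else 0) ∧ (∀ l, g.1 1 l = if l = 1 then 1 else 0) ∧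
      ∀ k l : Fin n, g.1 k.succ.succ l.succ.succ = if k = l then 1 else 0 := by
  obtain ⟨h1, h2⟩ := (mem_Q0_iff g).1 hg
  obtain ⟨h3, h4⟩ := (mem_Stab_iff_entries g).1 h1
  refine ⟨h3, h4, fun k l => ?_⟩
  have := congrFun (congrFun h2 k) l
  rw [lr_apply, Matrix.one_apply] at this
  exact this

theorem U_le_Q0 : U (e0 F n) ≤ Q0 F n := by
  intro g hg
  rw [mem_Q0_iff]
  refine ⟨U_le_Stab f1_dot_e0 hg, ?_⟩
  obtain ⟨α, hα, hgv⟩ := hg
  ext k l
  rw [lr_apply, hgv, Matrix.add_apply, vecMulVec_apply, e0, Pi.single_apply,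
    if_neg (ss_ne_zero k), zero_mul, add_zero, Matrix.one_apply, Matrix.one_apply]
  by_cases h : k = l
  · rw [if_pos h, if_pos (by rw [h])]
  · rw [if_neg h, if_neg (fun h' => h (ss_inj h'))]

theorem W_le_Q0 : W (f1 F n) ≤ Q0 F n := by
  intro g hg
  rw [mem_Q0_iff]
  refine ⟨W_le_Stab f1_dot_e0 hg, ?_⟩
  obtain ⟨β, hβ, hgv⟩ := hg
  ext k l
  rw [lr_apply, hgv, Matrix.add_apply, vecMulVec_apply, f1, Pi.single_apply,
    if_neg (ss_ne_one l), mul_zero, add_zero, Matrix.one_apply, Matrix.one_apply]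
  by_cases h : k = l
  · rw [if_pos h, if_pos (by rw [h])]
  · rw [if_neg h, if_neg (fun h' => h (ss_inj h'))]

theorem Q0_mul_row {g h : SpecialLinearGroup (Fin (n + 2)) F} (hg : g ∈ Q0 F n)
    (hh : h ∈ Q0 F n) (l : Fin n) :
    (g * h).1 0 l.succ.succ = g.1 0 l.succ.succ + h.1 0 l.succ.succ := by
  obtain ⟨g1, g2, g3⟩ := Q0_entries hg
  obtain ⟨h1, h2, h3⟩ := Q0_entries hh
  rw [val_mul', Matrix.mul_apply, sum_fin2, g1 0, if_pos rfl, one_mul, h2, if_neg (ss_ne_one l),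
    mul_zero, add_zero]
  have : ∑ k' : Fin n, g.1 0 k'.succ.succ * h.1 k'.succ.succ l.succ.succ = g.1 0 l.succ.succ := by
    rw [Finset.sum_eq_single l]
    · rw [h3, if_pos rfl, mul_one]
    · intro b _ hb
      rw [h3, if_neg hb, mul_zero]
    · intro hl
      exact absurd (Finset.mem_univ l) hl
  rw [this, add_comm]

theorem Q0_mul_col {g h : SpecialLinearGroup (Fin (n + 2)) F} (hg : g ∈ Q0 F n)
    (hh : h ∈ Q0 F n) (k : Fin n) :
    (g * h).1 k.succ.succ 1 = g.1 k.succ.succ 1 + h.1 k.succ.succ 1 := by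
  obtain ⟨g1, g2, g3⟩ := Q0_entries hg
  obtain ⟨h1, h2, h3⟩ := Q0_entries hh
  rw [val_mul', Matrix.mul_apply, sum_fin2, g1, if_neg (ss_ne_zero k), zero_mul, zero_add, h2 1,
    if_pos rfl, mul_one]
  have : ∑ k' : Fin n, g.1 k.succ.succ k'.succ.succ * h.1 k'.succ.succ 1 = h.1 k.succ.succ 1 := by
    rw [Finset.sum_eq_single k]
    · rw [g3, if_pos rfl, one_mul]
    · intro b _ hb
      rw [g3, if_neg (Ne.symm hb), zero_mul]
    · intro hl
      exact absurd (Finset.mem_univ k) hl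
  rw [this]

/-- the homomorphism `Q0 → F^n × F^n` reading off the row and column parts -/
def psi (F : Type*) [Field F] (n : ℕ) :
    ↥(Q0 F n) →* Multiplicative ((Fin n → F) × (Fin n → F)) where
  toFun g := Multiplicative.ofAdd
    ((fun l => g.1.1 0 l.succ.succ), (fun k => g.1.1 k.succ.succ 1))
  map_one' := by
    rw [← ofAdd_zero]
    apply congrArg
    refine Prod.ext ?_ ?_
    · funext k
      show (1 : Matrix (Fin (n + 2)) (Fin (n + 2)) F) 0 k.succ.succ = 0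
      rw [Matrix.one_apply_ne (ss_ne_zero k).symm]
    · funext k
      show (1 : Matrix (Fin (n + 2)) (Fin (n + 2)) F) k.succ.succ 1 = 0
      rw [Matrix.one_apply_ne (ss_ne_one k)]
  map_mul' g h := by
    rw [← ofAdd_add]
    apply congrArg
    refine Prod.ext ?_ ?_
    · funext k
      exact Q0_mul_row g.2 h.2 k
    · funext k
      exact Q0_mul_col g.2 h.2 k

theorem psi_fst (g : ↥(Q0 F n)) (l : Fin n) :
    (Multiplicative.toAdd (psi F n g)).1 l = g.1.1 0 l.succ.succ := rfl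

theorem psi_snd (g : ↥(Q0 F n)) (k : Fin n) :
    (Multiplicative.toAdd (psi F n g)).2 k = g.1.1 k.succ.succ 1 := rfl

/-- extend a vector by two zero entries -/
def ext2 (a : Fin n → F) : Fin (n + 2) → F := Fin.cons 0 (Fin.cons 0 a)

@[simp] theorem ext2_zero (a : Fin n → F) : ext2 a 0 = 0 := rfl
@[simp] theorem ext2_one (a : Fin n → F) : ext2 a 1 = 0 := by
  rw [← Fin.succ_zero_eq_one]; rfl
@[simp] theorem ext2_ss (a : Fin n → F) (k : Fin n) : ext2 a k.succ.succ = a k := rfl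

theorem ext2_dot_e0 (a : Fin n → F) : ext2 a ⬝ᵥ e0 F n = 0 := by
  rw [e0, dotProduct_single, mul_one, ext2_zero]

theorem f1_dot_ext2 (b : Fin n → F) : f1 F n ⬝ᵥ ext2 b = 0 := by
  rw [f1, single_dotProduct, one_mul, ext2_one]

/-- the element `1 + e0 αᵀ` of `U` -/
def uOf (a : Fin n → F) : SpecialLinearGroup (Fin (n + 2)) F :=
  TransvSL.mk (e0 F n) (ext2 a) (ext2_dot_e0 a)

/-- the element `1 + β f1ᵀ` of `W` -/
def wOf (b : Fin n → F) : SpecialLinearGroup (Fin (n + 2)) F :=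
  TransvSL.mk (ext2 b) (f1 F n) (f1_dot_ext2 b)

theorem uOf_mem_U (a : Fin n → F) : uOf a ∈ U (e0 F n) := ⟨ext2 a, ext2_dot_e0 a, rfl⟩

theorem wOf_mem_W (b : Fin n → F) : wOf b ∈ W (f1 F n) := ⟨ext2 b, f1_dot_ext2 b, rfl⟩

theorem psi_uOf (a : Fin n → F) :
    psi F n ⟨uOf a, U_le_Q0 (uOf_mem_U a)⟩ = Multiplicative.ofAdd (a, 0) := by
  show Multiplicative.ofAdd _ = _
  apply congrArg
  refine Prod.ext ?_ ?_ <;> funext k
  · show (1 + vecMulVec (e0 F n) (ext2 a)) 0 k.succ.succ = a k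
    rw [Matrix.add_apply, Matrix.one_apply_ne (ss_ne_zero k).symm, zero_add, vecMulVec_apply, e0,
      Pi.single_eq_same, one_mul, ext2_ss]
  · show (1 + vecMulVec (e0 F n) (ext2 a)) k.succ.succ 1 = 0
    rw [Matrix.add_apply, Matrix.one_apply_ne (ss_ne_one k), zero_add, vecMulVec_apply, ext2_one,
      mul_zero]

theorem psi_wOf (b : Fin n → F) :
    psi F n ⟨wOf b, W_le_Q0 (wOf_mem_W b)⟩ = Multiplicative.ofAdd (0, b) := by
  show Multiplicative.ofAdd _ = _
  apply congrArg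
  refine Prod.ext ?_ ?_ <;> funext k
  · show (1 + vecMulVec (ext2 b) (f1 F n)) 0 k.succ.succ = 0
    rw [Matrix.add_apply, Matrix.one_apply_ne (ss_ne_zero k).symm, zero_add, vecMulVec_apply,
      ext2_zero, zero_mul]
  · show (1 + vecMulVec (ext2 b) (f1 F n)) k.succ.succ 1 = b k
    rw [Matrix.add_apply, Matrix.one_apply_ne (ss_ne_one k), zero_add, vecMulVec_apply, ext2_ss, f1,
      Pi.single_eq_same, mul_one]

theorem psi_surjective : Function.Surjective (psi F n) := by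
  intro x
  refine ⟨⟨uOf (Multiplicative.toAdd x).1, U_le_Q0 (uOf_mem_U _)⟩ *
    ⟨wOf (Multiplicative.toAdd x).2, W_le_Q0 (wOf_mem_W _)⟩, ?_⟩
  rw [map_mul, psi_uOf, psi_wOf, ← ofAdd_add]
  simp

end Cfsg.Agent.Lib.H6.TC2
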