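import Mathlib
import Cfsg.Agent.Lib.H6.TC2Q

set_option autoImplicit false

/-! Structure of `Q0 = O_2(C(T_01(1)))` in `SL_{n+2}(2)`, part 2 (helper6). -/

namespace Cfsg.Agent.Lib.H6.TC2

open Cfsg Matrix
open Cfsg.Agent.Lib.H6.TransvCent
open scoped commutatorElement

variable {F : Type*} [Field F] {n : ℕ}

/-- the transvection `T_01(1)` -/
def zT (F : Type*) [Field F] (n : ℕ) : SpecialLinearGroup (Fin (n + 2)) F :=
  SpecialLinearGroup.transvection (zero_ne_one' (n := n)) (1 : F)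

theorem zT_val : (zT F n).1 = Matrix.transvection 0 1 1 := rfl

theorem zT_val' : (zT F n).1 = 1 + Matrix.single 0 1 (1 : F) := rfl

theorem zT_mem_U : zT F n ∈ U (e0 F n) := transvection_mem_U 0 zero_ne_one'

theorem zT_mem_W : zT F n ∈ W (f1 F n) := transvection_mem_W 1 zero_ne_one'

theorem zT_mem_Q0 : zT F n ∈ Q0 F n := U_le_Q0 zT_mem_U

theorem zT_ne_one : zT F n ≠ 1 := by
  intro h
  have h1 := congrFun (congrFun (congrArg Subtype.val h) 0) 1
  rw [zT_val', val_one', Matrix.add_apply, Matrix.one_apply_ne zero_ne_one', zero_add,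
    Matrix.single_apply_same] at h1
  exact one_ne_zero h1

theorem zT_mul_self (h2 : (2 : F) = 0) : zT F n * zT F n = 1 := by
  apply Subtype.ext
  rw [val_mul', zT_val', val_one', mul_add, add_mul, add_mul, one_mul, one_mul, mul_one,
    single_mul_single_of_ne _ _ _ _ zero_ne_one'.symm, add_zero, add_assoc, ← two_smul F, h2,
    zero_smul, add_zero]

/-- the subgroup `{1, z}` -/
def Z0 (F : Type*) [Field F] (n : ℕ) (h2 : (2 : F) = 0) :
    Subgroup (SpecialLinearGroup (Fin (n + 2)) F) where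
  carrier := {g | g = 1 ∨ g = zT F n}
  one_mem' := Or.inl rfl
  mul_mem' := by
    rintro a b (rfl | rfl) (rfl | rfl)
    · left; rw [mul_one]
    · right; rw [one_mul]
    · right; rw [mul_one]
    · left; exact zT_mul_self h2
  inv_mem' := by
    rintro a (rfl | rfl)
    · left; rw [inv_one]
    · right; exact inv_eq_of_mul_eq_one_left (zT_mul_self h2)

theorem mem_Z0 {h2 : (2 : F) = 0} {g : SpecialLinearGroup (Fin (n + 2)) F} :
    g ∈ Z0 F n h2 ↔ g = 1 ∨ g = zT F n := Iff.rfl

theorem card_Z0 (h2 : (2 : F) = 0) : Nat.card ↥(Z0 F n h2) = 2 := by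
  rw [Nat.card_eq_two_iff]
  refine ⟨⟨1, Or.inl rfl⟩, ⟨zT F n, Or.inr rfl⟩, ?_, ?_⟩
  · intro h
    exact zT_ne_one (congrArg Subtype.val h).symm
  · ext x
    simp only [Set.mem_insert_iff, Set.mem_singleton_iff, Set.mem_univ, iff_true]
    rcases x.2 with h | h
    · left; exact Subtype.ext h
    · right; exact Subtype.ext h

theorem Z0_le_Q0 (h2 : (2 : F) = 0) : Z0 F n h2 ≤ Q0 F n := by
  rintro g (rfl | rfl)
  · exact one_mem _
  · exact zT_mem_Q0

/-- an element with the shape `1 + c E_01` over the field with two elements lies in `{1, z}` -/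
theorem mem_Z0_of_val [Fintype F] (hF : Fintype.card F = 2)
    {g : SpecialLinearGroup (Fin (n + 2)) F} (hg : g.1 = 1 + g.1 0 1 • Matrix.single 0 1 (1 : F)) :
    g ∈ Z0 F n (card_two_facts hF).1 := by
  rcases (card_two_facts hF).2 (g.1 0 1) with h | h
  · left
    apply Subtype.ext
    rw [hg, h, zero_smul, add_zero, val_one']
  · right
    apply Subtype.ext
    rw [hg, h, one_smul, zT_val']

theorem psi_zT : psi F n ⟨zT F n, zT_mem_Q0⟩ = 1 := by
  rw [← ofAdd_zero]
  show Multiplicative.ofAdd _ = _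
  apply congrArg
  refine Prod.ext ?_ ?_ <;> funext k
  · show (1 + Matrix.single 0 1 (1 : F)) 0 k.succ.succ = 0
    rw [Matrix.add_apply, Matrix.one_apply_ne (ss_ne_zero k).symm, zero_add,
      Matrix.single_apply_of_ne _ _ _ _ _ (fun h => ss_ne_one k h.2.symm)]
  · show (1 + Matrix.single 0 1 (1 : F)) k.succ.succ 1 = 0
    rw [Matrix.add_apply, Matrix.one_apply_ne (ss_ne_one k), zero_add,
      Matrix.single_apply_of_ne _ _ _ _ _ (fun h => ss_ne_zero k h.1.symm)]

/-- the kernel of `psi` is `{1, z}` -/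
theorem psi_eq_one_iff [Fintype F] (hF : Fintype.card F = 2) (g : ↥(Q0 F n)) :
    psi F n g = 1 ↔ g.1 ∈ Z0 F n (card_two_facts hF).1 := by
  constructor
  · intro h
    apply mem_Z0_of_val hF
    obtain ⟨g1, g2, g3⟩ := Q0_entries g.2
    have hr : ∀ l : Fin n, g.1.1 0 l.succ.succ = 0 := by
      intro l
      have := congrFun (congrArg (fun x => (Multiplicative.toAdd x).1) h) l
      exact this
    have hc : ∀ k : Fin n, g.1.1 k.succ.succ 1 = 0 := by
      intro k
      have := congrFun (congrArg (fun x => (Multiplicative.toAdd x).2) h) k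
      exact this
    ext a b
    rw [Matrix.add_apply, Matrix.smul_apply, smul_eq_mul]
    rcases fin2_cases a with rfl | rfl | ⟨a', rfl⟩
    · rcases fin2_cases b with rfl | rfl | ⟨b', rfl⟩
      · rw [g1, if_pos rfl, Matrix.one_apply_eq,
          Matrix.single_apply_of_ne _ _ _ _ _ (fun h => zero_ne_one' h.2.symm), mul_zero, add_zero]
      · rw [Matrix.one_apply_ne zero_ne_one', Matrix.single_apply_same, mul_one, zero_add]
      · rw [hr, Matrix.one_apply_ne (ss_ne_zero b').symm,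
          Matrix.single_apply_of_ne _ _ _ _ _ (fun h => ss_ne_one b' h.2.symm), mul_zero, add_zero]
    · rw [g2, Matrix.single_apply_of_ne _ _ _ _ _ (fun h => zero_ne_one' h.1), mul_zero, add_zero,
        Matrix.one_apply]
      by_cases hb : b = 1
      · rw [if_pos hb, if_pos hb.symm]
      · rw [if_neg hb, if_neg (Ne.symm hb)]
    · rw [Matrix.single_apply_of_ne _ _ _ _ _ (fun h => ss_ne_zero a' h.1.symm), mul_zero, add_zero]
      rcases fin2_cases b with rfl | rfl | ⟨b', rfl⟩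
      · rw [g1, if_neg (ss_ne_zero a'), Matrix.one_apply_ne (ss_ne_zero a')]
      · rw [hc, Matrix.one_apply_ne (ss_ne_one a')]
      · rw [g3, Matrix.one_apply]
        by_cases hab : a' = b'
        · rw [if_pos hab, if_pos (by rw [hab])]
        · rw [if_neg hab, if_neg (fun h' => hab (ss_inj h'))]
  · rintro (h | h)
    · have : g = 1 := Subtype.ext h
      rw [this, map_one]
    · have : g = ⟨zT F n, zT_mem_Q0⟩ := Subtype.ext h
      rw [this, psi_zT]

theorem map_ker_psi [Fintype F] (hF : Fintype.card F = 2) :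
    (psi F n).ker.map (Q0 F n).subtype = Z0 F n (card_two_facts hF).1 := by
  ext g
  constructor
  · rintro ⟨x, hx, rfl⟩
    exact (psi_eq_one_iff hF x).1 (MonoidHom.mem_ker.1 hx)
  · intro hg
    refine ⟨⟨g, Z0_le_Q0 _ hg⟩, ?_, rfl⟩
    rw [SetLike.mem_coe, MonoidHom.mem_ker, psi_eq_one_iff hF]
    exact hg

theorem card_Q0 [Fintype F] (hF : Fintype.card F = 2) : Nat.card ↥(Q0 F n) = 2 ^ (2 * n + 1) := by
  have h1 := Subgroup.card_eq_card_quotient_mul_card_subgroup (psi F n).ker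
  have h2 : Nat.card (↥(Q0 F n) ⧸ (psi F n).ker) = 2 ^ n * 2 ^ n := by
    rw [Nat.card_congr (QuotientGroup.quotientKerEquivOfSurjective (psi F n) psi_surjective).toEquiv,
      Nat.card_congr Multiplicative.toAdd, Nat.card_prod, Nat.card_fun, Nat.card_eq_fintype_card,
      Nat.card_eq_fintype_card, hF, Fintype.card_fin]
  have h3 : Nat.card ↥(psi F n).ker = 2 := by
    rw [← Subgroup.card_map_of_injective (Q0 F n).subtype_injective, map_ker_psi hF, card_Z0]
  rw [h1, h2, h3]
  ring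

theorem isPGroup_Q0 [Fintype F] (hF : Fintype.card F = 2) : IsPGroup 2 ↥(Q0 F n) :=
  IsPGroup.of_card (card_Q0 hF)

/-- `C_G(Q0) = {1, z}` -/
theorem centralizer_Q0 [Fintype F] (hF : Fintype.card F = 2) :
    Subgroup.centralizer (Q0 F n : Set (SpecialLinearGroup (Fin (n + 2)) F)) =
      Z0 F n (card_two_facts hF).1 := by
  have hcen := centralizer_eq_Stab hF (zero_ne_one' (n := n)) (zT F n) zT_val
  apply le_antisymm
  · intro y hy
    rw [Subgroup.mem_centralizer_iff] at hy
    have hyS : y ∈ Stab (e0 F n) (f1 F n) := by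
      have : y ∈ Subgroup.centralizer ({zT F n} : Set (SpecialLinearGroup (Fin (n + 2)) F)) := by
        rw [Subgroup.mem_centralizer_iff]
        intro x hx
        rw [Set.mem_singleton_iff] at hx
        subst hx
        exact hy _ zT_mem_Q0
      rw [hcen] at this
      exact this
    apply mem_Z0_of_val hF
    exact eq_of_centralizes zero_ne_one' y hyS (fun g hg => hy g (U_le_Q0 hg))
      (fun g hg => hy g (W_le_Q0 hg))
  · rintro y (rfl | rfl)
    · exact one_mem _
    · rw [Subgroup.mem_centralizer_iff]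
      intro g hg
      have h1 : g ∈ Subgroup.centralizer ({zT F n} : Set (SpecialLinearGroup (Fin (n + 2)) F)) := by
        rw [hcen]
        exact Q0_le_Stab hg
      rw [Subgroup.mem_centralizer_iff] at h1
      exact (h1 _ rfl).symm

theorem Q0_inf_centralizer [Fintype F] (hF : Fintype.card F = 2) :
    Q0 F n ⊓ Subgroup.centralizer (Q0 F n : Set (SpecialLinearGroup (Fin (n + 2)) F)) =
      Z0 F n (card_two_facts hF).1 := by
  rw [centralizer_Q0 hF]
  exact inf_eq_right.2 (Z0_le_Q0 _)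

theorem commutator_Q0_le [Fintype F] (hF : Fintype.card F = 2) :
    ⁅Q0 F n, Q0 F n⁆ ≤ Z0 F n (card_two_facts hF).1 := by
  rw [Subgroup.commutator_le]
  intro g₁ hg₁ g₂ hg₂
  have hmem : ⁅g₁, g₂⁆ ∈ Q0 F n :=
    (Q0 F n).mul_mem ((Q0 F n).mul_mem ((Q0 F n).mul_mem hg₁ hg₂) (inv_mem hg₁)) (inv_mem hg₂)
  have h1 : psi F n ⟨⁅g₁, g₂⁆, hmem⟩ = 1 := by
    have : (⟨⁅g₁, g₂⁆, hmem⟩ : ↥(Q0 F n)) = ⁅(⟨g₁, hg₁⟩ : ↥(Q0 F n)), ⟨g₂, hg₂⟩⁆ := rfl
    rw [this, map_commutatorElement]
    exact commutatorElement_eq_one_iff_commute.2 (Commute.all _ _)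
  exact (psi_eq_one_iff hF _).1 h1

theorem sq_mem_Z0 [Fintype F] (hF : Fintype.card F = 2) {x : SpecialLinearGroup (Fin (n + 2)) F}
    (hx : x ∈ Q0 F n) : x ^ 2 ∈ Z0 F n (card_two_facts hF).1 := by
  have h2 := (card_two_facts hF).1
  have h1 : psi F n (⟨x, hx⟩ ^ 2) = 1 := by
    rw [map_pow, ← ofAdd_toAdd (psi F n ⟨x, hx⟩), ← ofAdd_nsmul, ← ofAdd_zero]
    apply congrArg
    rw [two_nsmul, ← two_smul F, h2, zero_smul]
  exact (psi_eq_one_iff hF _).1 h1

theorem commutator_Q0 [Fintype F] (hF : Fintype.card F = 2) (hn : 1 ≤ n) :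
    ⁅Q0 F n, Q0 F n⁆ = Z0 F n (card_two_facts hF).1 := by
  have hle := commutator_Q0_le (n := n) hF
  have hne : ⁅Q0 F n, Q0 F n⁆ ≠ ⊥ := by
    intro h
    have h1 : Q0 F n ≤ Subgroup.centralizer (Q0 F n : Set (SpecialLinearGroup (Fin (n + 2)) F)) := by
      rw [← Subgroup.commutator_eq_bot_iff_le_centralizer]
      exact h
    rw [centralizer_Q0 hF] at h1
    have h3 := Nat.le_of_dvd (by rw [card_Z0]; norm_num) (Subgroup.card_dvd_of_le h1)
    rw [card_Q0 hF, card_Z0] at h3
    have : 2 ^ 3 ≤ 2 ^ (2 * n + 1) := Nat.pow_le_pow_right (by norm_num) (by omega)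
    omega
  have hd := Subgroup.card_dvd_of_le hle
  rw [card_Z0] at hd
  have hc : Nat.card ↥⁅Q0 F n, Q0 F n⁆ = 2 := by
    rcases (Nat.dvd_prime Nat.prime_two).1 hd with h | h
    · exact absurd (Subgroup.card_eq_one.1 h) hne
    · exact h
  have : Finite ↥(Z0 F n (card_two_facts hF).1) :=
    Nat.finite_of_card_ne_zero (by rw [card_Z0]; norm_num)
  exact Subgroup.eq_of_le_of_card_ge hle (by rw [hc, card_Z0])

end Cfsg.Agent.Lib.H6.TC2
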