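import Mathlib
import Cfsg.Agent.Lib.H6.TC2Q2
import Cfsg.Agent.Lib.H14.Amalgam5

set_option autoImplicit false

/-! `O_2(SL_n(2)) = 1` and `O_2(C(T_01(1))) = Q0` (helper6). -/

namespace Cfsg.Agent.Lib.H6.TC2

open Cfsg Matrix
open Cfsg.Agent.Lib.H6.TransvCent

section core

variable {F : Type*} [Field F] {m : ℕ}

/-- the vectors fixed by a subgroup of `SL` -/
def fixSub (P : Subgroup (SpecialLinearGroup (Fin m) F)) : Submodule F (Fin m → F) where
  carrier := {w | ∀ g ∈ P, g.1 *ᵥ w = w}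
  add_mem' := by
    intro a b ha hb g hg
    rw [mulVec_add, ha g hg, hb g hg]
  zero_mem' := by
    intro g _
    rw [mulVec_zero]
  smul_mem' := by
    intro c a ha g hg
    rw [mulVec_smul, ha g hg]

theorem mem_fixSub {P : Subgroup (SpecialLinearGroup (Fin m) F)} {w : Fin m → F} :
    w ∈ fixSub P ↔ ∀ g ∈ P, g.1 *ᵥ w = w := Iff.rfl

theorem fixSub_invariant {P : Subgroup (SpecialLinearGroup (Fin m) F)} [hP : P.Normal]
    (s : SpecialLinearGroup (Fin m) F) {w : Fin m → F} (hw : w ∈ fixSub P) :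
    s.1 *ᵥ w ∈ fixSub P := by
  intro g hg
  have h1 : s⁻¹ * g * s ∈ P := by
    have := hP.conj_mem g hg s⁻¹
    rwa [inv_inv] at this
  have h2 := hw _ h1
  rw [val_mul', val_mul', ← mulVec_mulVec, ← mulVec_mulVec] at h2
  have h3 : s.1 *ᵥ ((s⁻¹).1 *ᵥ (g.1 *ᵥ (s.1 *ᵥ w))) = s.1 *ᵥ w := by rw [h2]
  rw [mulVec_mulVec, val_mul_inv, one_mulVec] at h3
  exact h3

theorem transvection_mulVec (i j : Fin m) (hij : i ≠ j) (w : Fin m → F) :
    (SpecialLinearGroup.transvection hij (1 : F)).1 *ᵥ w = w + w j • Pi.single i (1 : F) := by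
  have h2 : (SpecialLinearGroup.transvection hij (1 : F)).1 = 1 + Matrix.single i j (1 : F) := rfl
  rw [h2, add_mulVec, one_mulVec]
  congr 1
  funext k
  rw [Matrix.single_mulVec]
  simp only [Pi.smul_apply, smul_eq_mul, Pi.single_apply]
  by_cases hk : k = i
  · simp [hk]
  · simp [hk]

/-- a nonzero `SL`-invariant subspace (normal subgroup version) is everything, `m ≥ 2` -/
theorem fixSub_eq_top {P : Subgroup (SpecialLinearGroup (Fin m) F)} [hP : P.Normal] (hm : 2 ≤ m)
    {v : Fin m → F} (hv : v ∈ fixSub P) (hv0 : v ≠ 0) : ∀ i : Fin m, Pi.single i (1 : F) ∈ fixSub P := by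
  obtain ⟨j, hj⟩ : ∃ j, v j ≠ 0 := by
    by_contra h
    apply hv0
    funext k
    by_contra hk
    exact h ⟨k, hk⟩
  have h1 : ∀ i : Fin m, i ≠ j → Pi.single i (1 : F) ∈ fixSub P := by
    intro i hij
    have h2 := fixSub_invariant (SpecialLinearGroup.transvection hij (1 : F)) hv
    rw [transvection_mulVec] at h2
    have h3 : v j • (Pi.single i (1 : F) : Fin m → F) ∈ fixSub P := by
      have := (fixSub P).sub_mem h2 hv
      rwa [add_sub_cancel_left] at this
    have h4 := (fixSub P).smul_mem (v j)⁻¹ h3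
    rwa [smul_smul, inv_mul_cancel₀ hj, one_smul] at h4
  obtain ⟨i, hij⟩ : ∃ i : Fin m, i ≠ j := by
    by_cases h0 : j = ⟨0, by omega⟩
    · exact ⟨⟨1, by omega⟩, by rw [h0]; intro h; simpa using congrArg Fin.val h⟩
    · exact ⟨⟨0, by omega⟩, fun h => h0 h.symm⟩
  intro k
  by_cases hk : k = j
  · subst hk
    have h2 := fixSub_invariant (SpecialLinearGroup.transvection (Ne.symm hij) (1 : F)) (h1 i hij)
    rw [transvection_mulVec, Pi.single_eq_same, one_smul] at h2
    have := (fixSub P).sub_mem h2 (h1 i hij)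
    rwa [add_sub_cancel_left] at this
  · exact h1 k hk

/-- `O_2(SL_m(2)) = 1` for `m ≥ 2`: a normal 2-subgroup is trivial. -/
theorem normal_two_subgroup_eq_bot [Fintype F] (hF : Fintype.card F = 2) (hm : 2 ≤ m)
    (P : Subgroup (SpecialLinearGroup (Fin m) F)) [hP : P.Normal] (h2P : IsPGroup 2 P) : P = ⊥ := by
  classical
  have : Fact (Nat.Prime 2) := ⟨Nat.prime_two⟩
  letI act : MulAction P (Fin m → F) :=
    { smul := fun g w => g.1.1 *ᵥ w
      one_smul := fun w => by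
        show (1 : SpecialLinearGroup (Fin m) F).1 *ᵥ w = w
        rw [val_one', one_mulVec]
      mul_smul := fun g h w => by
        show (g.1 * h.1).1 *ᵥ w = g.1.1 *ᵥ (h.1.1 *ᵥ w)
        rw [val_mul', mulVec_mulVec] }
  have hsmul : ∀ (g : P) (w : Fin m → F), g • w = g.1.1 *ᵥ w := fun _ _ => rfl
  have hdvd : 2 ∣ Nat.card (Fin m → F) := by
    rw [Nat.card_fun, Nat.card_eq_fintype_card, Nat.card_eq_fintype_card, hF, Fintype.card_fin]
    exact dvd_pow_self 2 (by omega)
  have h0 : (0 : Fin m → F) ∈ MulAction.fixedPoints P (Fin m → F) := by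
    intro g
    rw [hsmul, mulVec_zero]
  obtain ⟨v, hv, hv0⟩ := h2P.exists_fixed_point_of_prime_dvd_card_of_fixed_point (Fin m → F) hdvd h0
  have hvP : v ∈ fixSub P := by
    intro g hg
    exact hv ⟨g, hg⟩
  have hall := fixSub_eq_top hm hvP (Ne.symm hv0)
  rw [eq_bot_iff]
  intro g hg
  rw [Subgroup.mem_bot]
  apply Subtype.ext
  rw [val_one']
  ext a b
  have := congrFun (hall b g hg) a
  rw [mulVec_single_one] at this
  rw [Matrix.one_apply]
  rw [Pi.single_apply] at this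
  exact this

end core

variable {F : Type*} [Field F] {n : ℕ}

theorem piHom_surjective : Function.Surjective (piHom F n) := fun A =>
  ⟨⟨iotaHom F n A, iotaHom_mem_Stab A⟩, piHom_iotaHom A⟩

/-- `O_2(C(z)) = Q0` -/
theorem pCoreOf_Stab [Fintype F] (hF : Fintype.card F = 2) (hn : 2 ≤ n) :
    pCoreOf 2 (Stab (e0 F n) (f1 F n)) = Q0 F n := by
  apply le_antisymm
  · -- the image in `SL_n` is a normal 2-subgroup
    have hnorm : ((pCore 2 ↥(Stab (e0 F n) (f1 F n))).map (piHom F n)).Normal :=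
      Subgroup.Normal.map Cfsg.Agent.Lib.H14.pCore_normal _ piHom_surjective
    have h2 : IsPGroup 2 ((pCore 2 ↥(Stab (e0 F n) (f1 F n))).map (piHom F n)) :=
      Cfsg.Agent.Lib.H14.pCore_isPGroup.map _
    have hbot := normal_two_subgroup_eq_bot hF hn _ h2
    rintro _ ⟨x, hx, rfl⟩
    refine ⟨x, ?_, rfl⟩
    rw [SetLike.mem_coe, MonoidHom.mem_ker]
    have : piHom F n x ∈ (pCore 2 ↥(Stab (e0 F n) (f1 F n))).map (piHom F n) := ⟨x, hx, rfl⟩
    rw [hbot, Subgroup.mem_bot] at this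
    exact this
  · exact Cfsg.Agent.Lib.H14.le_pCoreOf 2 _ _ Q0_le_Stab Stab_le_normalizer_Q0 (isPGroup_Q0 hF)

end Cfsg.Agent.Lib.H6.TC2
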