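import Mathlib
import Cfsg.Prelude.Def_MonsterType
import Cfsg.Agent.Lib.H6.TC2Core
import Cfsg.Agent.Lib.H27.Extraspecial

set_option autoImplicit false

/-! `Q0 = O_2(C(T_01(1)))` is a large extraspecial subgroup of `SL_{n+2}(2)` (helper6). -/

namespace Cfsg.Agent.Lib.H6.TC2

open Cfsg Matrix
open Cfsg.Agent.Lib.H6.TransvCent

section abstract

variable {G : Type*} [Group G]

/-- an involution acting fixed point freely on a finite subgroup inverts it -/
theorem inverts_of_fpf (K : Subgroup G) [Finite K] (z : G) (hz : z * z = 1)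
    (hzK : z ∈ Subgroup.normalizer (K : Set G)) (hC : ∀ k ∈ K, k * z = z * k → k = 1) :
    ∀ k ∈ K, z * k * z⁻¹ = k⁻¹ := by
  have hzi : z⁻¹ = z := inv_eq_of_mul_eq_one_left hz
  let φ : K →* K :=
    { toFun := fun x => ⟨z * x * z⁻¹, (Subgroup.mem_normalizer_iff.mp hzK x).mp x.2⟩
      map_one' := by
        apply Subtype.ext
        show z * ((1 : K) : G) * z⁻¹ = 1
        rw [Subgroup.coe_one, mul_one, mul_inv_cancel]
      map_mul' := by
        intro x y
        apply Subtype.ext
        show z * ((x * y : K) : G) * z⁻¹ = (z * x * z⁻¹) * (z * y * z⁻¹)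
        rw [Subgroup.coe_mul]
        group }
  have hφ : ∀ x : K, ((φ x : K) : G) = z * x * z⁻¹ := fun _ => rfl
  have hfpf : MonoidHom.FixedPointFree φ := by
    intro x hx
    have h1 : z * (x : G) * z⁻¹ = x := by rw [← hφ, hx]
    apply Subtype.ext
    apply hC x x.2
    calc (x : G) * z = (z * x * z⁻¹) * z := by rw [h1]
      _ = z * x := by group
  have hinv : Function.Involutive φ := by
    intro x
    apply Subtype.ext
    rw [hφ, hφ, hzi]
    calc z * (z * (x : G) * z) * z = (z * z) * x * (z * z) := by group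
      _ = x := by rw [hz, one_mul, mul_one]
  have h := hfpf.coe_eq_inv_of_involutive hinv
  intro k hk
  have h2 := congrFun h ⟨k, hk⟩
  have h3 := congrArg Subtype.val h2
  rw [hφ] at h3
  exact h3

/-- a subgroup element normalizing `A` commutes with `A` when `A` normalizes `K` and
`K ∩ A = 1` -/
theorem commute_of_disjoint {A K : Subgroup G} (hAK : K ⊓ A = ⊥)
    (hA : A ≤ Subgroup.normalizer (K : Set G)) {k : G} (hk : k ∈ K)
    (hkA : k ∈ Subgroup.normalizer (A : Set G)) {a : G} (ha : a ∈ A) : k * a = a * k := by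
  have h1 : k * a * k⁻¹ * a⁻¹ ∈ A :=
    A.mul_mem ((Subgroup.mem_normalizer_iff.mp hkA a).mp ha) (inv_mem ha)
  have h2 : k * a * k⁻¹ * a⁻¹ ∈ K := by
    have h3 : a * k⁻¹ * a⁻¹ ∈ K := (Subgroup.mem_normalizer_iff.mp (hA ha) k⁻¹).mp (inv_mem hk)
    have h4 : k * a * k⁻¹ * a⁻¹ = k * (a * k⁻¹ * a⁻¹) := by group
    rw [h4]
    exact K.mul_mem hk h3
  have h5 : k * a * k⁻¹ * a⁻¹ ∈ K ⊓ A := ⟨h2, h1⟩
  rw [hAK, Subgroup.mem_bot] at h5
  calc k * a = (k * a * k⁻¹ * a⁻¹) * (a * k) := by group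
    _ = a * k := by rw [h5, one_mul]

end abstract

variable {F : Type*} [Field F] {n : ℕ}

theorem U_mul_self {ι : Type*} [Fintype ι] [DecidableEq ι] (h2 : (2 : F) = 0) {e : ι → F}
    {g : SpecialLinearGroup ι F} (hg : g ∈ U e) : g * g = 1 := by
  obtain ⟨α, hα, hgv⟩ := hg
  apply Subtype.ext
  rw [val_mul', hgv, one_add_mul_one_add, hα, zero_smul, vecMulVec_zero, add_zero,
    add_assoc, ← vecMulVec_add, ← two_smul F α, h2, zero_smul, vecMulVec_zero, add_zero, val_one']

theorem U_comm {ι : Type*} [Fintype ι] [DecidableEq ι] {e : ι → F}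
    {g h : SpecialLinearGroup ι F} (hg : g ∈ U e) (hh : h ∈ U e) : g * h = h * g := by
  obtain ⟨α, hα, hgv⟩ := hg
  obtain ⟨β, hβ, hhv⟩ := hh
  apply Subtype.ext
  rw [val_mul', val_mul', hgv, hhv, one_add_mul_one_add, one_add_mul_one_add, hα, hβ, zero_smul,
    zero_smul, vecMulVec_zero, add_zero, add_zero, add_assoc, add_assoc,
    add_comm (vecMulVec e α)]

theorem e0_ne_zero : e0 F n ≠ 0 := by
  intro h
  have := congrFun h 0
  rw [e0, Pi.single_eq_same] at this
  exact one_ne_zero this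

/-- an element commuting with a nontrivial element of `U e0` fixes `e0` (two-element field) -/
theorem fixes_e0_of_commute [Fintype F] (hF : Fintype.card F = 2)
    {s k : SpecialLinearGroup (Fin (n + 2)) F} (hs : s ∈ U (e0 F n)) (hs1 : s ≠ 1)
    (hks : k * s = s * k) : k ∈ Stab (e0 F n) (0 : Fin (n + 2) → F) := by
  obtain ⟨α, hα, hsv⟩ := hs
  have hα0 : α ≠ 0 := by
    intro h
    apply hs1
    apply Subtype.ext
    rw [hsv, h, vecMulVec_zero, add_zero, val_one']
  obtain ⟨l, hl⟩ : ∃ l, α l ≠ 0 := by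
    by_contra h
    apply hα0
    funext j
    by_contra hj
    exact h ⟨j, hj⟩
  have h1 := congrArg Subtype.val hks
  rw [val_mul', val_mul', hsv, mul_add, add_mul, mul_one, one_mul, mul_vecMulVec, vecMulVec_mul] at h1
  have h2 : vecMulVec (k.1 *ᵥ e0 F n) α = vecMulVec (e0 F n) (α ᵥ* k.1) := add_left_cancel h1
  have h3 : k.1 *ᵥ e0 F n = ((α ᵥ* k.1) l * (α l)⁻¹) • e0 F n := by
    funext a
    have h4 := congrFun (congrFun h2 a) l
    rw [vecMulVec_apply, vecMulVec_apply] at h4
    rw [Pi.smul_apply, smul_eq_mul]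
    field_simp
    rw [h4, mul_comm]
  have hc : (α ᵥ* k.1) l * (α l)⁻¹ ≠ 0 := by
    intro h0
    rw [h0, zero_smul] at h3
    exact TransvSL.mulVec_ne_zero k e0_ne_zero h3
  rcases (card_two_facts hF).2 ((α ᵥ* k.1) l * (α l)⁻¹) with h | h
  · exact absurd h hc
  · rw [h, one_smul] at h3
    exact ⟨h3, zero_vecMul _⟩

/-- the condition on odd order subgroups -/
theorem odd_normalized_eq_bot [Fintype F] (hF : Fintype.card F = 2) (hn : 1 ≤ n)
    (K : Subgroup (SpecialLinearGroup (Fin (n + 2)) F)) (hK : Odd (Nat.card K))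
    (hQK : Q0 F n ≤ Subgroup.normalizer (K : Set (SpecialLinearGroup (Fin (n + 2)) F))) :
    K = ⊥ := by
  have h2 := (card_two_facts hF).1
  have hKQ : K ⊓ Q0 F n = ⊥ := by
    apply disjoint_iff.1
    apply Subgroup.disjoint_of_coprime_natCard
    rw [card_Q0 hF]
    exact Nat.Coprime.pow_right _ (Nat.coprime_two_right.2 hK)
  have hKU : K ⊓ U (e0 F n) = ⊥ := by
    rw [eq_bot_iff, ← hKQ]
    exact inf_le_inf_left K U_le_Q0
  have hcen := centralizer_eq_Stab hF (zero_ne_one' (n := n)) (zT F n) zT_val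
  -- step 2: `C_K(z) = 1`
  have step2 : ∀ k ∈ K, k * zT F n = zT F n * k → k = 1 := by
    intro k hk hkz
    have hkS : k ∈ Stab (e0 F n) (f1 F n) := by
      have : k ∈ Subgroup.centralizer ({zT F n} : Set (SpecialLinearGroup (Fin (n + 2)) F)) := by
        rw [Subgroup.mem_centralizer_iff]
        intro x hx
        rw [Set.mem_singleton_iff] at hx
        subst hx
        exact hkz.symm
      rw [hcen] at this
      exact this
    have hkC : k ∈ Subgroup.centralizer (Q0 F n : Set (SpecialLinearGroup (Fin (n + 2)) F)) := by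
      rw [Subgroup.mem_centralizer_iff]
      intro q hq
      exact (commute_of_disjoint hKQ hQK hk (Stab_le_normalizer_Q0 hkS) hq).symm
    rw [centralizer_Q0 hF] at hkC
    have : k ∈ K ⊓ Q0 F n := ⟨hk, Z0_le_Q0 _ hkC⟩
    rw [hKQ, Subgroup.mem_bot] at this
    exact this
  -- step 3
  have step3 : ∀ s ∈ U (e0 F n), s ≠ 1 → ∀ k ∈ K, k * s = s * k → k = 1 := by
    intro s hs hs1 k hk hks
    have hkS := fixes_e0_of_commute hF hs hs1 hks
    have hkN : k ∈ Subgroup.normalizer (U (e0 F n) : Set (SpecialLinearGroup (Fin (n + 2)) F)) :=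
      Stab_le_normalizer_U hkS
    apply step2 k hk
    exact commute_of_disjoint hKU (le_trans U_le_Q0 hQK) hk hkN zT_mem_U
  -- the second transvection
  have h0l : (0 : Fin (n + 2)) ≠ (⟨0, hn⟩ : Fin n).succ.succ := (ss_ne_zero _).symm
  set t : SpecialLinearGroup (Fin (n + 2)) F := SpecialLinearGroup.transvection h0l (1 : F) with ht
  have htU : t ∈ U (e0 F n) := transvection_mem_U 0 h0l
  have htz : t ≠ zT F n := by
    intro h
    have h1 := congrFun (congrFun (congrArg Subtype.val h) 0) 1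
    have h3 : t.1 = 1 + Matrix.single 0 (⟨0, hn⟩ : Fin n).succ.succ (1 : F) := rfl
    rw [h3, zT_val', Matrix.add_apply, Matrix.add_apply, Matrix.single_apply_same,
      Matrix.single_apply_of_ne _ _ _ _ _ (fun h => ss_ne_one _ h.2)] at h1
    have := add_left_cancel h1
    exact one_ne_zero this.symm
  have ht1 : t ≠ 1 := by
    intro h
    have h1 := congrFun (congrFun (congrArg Subtype.val h) 0) (⟨0, hn⟩ : Fin n).succ.succ
    have h3 : t.1 = 1 + Matrix.single 0 (⟨0, hn⟩ : Fin n).succ.succ (1 : F) := rfl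
    rw [h3, val_one', Matrix.add_apply, Matrix.single_apply_same] at h1
    have : (1 : F) = 0 := by
      have := add_left_cancel (a := (1 : Matrix (Fin (n + 2)) (Fin (n + 2)) F) 0 _)
        (b := (1 : F)) (c := 0) (by rw [add_zero]; exact h1)
      exact this
    exact one_ne_zero this
  have htzU : t * zT F n ∈ U (e0 F n) := (U (e0 F n)).mul_mem htU zT_mem_U
  have htz1 : t * zT F n ≠ 1 := by
    intro h
    apply htz
    calc t = t * (zT F n * zT F n) := by rw [zT_mul_self h2, mul_one]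
      _ = (t * zT F n) * zT F n := by group
      _ = zT F n := by rw [h, one_mul]
  have : Finite K := Nat.finite_of_card_ne_zero (fun h => by rw [h] at hK; exact Nat.not_odd_zero hK)
  have hinvz := inverts_of_fpf K (zT F n) (zT_mul_self h2) (hQK zT_mem_Q0) step2
  have hinvt := inverts_of_fpf K t (U_mul_self h2 htU) (hQK (U_le_Q0 htU)) (step3 t htU ht1)
  rw [eq_bot_iff]
  intro k hk
  rw [Subgroup.mem_bot]
  apply step3 (t * zT F n) htzU htz1 k hk
  have h5 := hinvz k hk
  have h6 := hinvt k⁻¹ (inv_mem hk)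
  rw [inv_inv] at h6
  have h7 : (t * zT F n) * k * (t * zT F n)⁻¹ = k := by
    calc (t * zT F n) * k * (t * zT F n)⁻¹ = t * (zT F n * k * (zT F n)⁻¹) * t⁻¹ := by group
      _ = k := by rw [h5, h6]
  calc k * (t * zT F n) = ((t * zT F n) * k * (t * zT F n)⁻¹) * (t * zT F n) := by rw [h7]
    _ = (t * zT F n) * k := by group

end Cfsg.Agent.Lib.H6.TC2
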