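import Mathlib
import Cfsg.Agent.Lib.H6.TC2Large

set_option autoImplicit false

/-! Main theorem on the centralizer of a transvection in `SL_{n+2}(2)` (helper6). -/

namespace Cfsg.Agent.Lib.H6.TC2

open Cfsg Matrix
open Cfsg.Agent.Lib.H6.TransvCent

variable {F : Type*} [Field F] {n : ℕ}

/-- the column part of `psi` -/
def psi2 (F : Type*) [Field F] (n : ℕ) : ↥(Q0 F n) →* Multiplicative (Fin n → F) :=
  (AddMonoidHom.toMultiplicative (AddMonoidHom.snd (Fin n → F) (Fin n → F))).comp (psi F n)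

theorem psi2_apply (g : ↥(Q0 F n)) (k : Fin n) :
    Multiplicative.toAdd (psi2 F n g) k = g.1.1 k.succ.succ 1 := rfl

theorem psi2_surjective : Function.Surjective (psi2 F n) := by
  intro x
  obtain ⟨g, hg⟩ := psi_surjective (F := F) (n := n) (Multiplicative.ofAdd (0, Multiplicative.toAdd x))
  refine ⟨g, ?_⟩
  show Multiplicative.ofAdd (Multiplicative.toAdd (psi F n g)).2 = x
  rw [hg]
  rfl

/-- the elementary abelian subgroup -/
def E0 (F : Type*) [Field F] (n : ℕ) : Subgroup (SpecialLinearGroup (Fin (n + 2)) F) :=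
  (psi2 F n).ker.map (Q0 F n).subtype

theorem E0_le_Q0 : E0 F n ≤ Q0 F n := Subgroup.map_subtype_le _

theorem E0_le_U : E0 F n ≤ U (e0 F n) := by
  rintro _ ⟨g, hg, rfl⟩
  have hc : ∀ k : Fin n, g.1.1 k.succ.succ 1 = 0 := by
    intro k
    have h1 : psi2 F n g = 1 := MonoidHom.mem_ker.1 hg
    have := congrFun (congrArg Multiplicative.toAdd h1) k
    exact this
  obtain ⟨g1, g2, g3⟩ := Q0_entries g.2
  refine ⟨fun l => g.1.1 0 l - Pi.single (M := fun _ => F) 0 1 l, ?_, ?_⟩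
  · rw [e0, dotProduct_single, mul_one, g1, if_pos rfl, Pi.single_eq_same, sub_self]
  · ext a b
    show g.1.1 a b = _
    rw [Matrix.add_apply, vecMulVec_apply, e0]
    rcases fin2_cases a with rfl | rfl | ⟨a', rfl⟩
    · rw [Pi.single_eq_same, one_mul, Matrix.one_apply, Pi.single_apply]
      by_cases hb : b = 0
      · rw [if_pos hb, if_pos hb.symm]; ring
      · rw [if_neg hb, if_neg (Ne.symm hb)]; ring
    · rw [Pi.single_apply, if_neg zero_ne_one'.symm, zero_mul, add_zero, g2, Matrix.one_apply]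
      by_cases hb : b = 1
      · rw [if_pos hb, if_pos hb.symm]
      · rw [if_neg hb, if_neg (Ne.symm hb)]
    · rw [Pi.single_apply, if_neg (ss_ne_zero a'), zero_mul, add_zero]
      rcases fin2_cases b with rfl | rfl | ⟨b', rfl⟩
      · rw [g1, if_neg (ss_ne_zero a'), Matrix.one_apply_ne (ss_ne_zero a')]
      · rw [hc, Matrix.one_apply_ne (ss_ne_one a')]
      · rw [g3, Matrix.one_apply]
        by_cases hab : a' = b'
        · rw [if_pos hab, if_pos (by rw [hab])]
        · rw [if_neg hab, if_neg (fun h' => hab (ss_inj h'))]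

theorem card_E0 [Fintype F] (hF : Fintype.card F = 2) : Nat.card ↥(E0 F n) = 2 ^ (n + 1) := by
  have h1 := Subgroup.card_eq_card_quotient_mul_card_subgroup (psi2 F n).ker
  have h2 : Nat.card (↥(Q0 F n) ⧸ (psi2 F n).ker) = 2 ^ n := by
    rw [Nat.card_congr (QuotientGroup.quotientKerEquivOfSurjective (psi2 F n) psi2_surjective).toEquiv,
      Nat.card_congr Multiplicative.toAdd, Nat.card_fun, Nat.card_eq_fintype_card,
      Nat.card_eq_fintype_card, hF, Fintype.card_fin]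
  rw [card_Q0 hF, h2] at h1
  have h3 : Nat.card ↥(E0 F n) = Nat.card ↥(psi2 F n).ker := by
    rw [E0, Subgroup.card_map_of_injective (Q0 F n).subtype_injective]
  rw [h3]
  have h4 : 2 ^ (2 * n + 1) = 2 ^ n * 2 ^ (n + 1) := by rw [← pow_add]; congr 1; ring
  rw [h4] at h1
  exact (Nat.eq_of_mul_eq_mul_left (by positivity) h1).symm

theorem isElementaryAbelian_E0 (h2 : (2 : F) = 0) : IsElementaryAbelian 2 (E0 F n) := by
  refine ⟨⟨⟨?_⟩⟩, ?_⟩
  · intro a b
    apply Subtype.ext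
    exact U_comm (E0_le_U a.2) (E0_le_U b.2)
  · intro a ha
    rw [pow_two]
    exact U_mul_self h2 (E0_le_U ha)

theorem isExtraspecial_Q0 [Fintype F] (hF : Fintype.card F = 2) (hn : 1 ≤ n) :
    IsExtraspecial 2 ↥(Q0 F n) := by
  have : Fact (Nat.Prime 2) := ⟨Nat.prime_two⟩
  have : Finite (SpecialLinearGroup (Fin (n + 2)) F) := inferInstance
  exact Cfsg.Agent.Lib.H27.isExtraspecial_subgroup 2 (Q0 F n) (Z0 F n (card_two_facts hF).1)
    (isPGroup_Q0 hF) (Z0_le_Q0 _) (card_Z0 _) (Q0_inf_centralizer hF) (commutator_Q0 hF hn)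
    (fun x hx => sq_mem_Z0 hF hx)

theorem map_center_Q0 [Fintype F] (hF : Fintype.card F = 2) :
    (Subgroup.center ↥(Q0 F n)).map (Q0 F n).subtype = Z0 F n (card_two_facts hF).1 := by
  rw [Cfsg.Agent.Lib.H27.map_center_eq, Q0_inf_centralizer hF]

theorem isLargeExtraspecial_Q0 [Fintype F] (hF : Fintype.card F = 2) (hn : 1 ≤ n) :
    IsLargeExtraspecial (Q0 F n) := by
  refine ⟨isExtraspecial_Q0 hF hn, ?_, ?_, ?_⟩
  · rw [map_center_Q0 hF, centralizer_Q0 hF]
  · rw [map_center_Q0 hF]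
    intro y hy
    rw [Subgroup.mem_centralizer_iff] at hy
    have hcen := centralizer_eq_Stab hF (zero_ne_one' (n := n)) (zT F n) zT_val
    have : y ∈ Subgroup.centralizer ({zT F n} : Set (SpecialLinearGroup (Fin (n + 2)) F)) := by
      rw [Subgroup.mem_centralizer_iff]
      intro x hx
      rw [Set.mem_singleton_iff] at hx
      subst hx
      exact hy _ (Or.inr rfl)
    rw [hcen] at this
    exact Stab_le_normalizer_Q0 this
  · intro K hK hQK
    exact odd_normalized_eq_bot hF hn K hK hQK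

theorem main [Fintype F] (hF : Fintype.card F = 2) (hn : 2 ≤ n) :
    IsExtraspecial 2 ↥(Q0 F n) ∧ Nat.card ↥(Q0 F n) = 2 ^ (2 * n + 1) ∧
    (∃ E : Subgroup (SpecialLinearGroup (Fin (n + 2)) F), E ≤ Q0 F n ∧ IsElementaryAbelian 2 E ∧
      Nat.card ↥E = 2 ^ (n + 1)) ∧
    IsLargeExtraspecial (Q0 F n) ∧
    ∃ K : Subgroup (SpecialLinearGroup (Fin (n + 2)) F), K ≤ Stab (e0 F n) (f1 F n) ∧
      Q0 F n ⊓ K = ⊥ ∧ Q0 F n ⊔ K = Stab (e0 F n) (f1 F n) ∧
      Nonempty (↥K ≃* SpecialLinearGroup (Fin n) F) :=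
  ⟨isExtraspecial_Q0 hF (by omega), card_Q0 hF,
    ⟨E0 F n, E0_le_Q0, isElementaryAbelian_E0 (card_two_facts hF).1, card_E0 hF⟩,
    isLargeExtraspecial_Q0 hF (by omega),
    ⟨K0 F n, K0_le_Stab, Q0_inf_K0, Q0_sup_K0, ⟨K0Equiv F n⟩⟩⟩

end Cfsg.Agent.Lib.H6.TC2
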