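import Mathlib
import Cfsg.Agent.Lib.H6.DXSQUARE

namespace Cfsg.Agent.Lib.H6.DX

open scoped commutatorElement

section XArg

variable {G : Type*} [Group G]

theorem central_conj {z : G} (hz : z ∈ Subgroup.center G) (g : G) : g * z * g⁻¹ = z := by
  rw [Subgroup.mem_center_iff.mp hz g, mul_inv_cancel_right]

theorem central_conj' {z : G} (hz : z ∈ Subgroup.center G) (g : G) : g⁻¹ * z * g = z := by
  have := central_conj hz g⁻¹
  rwa [inv_inv] at this

/-- `⁅a, b * c⁆ = ⁅a, b⁆ * ⁅a, c⁆` when `⁅a, c⁆` is central -/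
theorem comm_mul_right_of_mem {a b c : G} (hc : ⁅a, c⁆ ∈ Subgroup.center G) :
    ⁅a, b * c⁆ = ⁅a, b⁆ * ⁅a, c⁆ := by
  have h1 : ⁅a, b * c⁆ = ⁅a, b⁆ * (b * ⁅a, c⁆ * b⁻¹) := by
    simp only [commutatorElement_def]; group
  rw [h1, central_conj hc]

/-- `⁅a * b, c⁆ = ⁅b, c⁆ * ⁅a, c⁆` when `⁅b, c⁆` is central -/
theorem comm_mul_left_of_mem {a b c : G} (hc : ⁅b, c⁆ ∈ Subgroup.center G) :
    ⁅a * b, c⁆ = ⁅b, c⁆ * ⁅a, c⁆ := by
  have h1 : ⁅a * b, c⁆ = (a * ⁅b, c⁆ * a⁻¹) * ⁅a, c⁆ := by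
    simp only [commutatorElement_def]; group
  rw [h1, central_conj hc]

theorem comm_inv_left_of_mem {a c : G} (hc : ⁅a, c⁆ ∈ Subgroup.center G) :
    ⁅a⁻¹, c⁆ = ⁅a, c⁆⁻¹ := by
  have h1 : ⁅a⁻¹, c⁆ = a⁻¹ * ⁅a, c⁆⁻¹ * a := by
    simp only [commutatorElement_def]; group
  rw [h1, central_conj' (inv_mem hc)]

theorem comm_central_mul_left {z : G} (hz : z ∈ Subgroup.center G) (c b : G) :
    ⁅c * z, b⁆ = ⁅c, b⁆ := by
  have h1 : ⁅c * z, b⁆ = c * (z * b * z⁻¹) * c⁻¹ * b⁻¹ := by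
    simp only [commutatorElement_def]; group
  rw [h1, ← Subgroup.mem_center_iff.mp hz b, mul_inv_cancel_right]
  rfl

/-- the subgroup of elements of `A` fixed modulo the centre by conjugation with `x` -/
def fixMod (A : Subgroup G) (x : G) : Subgroup G where
  carrier := {a | a ∈ A ∧ ⁅a, x⁆ ∈ Subgroup.center G}
  one_mem' := ⟨one_mem _, by rw [commutatorElement_one_left]; exact one_mem _⟩
  mul_mem' := by
    rintro a b ⟨ha, ha'⟩ ⟨hb, hb'⟩
    exact ⟨mul_mem ha hb, by rw [comm_mul_left_of_mem hb']; exact mul_mem hb' ha'⟩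
  inv_mem' := by
    rintro a ⟨ha, ha'⟩
    exact ⟨inv_mem ha, by rw [comm_inv_left_of_mem ha']; exact inv_mem ha'⟩

theorem mem_fixMod {A : Subgroup G} {x a : G} :
    a ∈ fixMod A x ↔ a ∈ A ∧ ⁅a, x⁆ ∈ Subgroup.center G := Iff.rfl

theorem fixMod_le (A : Subgroup G) (x : G) : fixMod A x ≤ A := fun _ h => h.1

theorem center_le_fixMod {A : Subgroup G} (hZA : Subgroup.center G ≤ A) (x : G) :
    Subgroup.center G ≤ fixMod A x := by
  intro z hz
  refine ⟨hZA hz, ?_⟩
  have : ⁅z, x⁆ = 1 := by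
    rw [commutatorElement_eq_one_iff_mul_comm]
    exact (Subgroup.mem_center_iff.mp hz x).symm
  rw [this]; exact one_mem _

/-- one conjugation step: `⁅c, x b x⁻¹⁆ = ⁅c, b⁆` for `c` fixed mod centre, `⁅c, b⁆` central -/
theorem comm_conj_step {c x b : G} (hc : ⁅c, x⁆ ∈ Subgroup.center G)
    (hb : ⁅c, b⁆ ∈ Subgroup.center G) : ⁅c, x * b * x⁻¹⁆ = ⁅c, b⁆ := by
  have h1 : ⁅c, x * b * x⁻¹⁆ = x * ⁅x⁻¹ * c * x, b⁆ * x⁻¹ := by
    simp only [commutatorElement_def]; group
  have h2 : x⁻¹ * c * x = c * ((x * c)⁻¹ * ⁅c, x⁆ * (x * c)) := by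
    simp only [commutatorElement_def]; group
  rw [h1, h2, central_conj' hc, comm_central_mul_left hc, central_conj hb]

theorem comm_conj_pow {c x b : G} (hc : ⁅c, x⁆ ∈ Subgroup.center G)
    (hb : ⁅c, b⁆ ∈ Subgroup.center G) (k : ℕ) :
    ⁅c, x ^ k * b * (x ^ k)⁻¹⁆ = ⁅c, b⁆ := by
  induction k with
  | zero => simp
  | succ k ih =>
    have : x ^ (k + 1) * b * (x ^ (k + 1))⁻¹ = x * (x ^ k * b * (x ^ k)⁻¹) * x⁻¹ := by
      rw [pow_succ']; group
    rw [this, comm_conj_step hc (by rw [ih]; exact hb), ih]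

/-- the "norm" `a * a^x * ... * a^(x^(k-1))` -/
def normProd (x a : G) : ℕ → G
  | 0 => 1
  | k + 1 => normProd x a k * (x ^ k * a * (x ^ k)⁻¹)

theorem normProd_succ (x a : G) (k : ℕ) :
    normProd x a (k + 1) = normProd x a k * (x ^ k * a * (x ^ k)⁻¹) := rfl

theorem normProd_mem {A : Subgroup G} [hA : A.Normal] (x : G) {a : G} (ha : a ∈ A) (k : ℕ) :
    normProd x a k ∈ A := by
  induction k with
  | zero => exact one_mem _
  | succ k ih => exact mul_mem ih (hA.conj_mem a ha _)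

theorem conj_normProd (x a : G) (k : ℕ) :
    a * (x * normProd x a k * x⁻¹) = normProd x a (k + 1) := by
  induction k with
  | zero => simp [normProd]
  | succ k ih =>
    have h1 : normProd x a (k + 1 + 1) =
        normProd x a (k + 1) * (x ^ (k + 1) * a * (x ^ (k + 1))⁻¹) := rfl
    rw [h1]
    conv_rhs => rw [← ih]
    conv_lhs => rw [normProd_succ]
    rw [pow_succ' x k]
    group

theorem comm_normProd {A : Subgroup G}
    (hcl : ⁅A, A⁆ ≤ Subgroup.center G) {x c a : G} (hc : c ∈ fixMod A x) (ha : a ∈ A) (k : ℕ) :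
    ⁅c, normProd x a k⁆ = ⁅c, a⁆ ^ k := by
  have hca : ⁅c, a⁆ ∈ Subgroup.center G :=
    hcl (Subgroup.commutator_mem_commutator hc.1 ha)
  induction k with
  | zero => simp [normProd]
  | succ k ih =>
    rw [normProd_succ, comm_mul_right_of_mem (by rw [comm_conj_pow hc.2 hca]; exact hca), ih,
      comm_conj_pow hc.2 hca, pow_succ]


theorem normProd_mem_fixMod {A : Subgroup G} [hA : A.Normal]
    (hcl : ⁅A, A⁆ ≤ Subgroup.center G) {x a : G} (ha : a ∈ A) (p : ℕ)
    (hxp : ⁅a, x ^ p⁆ ∈ Subgroup.center G) : normProd x a p ∈ fixMod A x := by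
  refine ⟨normProd_mem x ha p, ?_⟩
  have h1 := conj_normProd x a p
  rw [normProd_succ] at h1
  have hN : ⁅normProd x a p, a⁻¹⁆ ∈ Subgroup.center G :=
    hcl (Subgroup.commutator_mem_commutator (normProd_mem x ha p) (inv_mem ha))
  have h2 : ⁅normProd x a p, x⁆ = ⁅a, x ^ p⁆ * ⁅normProd x a p, a⁻¹⁆ := by
    have h3 : x * normProd x a p * x⁻¹ =
        a⁻¹ * (normProd x a p * (x ^ p * a * (x ^ p)⁻¹)) := by
      rw [← h1]; group
    have h4 : ⁅normProd x a p, x⁆ = normProd x a p * (x * normProd x a p * x⁻¹)⁻¹ := by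
      simp only [commutatorElement_def]; group
    rw [h4, h3]
    generalize normProd x a p = N
    have h5 : N * (a⁻¹ * (N * (x ^ p * a * (x ^ p)⁻¹)))⁻¹ = N * (a⁻¹ * ⁅a, x ^ p⁆) * N⁻¹ * a := by
      simp only [commutatorElement_def]; group
    rw [h5]
    generalize ⁅a, x ^ p⁆ = z at hxp ⊢
    rw [Subgroup.mem_center_iff.mp hxp a⁻¹, ← mul_assoc N z, Subgroup.mem_center_iff.mp hxp N]
    simp only [commutatorElement_def, mul_assoc, inv_inv]
  rw [h2]
  exact mul_mem hxp hN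

theorem comm_pow_right_of_mem {c a : G} (hca : ⁅c, a⁆ ∈ Subgroup.center G) (k : ℕ) :
    ⁅c, a ^ k⁆ = ⁅c, a⁆ ^ k := by
  induction k with
  | zero => simp
  | succ k ih => rw [pow_succ, comm_mul_right_of_mem hca, ih, pow_succ]

theorem pow_relIndex_mem_center {A : Subgroup G} {a : G} (ha : a ∈ A) :
    a ^ (Subgroup.center G).relIndex A ∈ Subgroup.center G := by
  have := Subgroup.pow_index_mem ((Subgroup.center G).subgroupOf A) (⟨a, ha⟩ : ↥A)
  rw [Subgroup.mem_subgroupOf] at this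
  exact this

/-- the centre of the group `fixMod A x` is the centre of `G` -/
theorem mem_center_of_central_in_fixMod {A : Subgroup G} [hA : A.Normal] (p : ℕ)
    (hcl : ⁅A, A⁆ ≤ Subgroup.center G)
    (hZ : A ⊓ Subgroup.centralizer (A : Set G) = Subgroup.center G)
    (hcop : Nat.Coprime p ((Subgroup.center G).relIndex A))
    (x : G) (hxp : ∀ a ∈ A, ⁅a, x ^ p⁆ ∈ Subgroup.center G)
    {c : G} (hc : c ∈ fixMod A x) (hcent : ∀ c' ∈ fixMod A x, c * c' = c' * c) :
    c ∈ Subgroup.center G := by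
  rw [← hZ, Subgroup.mem_inf]
  refine ⟨hc.1, ?_⟩
  rw [Subgroup.mem_centralizer_iff]
  intro a ha
  have hca : ⁅c, a⁆ ∈ Subgroup.center G := hcl (Subgroup.commutator_mem_commutator hc.1 ha)
  have hwp : ⁅c, a⁆ ^ p = 1 := by
    rw [← comm_normProd hcl hc ha p, commutatorElement_eq_one_iff_mul_comm]
    exact hcent _ (normProd_mem_fixMod hcl ha p (hxp a ha))
  have hwn : ⁅c, a⁆ ^ (Subgroup.center G).relIndex A = 1 := by
    rw [← comm_pow_right_of_mem hca, commutatorElement_eq_one_iff_mul_comm]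
    exact Subgroup.mem_center_iff.mp (pow_relIndex_mem_center ha) c
  have h1 := pow_gcd_eq_one.mpr ⟨hwp, hwn⟩
  rw [Nat.Coprime.gcd_eq_one hcop, pow_one, commutatorElement_eq_one_iff_mul_comm] at h1
  exact h1.symm

theorem isSquare_relIndex_fixMod [Finite G] {A : Subgroup G} [hA : A.Normal] (p : ℕ)
    (hcyc : IsCyclic (Subgroup.center G)) (hZA : Subgroup.center G ≤ A)
    (hcl : ⁅A, A⁆ ≤ Subgroup.center G)
    (hZ : A ⊓ Subgroup.centralizer (A : Set G) = Subgroup.center G)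
    (hcop : Nat.Coprime p ((Subgroup.center G).relIndex A))
    (x : G) (hxp : ∀ a ∈ A, ⁅a, x ^ p⁆ ∈ Subgroup.center G) :
    IsSquare ((Subgroup.center G).relIndex (fixMod A x)) := by
  have hZC := center_le_fixMod hZA x
  have hcenter : Subgroup.center ↥(fixMod A x) = (Subgroup.center G).subgroupOf (fixMod A x) := by
    ext c
    rw [Subgroup.mem_subgroupOf, Subgroup.mem_center_iff]
    constructor
    · intro h
      refine mem_center_of_central_in_fixMod p hcl hZ hcop x hxp c.2 (fun c' hc' => ?_)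
      have := h ⟨c', hc'⟩
      exact (congrArg Subtype.val this).symm
    · intro h g
      apply Subtype.ext
      exact Subgroup.mem_center_iff.mp h g
  have h2' : commutator ↥(fixMod A x) ≤ Subgroup.center ↥(fixMod A x) := by
    rw [commutator_def, Subgroup.commutator_le]
    intro g₁ _ g₂ _
    rw [hcenter, Subgroup.mem_subgroupOf]
    exact hcl (Subgroup.commutator_mem_commutator (fixMod_le A x g₁.2) (fixMod_le A x g₂.2))
  have hcyc' : IsCyclic ↥(Subgroup.center ↥(fixMod A x)) := by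
    rw [hcenter]
    exact isCyclic_of_surjective (Subgroup.subgroupOfEquivOfLe hZC).symm.toMonoidHom
      (Subgroup.subgroupOfEquivOfLe hZC).symm.surjective
  have := isSquare_index_center h2' hcyc'
  rw [hcenter] at this
  exact this


/-- fixed point congruence for the action of `x` on `A / Z` -/
theorem relIndex_modEq_relIndex_fixMod [Finite G] {A : Subgroup G} [hA : A.Normal] (p : ℕ)
    [hp : Fact p.Prime] (x : G) (hxp : ∀ a ∈ A, ⁅a, x ^ p⁆ ∈ Subgroup.center G) :
    (Subgroup.center G).relIndex A ≡ (Subgroup.center G).relIndex (fixMod A x) [MOD p] := by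
  classical
  set N : Subgroup ↥A := (Subgroup.center G).subgroupOf A with hN
  have hmemN : ∀ a : ↥A, a ∈ N ↔ (a : G) ∈ Subgroup.center G := fun a =>
    Subgroup.mem_subgroupOf
  let φ : ↥A →* ↥A := (MulAut.conjNormal x : MulAut ↥A).toMonoidHom
  have hφ : ∀ a : ↥A, ((φ a : ↥A) : G) = x * a * x⁻¹ := fun a => MulAut.conjNormal_apply x a
  have hle : N ≤ N.comap φ := by
    intro a ha
    rw [Subgroup.mem_comap, hmemN, hφ]
    rw [hmemN] at ha
    rw [central_conj ha]; exact ha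
  let F : (↥A ⧸ N) →* (↥A ⧸ N) := QuotientGroup.map N N φ hle
  have hF : ∀ a : ↥A, F (QuotientGroup.mk a) = QuotientGroup.mk (φ a) := fun a =>
    QuotientGroup.map_mk N N φ hle a
  have hiter : ∀ (k : ℕ) (a : ↥A), F^[k] (QuotientGroup.mk a) =
      QuotientGroup.mk ((MulAut.conjNormal (x ^ k) : MulAut ↥A) a) := by
    intro k
    induction k with
    | zero => intro a; simp
    | succ k ih =>
      intro a
      rw [Function.iterate_succ_apply', ih, hF]
      congr 1
      apply Subtype.ext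
      rw [hφ, MulAut.conjNormal_apply, MulAut.conjNormal_apply, pow_succ']
      group
  let _ : Fintype (↥A ⧸ N) := Fintype.ofFinite _
  have hFp : (show Function.End (↥A ⧸ N) from ⇑F) ^ p ^ 1 = 1 := by
    rw [pow_one]
    funext q
    obtain ⟨a, rfl⟩ := QuotientGroup.mk_surjective q
    show F^[p] (QuotientGroup.mk a) = QuotientGroup.mk a
    rw [hiter, QuotientGroup.eq, hmemN]
    have h1 : ((((MulAut.conjNormal (x ^ p) : MulAut ↥A) a)⁻¹ * a : ↥A) : G) =
        ⁅(a : G)⁻¹, x ^ p⁆⁻¹ := by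
      rw [Subgroup.coe_mul, Subgroup.coe_inv, MulAut.conjNormal_apply]
      simp only [commutatorElement_def]; group
    rw [h1]
    exact inv_mem (hxp _ (inv_mem a.2))
  have hfix : Function.fixedPoints (⇑F) =
      (((fixMod A x).subgroupOf A).map (QuotientGroup.mk' N) : Set (↥A ⧸ N)) := by
    ext q
    obtain ⟨a, rfl⟩ := QuotientGroup.mk_surjective q
    rw [Function.mem_fixedPoints, Function.IsFixedPt, hF, QuotientGroup.eq, hmemN,
      SetLike.mem_coe, Subgroup.mem_map]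
    have h1 : (((φ a)⁻¹ * a : ↥A) : G) = ⁅(a : G)⁻¹, x⁆⁻¹ := by
      rw [Subgroup.coe_mul, Subgroup.coe_inv, hφ]
      simp only [commutatorElement_def]; group
    rw [h1]
    constructor
    · intro h
      refine ⟨a, ?_, rfl⟩
      rw [Subgroup.mem_subgroupOf]
      have : (a : G)⁻¹ ∈ fixMod A x := ⟨inv_mem a.2, by simpa using inv_mem h⟩
      simpa using inv_mem this
    · rintro ⟨k, hk, hka⟩
      rw [QuotientGroup.mk'_apply, QuotientGroup.eq, hmemN] at hka
      rw [Subgroup.mem_subgroupOf] at hk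
      have hZC : (k : G)⁻¹ * a ∈ fixMod A x := by
        have := hka
        rw [Subgroup.coe_mul, Subgroup.coe_inv] at this
        exact ⟨mul_mem (inv_mem k.2) a.2, by
          have h0 : ⁅(k : G)⁻¹ * (a : G), x⁆ = 1 := by
            rw [commutatorElement_eq_one_iff_mul_comm]
            exact (Subgroup.mem_center_iff.mp this x).symm
          rw [h0]; exact one_mem _⟩
      have ha : (a : G) ∈ fixMod A x := by
        have := mul_mem hk hZC
        rwa [mul_inv_cancel_left] at this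
      exact inv_mem (inv_mem ha).2
  have hmod := Equiv.Perm.card_fixedPoints_modEq (f := (show Function.End (↥A ⧸ N) from ⇑F))
    (p := p) (n := 1) hFp
  rw [Fintype.card_eq_nat_card, Fintype.card_eq_nat_card] at hmod
  have hc1 : Nat.card (↥A ⧸ N) = (Subgroup.center G).relIndex A := rfl
  have hc2 : Nat.card ↥(Function.fixedPoints (⇑F)) =
      (Subgroup.center G).relIndex (fixMod A x) := by
    rw [hfix, SetLike.coe_sort_coe, ← Subgroup.relIndex_ker, QuotientGroup.ker_mk',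
      Subgroup.relIndex_subgroupOf (fixMod_le A x)]
  rw [← hc1, ← hc2]
  exact hmod


/-- XARG -/
theorem exists_pow_of_nontrivial_action {G : Type*} [Group G] [Finite G] (p r m : ℕ)
    [Fact p.Prime] (hr : r.Prime) (hpr : r ≠ p) (hcyc : IsCyclic (Subgroup.center G))
    (A : Subgroup G) [A.Normal] (hZA : Subgroup.center G ≤ A)
    (hcl : ⁅A, A⁆ ≤ Subgroup.center G)
    (hZ : A ⊓ Subgroup.centralizer (A : Set G) = Subgroup.center G)
    (hidx : (Subgroup.center G).relIndex A = r ^ (2 * m))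
    (x : G) (hxp : ∀ a ∈ A, ⁅a, x ^ p⁆ ∈ Subgroup.center G)
    (a₀ : G) (ha₀ : a₀ ∈ A) (hne : ⁅a₀, x⁆ ∉ Subgroup.center G) :
    ∃ j, 1 ≤ j ∧ j ≤ m ∧ (p ∣ r ^ j - 1 ∨ p ∣ r ^ j + 1) := by
  have hp := (Fact.out : p.Prime)
  have hcopr : Nat.Coprime p r := (Nat.coprime_primes hp hr).mpr hpr.symm
  have hcop : Nat.Coprime p ((Subgroup.center G).relIndex A) := by
    rw [hidx]; exact hcopr.pow_right _
  obtain ⟨s, hs⟩ := isSquare_relIndex_fixMod p hcyc hZA hcl hZ hcop x hxp
  have hmod := relIndex_modEq_relIndex_fixMod (A := A) p x hxp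
  have hZC := center_le_fixMod hZA x
  have hmul := Subgroup.relIndex_mul_relIndex _ _ _ hZC (fixMod_le A x)
  rw [hs, hidx] at hmul
  have hsdvd : s ∣ r ^ (2 * m) := Dvd.intro (s * (fixMod A x).relIndex A) (by rw [← hmul]; ring)
  obtain ⟨c, -, rfl⟩ := (Nat.dvd_prime_pow hr).mp hsdvd
  have hne1 : (fixMod A x).relIndex A ≠ 1 := by
    intro h
    rw [Subgroup.relIndex_eq_one] at h
    exact hne (h ha₀).2
  have hrpos : 0 < r := hr.pos
  have hcm : c < m := by
    by_contra hcon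
    push Not at hcon
    have h1 : r ^ (2 * m) ∣ r ^ c * r ^ c := by
      rw [← pow_add]; exact pow_dvd_pow r (by omega)
    have h2 : r ^ c * r ^ c * (fixMod A x).relIndex A ∣ r ^ c * r ^ c * 1 := by
      rw [hmul, mul_one]; exact h1
    have h3 := Nat.dvd_of_mul_dvd_mul_left (by positivity) h2
    exact hne1 (Nat.dvd_one.mp h3)
  rw [hidx, hs] at hmod
  refine ⟨m - c, by omega, by omega, ?_⟩
  have h1 : r ^ (2 * m) = r ^ c * r ^ c * r ^ (2 * (m - c)) := by
    rw [← pow_add, ← pow_add]; congr 1; omega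
  rw [h1] at hmod
  have hcop2 : Nat.gcd p (r ^ c * r ^ c) = 1 :=
    Nat.Coprime.mul_right (hcopr.pow_right _) (hcopr.pow_right _)
  have h2 : r ^ (2 * (m - c)) ≡ 1 [MOD p] :=
    Nat.ModEq.cancel_left_of_coprime hcop2 (by rw [mul_one]; exact hmod)
  have h3 : p ∣ r ^ (2 * (m - c)) - 1 :=
    (Nat.modEq_iff_dvd' (Nat.one_le_pow _ _ hrpos)).mp h2.symm
  have h4 : r ^ (2 * (m - c)) - 1 = (r ^ (m - c) + 1) * (r ^ (m - c) - 1) := by
    rw [pow_mul']
    have := Nat.sq_sub_sq (r ^ (m - c)) 1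
    rwa [one_pow] at this
  rw [h4] at h3
  exact ((Nat.Prime.dvd_mul hp).mp h3).symm

end XArg

end Cfsg.Agent.Lib.H6.DX
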