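import Mathlib

set_option autoImplicit false

/-!
# A verified Todd–Coxeter deduction checker for Coxeter groups

For a Coxeter matrix on `Fin n`, a list of coset representative words and a list of deduction steps,
the checker certifies that the cosets `H g_i` of the standard parabolic subgroup `H` generated by
the first `nh` simple reflections cover the Coxeter group.
-/

namespace Cfsg.Agent.Lib.H6.CoxTC

/-! ### pure data -/

abbrev Table := List (List (Option ℕ))

def lookup (T : Table) (i a : ℕ) : Option ℕ := (T.getD i []).getD a none

def setE (T : Table) (i a j : ℕ) : Table := T.set i ((T.getD i []).set a (some j))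

def trace (T : Table) : ℕ → List ℕ → Option ℕ
  | i, [] => some i
  | i, a :: w =>
    match lookup T i a with
    | some j => trace T j w
    | none => none

inductive Step
  | defn (i a j : ℕ)
  | hgen (a : ℕ)
  | ded (i a b p : ℕ)

structure Ctx where
  n : ℕ
  nh : ℕ
  N : ℕ
  m : ℕ → ℕ → ℕ
  reps : List (List ℕ)

def alt (a b : ℕ) : ℕ → List ℕ
  | 0 => []
  | t + 1 => a :: alt b a t

def step (C : Ctx) (T : Table) : Step → Option Table
  | .defn i a j =>
    if Nat.blt i C.N && Nat.blt j C.N && Nat.blt a C.n &&
        (C.reps.getD j [] == C.reps.getD i [] ++ [a]) then
      some (setE (setE T i a j) j a i)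
    else none
  | .hgen a =>
    if Nat.blt a C.nh && Nat.blt a C.n then some (setE T 0 a 0) else none
  | .ded i a b p =>
    if Nat.blt i C.N && Nat.blt a C.n && Nat.blt b C.n then
      match trace T i ((alt a b (2 * C.m a b)).take p),
        trace T i (((alt a b (2 * C.m a b)).drop (p + 1)).reverse),
        (alt a b (2 * C.m a b))[p]? with
      | some x, some y, some c => some (setE (setE T x c y) y c x)
      | _, _, _ => none
    else none

def run (C : Ctx) : Table → List Step → Option Table
  | T, [] => some T
  | T, s :: ss =>
    match step C T s with
    | some T' => run C T' ss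
    | none => none

def complete (C : Ctx) (T : Table) : Bool :=
  (List.range C.N).all fun i => (List.range C.n).all fun a => (lookup T i a).isSome

def check (C : Ctx) (steps : List Step) : Bool :=
  Nat.blt 0 C.N && (C.reps.getD 0 [] == []) &&
  match run C (List.replicate C.N (List.replicate C.n none)) steps with
  | some T => complete C T
  | none => false

/-! ### lookup after an update -/

theorem lookup_setE {T : Table} {i a j i' a' j' : ℕ}
    (h : lookup (setE T i a j) i' a' = some j') :
    (i' = i ∧ a' = a ∧ j' = j) ∨ lookup T i' a' = some j' := by
  unfold lookup setE at h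
  rw [List.getD_eq_getElem?_getD, List.getD_eq_getElem?_getD, List.getElem?_set] at h
  by_cases hi : i = i'
  · subst hi
    rw [if_pos rfl] at h
    by_cases hlen : i < T.length
    · rw [if_pos hlen] at h
      simp only [Option.getD_some] at h
      rw [List.getElem?_set] at h
      by_cases ha : a = a'
      · subst ha
        rw [if_pos rfl] at h
        by_cases hlen2 : a < (T.getD i []).length
        · rw [if_pos hlen2] at h
          simp only [Option.getD_some, Option.some.injEq] at h
          exact Or.inl ⟨rfl, rfl, h.symm⟩
        · rw [if_neg hlen2] at h
          simp at h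
      · rw [if_neg ha] at h
        right
        unfold lookup
        rw [List.getD_eq_getElem?_getD (l := T.getD i [])]
        exact h
    · rw [if_neg hlen] at h
      simp at h
  · rw [if_neg hi] at h
    right
    unfold lookup
    rw [List.getD_eq_getElem?_getD (l := T), List.getD_eq_getElem?_getD]
    exact h

theorem lookup_replicate (N n i a : ℕ) :
    lookup (List.replicate N (List.replicate n none)) i a = none := by
  unfold lookup
  rw [List.getD_eq_getElem?_getD, List.getD_eq_getElem?_getD]
  by_cases hi : i < N
  · rw [List.getElem?_replicate, if_pos hi]
    simp only [Option.getD_some]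
    rw [List.getElem?_replicate]
    split <;> rfl
  · rw [List.getElem?_replicate, if_neg hi]
    simp

end Cfsg.Agent.Lib.H6.CoxTC
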