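import Mathlib
import Cfsg.Agent.Lib.H6.CoxTC1

set_option autoImplicit false

namespace Cfsg.Agent.Lib.H6.CoxTC.Data

open Cfsg.Agent.Lib.H6.CoxTC

def mE8_1 : List (List ℕ) := [[1]]

def repsE8_1 : List (List ℕ) :=
  [[],
   [0]]

def ctxE8_1 : Ctx :=
  { n := 1, nh := 0, N := 2, m := fun a b => (mE8_1.getD a []).getD b 0, reps := repsE8_1 }

def stepsE8_1 : List Step :=
  [.defn 0 0 1]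

set_option maxRecDepth 1000000 in
theorem checkE8_1 : check ctxE8_1 stepsE8_1 = true := by decide +kernel

def mE8_2 : List (List ℕ) := [[1, 2], [2, 1]]

def repsE8_2 : List (List ℕ) :=
  [[],
   [1]]

def ctxE8_2 : Ctx :=
  { n := 2, nh := 1, N := 2, m := fun a b => (mE8_2.getD a []).getD b 0, reps := repsE8_2 }

def stepsE8_2 : List Step :=
  [.defn 0 1 1, .hgen 0, .ded 0 0 1 2]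

set_option maxRecDepth 1000000 in
theorem checkE8_2 : check ctxE8_2 stepsE8_2 = true := by decide +kernel

def mE8_3 : List (List ℕ) := [[1, 2, 3], [2, 1, 2], [3, 2, 1]]

def repsE8_3 : List (List ℕ) :=
  [[],
   [2],
   [2, 0]]

def ctxE8_3 : Ctx :=
  { n := 3, nh := 2, N := 3, m := fun a b => (mE8_3.getD a []).getD b 0, reps := repsE8_3 }

def stepsE8_3 : List Step :=
  [.defn 0 2 1, .defn 1 0 2, .hgen 0, .hgen 1, .ded 0 0 2 3, .ded 0 1 2 2, .ded 1 0 1 1]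

set_option maxRecDepth 1000000 in
theorem checkE8_3 : check ctxE8_3 stepsE8_3 = true := by decide +kernel

def mE8_4 : List (List ℕ) := [[1, 2, 3, 2], [2, 1, 2, 3], [3, 2, 1, 3], [2, 3, 3, 1]]

def repsE8_4 : List (List ℕ) :=
  [[],
   [3],
   [3, 1],
   [3, 2],
   [3, 1, 2],
   [3, 2, 0],
   [3, 1, 2, 0],
   [3, 1, 2, 3],
   [3, 1, 2, 0, 3],
   [3, 1, 2, 0, 3, 2]]

def ctxE8_4 : Ctx :=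
  { n := 4, nh := 3, N := 10, m := fun a b => (mE8_4.getD a []).getD b 0, reps := repsE8_4 }

def stepsE8_4 : List Step :=
  [.defn 0 3 1, .defn 1 1 2, .defn 1 2 3, .defn 2 2 4, .defn 3 0 5, .defn 4 0 6, .defn 4 3 7,
   .defn 6 3 8, .defn 8 2 9, .hgen 0, .hgen 1, .hgen 2, .ded 0 0 3 2, .ded 0 1 3 3, .ded 0 2 3 3,
   .ded 1 0 1 2, .ded 1 0 2 3, .ded 1 1 2 2, .ded 2 0 2 3, .ded 2 2 3 2, .ded 3 0 1 1,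
   .ded 3 0 3 1, .ded 3 1 3 2, .ded 4 0 3 2, .ded 5 1 3 2, .ded 6 2 3 3, .ded 7 0 2 2,
   .ded 8 1 2 2]

set_option maxRecDepth 1000000 in
theorem checkE8_4 : check ctxE8_4 stepsE8_4 = true := by decide +kernel

def mE8_5 : List (List ℕ) := [[1, 2, 3, 2, 2], [2, 1, 2, 3, 2], [3, 2, 1, 3, 2], [2, 3, 3, 1, 3], [2, 2, 2, 3, 1]]

def repsE8_5 : List (List ℕ) :=
  [[],
   [4],
   [4, 3],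
   [4, 3, 1],
   [4, 3, 2],
   [4, 3, 1, 2],
   [4, 3, 2, 0],
   [4, 3, 1, 2, 0],
   [4, 3, 1, 2, 3],
   [4, 3, 1, 2, 0, 3],
   [4, 3, 1, 2, 3, 4],
   [4, 3, 1, 2, 0, 3, 2],
   [4, 3, 1, 2, 0, 3, 4],
   [4, 3, 1, 2, 0, 3, 2, 4],
   [4, 3, 1, 2, 0, 3, 2, 4, 3],
   [4, 3, 1, 2, 0, 3, 2, 4, 3, 1]]

def ctxE8_5 : Ctx :=
  { n := 5, nh := 4, N := 16, m := fun a b => (mE8_5.getD a []).getD b 0, reps := repsE8_5 }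

def stepsE8_5 : List Step :=
  [.defn 0 4 1, .defn 1 3 2, .defn 2 1 3, .defn 2 2 4, .defn 3 2 5, .defn 4 0 6, .defn 5 0 7,
   .defn 5 3 8, .defn 7 3 9, .defn 8 4 10, .defn 9 2 11, .defn 9 4 12, .defn 11 4 13,
   .defn 13 3 14, .defn 14 1 15, .hgen 0, .hgen 1, .hgen 2, .hgen 3, .ded 0 0 4 2, .ded 0 1 4 2,
   .ded 0 2 4 2, .ded 0 3 4 3, .ded 1 0 3 2, .ded 1 1 3 3, .ded 1 2 3 3, .ded 2 0 1 2,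
   .ded 2 0 2 3, .ded 2 1 2 2, .ded 2 1 4 1, .ded 2 2 4 1, .ded 3 0 2 3, .ded 3 2 3 2,
   .ded 3 2 4 1, .ded 4 0 1 1, .ded 4 0 3 1, .ded 4 0 4 1, .ded 4 1 3 2, .ded 5 0 3 2,
   .ded 5 0 4 1, .ded 5 3 4 2, .ded 6 1 3 2, .ded 7 2 3 3, .ded 7 3 4 2, .ded 8 0 2 2,
   .ded 8 0 4 2, .ded 8 1 4 2, .ded 8 2 4 2, .ded 9 1 2 2, .ded 9 1 4 2, .ded 9 2 4 2,
   .ded 10 0 2 2, .ded 11 1 4 2, .ded 11 3 4 3, .ded 12 2 3 2, .ded 13 0 3 2, .ded 13 1 3 3,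
   .ded 14 0 1 2, .ded 14 1 2 1, .ded 14 1 4 1]

set_option maxRecDepth 1000000 in
theorem checkE8_5 : check ctxE8_5 stepsE8_5 = true := by decide +kernel

def mE8_6 : List (List ℕ) := [[1, 2, 3, 2, 2, 2], [2, 1, 2, 3, 2, 2], [3, 2, 1, 3, 2, 2], [2, 3, 3, 1, 3, 2], [2, 2, 2, 3, 1, 3], [2, 2, 2, 2, 3, 1]]

def repsE8_6 : List (List ℕ) :=
  [[],
   [5],
   [5, 4],
   [5, 4, 3],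
   [5, 4, 3, 1],
   [5, 4, 3, 2],
   [5, 4, 3, 1, 2],
   [5, 4, 3, 2, 0],
   [5, 4, 3, 1, 2, 0],
   [5, 4, 3, 1, 2, 3],
   [5, 4, 3, 1, 2, 0, 3],
   [5, 4, 3, 1, 2, 3, 4],
   [5, 4, 3, 1, 2, 0, 3, 2],
   [5, 4, 3, 1, 2, 0, 3, 4],
   [5, 4, 3, 1, 2, 3, 4, 5],
   [5, 4, 3, 1, 2, 0, 3, 2, 4],
   [5, 4, 3, 1, 2, 0, 3, 4, 5],
   [5, 4, 3, 1, 2, 0, 3, 2, 4, 3],
   [5, 4, 3, 1, 2, 0, 3, 2, 4, 5],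
   [5, 4, 3, 1, 2, 0, 3, 2, 4, 3, 1],
   [5, 4, 3, 1, 2, 0, 3, 2, 4, 3, 5],
   [5, 4, 3, 1, 2, 0, 3, 2, 4, 3, 1, 5],
   [5, 4, 3, 1, 2, 0, 3, 2, 4, 3, 5, 4],
   [5, 4, 3, 1, 2, 0, 3, 2, 4, 3, 1, 5, 4],
   [5, 4, 3, 1, 2, 0, 3, 2, 4, 3, 1, 5, 4, 3],
   [5, 4, 3, 1, 2, 0, 3, 2, 4, 3, 1, 5, 4, 3, 2],
   [5, 4, 3, 1, 2, 0, 3, 2, 4, 3, 1, 5, 4, 3, 2, 0]]

def ctxE8_6 : Ctx :=
  { n := 6, nh := 5, N := 27, m := fun a b => (mE8_6.getD a []).getD b 0, reps := repsE8_6 }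

def stepsE8_6 : List Step :=
  [.defn 0 5 1, .defn 1 4 2, .defn 2 3 3, .defn 3 1 4, .defn 3 2 5, .defn 4 2 6, .defn 5 0 7,
   .defn 6 0 8, .defn 6 3 9, .defn 8 3 10, .defn 9 4 11, .defn 10 2 12, .defn 10 4 13,
   .defn 11 5 14, .defn 12 4 15, .defn 13 5 16, .defn 15 3 17, .defn 15 5 18, .defn 17 1 19,
   .defn 17 5 20, .defn 19 5 21, .defn 20 4 22, .defn 21 4 23, .defn 23 3 24, .defn 24 2 25,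
   .defn 25 0 26, .hgen 0, .hgen 1, .hgen 2, .hgen 3, .hgen 4, .ded 0 0 5 2, .ded 0 1 5 2,
   .ded 0 2 5 2, .ded 0 3 5 2, .ded 0 4 5 3, .ded 1 0 4 2, .ded 1 1 4 2, .ded 1 2 4 2,
   .ded 1 3 4 3, .ded 2 0 3 2, .ded 2 1 3 3, .ded 2 2 3 3, .ded 2 3 5 1, .ded 3 0 1 2,
   .ded 3 0 2 3, .ded 3 1 2 2, .ded 3 1 4 1, .ded 3 1 5 1, .ded 3 2 4 1, .ded 3 2 5 1,
   .ded 4 0 2 3, .ded 4 2 3 2, .ded 4 2 4 1, .ded 4 2 5 1, .ded 5 0 1 1, .ded 5 0 3 1,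
   .ded 5 0 4 1, .ded 5 0 5 1, .ded 5 1 3 2, .ded 6 0 3 2, .ded 6 0 4 1, .ded 6 0 5 1,
   .ded 6 3 4 2, .ded 6 3 5 1, .ded 7 1 3 2, .ded 8 2 3 3, .ded 8 3 4 2, .ded 8 3 5 1,
   .ded 9 0 2 2, .ded 9 0 4 2, .ded 9 1 4 2, .ded 9 2 4 2, .ded 9 4 5 2, .ded 10 1 2 2,
   .ded 10 1 4 2, .ded 10 2 4 2, .ded 10 2 5 1, .ded 10 4 5 2, .ded 11 0 2 2, .ded 11 0 5 2,
   .ded 11 1 5 2, .ded 11 2 5 2, .ded 11 3 5 2, .ded 12 1 4 2, .ded 12 3 4 3, .ded 12 4 5 2,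
   .ded 13 1 5 2, .ded 13 2 3 2, .ded 13 2 5 2, .ded 13 3 5 2, .ded 14 0 2 2, .ded 15 0 3 2,
   .ded 15 1 3 3, .ded 15 1 5 2, .ded 15 3 5 2, .ded 16 2 3 2, .ded 17 0 1 2, .ded 17 0 5 2,
   .ded 17 1 2 1, .ded 17 1 4 1, .ded 17 1 5 2, .ded 17 4 5 3, .ded 18 1 3 3, .ded 18 3 4 2,
   .ded 19 0 5 2, .ded 19 2 5 2, .ded 19 4 5 3, .ded 20 0 4 2, .ded 20 1 4 2, .ded 20 2 4 2,
   .ded 21 0 4 2, .ded 21 2 4 2, .ded 21 3 4 3, .ded 22 1 3 2, .ded 23 0 3 2, .ded 23 2 3 3,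
   .ded 23 3 5 1, .ded 24 0 2 3, .ded 24 1 2 2, .ded 24 2 4 1, .ded 24 2 5 1, .ded 25 0 1 1,
   .ded 25 0 3 1, .ded 25 0 4 1, .ded 25 0 5 1]

set_option maxRecDepth 1000000 in
theorem checkE8_6 : check ctxE8_6 stepsE8_6 = true := by decide +kernel

def mE8_7 : List (List ℕ) := [[1, 2, 3, 2, 2, 2, 2], [2, 1, 2, 3, 2, 2, 2], [3, 2, 1, 3, 2, 2, 2], [2, 3, 3, 1, 3, 2, 2], [2, 2, 2, 3, 1, 3, 2], [2, 2, 2, 2, 3, 1, 3], [2, 2, 2, 2, 2, 3, 1]]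

def repsE8_7 : List (List ℕ) :=
  [[],
   [6],
   [6, 5],
   [6, 5, 4],
   [6, 5, 4, 3],
   [6, 5, 4, 3, 1],
   [6, 5, 4, 3, 2],
   [6, 5, 4, 3, 1, 2],
   [6, 5, 4, 3, 2, 0],
   [6, 5, 4, 3, 1, 2, 0],
   [6, 5, 4, 3, 1, 2, 3],
   [6, 5, 4, 3, 1, 2, 0, 3],
   [6, 5, 4, 3, 1, 2, 3, 4],
   [6, 5, 4, 3, 1, 2, 0, 3, 2],
   [6, 5, 4, 3, 1, 2, 0, 3, 4],
   [6, 5, 4, 3, 1, 2, 3, 4, 5],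
   [6, 5, 4, 3, 1, 2, 0, 3, 2, 4],
   [6, 5, 4, 3, 1, 2, 0, 3, 4, 5],
   [6, 5, 4, 3, 1, 2, 3, 4, 5, 6],
   [6, 5, 4, 3, 1, 2, 0, 3, 2, 4, 3],
   [6, 5, 4, 3, 1, 2, 0, 3, 2, 4, 5],
   [6, 5, 4, 3, 1, 2, 0, 3, 4, 5, 6],
   [6, 5, 4, 3, 1, 2, 0, 3, 2, 4, 3, 1],
   [6, 5, 4, 3, 1, 2, 0, 3, 2, 4, 3, 5],
   [6, 5, 4, 3, 1, 2, 0, 3, 2, 4, 5, 6],
   [6, 5, 4, 3, 1, 2, 0, 3, 2, 4, 3, 1, 5],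
   [6, 5, 4, 3, 1, 2, 0, 3, 2, 4, 3, 5, 4],
   [6, 5, 4, 3, 1, 2, 0, 3, 2, 4, 3, 5, 6],
   [6, 5, 4, 3, 1, 2, 0, 3, 2, 4, 3, 1, 5, 4],
   [6, 5, 4, 3, 1, 2, 0, 3, 2, 4, 3, 1, 5, 6],
   [6, 5, 4, 3, 1, 2, 0, 3, 2, 4, 3, 5, 4, 6],
   [6, 5, 4, 3, 1, 2, 0, 3, 2, 4, 3, 1, 5, 4, 3],
   [6, 5, 4, 3, 1, 2, 0, 3, 2, 4, 3, 1, 5, 4, 6],
   [6, 5, 4, 3, 1, 2, 0, 3, 2, 4, 3, 5, 4, 6, 5],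
   [6, 5, 4, 3, 1, 2, 0, 3, 2, 4, 3, 1, 5, 4, 3, 2],
   [6, 5, 4, 3, 1, 2, 0, 3, 2, 4, 3, 1, 5, 4, 3, 6],
   [6, 5, 4, 3, 1, 2, 0, 3, 2, 4, 3, 1, 5, 4, 6, 5],
   [6, 5, 4, 3, 1, 2, 0, 3, 2, 4, 3, 1, 5, 4, 3, 2, 0],
   [6, 5, 4, 3, 1, 2, 0, 3, 2, 4, 3, 1, 5, 4, 3, 2, 6],
   [6, 5, 4, 3, 1, 2, 0, 3, 2, 4, 3, 1, 5, 4, 3, 6, 5],
   [6, 5, 4, 3, 1, 2, 0, 3, 2, 4, 3, 1, 5, 4, 3, 2, 0, 6],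
   [6, 5, 4, 3, 1, 2, 0, 3, 2, 4, 3, 1, 5, 4, 3, 2, 6, 5],
   [6, 5, 4, 3, 1, 2, 0, 3, 2, 4, 3, 1, 5, 4, 3, 6, 5, 4],
   [6, 5, 4, 3, 1, 2, 0, 3, 2, 4, 3, 1, 5, 4, 3, 2, 0, 6, 5],
   [6, 5, 4, 3, 1, 2, 0, 3, 2, 4, 3, 1, 5, 4, 3, 2, 6, 5, 4],
   [6, 5, 4, 3, 1, 2, 0, 3, 2, 4, 3, 1, 5, 4, 3, 2, 0, 6, 5, 4],
   [6, 5, 4, 3, 1, 2, 0, 3, 2, 4, 3, 1, 5, 4, 3, 2, 6, 5, 4, 3],
   [6, 5, 4, 3, 1, 2, 0, 3, 2, 4, 3, 1, 5, 4, 3, 2, 0, 6, 5, 4, 3],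
   [6, 5, 4, 3, 1, 2, 0, 3, 2, 4, 3, 1, 5, 4, 3, 2, 6, 5, 4, 3, 1],
   [6, 5, 4, 3, 1, 2, 0, 3, 2, 4, 3, 1, 5, 4, 3, 2, 0, 6, 5, 4, 3, 1],
   [6, 5, 4, 3, 1, 2, 0, 3, 2, 4, 3, 1, 5, 4, 3, 2, 0, 6, 5, 4, 3, 2],
   [6, 5, 4, 3, 1, 2, 0, 3, 2, 4, 3, 1, 5, 4, 3, 2, 0, 6, 5, 4, 3, 1, 2],
   [6, 5, 4, 3, 1, 2, 0, 3, 2, 4, 3, 1, 5, 4, 3, 2, 0, 6, 5, 4, 3, 1, 2, 3],
   [6, 5, 4, 3, 1, 2, 0, 3, 2, 4, 3, 1, 5, 4, 3, 2, 0, 6, 5, 4, 3, 1, 2, 3, 4],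
   [6, 5, 4, 3, 1, 2, 0, 3, 2, 4, 3, 1, 5, 4, 3, 2, 0, 6, 5, 4, 3, 1, 2, 3, 4, 5],
   [6, 5, 4, 3, 1, 2, 0, 3, 2, 4, 3, 1, 5, 4, 3, 2, 0, 6, 5, 4, 3, 1, 2, 3, 4, 5, 6]]

def ctxE8_7 : Ctx :=
  { n := 7, nh := 6, N := 56, m := fun a b => (mE8_7.getD a []).getD b 0, reps := repsE8_7 }

def stepsE8_7 : List Step :=
  [.defn 0 6 1, .defn 1 5 2, .defn 2 4 3, .defn 3 3 4, .defn 4 1 5, .defn 4 2 6, .defn 5 2 7,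
   .defn 6 0 8, .defn 7 0 9, .defn 7 3 10, .defn 9 3 11, .defn 10 4 12, .defn 11 2 13,
   .defn 11 4 14, .defn 12 5 15, .defn 13 4 16, .defn 14 5 17, .defn 15 6 18, .defn 16 3 19,
   .defn 16 5 20, .defn 17 6 21, .defn 19 1 22, .defn 19 5 23, .defn 20 6 24, .defn 22 5 25,
   .defn 23 4 26, .defn 23 6 27, .defn 25 4 28, .defn 25 6 29, .defn 26 6 30, .defn 28 3 31,
   .defn 28 6 32, .defn 30 5 33, .defn 31 2 34, .defn 31 6 35, .defn 32 5 36, .defn 34 0 37,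
   .defn 34 6 38, .defn 35 5 39, .defn 37 6 40, .defn 38 5 41, .defn 39 4 42, .defn 40 5 43,
   .defn 41 4 44, .defn 43 4 45, .defn 44 3 46, .defn 45 3 47, .defn 46 1 48, .defn 47 1 49,
   .defn 47 2 50, .defn 49 2 51, .defn 51 3 52, .defn 52 4 53, .defn 53 5 54, .defn 54 6 55,
   .hgen 0, .hgen 1, .hgen 2, .hgen 3, .hgen 4, .hgen 5, .ded 0 0 6 2, .ded 0 1 6 2, .ded 0 2 6 2,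
   .ded 0 3 6 2, .ded 0 4 6 2, .ded 0 5 6 3, .ded 1 0 5 2, .ded 1 1 5 2, .ded 1 2 5 2,
   .ded 1 3 5 2, .ded 1 4 5 3, .ded 2 0 4 2, .ded 2 1 4 2, .ded 2 2 4 2, .ded 2 3 4 3,
   .ded 2 4 6 1, .ded 3 0 3 2, .ded 3 1 3 3, .ded 3 2 3 3, .ded 3 3 5 1, .ded 3 3 6 1,
   .ded 4 0 1 2, .ded 4 0 2 3, .ded 4 1 2 2, .ded 4 1 4 1, .ded 4 1 5 1, .ded 4 1 6 1,
   .ded 4 2 4 1, .ded 4 2 5 1, .ded 4 2 6 1, .ded 5 0 2 3, .ded 5 2 3 2, .ded 5 2 4 1,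
   .ded 5 2 5 1, .ded 5 2 6 1, .ded 6 0 1 1, .ded 6 0 3 1, .ded 6 0 4 1, .ded 6 0 5 1,
   .ded 6 0 6 1, .ded 6 1 3 2, .ded 7 0 3 2, .ded 7 0 4 1, .ded 7 0 5 1, .ded 7 0 6 1,
   .ded 7 3 4 2, .ded 7 3 5 1, .ded 7 3 6 1, .ded 8 1 3 2, .ded 9 2 3 3, .ded 9 3 4 2,
   .ded 9 3 5 1, .ded 9 3 6 1, .ded 10 0 2 2, .ded 10 0 4 2, .ded 10 1 4 2, .ded 10 2 4 2,
   .ded 10 4 5 2, .ded 10 4 6 1, .ded 11 1 2 2, .ded 11 1 4 2, .ded 11 2 4 2, .ded 11 2 5 1,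
   .ded 11 2 6 1, .ded 11 4 5 2, .ded 11 4 6 1, .ded 12 0 2 2, .ded 12 0 5 2, .ded 12 1 5 2,
   .ded 12 2 5 2, .ded 12 3 5 2, .ded 12 5 6 2, .ded 13 1 4 2, .ded 13 3 4 3, .ded 13 4 5 2,
   .ded 13 4 6 1, .ded 14 1 5 2, .ded 14 2 3 2, .ded 14 2 5 2, .ded 14 3 5 2, .ded 14 5 6 2,
   .ded 15 0 2 2, .ded 15 0 6 2, .ded 15 1 6 2, .ded 15 2 6 2, .ded 15 3 6 2, .ded 15 4 6 2,
   .ded 16 0 3 2, .ded 16 1 3 3, .ded 16 1 5 2, .ded 16 3 5 2, .ded 16 3 6 1, .ded 16 5 6 2,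
   .ded 17 1 6 2, .ded 17 2 3 2, .ded 17 2 6 2, .ded 17 3 6 2, .ded 17 4 6 2, .ded 18 0 2 2,
   .ded 19 0 1 2, .ded 19 0 5 2, .ded 19 1 2 1, .ded 19 1 4 1, .ded 19 1 5 2, .ded 19 1 6 1,
   .ded 19 4 5 3, .ded 19 5 6 2, .ded 20 1 3 3, .ded 20 1 6 2, .ded 20 3 4 2, .ded 20 3 6 2,
   .ded 20 4 6 2, .ded 21 2 3 2, .ded 22 0 5 2, .ded 22 2 5 2, .ded 22 4 5 3, .ded 22 5 6 2,
   .ded 23 0 4 2, .ded 23 0 6 2, .ded 23 1 4 2, .ded 23 1 6 2, .ded 23 2 4 2, .ded 23 4 6 2,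
   .ded 24 1 3 3, .ded 24 3 4 2, .ded 25 0 4 2, .ded 25 0 6 2, .ded 25 2 4 2, .ded 25 2 6 2,
   .ded 25 3 4 3, .ded 25 4 6 2, .ded 26 0 6 2, .ded 26 1 3 2, .ded 26 1 6 2, .ded 26 2 6 2,
   .ded 26 5 6 3, .ded 27 4 5 2, .ded 28 0 3 2, .ded 28 0 6 2, .ded 28 2 3 3, .ded 28 2 6 2,
   .ded 28 3 5 1, .ded 28 3 6 2, .ded 28 5 6 3, .ded 29 3 4 3, .ded 29 4 5 2, .ded 30 0 5 2,
   .ded 30 1 3 2, .ded 30 1 5 2, .ded 30 2 5 2, .ded 30 3 5 2, .ded 31 0 2 3, .ded 31 0 6 2,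
   .ded 31 1 2 2, .ded 31 2 4 1, .ded 31 2 5 1, .ded 31 2 6 2, .ded 31 5 6 3, .ded 32 0 5 2,
   .ded 32 2 3 3, .ded 32 2 5 2, .ded 32 3 5 2, .ded 33 1 3 2, .ded 34 0 1 1, .ded 34 0 3 1,
   .ded 34 0 4 1, .ded 34 0 5 1, .ded 34 0 6 2, .ded 34 1 6 2, .ded 34 4 6 2, .ded 34 5 6 3,
   .ded 35 0 2 3, .ded 35 0 5 2, .ded 35 2 5 2, .ded 35 4 5 3, .ded 36 2 3 3, .ded 36 3 4 2,
   .ded 37 1 6 2, .ded 37 3 6 2, .ded 37 4 6 2, .ded 37 5 6 3, .ded 38 0 5 2, .ded 38 1 5 2,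
   .ded 38 4 5 3, .ded 39 0 2 3, .ded 39 0 4 2, .ded 39 1 4 2, .ded 39 2 4 2, .ded 39 4 6 1,
   .ded 40 1 5 2, .ded 40 3 5 2, .ded 40 4 5 3, .ded 41 0 4 2, .ded 41 1 4 2, .ded 41 3 4 3,
   .ded 41 4 6 1, .ded 42 0 2 3, .ded 42 2 3 2, .ded 43 1 4 2, .ded 43 3 4 3, .ded 43 4 6 1,
   .ded 44 0 3 2, .ded 44 1 3 3, .ded 44 3 5 1, .ded 44 3 6 1, .ded 45 1 3 3, .ded 45 2 3 3,
   .ded 45 3 5 1, .ded 45 3 6 1, .ded 46 0 1 2, .ded 46 0 2 2, .ded 46 1 2 1, .ded 46 1 4 1,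
   .ded 46 1 5 1, .ded 46 1 6 1, .ded 47 1 2 2, .ded 47 1 4 1, .ded 47 1 5 1, .ded 47 1 6 1,
   .ded 47 2 4 1, .ded 47 2 5 1, .ded 47 2 6 1, .ded 48 0 2 2, .ded 49 2 3 2, .ded 49 2 4 1,
   .ded 49 2 5 1, .ded 49 2 6 1, .ded 50 1 3 2, .ded 51 0 3 2, .ded 51 3 4 2, .ded 51 3 5 1,
   .ded 51 3 6 1, .ded 52 0 4 2, .ded 52 1 4 2, .ded 52 2 4 2, .ded 52 4 5 2, .ded 52 4 6 1,
   .ded 53 0 5 2, .ded 53 1 5 2, .ded 53 2 5 2, .ded 53 3 5 2, .ded 53 5 6 2, .ded 54 0 6 2,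
   .ded 54 1 6 2, .ded 54 2 6 2, .ded 54 3 6 2, .ded 54 4 6 2]

set_option maxRecDepth 1000000 in
theorem checkE8_7 : check ctxE8_7 stepsE8_7 = true := by decide +kernel

end Cfsg.Agent.Lib.H6.CoxTC.Data
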