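import Mathlib
import Cfsg.Agent.Lib.H6.CoxTC1

set_option autoImplicit false

namespace Cfsg.Agent.Lib.H6.CoxTC.Data

open Cfsg.Agent.Lib.H6.CoxTC

def mE8_8 : List (List ℕ) := [[1, 2, 3, 2, 2, 2, 2, 2], [2, 1, 2, 3, 2, 2, 2, 2], [3, 2, 1, 3, 2, 2, 2, 2], [2, 3, 3, 1, 3, 2, 2, 2], [2, 2, 2, 3, 1, 3, 2, 2], [2, 2, 2, 2, 3, 1, 3, 2], [2, 2, 2, 2, 2, 3, 1, 3], [2, 2, 2, 2, 2, 2, 3, 1]]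

def repsE8_8 : List (List ℕ) :=
  [[],
   [7],
   [7, 6],
   [7, 6, 5],
   [7, 6, 5, 4],
   [7, 6, 5, 4, 3],
   [7, 6, 5, 4, 3, 1],
   [7, 6, 5, 4, 3, 2],
   [7, 6, 5, 4, 3, 1, 2],
   [7, 6, 5, 4, 3, 2, 0],
   [7, 6, 5, 4, 3, 1, 2, 0],
   [7, 6, 5, 4, 3, 1, 2, 3],
   [7, 6, 5, 4, 3, 1, 2, 0, 3],
   [7, 6, 5, 4, 3, 1, 2, 3, 4],
   [7, 6, 5, 4, 3, 1, 2, 0, 3, 2],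
   [7, 6, 5, 4, 3, 1, 2, 0, 3, 4],
   [7, 6, 5, 4, 3, 1, 2, 3, 4, 5],
   [7, 6, 5, 4, 3, 1, 2, 0, 3, 2, 4],
   [7, 6, 5, 4, 3, 1, 2, 0, 3, 4, 5],
   [7, 6, 5, 4, 3, 1, 2, 3, 4, 5, 6],
   [7, 6, 5, 4, 3, 1, 2, 0, 3, 2, 4, 3],
   [7, 6, 5, 4, 3, 1, 2, 0, 3, 2, 4, 5],
   [7, 6, 5, 4, 3, 1, 2, 0, 3, 4, 5, 6],
   [7, 6, 5, 4, 3, 1, 2, 3, 4, 5, 6, 7],
   [7, 6, 5, 4, 3, 1, 2, 0, 3, 2, 4, 3, 1],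
   [7, 6, 5, 4, 3, 1, 2, 0, 3, 2, 4, 3, 5],
   [7, 6, 5, 4, 3, 1, 2, 0, 3, 2, 4, 5, 6],
   [7, 6, 5, 4, 3, 1, 2, 0, 3, 4, 5, 6, 7],
   [7, 6, 5, 4, 3, 1, 2, 0, 3, 2, 4, 3, 1, 5],
   [7, 6, 5, 4, 3, 1, 2, 0, 3, 2, 4, 3, 5, 4],
   [7, 6, 5, 4, 3, 1, 2, 0, 3, 2, 4, 3, 5, 6],
   [7, 6, 5, 4, 3, 1, 2, 0, 3, 2, 4, 5, 6, 7],
   [7, 6, 5, 4, 3, 1, 2, 0, 3, 2, 4, 3, 1, 5, 4],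
   [7, 6, 5, 4, 3, 1, 2, 0, 3, 2, 4, 3, 1, 5, 6],
   [7, 6, 5, 4, 3, 1, 2, 0, 3, 2, 4, 3, 5, 4, 6],
   [7, 6, 5, 4, 3, 1, 2, 0, 3, 2, 4, 3, 5, 6, 7],
   [7, 6, 5, 4, 3, 1, 2, 0, 3, 2, 4, 3, 1, 5, 4, 3],
   [7, 6, 5, 4, 3, 1, 2, 0, 3, 2, 4, 3, 1, 5, 4, 6],
   [7, 6, 5, 4, 3, 1, 2, 0, 3, 2, 4, 3, 1, 5, 6, 7],
   [7, 6, 5, 4, 3, 1, 2, 0, 3, 2, 4, 3, 5, 4, 6, 5],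
   [7, 6, 5, 4, 3, 1, 2, 0, 3, 2, 4, 3, 5, 4, 6, 7],
   [7, 6, 5, 4, 3, 1, 2, 0, 3, 2, 4, 3, 1, 5, 4, 3, 2],
   [7, 6, 5, 4, 3, 1, 2, 0, 3, 2, 4, 3, 1, 5, 4, 3, 6],
   [7, 6, 5, 4, 3, 1, 2, 0, 3, 2, 4, 3, 1, 5, 4, 6, 5],
   [7, 6, 5, 4, 3, 1, 2, 0, 3, 2, 4, 3, 1, 5, 4, 6, 7],
   [7, 6, 5, 4, 3, 1, 2, 0, 3, 2, 4, 3, 5, 4, 6, 5, 7],
   [7, 6, 5, 4, 3, 1, 2, 0, 3, 2, 4, 3, 1, 5, 4, 3, 2, 0],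
   [7, 6, 5, 4, 3, 1, 2, 0, 3, 2, 4, 3, 1, 5, 4, 3, 2, 6],
   [7, 6, 5, 4, 3, 1, 2, 0, 3, 2, 4, 3, 1, 5, 4, 3, 6, 5],
   [7, 6, 5, 4, 3, 1, 2, 0, 3, 2, 4, 3, 1, 5, 4, 3, 6, 7],
   [7, 6, 5, 4, 3, 1, 2, 0, 3, 2, 4, 3, 1, 5, 4, 6, 5, 7],
   [7, 6, 5, 4, 3, 1, 2, 0, 3, 2, 4, 3, 5, 4, 6, 5, 7, 6],
   [7, 6, 5, 4, 3, 1, 2, 0, 3, 2, 4, 3, 1, 5, 4, 3, 2, 0, 6],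
   [7, 6, 5, 4, 3, 1, 2, 0, 3, 2, 4, 3, 1, 5, 4, 3, 2, 6, 5],
   [7, 6, 5, 4, 3, 1, 2, 0, 3, 2, 4, 3, 1, 5, 4, 3, 2, 6, 7],
   [7, 6, 5, 4, 3, 1, 2, 0, 3, 2, 4, 3, 1, 5, 4, 3, 6, 5, 4],
   [7, 6, 5, 4, 3, 1, 2, 0, 3, 2, 4, 3, 1, 5, 4, 3, 6, 5, 7],
   [7, 6, 5, 4, 3, 1, 2, 0, 3, 2, 4, 3, 1, 5, 4, 6, 5, 7, 6],
   [7, 6, 5, 4, 3, 1, 2, 0, 3, 2, 4, 3, 1, 5, 4, 3, 2, 0, 6, 5],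
   [7, 6, 5, 4, 3, 1, 2, 0, 3, 2, 4, 3, 1, 5, 4, 3, 2, 0, 6, 7],
   [7, 6, 5, 4, 3, 1, 2, 0, 3, 2, 4, 3, 1, 5, 4, 3, 2, 6, 5, 4],
   [7, 6, 5, 4, 3, 1, 2, 0, 3, 2, 4, 3, 1, 5, 4, 3, 2, 6, 5, 7],
   [7, 6, 5, 4, 3, 1, 2, 0, 3, 2, 4, 3, 1, 5, 4, 3, 6, 5, 4, 7],
   [7, 6, 5, 4, 3, 1, 2, 0, 3, 2, 4, 3, 1, 5, 4, 3, 6, 5, 7, 6],
   [7, 6, 5, 4, 3, 1, 2, 0, 3, 2, 4, 3, 1, 5, 4, 3, 2, 0, 6, 5, 4],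
   [7, 6, 5, 4, 3, 1, 2, 0, 3, 2, 4, 3, 1, 5, 4, 3, 2, 0, 6, 5, 7],
   [7, 6, 5, 4, 3, 1, 2, 0, 3, 2, 4, 3, 1, 5, 4, 3, 2, 6, 5, 4, 3],
   [7, 6, 5, 4, 3, 1, 2, 0, 3, 2, 4, 3, 1, 5, 4, 3, 2, 6, 5, 4, 7],
   [7, 6, 5, 4, 3, 1, 2, 0, 3, 2, 4, 3, 1, 5, 4, 3, 2, 6, 5, 7, 6],
   [7, 6, 5, 4, 3, 1, 2, 0, 3, 2, 4, 3, 1, 5, 4, 3, 6, 5, 4, 7, 6],
   [7, 6, 5, 4, 3, 1, 2, 0, 3, 2, 4, 3, 1, 5, 4, 3, 2, 0, 6, 5, 4, 3],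
   [7, 6, 5, 4, 3, 1, 2, 0, 3, 2, 4, 3, 1, 5, 4, 3, 2, 0, 6, 5, 4, 7],
   [7, 6, 5, 4, 3, 1, 2, 0, 3, 2, 4, 3, 1, 5, 4, 3, 2, 0, 6, 5, 7, 6],
   [7, 6, 5, 4, 3, 1, 2, 0, 3, 2, 4, 3, 1, 5, 4, 3, 2, 6, 5, 4, 3, 1],
   [7, 6, 5, 4, 3, 1, 2, 0, 3, 2, 4, 3, 1, 5, 4, 3, 2, 6, 5, 4, 3, 7],
   [7, 6, 5, 4, 3, 1, 2, 0, 3, 2, 4, 3, 1, 5, 4, 3, 2, 6, 5, 4, 7, 6],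
   [7, 6, 5, 4, 3, 1, 2, 0, 3, 2, 4, 3, 1, 5, 4, 3, 6, 5, 4, 7, 6, 5],
   [7, 6, 5, 4, 3, 1, 2, 0, 3, 2, 4, 3, 1, 5, 4, 3, 2, 0, 6, 5, 4, 3, 1],
   [7, 6, 5, 4, 3, 1, 2, 0, 3, 2, 4, 3, 1, 5, 4, 3, 2, 0, 6, 5, 4, 3, 2],
   [7, 6, 5, 4, 3, 1, 2, 0, 3, 2, 4, 3, 1, 5, 4, 3, 2, 0, 6, 5, 4, 3, 7],
   [7, 6, 5, 4, 3, 1, 2, 0, 3, 2, 4, 3, 1, 5, 4, 3, 2, 0, 6, 5, 4, 7, 6],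
   [7, 6, 5, 4, 3, 1, 2, 0, 3, 2, 4, 3, 1, 5, 4, 3, 2, 6, 5, 4, 3, 1, 7],
   [7, 6, 5, 4, 3, 1, 2, 0, 3, 2, 4, 3, 1, 5, 4, 3, 2, 6, 5, 4, 3, 7, 6],
   [7, 6, 5, 4, 3, 1, 2, 0, 3, 2, 4, 3, 1, 5, 4, 3, 2, 6, 5, 4, 7, 6, 5],
   [7, 6, 5, 4, 3, 1, 2, 0, 3, 2, 4, 3, 1, 5, 4, 3, 2, 0, 6, 5, 4, 3, 1, 2],
   [7, 6, 5, 4, 3, 1, 2, 0, 3, 2, 4, 3, 1, 5, 4, 3, 2, 0, 6, 5, 4, 3, 1, 7],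
   [7, 6, 5, 4, 3, 1, 2, 0, 3, 2, 4, 3, 1, 5, 4, 3, 2, 0, 6, 5, 4, 3, 2, 7],
   [7, 6, 5, 4, 3, 1, 2, 0, 3, 2, 4, 3, 1, 5, 4, 3, 2, 0, 6, 5, 4, 3, 7, 6],
   [7, 6, 5, 4, 3, 1, 2, 0, 3, 2, 4, 3, 1, 5, 4, 3, 2, 0, 6, 5, 4, 7, 6, 5],
   [7, 6, 5, 4, 3, 1, 2, 0, 3, 2, 4, 3, 1, 5, 4, 3, 2, 6, 5, 4, 3, 1, 7, 6],
   [7, 6, 5, 4, 3, 1, 2, 0, 3, 2, 4, 3, 1, 5, 4, 3, 2, 6, 5, 4, 3, 7, 6, 5],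
   [7, 6, 5, 4, 3, 1, 2, 0, 3, 2, 4, 3, 1, 5, 4, 3, 2, 0, 6, 5, 4, 3, 1, 2, 3],
   [7, 6, 5, 4, 3, 1, 2, 0, 3, 2, 4, 3, 1, 5, 4, 3, 2, 0, 6, 5, 4, 3, 1, 2, 7],
   [7, 6, 5, 4, 3, 1, 2, 0, 3, 2, 4, 3, 1, 5, 4, 3, 2, 0, 6, 5, 4, 3, 1, 7, 6],
   [7, 6, 5, 4, 3, 1, 2, 0, 3, 2, 4, 3, 1, 5, 4, 3, 2, 0, 6, 5, 4, 3, 2, 7, 6],
   [7, 6, 5, 4, 3, 1, 2, 0, 3, 2, 4, 3, 1, 5, 4, 3, 2, 0, 6, 5, 4, 3, 7, 6, 5],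
   [7, 6, 5, 4, 3, 1, 2, 0, 3, 2, 4, 3, 1, 5, 4, 3, 2, 6, 5, 4, 3, 1, 7, 6, 5],
   [7, 6, 5, 4, 3, 1, 2, 0, 3, 2, 4, 3, 1, 5, 4, 3, 2, 6, 5, 4, 3, 7, 6, 5, 4],
   [7, 6, 5, 4, 3, 1, 2, 0, 3, 2, 4, 3, 1, 5, 4, 3, 2, 0, 6, 5, 4, 3, 1, 2, 3, 4],
   [7, 6, 5, 4, 3, 1, 2, 0, 3, 2, 4, 3, 1, 5, 4, 3, 2, 0, 6, 5, 4, 3, 1, 2, 3, 7],
   [7, 6, 5, 4, 3, 1, 2, 0, 3, 2, 4, 3, 1, 5, 4, 3, 2, 0, 6, 5, 4, 3, 1, 2, 7, 6],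
   [7, 6, 5, 4, 3, 1, 2, 0, 3, 2, 4, 3, 1, 5, 4, 3, 2, 0, 6, 5, 4, 3, 1, 7, 6, 5],
   [7, 6, 5, 4, 3, 1, 2, 0, 3, 2, 4, 3, 1, 5, 4, 3, 2, 0, 6, 5, 4, 3, 2, 7, 6, 5],
   [7, 6, 5, 4, 3, 1, 2, 0, 3, 2, 4, 3, 1, 5, 4, 3, 2, 0, 6, 5, 4, 3, 7, 6, 5, 4],
   [7, 6, 5, 4, 3, 1, 2, 0, 3, 2, 4, 3, 1, 5, 4, 3, 2, 6, 5, 4, 3, 1, 7, 6, 5, 4],
   [7, 6, 5, 4, 3, 1, 2, 0, 3, 2, 4, 3, 1, 5, 4, 3, 2, 0, 6, 5, 4, 3, 1, 2, 3, 4, 5],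
   [7, 6, 5, 4, 3, 1, 2, 0, 3, 2, 4, 3, 1, 5, 4, 3, 2, 0, 6, 5, 4, 3, 1, 2, 3, 4, 7],
   [7, 6, 5, 4, 3, 1, 2, 0, 3, 2, 4, 3, 1, 5, 4, 3, 2, 0, 6, 5, 4, 3, 1, 2, 3, 7, 6],
   [7, 6, 5, 4, 3, 1, 2, 0, 3, 2, 4, 3, 1, 5, 4, 3, 2, 0, 6, 5, 4, 3, 1, 2, 7, 6, 5],
   [7, 6, 5, 4, 3, 1, 2, 0, 3, 2, 4, 3, 1, 5, 4, 3, 2, 0, 6, 5, 4, 3, 1, 7, 6, 5, 4],
   [7, 6, 5, 4, 3, 1, 2, 0, 3, 2, 4, 3, 1, 5, 4, 3, 2, 0, 6, 5, 4, 3, 2, 7, 6, 5, 4],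
   [7, 6, 5, 4, 3, 1, 2, 0, 3, 2, 4, 3, 1, 5, 4, 3, 2, 6, 5, 4, 3, 1, 7, 6, 5, 4, 3],
   [7, 6, 5, 4, 3, 1, 2, 0, 3, 2, 4, 3, 1, 5, 4, 3, 2, 0, 6, 5, 4, 3, 1, 2, 3, 4, 5, 6],
   [7, 6, 5, 4, 3, 1, 2, 0, 3, 2, 4, 3, 1, 5, 4, 3, 2, 0, 6, 5, 4, 3, 1, 2, 3, 4, 5, 7],
   [7, 6, 5, 4, 3, 1, 2, 0, 3, 2, 4, 3, 1, 5, 4, 3, 2, 0, 6, 5, 4, 3, 1, 2, 3, 4, 7, 6],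
   [7, 6, 5, 4, 3, 1, 2, 0, 3, 2, 4, 3, 1, 5, 4, 3, 2, 0, 6, 5, 4, 3, 1, 2, 3, 7, 6, 5],
   [7, 6, 5, 4, 3, 1, 2, 0, 3, 2, 4, 3, 1, 5, 4, 3, 2, 0, 6, 5, 4, 3, 1, 2, 7, 6, 5, 4],
   [7, 6, 5, 4, 3, 1, 2, 0, 3, 2, 4, 3, 1, 5, 4, 3, 2, 0, 6, 5, 4, 3, 1, 7, 6, 5, 4, 3],
   [7, 6, 5, 4, 3, 1, 2, 0, 3, 2, 4, 3, 1, 5, 4, 3, 2, 0, 6, 5, 4, 3, 2, 7, 6, 5, 4, 3],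
   [7, 6, 5, 4, 3, 1, 2, 0, 3, 2, 4, 3, 1, 5, 4, 3, 2, 6, 5, 4, 3, 1, 7, 6, 5, 4, 3, 2],
   [7, 6, 5, 4, 3, 1, 2, 0, 3, 2, 4, 3, 1, 5, 4, 3, 2, 0, 6, 5, 4, 3, 1, 2, 3, 4, 5, 6, 7],
   [7, 6, 5, 4, 3, 1, 2, 0, 3, 2, 4, 3, 1, 5, 4, 3, 2, 0, 6, 5, 4, 3, 1, 2, 3, 4, 5, 7, 6],
   [7, 6, 5, 4, 3, 1, 2, 0, 3, 2, 4, 3, 1, 5, 4, 3, 2, 0, 6, 5, 4, 3, 1, 2, 3, 4, 7, 6, 5],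
   [7, 6, 5, 4, 3, 1, 2, 0, 3, 2, 4, 3, 1, 5, 4, 3, 2, 0, 6, 5, 4, 3, 1, 2, 3, 7, 6, 5, 4],
   [7, 6, 5, 4, 3, 1, 2, 0, 3, 2, 4, 3, 1, 5, 4, 3, 2, 0, 6, 5, 4, 3, 1, 2, 7, 6, 5, 4, 3],
   [7, 6, 5, 4, 3, 1, 2, 0, 3, 2, 4, 3, 1, 5, 4, 3, 2, 0, 6, 5, 4, 3, 1, 7, 6, 5, 4, 3, 2],
   [7, 6, 5, 4, 3, 1, 2, 0, 3, 2, 4, 3, 1, 5, 4, 3, 2, 0, 6, 5, 4, 3, 2, 7, 6, 5, 4, 3, 1],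
   [7, 6, 5, 4, 3, 1, 2, 0, 3, 2, 4, 3, 1, 5, 4, 3, 2, 6, 5, 4, 3, 1, 7, 6, 5, 4, 3, 2, 0],
   [7, 6, 5, 4, 3, 1, 2, 0, 3, 2, 4, 3, 1, 5, 4, 3, 2, 0, 6, 5, 4, 3, 1, 2, 3, 4, 5, 6, 7, 6],
   [7, 6, 5, 4, 3, 1, 2, 0, 3, 2, 4, 3, 1, 5, 4, 3, 2, 0, 6, 5, 4, 3, 1, 2, 3, 4, 5, 7, 6, 5],
   [7, 6, 5, 4, 3, 1, 2, 0, 3, 2, 4, 3, 1, 5, 4, 3, 2, 0, 6, 5, 4, 3, 1, 2, 3, 4, 7, 6, 5, 4],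
   [7, 6, 5, 4, 3, 1, 2, 0, 3, 2, 4, 3, 1, 5, 4, 3, 2, 0, 6, 5, 4, 3, 1, 2, 3, 7, 6, 5, 4, 3],
   [7, 6, 5, 4, 3, 1, 2, 0, 3, 2, 4, 3, 1, 5, 4, 3, 2, 0, 6, 5, 4, 3, 1, 2, 7, 6, 5, 4, 3, 1],
   [7, 6, 5, 4, 3, 1, 2, 0, 3, 2, 4, 3, 1, 5, 4, 3, 2, 0, 6, 5, 4, 3, 1, 2, 7, 6, 5, 4, 3, 2],
   [7, 6, 5, 4, 3, 1, 2, 0, 3, 2, 4, 3, 1, 5, 4, 3, 2, 0, 6, 5, 4, 3, 1, 7, 6, 5, 4, 3, 2, 0],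
   [7, 6, 5, 4, 3, 1, 2, 0, 3, 2, 4, 3, 1, 5, 4, 3, 2, 0, 6, 5, 4, 3, 1, 2, 3, 4, 5, 6, 7, 6, 5],
   [7, 6, 5, 4, 3, 1, 2, 0, 3, 2, 4, 3, 1, 5, 4, 3, 2, 0, 6, 5, 4, 3, 1, 2, 3, 4, 5, 7, 6, 5, 4],
   [7, 6, 5, 4, 3, 1, 2, 0, 3, 2, 4, 3, 1, 5, 4, 3, 2, 0, 6, 5, 4, 3, 1, 2, 3, 4, 7, 6, 5, 4, 3],
   [7, 6, 5, 4, 3, 1, 2, 0, 3, 2, 4, 3, 1, 5, 4, 3, 2, 0, 6, 5, 4, 3, 1, 2, 3, 7, 6, 5, 4, 3, 1],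
   [7, 6, 5, 4, 3, 1, 2, 0, 3, 2, 4, 3, 1, 5, 4, 3, 2, 0, 6, 5, 4, 3, 1, 2, 3, 7, 6, 5, 4, 3, 2],
   [7, 6, 5, 4, 3, 1, 2, 0, 3, 2, 4, 3, 1, 5, 4, 3, 2, 0, 6, 5, 4, 3, 1, 2, 7, 6, 5, 4, 3, 1, 2],
   [7, 6, 5, 4, 3, 1, 2, 0, 3, 2, 4, 3, 1, 5, 4, 3, 2, 0, 6, 5, 4, 3, 1, 2, 7, 6, 5, 4, 3, 2, 0],
   [7, 6, 5, 4, 3, 1, 2, 0, 3, 2, 4, 3, 1, 5, 4, 3, 2, 0, 6, 5, 4, 3, 1, 2, 3, 4, 5, 6, 7, 6, 5, 4],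
   [7, 6, 5, 4, 3, 1, 2, 0, 3, 2, 4, 3, 1, 5, 4, 3, 2, 0, 6, 5, 4, 3, 1, 2, 3, 4, 5, 7, 6, 5, 4, 3],
   [7, 6, 5, 4, 3, 1, 2, 0, 3, 2, 4, 3, 1, 5, 4, 3, 2, 0, 6, 5, 4, 3, 1, 2, 3, 4, 7, 6, 5, 4, 3, 1],
   [7, 6, 5, 4, 3, 1, 2, 0, 3, 2, 4, 3, 1, 5, 4, 3, 2, 0, 6, 5, 4, 3, 1, 2, 3, 4, 7, 6, 5, 4, 3, 2],
   [7, 6, 5, 4, 3, 1, 2, 0, 3, 2, 4, 3, 1, 5, 4, 3, 2, 0, 6, 5, 4, 3, 1, 2, 3, 7, 6, 5, 4, 3, 1, 2],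
   [7, 6, 5, 4, 3, 1, 2, 0, 3, 2, 4, 3, 1, 5, 4, 3, 2, 0, 6, 5, 4, 3, 1, 2, 3, 7, 6, 5, 4, 3, 2, 0],
   [7, 6, 5, 4, 3, 1, 2, 0, 3, 2, 4, 3, 1, 5, 4, 3, 2, 0, 6, 5, 4, 3, 1, 2, 7, 6, 5, 4, 3, 1, 2, 0],
   [7, 6, 5, 4, 3, 1, 2, 0, 3, 2, 4, 3, 1, 5, 4, 3, 2, 0, 6, 5, 4, 3, 1, 2, 3, 4, 5, 6, 7, 6, 5, 4, 3],
   [7, 6, 5, 4, 3, 1, 2, 0, 3, 2, 4, 3, 1, 5, 4, 3, 2, 0, 6, 5, 4, 3, 1, 2, 3, 4, 5, 7, 6, 5, 4, 3, 1],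
   [7, 6, 5, 4, 3, 1, 2, 0, 3, 2, 4, 3, 1, 5, 4, 3, 2, 0, 6, 5, 4, 3, 1, 2, 3, 4, 5, 7, 6, 5, 4, 3, 2],
   [7, 6, 5, 4, 3, 1, 2, 0, 3, 2, 4, 3, 1, 5, 4, 3, 2, 0, 6, 5, 4, 3, 1, 2, 3, 4, 7, 6, 5, 4, 3, 1, 2],
   [7, 6, 5, 4, 3, 1, 2, 0, 3, 2, 4, 3, 1, 5, 4, 3, 2, 0, 6, 5, 4, 3, 1, 2, 3, 4, 7, 6, 5, 4, 3, 2, 0],
   [7, 6, 5, 4, 3, 1, 2, 0, 3, 2, 4, 3, 1, 5, 4, 3, 2, 0, 6, 5, 4, 3, 1, 2, 3, 7, 6, 5, 4, 3, 1, 2, 0],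
   [7, 6, 5, 4, 3, 1, 2, 0, 3, 2, 4, 3, 1, 5, 4, 3, 2, 0, 6, 5, 4, 3, 1, 2, 3, 7, 6, 5, 4, 3, 1, 2, 3],
   [7, 6, 5, 4, 3, 1, 2, 0, 3, 2, 4, 3, 1, 5, 4, 3, 2, 0, 6, 5, 4, 3, 1, 2, 3, 4, 5, 6, 7, 6, 5, 4, 3, 1],
   [7, 6, 5, 4, 3, 1, 2, 0, 3, 2, 4, 3, 1, 5, 4, 3, 2, 0, 6, 5, 4, 3, 1, 2, 3, 4, 5, 6, 7, 6, 5, 4, 3, 2],
   [7, 6, 5, 4, 3, 1, 2, 0, 3, 2, 4, 3, 1, 5, 4, 3, 2, 0, 6, 5, 4, 3, 1, 2, 3, 4, 5, 7, 6, 5, 4, 3, 1, 2],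
   [7, 6, 5, 4, 3, 1, 2, 0, 3, 2, 4, 3, 1, 5, 4, 3, 2, 0, 6, 5, 4, 3, 1, 2, 3, 4, 5, 7, 6, 5, 4, 3, 2, 0],
   [7, 6, 5, 4, 3, 1, 2, 0, 3, 2, 4, 3, 1, 5, 4, 3, 2, 0, 6, 5, 4, 3, 1, 2, 3, 4, 7, 6, 5, 4, 3, 1, 2, 0],
   [7, 6, 5, 4, 3, 1, 2, 0, 3, 2, 4, 3, 1, 5, 4, 3, 2, 0, 6, 5, 4, 3, 1, 2, 3, 4, 7, 6, 5, 4, 3, 1, 2, 3],
   [7, 6, 5, 4, 3, 1, 2, 0, 3, 2, 4, 3, 1, 5, 4, 3, 2, 0, 6, 5, 4, 3, 1, 2, 3, 7, 6, 5, 4, 3, 1, 2, 0, 3],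
   [7, 6, 5, 4, 3, 1, 2, 0, 3, 2, 4, 3, 1, 5, 4, 3, 2, 0, 6, 5, 4, 3, 1, 2, 3, 4, 5, 6, 7, 6, 5, 4, 3, 1, 2],
   [7, 6, 5, 4, 3, 1, 2, 0, 3, 2, 4, 3, 1, 5, 4, 3, 2, 0, 6, 5, 4, 3, 1, 2, 3, 4, 5, 6, 7, 6, 5, 4, 3, 2, 0],
   [7, 6, 5, 4, 3, 1, 2, 0, 3, 2, 4, 3, 1, 5, 4, 3, 2, 0, 6, 5, 4, 3, 1, 2, 3, 4, 5, 7, 6, 5, 4, 3, 1, 2, 0],
   [7, 6, 5, 4, 3, 1, 2, 0, 3, 2, 4, 3, 1, 5, 4, 3, 2, 0, 6, 5, 4, 3, 1, 2, 3, 4, 5, 7, 6, 5, 4, 3, 1, 2, 3],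
   [7, 6, 5, 4, 3, 1, 2, 0, 3, 2, 4, 3, 1, 5, 4, 3, 2, 0, 6, 5, 4, 3, 1, 2, 3, 4, 7, 6, 5, 4, 3, 1, 2, 0, 3],
   [7, 6, 5, 4, 3, 1, 2, 0, 3, 2, 4, 3, 1, 5, 4, 3, 2, 0, 6, 5, 4, 3, 1, 2, 3, 4, 7, 6, 5, 4, 3, 1, 2, 3, 4],
   [7, 6, 5, 4, 3, 1, 2, 0, 3, 2, 4, 3, 1, 5, 4, 3, 2, 0, 6, 5, 4, 3, 1, 2, 3, 7, 6, 5, 4, 3, 1, 2, 0, 3, 2],
   [7, 6, 5, 4, 3, 1, 2, 0, 3, 2, 4, 3, 1, 5, 4, 3, 2, 0, 6, 5, 4, 3, 1, 2, 3, 4, 5, 6, 7, 6, 5, 4, 3, 1, 2, 0],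
   [7, 6, 5, 4, 3, 1, 2, 0, 3, 2, 4, 3, 1, 5, 4, 3, 2, 0, 6, 5, 4, 3, 1, 2, 3, 4, 5, 6, 7, 6, 5, 4, 3, 1, 2, 3],
   [7, 6, 5, 4, 3, 1, 2, 0, 3, 2, 4, 3, 1, 5, 4, 3, 2, 0, 6, 5, 4, 3, 1, 2, 3, 4, 5, 7, 6, 5, 4, 3, 1, 2, 0, 3],
   [7, 6, 5, 4, 3, 1, 2, 0, 3, 2, 4, 3, 1, 5, 4, 3, 2, 0, 6, 5, 4, 3, 1, 2, 3, 4, 5, 7, 6, 5, 4, 3, 1, 2, 3, 4],
   [7, 6, 5, 4, 3, 1, 2, 0, 3, 2, 4, 3, 1, 5, 4, 3, 2, 0, 6, 5, 4, 3, 1, 2, 3, 4, 7, 6, 5, 4, 3, 1, 2, 0, 3, 2],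
   [7, 6, 5, 4, 3, 1, 2, 0, 3, 2, 4, 3, 1, 5, 4, 3, 2, 0, 6, 5, 4, 3, 1, 2, 3, 4, 7, 6, 5, 4, 3, 1, 2, 0, 3, 4],
   [7, 6, 5, 4, 3, 1, 2, 0, 3, 2, 4, 3, 1, 5, 4, 3, 2, 0, 6, 5, 4, 3, 1, 2, 3, 4, 5, 6, 7, 6, 5, 4, 3, 1, 2, 0, 3],
   [7, 6, 5, 4, 3, 1, 2, 0, 3, 2, 4, 3, 1, 5, 4, 3, 2, 0, 6, 5, 4, 3, 1, 2, 3, 4, 5, 6, 7, 6, 5, 4, 3, 1, 2, 3, 4],
   [7, 6, 5, 4, 3, 1, 2, 0, 3, 2, 4, 3, 1, 5, 4, 3, 2, 0, 6, 5, 4, 3, 1, 2, 3, 4, 5, 7, 6, 5, 4, 3, 1, 2, 0, 3, 2],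
   [7, 6, 5, 4, 3, 1, 2, 0, 3, 2, 4, 3, 1, 5, 4, 3, 2, 0, 6, 5, 4, 3, 1, 2, 3, 4, 5, 7, 6, 5, 4, 3, 1, 2, 0, 3, 4],
   [7, 6, 5, 4, 3, 1, 2, 0, 3, 2, 4, 3, 1, 5, 4, 3, 2, 0, 6, 5, 4, 3, 1, 2, 3, 4, 5, 7, 6, 5, 4, 3, 1, 2, 3, 4, 5],
   [7, 6, 5, 4, 3, 1, 2, 0, 3, 2, 4, 3, 1, 5, 4, 3, 2, 0, 6, 5, 4, 3, 1, 2, 3, 4, 7, 6, 5, 4, 3, 1, 2, 0, 3, 2, 4],
   [7, 6, 5, 4, 3, 1, 2, 0, 3, 2, 4, 3, 1, 5, 4, 3, 2, 0, 6, 5, 4, 3, 1, 2, 3, 4, 5, 6, 7, 6, 5, 4, 3, 1, 2, 0, 3, 2],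
   [7, 6, 5, 4, 3, 1, 2, 0, 3, 2, 4, 3, 1, 5, 4, 3, 2, 0, 6, 5, 4, 3, 1, 2, 3, 4, 5, 6, 7, 6, 5, 4, 3, 1, 2, 0, 3, 4],
   [7, 6, 5, 4, 3, 1, 2, 0, 3, 2, 4, 3, 1, 5, 4, 3, 2, 0, 6, 5, 4, 3, 1, 2, 3, 4, 5, 6, 7, 6, 5, 4, 3, 1, 2, 3, 4, 5],
   [7, 6, 5, 4, 3, 1, 2, 0, 3, 2, 4, 3, 1, 5, 4, 3, 2, 0, 6, 5, 4, 3, 1, 2, 3, 4, 5, 7, 6, 5, 4, 3, 1, 2, 0, 3, 2, 4],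
   [7, 6, 5, 4, 3, 1, 2, 0, 3, 2, 4, 3, 1, 5, 4, 3, 2, 0, 6, 5, 4, 3, 1, 2, 3, 4, 5, 7, 6, 5, 4, 3, 1, 2, 0, 3, 4, 5],
   [7, 6, 5, 4, 3, 1, 2, 0, 3, 2, 4, 3, 1, 5, 4, 3, 2, 0, 6, 5, 4, 3, 1, 2, 3, 4, 7, 6, 5, 4, 3, 1, 2, 0, 3, 2, 4, 3],
   [7, 6, 5, 4, 3, 1, 2, 0, 3, 2, 4, 3, 1, 5, 4, 3, 2, 0, 6, 5, 4, 3, 1, 2, 3, 4, 5, 6, 7, 6, 5, 4, 3, 1, 2, 0, 3, 2, 4],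
   [7, 6, 5, 4, 3, 1, 2, 0, 3, 2, 4, 3, 1, 5, 4, 3, 2, 0, 6, 5, 4, 3, 1, 2, 3, 4, 5, 6, 7, 6, 5, 4, 3, 1, 2, 0, 3, 4, 5],
   [7, 6, 5, 4, 3, 1, 2, 0, 3, 2, 4, 3, 1, 5, 4, 3, 2, 0, 6, 5, 4, 3, 1, 2, 3, 4, 5, 6, 7, 6, 5, 4, 3, 1, 2, 3, 4, 5, 6],
   [7, 6, 5, 4, 3, 1, 2, 0, 3, 2, 4, 3, 1, 5, 4, 3, 2, 0, 6, 5, 4, 3, 1, 2, 3, 4, 5, 7, 6, 5, 4, 3, 1, 2, 0, 3, 2, 4, 3],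
   [7, 6, 5, 4, 3, 1, 2, 0, 3, 2, 4, 3, 1, 5, 4, 3, 2, 0, 6, 5, 4, 3, 1, 2, 3, 4, 5, 7, 6, 5, 4, 3, 1, 2, 0, 3, 2, 4, 5],
   [7, 6, 5, 4, 3, 1, 2, 0, 3, 2, 4, 3, 1, 5, 4, 3, 2, 0, 6, 5, 4, 3, 1, 2, 3, 4, 7, 6, 5, 4, 3, 1, 2, 0, 3, 2, 4, 3, 1],
   [7, 6, 5, 4, 3, 1, 2, 0, 3, 2, 4, 3, 1, 5, 4, 3, 2, 0, 6, 5, 4, 3, 1, 2, 3, 4, 5, 6, 7, 6, 5, 4, 3, 1, 2, 0, 3, 2, 4, 3],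
   [7, 6, 5, 4, 3, 1, 2, 0, 3, 2, 4, 3, 1, 5, 4, 3, 2, 0, 6, 5, 4, 3, 1, 2, 3, 4, 5, 6, 7, 6, 5, 4, 3, 1, 2, 0, 3, 2, 4, 5],
   [7, 6, 5, 4, 3, 1, 2, 0, 3, 2, 4, 3, 1, 5, 4, 3, 2, 0, 6, 5, 4, 3, 1, 2, 3, 4, 5, 6, 7, 6, 5, 4, 3, 1, 2, 0, 3, 4, 5, 6],
   [7, 6, 5, 4, 3, 1, 2, 0, 3, 2, 4, 3, 1, 5, 4, 3, 2, 0, 6, 5, 4, 3, 1, 2, 3, 4, 5, 7, 6, 5, 4, 3, 1, 2, 0, 3, 2, 4, 3, 1],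
   [7, 6, 5, 4, 3, 1, 2, 0, 3, 2, 4, 3, 1, 5, 4, 3, 2, 0, 6, 5, 4, 3, 1, 2, 3, 4, 5, 7, 6, 5, 4, 3, 1, 2, 0, 3, 2, 4, 3, 5],
   [7, 6, 5, 4, 3, 1, 2, 0, 3, 2, 4, 3, 1, 5, 4, 3, 2, 0, 6, 5, 4, 3, 1, 2, 3, 4, 5, 6, 7, 6, 5, 4, 3, 1, 2, 0, 3, 2, 4, 3, 1],
   [7, 6, 5, 4, 3, 1, 2, 0, 3, 2, 4, 3, 1, 5, 4, 3, 2, 0, 6, 5, 4, 3, 1, 2, 3, 4, 5, 6, 7, 6, 5, 4, 3, 1, 2, 0, 3, 2, 4, 3, 5],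
   [7, 6, 5, 4, 3, 1, 2, 0, 3, 2, 4, 3, 1, 5, 4, 3, 2, 0, 6, 5, 4, 3, 1, 2, 3, 4, 5, 6, 7, 6, 5, 4, 3, 1, 2, 0, 3, 2, 4, 5, 6],
   [7, 6, 5, 4, 3, 1, 2, 0, 3, 2, 4, 3, 1, 5, 4, 3, 2, 0, 6, 5, 4, 3, 1, 2, 3, 4, 5, 7, 6, 5, 4, 3, 1, 2, 0, 3, 2, 4, 3, 1, 5],
   [7, 6, 5, 4, 3, 1, 2, 0, 3, 2, 4, 3, 1, 5, 4, 3, 2, 0, 6, 5, 4, 3, 1, 2, 3, 4, 5, 7, 6, 5, 4, 3, 1, 2, 0, 3, 2, 4, 3, 5, 4],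
   [7, 6, 5, 4, 3, 1, 2, 0, 3, 2, 4, 3, 1, 5, 4, 3, 2, 0, 6, 5, 4, 3, 1, 2, 3, 4, 5, 6, 7, 6, 5, 4, 3, 1, 2, 0, 3, 2, 4, 3, 1, 5],
   [7, 6, 5, 4, 3, 1, 2, 0, 3, 2, 4, 3, 1, 5, 4, 3, 2, 0, 6, 5, 4, 3, 1, 2, 3, 4, 5, 6, 7, 6, 5, 4, 3, 1, 2, 0, 3, 2, 4, 3, 5, 4],
   [7, 6, 5, 4, 3, 1, 2, 0, 3, 2, 4, 3, 1, 5, 4, 3, 2, 0, 6, 5, 4, 3, 1, 2, 3, 4, 5, 6, 7, 6, 5, 4, 3, 1, 2, 0, 3, 2, 4, 3, 5, 6],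
   [7, 6, 5, 4, 3, 1, 2, 0, 3, 2, 4, 3, 1, 5, 4, 3, 2, 0, 6, 5, 4, 3, 1, 2, 3, 4, 5, 7, 6, 5, 4, 3, 1, 2, 0, 3, 2, 4, 3, 1, 5, 4],
   [7, 6, 5, 4, 3, 1, 2, 0, 3, 2, 4, 3, 1, 5, 4, 3, 2, 0, 6, 5, 4, 3, 1, 2, 3, 4, 5, 6, 7, 6, 5, 4, 3, 1, 2, 0, 3, 2, 4, 3, 1, 5, 4],
   [7, 6, 5, 4, 3, 1, 2, 0, 3, 2, 4, 3, 1, 5, 4, 3, 2, 0, 6, 5, 4, 3, 1, 2, 3, 4, 5, 6, 7, 6, 5, 4, 3, 1, 2, 0, 3, 2, 4, 3, 1, 5, 6],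
   [7, 6, 5, 4, 3, 1, 2, 0, 3, 2, 4, 3, 1, 5, 4, 3, 2, 0, 6, 5, 4, 3, 1, 2, 3, 4, 5, 6, 7, 6, 5, 4, 3, 1, 2, 0, 3, 2, 4, 3, 5, 4, 6],
   [7, 6, 5, 4, 3, 1, 2, 0, 3, 2, 4, 3, 1, 5, 4, 3, 2, 0, 6, 5, 4, 3, 1, 2, 3, 4, 5, 7, 6, 5, 4, 3, 1, 2, 0, 3, 2, 4, 3, 1, 5, 4, 3],
   [7, 6, 5, 4, 3, 1, 2, 0, 3, 2, 4, 3, 1, 5, 4, 3, 2, 0, 6, 5, 4, 3, 1, 2, 3, 4, 5, 6, 7, 6, 5, 4, 3, 1, 2, 0, 3, 2, 4, 3, 1, 5, 4, 3],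
   [7, 6, 5, 4, 3, 1, 2, 0, 3, 2, 4, 3, 1, 5, 4, 3, 2, 0, 6, 5, 4, 3, 1, 2, 3, 4, 5, 6, 7, 6, 5, 4, 3, 1, 2, 0, 3, 2, 4, 3, 1, 5, 4, 6],
   [7, 6, 5, 4, 3, 1, 2, 0, 3, 2, 4, 3, 1, 5, 4, 3, 2, 0, 6, 5, 4, 3, 1, 2, 3, 4, 5, 6, 7, 6, 5, 4, 3, 1, 2, 0, 3, 2, 4, 3, 5, 4, 6, 5],
   [7, 6, 5, 4, 3, 1, 2, 0, 3, 2, 4, 3, 1, 5, 4, 3, 2, 0, 6, 5, 4, 3, 1, 2, 3, 4, 5, 7, 6, 5, 4, 3, 1, 2, 0, 3, 2, 4, 3, 1, 5, 4, 3, 2],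
   [7, 6, 5, 4, 3, 1, 2, 0, 3, 2, 4, 3, 1, 5, 4, 3, 2, 0, 6, 5, 4, 3, 1, 2, 3, 4, 5, 6, 7, 6, 5, 4, 3, 1, 2, 0, 3, 2, 4, 3, 1, 5, 4, 3, 2],
   [7, 6, 5, 4, 3, 1, 2, 0, 3, 2, 4, 3, 1, 5, 4, 3, 2, 0, 6, 5, 4, 3, 1, 2, 3, 4, 5, 6, 7, 6, 5, 4, 3, 1, 2, 0, 3, 2, 4, 3, 1, 5, 4, 3, 6],
   [7, 6, 5, 4, 3, 1, 2, 0, 3, 2, 4, 3, 1, 5, 4, 3, 2, 0, 6, 5, 4, 3, 1, 2, 3, 4, 5, 6, 7, 6, 5, 4, 3, 1, 2, 0, 3, 2, 4, 3, 1, 5, 4, 6, 5],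
   [7, 6, 5, 4, 3, 1, 2, 0, 3, 2, 4, 3, 1, 5, 4, 3, 2, 0, 6, 5, 4, 3, 1, 2, 3, 4, 5, 7, 6, 5, 4, 3, 1, 2, 0, 3, 2, 4, 3, 1, 5, 4, 3, 2, 0],
   [7, 6, 5, 4, 3, 1, 2, 0, 3, 2, 4, 3, 1, 5, 4, 3, 2, 0, 6, 5, 4, 3, 1, 2, 3, 4, 5, 6, 7, 6, 5, 4, 3, 1, 2, 0, 3, 2, 4, 3, 1, 5, 4, 3, 2, 0],
   [7, 6, 5, 4, 3, 1, 2, 0, 3, 2, 4, 3, 1, 5, 4, 3, 2, 0, 6, 5, 4, 3, 1, 2, 3, 4, 5, 6, 7, 6, 5, 4, 3, 1, 2, 0, 3, 2, 4, 3, 1, 5, 4, 3, 2, 6],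
   [7, 6, 5, 4, 3, 1, 2, 0, 3, 2, 4, 3, 1, 5, 4, 3, 2, 0, 6, 5, 4, 3, 1, 2, 3, 4, 5, 6, 7, 6, 5, 4, 3, 1, 2, 0, 3, 2, 4, 3, 1, 5, 4, 3, 6, 5],
   [7, 6, 5, 4, 3, 1, 2, 0, 3, 2, 4, 3, 1, 5, 4, 3, 2, 0, 6, 5, 4, 3, 1, 2, 3, 4, 5, 6, 7, 6, 5, 4, 3, 1, 2, 0, 3, 2, 4, 3, 1, 5, 4, 3, 2, 0, 6],
   [7, 6, 5, 4, 3, 1, 2, 0, 3, 2, 4, 3, 1, 5, 4, 3, 2, 0, 6, 5, 4, 3, 1, 2, 3, 4, 5, 6, 7, 6, 5, 4, 3, 1, 2, 0, 3, 2, 4, 3, 1, 5, 4, 3, 2, 6, 5],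
   [7, 6, 5, 4, 3, 1, 2, 0, 3, 2, 4, 3, 1, 5, 4, 3, 2, 0, 6, 5, 4, 3, 1, 2, 3, 4, 5, 6, 7, 6, 5, 4, 3, 1, 2, 0, 3, 2, 4, 3, 1, 5, 4, 3, 6, 5, 4],
   [7, 6, 5, 4, 3, 1, 2, 0, 3, 2, 4, 3, 1, 5, 4, 3, 2, 0, 6, 5, 4, 3, 1, 2, 3, 4, 5, 6, 7, 6, 5, 4, 3, 1, 2, 0, 3, 2, 4, 3, 1, 5, 4, 3, 2, 0, 6, 5],
   [7, 6, 5, 4, 3, 1, 2, 0, 3, 2, 4, 3, 1, 5, 4, 3, 2, 0, 6, 5, 4, 3, 1, 2, 3, 4, 5, 6, 7, 6, 5, 4, 3, 1, 2, 0, 3, 2, 4, 3, 1, 5, 4, 3, 2, 6, 5, 4],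
   [7, 6, 5, 4, 3, 1, 2, 0, 3, 2, 4, 3, 1, 5, 4, 3, 2, 0, 6, 5, 4, 3, 1, 2, 3, 4, 5, 6, 7, 6, 5, 4, 3, 1, 2, 0, 3, 2, 4, 3, 1, 5, 4, 3, 2, 0, 6, 5, 4],
   [7, 6, 5, 4, 3, 1, 2, 0, 3, 2, 4, 3, 1, 5, 4, 3, 2, 0, 6, 5, 4, 3, 1, 2, 3, 4, 5, 6, 7, 6, 5, 4, 3, 1, 2, 0, 3, 2, 4, 3, 1, 5, 4, 3, 2, 6, 5, 4, 3],
   [7, 6, 5, 4, 3, 1, 2, 0, 3, 2, 4, 3, 1, 5, 4, 3, 2, 0, 6, 5, 4, 3, 1, 2, 3, 4, 5, 6, 7, 6, 5, 4, 3, 1, 2, 0, 3, 2, 4, 3, 1, 5, 4, 3, 2, 0, 6, 5, 4, 3],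
   [7, 6, 5, 4, 3, 1, 2, 0, 3, 2, 4, 3, 1, 5, 4, 3, 2, 0, 6, 5, 4, 3, 1, 2, 3, 4, 5, 6, 7, 6, 5, 4, 3, 1, 2, 0, 3, 2, 4, 3, 1, 5, 4, 3, 2, 6, 5, 4, 3, 1],
   [7, 6, 5, 4, 3, 1, 2, 0, 3, 2, 4, 3, 1, 5, 4, 3, 2, 0, 6, 5, 4, 3, 1, 2, 3, 4, 5, 6, 7, 6, 5, 4, 3, 1, 2, 0, 3, 2, 4, 3, 1, 5, 4, 3, 2, 0, 6, 5, 4, 3, 1],
   [7, 6, 5, 4, 3, 1, 2, 0, 3, 2, 4, 3, 1, 5, 4, 3, 2, 0, 6, 5, 4, 3, 1, 2, 3, 4, 5, 6, 7, 6, 5, 4, 3, 1, 2, 0, 3, 2, 4, 3, 1, 5, 4, 3, 2, 0, 6, 5, 4, 3, 2],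
   [7, 6, 5, 4, 3, 1, 2, 0, 3, 2, 4, 3, 1, 5, 4, 3, 2, 0, 6, 5, 4, 3, 1, 2, 3, 4, 5, 6, 7, 6, 5, 4, 3, 1, 2, 0, 3, 2, 4, 3, 1, 5, 4, 3, 2, 0, 6, 5, 4, 3, 1, 2],
   [7, 6, 5, 4, 3, 1, 2, 0, 3, 2, 4, 3, 1, 5, 4, 3, 2, 0, 6, 5, 4, 3, 1, 2, 3, 4, 5, 6, 7, 6, 5, 4, 3, 1, 2, 0, 3, 2, 4, 3, 1, 5, 4, 3, 2, 0, 6, 5, 4, 3, 1, 2, 3],
   [7, 6, 5, 4, 3, 1, 2, 0, 3, 2, 4, 3, 1, 5, 4, 3, 2, 0, 6, 5, 4, 3, 1, 2, 3, 4, 5, 6, 7, 6, 5, 4, 3, 1, 2, 0, 3, 2, 4, 3, 1, 5, 4, 3, 2, 0, 6, 5, 4, 3, 1, 2, 3, 4],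
   [7, 6, 5, 4, 3, 1, 2, 0, 3, 2, 4, 3, 1, 5, 4, 3, 2, 0, 6, 5, 4, 3, 1, 2, 3, 4, 5, 6, 7, 6, 5, 4, 3, 1, 2, 0, 3, 2, 4, 3, 1, 5, 4, 3, 2, 0, 6, 5, 4, 3, 1, 2, 3, 4, 5],
   [7, 6, 5, 4, 3, 1, 2, 0, 3, 2, 4, 3, 1, 5, 4, 3, 2, 0, 6, 5, 4, 3, 1, 2, 3, 4, 5, 6, 7, 6, 5, 4, 3, 1, 2, 0, 3, 2, 4, 3, 1, 5, 4, 3, 2, 0, 6, 5, 4, 3, 1, 2, 3, 4, 5, 6],
   [7, 6, 5, 4, 3, 1, 2, 0, 3, 2, 4, 3, 1, 5, 4, 3, 2, 0, 6, 5, 4, 3, 1, 2, 3, 4, 5, 6, 7, 6, 5, 4, 3, 1, 2, 0, 3, 2, 4, 3, 1, 5, 4, 3, 2, 0, 6, 5, 4, 3, 1, 2, 3, 4, 5, 6, 7]]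

def ctxE8_8 : Ctx :=
  { n := 8, nh := 7, N := 240, m := fun a b => (mE8_8.getD a []).getD b 0, reps := repsE8_8 }

def stepsE8_8 : List Step :=
  [.defn 0 7 1, .defn 1 6 2, .defn 2 5 3, .defn 3 4 4, .defn 4 3 5, .defn 5 1 6, .defn 5 2 7,
   .defn 6 2 8, .defn 7 0 9, .defn 8 0 10, .defn 8 3 11, .defn 10 3 12, .defn 11 4 13,
   .defn 12 2 14, .defn 12 4 15, .defn 13 5 16, .defn 14 4 17, .defn 15 5 18, .defn 16 6 19,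
   .defn 17 3 20, .defn 17 5 21, .defn 18 6 22, .defn 19 7 23, .defn 20 1 24, .defn 20 5 25,
   .defn 21 6 26, .defn 22 7 27, .defn 24 5 28, .defn 25 4 29, .defn 25 6 30, .defn 26 7 31,
   .defn 28 4 32, .defn 28 6 33, .defn 29 6 34, .defn 30 7 35, .defn 32 3 36, .defn 32 6 37,
   .defn 33 7 38, .defn 34 5 39, .defn 34 7 40, .defn 36 2 41, .defn 36 6 42, .defn 37 5 43,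
   .defn 37 7 44, .defn 39 7 45, .defn 41 0 46, .defn 41 6 47, .defn 42 5 48, .defn 42 7 49,
   .defn 43 7 50, .defn 45 6 51, .defn 46 6 52, .defn 47 5 53, .defn 47 7 54, .defn 48 4 55,
   .defn 48 7 56, .defn 50 6 57, .defn 52 5 58, .defn 52 7 59, .defn 53 4 60, .defn 53 7 61,
   .defn 55 7 62, .defn 56 6 63, .defn 58 4 64, .defn 58 7 65, .defn 60 3 66, .defn 60 7 67,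
   .defn 61 6 68, .defn 62 6 69, .defn 64 3 70, .defn 64 7 71, .defn 65 6 72, .defn 66 1 73,
   .defn 66 7 74, .defn 67 6 75, .defn 69 5 76, .defn 70 1 77, .defn 70 2 78, .defn 70 7 79,
   .defn 71 6 80, .defn 73 7 81, .defn 74 6 82, .defn 75 5 83, .defn 77 2 84, .defn 77 7 85,
   .defn 78 7 86, .defn 79 6 87, .defn 80 5 88, .defn 81 6 89, .defn 82 5 90, .defn 84 3 91,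
   .defn 84 7 92, .defn 85 6 93, .defn 86 6 94, .defn 87 5 95, .defn 89 5 96, .defn 90 4 97,
   .defn 91 4 98, .defn 91 7 99, .defn 92 6 100, .defn 93 5 101, .defn 94 5 102, .defn 95 4 103,
   .defn 96 4 104, .defn 98 5 105, .defn 98 7 106, .defn 99 6 107, .defn 100 5 108,
   .defn 101 4 109, .defn 102 4 110, .defn 104 3 111, .defn 105 6 112, .defn 105 7 113,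
   .defn 106 6 114, .defn 107 5 115, .defn 108 4 116, .defn 109 3 117, .defn 110 3 118,
   .defn 111 2 119, .defn 112 7 120, .defn 113 6 121, .defn 114 5 122, .defn 115 4 123,
   .defn 116 3 124, .defn 117 2 125, .defn 118 1 126, .defn 119 0 127, .defn 120 6 128,
   .defn 121 5 129, .defn 122 4 130, .defn 123 3 131, .defn 124 1 132, .defn 124 2 133,
   .defn 125 0 134, .defn 128 5 135, .defn 129 4 136, .defn 130 3 137, .defn 131 1 138,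
   .defn 131 2 139, .defn 132 2 140, .defn 133 0 141, .defn 135 4 142, .defn 136 3 143,
   .defn 137 1 144, .defn 137 2 145, .defn 138 2 146, .defn 139 0 147, .defn 140 0 148,
   .defn 142 3 149, .defn 143 1 150, .defn 143 2 151, .defn 144 2 152, .defn 145 0 153,
   .defn 146 0 154, .defn 146 3 155, .defn 149 1 156, .defn 149 2 157, .defn 150 2 158,
   .defn 151 0 159, .defn 152 0 160, .defn 152 3 161, .defn 154 3 162, .defn 156 2 163,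
   .defn 157 0 164, .defn 158 0 165, .defn 158 3 166, .defn 160 3 167, .defn 161 4 168,
   .defn 162 2 169, .defn 163 0 170, .defn 163 3 171, .defn 165 3 172, .defn 166 4 173,
   .defn 167 2 174, .defn 167 4 175, .defn 170 3 176, .defn 171 4 177, .defn 172 2 178,
   .defn 172 4 179, .defn 173 5 180, .defn 174 4 181, .defn 176 2 182, .defn 176 4 183,
   .defn 177 5 184, .defn 178 4 185, .defn 179 5 186, .defn 181 3 187, .defn 182 4 188,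
   .defn 183 5 189, .defn 184 6 190, .defn 185 3 191, .defn 185 5 192, .defn 187 1 193,
   .defn 188 3 194, .defn 188 5 195, .defn 189 6 196, .defn 191 1 197, .defn 191 5 198,
   .defn 194 1 199, .defn 194 5 200, .defn 195 6 201, .defn 197 5 202, .defn 198 4 203,
   .defn 199 5 204, .defn 200 4 205, .defn 200 6 206, .defn 202 4 207, .defn 204 4 208,
   .defn 204 6 209, .defn 205 6 210, .defn 207 3 211, .defn 208 3 212, .defn 208 6 213,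
   .defn 210 5 214, .defn 211 2 215, .defn 212 2 216, .defn 212 6 217, .defn 213 5 218,
   .defn 215 0 219, .defn 216 0 220, .defn 216 6 221, .defn 217 5 222, .defn 220 6 223,
   .defn 221 5 224, .defn 222 4 225, .defn 223 5 226, .defn 224 4 227, .defn 226 4 228,
   .defn 227 3 229, .defn 228 3 230, .defn 229 1 231, .defn 230 1 232, .defn 230 2 233,
   .defn 232 2 234, .defn 234 3 235, .defn 235 4 236, .defn 236 5 237, .defn 237 6 238,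
   .defn 238 7 239, .hgen 0, .hgen 1, .hgen 2, .hgen 3, .hgen 4, .hgen 5, .hgen 6, .ded 0 0 7 2,
   .ded 0 1 7 2, .ded 0 2 7 2, .ded 0 3 7 2, .ded 0 4 7 2, .ded 0 5 7 2, .ded 0 6 7 3,
   .ded 1 0 6 2, .ded 1 1 6 2, .ded 1 2 6 2, .ded 1 3 6 2, .ded 1 4 6 2, .ded 1 5 6 3,
   .ded 2 0 5 2, .ded 2 1 5 2, .ded 2 2 5 2, .ded 2 3 5 2, .ded 2 4 5 3, .ded 2 5 7 1,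
   .ded 3 0 4 2, .ded 3 1 4 2, .ded 3 2 4 2, .ded 3 3 4 3, .ded 3 4 6 1, .ded 3 4 7 1,
   .ded 4 0 3 2, .ded 4 1 3 3, .ded 4 2 3 3, .ded 4 3 5 1, .ded 4 3 6 1, .ded 4 3 7 1,
   .ded 5 0 1 2, .ded 5 0 2 3, .ded 5 1 2 2, .ded 5 1 4 1, .ded 5 1 5 1, .ded 5 1 6 1,
   .ded 5 1 7 1, .ded 5 2 4 1, .ded 5 2 5 1, .ded 5 2 6 1, .ded 5 2 7 1, .ded 6 0 2 3,
   .ded 6 2 3 2, .ded 6 2 4 1, .ded 6 2 5 1, .ded 6 2 6 1, .ded 6 2 7 1, .ded 7 0 1 1,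
   .ded 7 0 3 1, .ded 7 0 4 1, .ded 7 0 5 1, .ded 7 0 6 1, .ded 7 0 7 1, .ded 7 1 3 2,
   .ded 8 0 3 2, .ded 8 0 4 1, .ded 8 0 5 1, .ded 8 0 6 1, .ded 8 0 7 1, .ded 8 3 4 2,
   .ded 8 3 5 1, .ded 8 3 6 1, .ded 8 3 7 1, .ded 9 1 3 2, .ded 10 2 3 3, .ded 10 3 4 2,
   .ded 10 3 5 1, .ded 10 3 6 1, .ded 10 3 7 1, .ded 11 0 2 2, .ded 11 0 4 2, .ded 11 1 4 2,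
   .ded 11 2 4 2, .ded 11 4 5 2, .ded 11 4 6 1, .ded 11 4 7 1, .ded 12 1 2 2, .ded 12 1 4 2,
   .ded 12 2 4 2, .ded 12 2 5 1, .ded 12 2 6 1, .ded 12 2 7 1, .ded 12 4 5 2, .ded 12 4 6 1,
   .ded 12 4 7 1, .ded 13 0 2 2, .ded 13 0 5 2, .ded 13 1 5 2, .ded 13 2 5 2, .ded 13 3 5 2,
   .ded 13 5 6 2, .ded 13 5 7 1, .ded 14 1 4 2, .ded 14 3 4 3, .ded 14 4 5 2, .ded 14 4 6 1,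
   .ded 14 4 7 1, .ded 15 1 5 2, .ded 15 2 3 2, .ded 15 2 5 2, .ded 15 3 5 2, .ded 15 5 6 2,
   .ded 15 5 7 1, .ded 16 0 2 2, .ded 16 0 6 2, .ded 16 1 6 2, .ded 16 2 6 2, .ded 16 3 6 2,
   .ded 16 4 6 2, .ded 16 6 7 2, .ded 17 0 3 2, .ded 17 1 3 3, .ded 17 1 5 2, .ded 17 3 5 2,
   .ded 17 3 6 1, .ded 17 3 7 1, .ded 17 5 6 2, .ded 17 5 7 1, .ded 18 1 6 2, .ded 18 2 3 2,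
   .ded 18 2 6 2, .ded 18 3 6 2, .ded 18 4 6 2, .ded 18 6 7 2, .ded 19 0 2 2, .ded 19 0 7 2,
   .ded 19 1 7 2, .ded 19 2 7 2, .ded 19 3 7 2, .ded 19 4 7 2, .ded 19 5 7 2, .ded 20 0 1 2,
   .ded 20 0 5 2, .ded 20 1 2 1, .ded 20 1 4 1, .ded 20 1 5 2, .ded 20 1 6 1, .ded 20 1 7 1,
   .ded 20 4 5 3, .ded 20 5 6 2, .ded 20 5 7 1, .ded 21 1 3 3, .ded 21 1 6 2, .ded 21 3 4 2,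
   .ded 21 3 6 2, .ded 21 4 6 2, .ded 21 6 7 2, .ded 22 1 7 2, .ded 22 2 3 2, .ded 22 2 7 2,
   .ded 22 3 7 2, .ded 22 4 7 2, .ded 22 5 7 2, .ded 23 0 2 2, .ded 24 0 5 2, .ded 24 2 5 2,
   .ded 24 4 5 3, .ded 24 5 6 2, .ded 24 5 7 1, .ded 25 0 4 2, .ded 25 0 6 2, .ded 25 1 4 2,
   .ded 25 1 6 2, .ded 25 2 4 2, .ded 25 4 6 2, .ded 25 4 7 1, .ded 25 6 7 2, .ded 26 1 3 3,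
   .ded 26 1 7 2, .ded 26 3 4 2, .ded 26 3 7 2, .ded 26 4 7 2, .ded 26 5 7 2, .ded 27 2 3 2,
   .ded 28 0 4 2, .ded 28 0 6 2, .ded 28 2 4 2, .ded 28 2 6 2, .ded 28 3 4 3, .ded 28 4 6 2,
   .ded 28 4 7 1, .ded 28 6 7 2, .ded 29 0 6 2, .ded 29 1 3 2, .ded 29 1 6 2, .ded 29 2 6 2,
   .ded 29 5 6 3, .ded 29 6 7 2, .ded 30 0 7 2, .ded 30 1 7 2, .ded 30 4 5 2, .ded 30 4 7 2,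
   .ded 30 5 7 2, .ded 31 1 3 3, .ded 31 3 4 2, .ded 32 0 3 2, .ded 32 0 6 2, .ded 32 2 3 3,
   .ded 32 2 6 2, .ded 32 3 5 1, .ded 32 3 6 2, .ded 32 3 7 1, .ded 32 5 6 3, .ded 32 6 7 2,
   .ded 33 0 7 2, .ded 33 2 7 2, .ded 33 3 4 3, .ded 33 4 5 2, .ded 33 4 7 2, .ded 33 5 7 2,
   .ded 34 0 5 2, .ded 34 0 7 2, .ded 34 1 3 2, .ded 34 1 5 2, .ded 34 1 7 2, .ded 34 2 5 2,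
   .ded 34 2 7 2, .ded 34 3 5 2, .ded 34 5 7 2, .ded 35 4 5 2, .ded 36 0 2 3, .ded 36 0 6 2,
   .ded 36 1 2 2, .ded 36 2 4 1, .ded 36 2 5 1, .ded 36 2 6 2, .ded 36 2 7 1, .ded 36 5 6 3,
   .ded 36 6 7 2, .ded 37 0 5 2, .ded 37 0 7 2, .ded 37 2 3 3, .ded 37 2 5 2, .ded 37 2 7 2,
   .ded 37 3 5 2, .ded 37 3 7 2, .ded 37 5 7 2, .ded 38 3 4 3, .ded 38 4 5 2, .ded 39 0 7 2,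
   .ded 39 1 3 2, .ded 39 1 7 2, .ded 39 2 7 2, .ded 39 3 7 2, .ded 39 6 7 3, .ded 40 1 3 2,
   .ded 40 5 6 2, .ded 41 0 1 1, .ded 41 0 3 1, .ded 41 0 4 1, .ded 41 0 5 1, .ded 41 0 6 2,
   .ded 41 0 7 1, .ded 41 1 6 2, .ded 41 4 6 2, .ded 41 5 6 3, .ded 41 6 7 2, .ded 42 0 2 3,
   .ded 42 0 5 2, .ded 42 0 7 2, .ded 42 2 5 2, .ded 42 2 7 2, .ded 42 4 5 3, .ded 42 5 7 2,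
   .ded 43 0 7 2, .ded 43 2 3 3, .ded 43 2 7 2, .ded 43 3 4 2, .ded 43 3 7 2, .ded 43 6 7 3,
   .ded 44 2 3 3, .ded 44 5 6 2, .ded 45 0 6 2, .ded 45 1 3 2, .ded 45 1 6 2, .ded 45 2 6 2,
   .ded 45 3 6 2, .ded 45 4 6 2, .ded 46 1 6 2, .ded 46 3 6 2, .ded 46 4 6 2, .ded 46 5 6 3,
   .ded 46 6 7 2, .ded 47 0 5 2, .ded 47 0 7 2, .ded 47 1 5 2, .ded 47 1 7 2, .ded 47 4 5 3,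
   .ded 47 4 7 2, .ded 47 5 7 2, .ded 48 0 2 3, .ded 48 0 4 2, .ded 48 0 7 2, .ded 48 1 4 2,
   .ded 48 2 4 2, .ded 48 2 7 2, .ded 48 4 6 1, .ded 48 4 7 2, .ded 48 6 7 3, .ded 49 0 2 3,
   .ded 49 4 5 3, .ded 49 5 6 2, .ded 50 0 6 2, .ded 50 2 3 3, .ded 50 2 6 2, .ded 50 3 4 2,
   .ded 50 3 6 2, .ded 50 4 6 2, .ded 51 1 3 2, .ded 52 1 5 2, .ded 52 1 7 2, .ded 52 3 5 2,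
   .ded 52 3 7 2, .ded 52 4 5 3, .ded 52 4 7 2, .ded 52 5 7 2, .ded 53 0 4 2, .ded 53 0 7 2,
   .ded 53 1 4 2, .ded 53 1 7 2, .ded 53 3 4 3, .ded 53 4 6 1, .ded 53 4 7 2, .ded 53 6 7 3,
   .ded 54 4 5 3, .ded 54 5 6 2, .ded 55 0 2 3, .ded 55 0 7 2, .ded 55 1 7 2, .ded 55 2 3 2,
   .ded 55 2 7 2, .ded 55 6 7 3, .ded 56 0 2 3, .ded 56 0 6 2, .ded 56 2 6 2, .ded 56 4 6 2,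
   .ded 57 2 3 3, .ded 57 3 4 2, .ded 58 1 4 2, .ded 58 1 7 2, .ded 58 3 4 3, .ded 58 3 7 2,
   .ded 58 4 6 1, .ded 58 4 7 2, .ded 58 6 7 3, .ded 59 4 5 3, .ded 59 5 6 2, .ded 60 0 3 2,
   .ded 60 0 7 2, .ded 60 1 3 3, .ded 60 1 7 2, .ded 60 3 5 1, .ded 60 3 6 1, .ded 60 3 7 2,
   .ded 60 6 7 3, .ded 61 0 6 2, .ded 61 1 6 2, .ded 61 3 4 3, .ded 61 4 6 2, .ded 62 0 2 3,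
   .ded 62 0 6 2, .ded 62 1 6 2, .ded 62 2 3 2, .ded 62 2 6 2, .ded 62 5 6 3, .ded 63 0 2 3,
   .ded 63 4 5 2, .ded 64 1 3 3, .ded 64 1 7 2, .ded 64 2 3 3, .ded 64 3 5 1, .ded 64 3 6 1,
   .ded 64 3 7 2, .ded 64 6 7 3, .ded 65 1 6 2, .ded 65 3 4 3, .ded 65 3 6 2, .ded 65 4 6 2,
   .ded 66 0 1 2, .ded 66 0 2 2, .ded 66 0 7 2, .ded 66 1 2 1, .ded 66 1 4 1, .ded 66 1 5 1,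
   .ded 66 1 6 1, .ded 66 1 7 2, .ded 66 5 7 2, .ded 66 6 7 3, .ded 67 0 6 2, .ded 67 1 3 3,
   .ded 67 1 6 2, .ded 67 3 6 2, .ded 67 5 6 3, .ded 68 3 4 3, .ded 68 4 5 2, .ded 69 0 2 3,
   .ded 69 0 5 2, .ded 69 1 5 2, .ded 69 2 3 2, .ded 69 2 5 2, .ded 69 3 5 2, .ded 69 5 7 1,
   .ded 70 1 2 2, .ded 70 1 4 1, .ded 70 1 5 1, .ded 70 1 6 1, .ded 70 1 7 2, .ded 70 2 4 1,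
   .ded 70 2 5 1, .ded 70 2 6 1, .ded 70 2 7 2, .ded 70 5 7 2, .ded 70 6 7 3, .ded 71 1 3 3,
   .ded 71 1 6 2, .ded 71 2 3 3, .ded 71 3 6 2, .ded 71 5 6 3, .ded 72 3 4 3, .ded 72 4 5 2,
   .ded 73 0 2 2, .ded 73 0 7 2, .ded 73 2 7 2, .ded 73 4 7 2, .ded 73 5 7 2, .ded 73 6 7 3,
   .ded 74 0 2 2, .ded 74 0 6 2, .ded 74 1 6 2, .ded 74 5 6 3, .ded 75 0 5 2, .ded 75 1 3 3,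
   .ded 75 1 5 2, .ded 75 3 5 2, .ded 75 5 7 1, .ded 76 0 2 3, .ded 76 2 3 2, .ded 77 2 3 2,
   .ded 77 2 4 1, .ded 77 2 5 1, .ded 77 2 6 1, .ded 77 2 7 2, .ded 77 4 7 2, .ded 77 5 7 2,
   .ded 77 6 7 3, .ded 78 1 3 2, .ded 78 1 7 2, .ded 78 4 7 2, .ded 78 5 7 2, .ded 78 6 7 3,
   .ded 79 1 6 2, .ded 79 2 6 2, .ded 79 5 6 3, .ded 80 1 3 3, .ded 80 1 5 2, .ded 80 2 3 3,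
   .ded 80 3 5 2, .ded 80 5 7 1, .ded 81 0 2 2, .ded 81 0 6 2, .ded 81 2 6 2, .ded 81 4 6 2,
   .ded 81 5 6 3, .ded 82 0 2 2, .ded 82 0 5 2, .ded 82 1 5 2, .ded 82 4 5 3, .ded 82 5 7 1,
   .ded 83 1 3 3, .ded 83 3 4 2, .ded 84 0 3 2, .ded 84 3 4 2, .ded 84 3 5 1, .ded 84 3 6 1,
   .ded 84 3 7 2, .ded 84 4 7 2, .ded 84 5 7 2, .ded 84 6 7 3, .ded 85 2 3 2, .ded 85 2 6 2,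
   .ded 85 4 6 2, .ded 85 5 6 3, .ded 86 1 3 2, .ded 86 1 6 2, .ded 86 4 6 2, .ded 86 5 6 3,
   .ded 87 1 5 2, .ded 87 2 5 2, .ded 87 4 5 3, .ded 87 5 7 1, .ded 88 1 3 3, .ded 88 2 3 3,
   .ded 88 3 4 2, .ded 89 0 2 2, .ded 89 0 5 2, .ded 89 2 5 2, .ded 89 4 5 3, .ded 89 5 7 1,
   .ded 90 0 2 2, .ded 90 0 4 2, .ded 90 1 4 2, .ded 90 2 4 2, .ded 90 4 6 1, .ded 90 4 7 1,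
   .ded 91 0 4 2, .ded 91 0 7 2, .ded 91 1 4 2, .ded 91 2 4 2, .ded 91 4 5 2, .ded 91 4 6 1,
   .ded 91 4 7 2, .ded 91 5 7 2, .ded 91 6 7 3, .ded 92 3 4 2, .ded 92 3 6 2, .ded 92 4 6 2,
   .ded 92 5 6 3, .ded 93 2 3 2, .ded 93 2 5 2, .ded 93 4 5 3, .ded 93 5 7 1, .ded 94 1 3 2,
   .ded 94 1 5 2, .ded 94 4 5 3, .ded 94 5 7 1, .ded 95 1 4 2, .ded 95 2 4 2, .ded 95 4 6 1,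
   .ded 95 4 7 1, .ded 96 0 2 2, .ded 96 0 4 2, .ded 96 2 4 2, .ded 96 3 4 3, .ded 96 4 6 1,
   .ded 96 4 7 1, .ded 97 0 2 2, .ded 97 1 3 2, .ded 98 0 5 2, .ded 98 0 7 2, .ded 98 1 5 2,
   .ded 98 1 7 2, .ded 98 2 5 2, .ded 98 2 7 2, .ded 98 3 5 2, .ded 98 5 6 2, .ded 98 5 7 2,
   .ded 98 6 7 3, .ded 99 0 6 2, .ded 99 4 5 2, .ded 99 4 6 2, .ded 99 5 6 3, .ded 100 3 4 2,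
   .ded 100 3 5 2, .ded 100 4 5 3, .ded 100 5 7 1, .ded 101 2 3 2, .ded 101 2 4 2, .ded 101 3 4 3,
   .ded 101 4 6 1, .ded 101 4 7 1, .ded 102 1 3 2, .ded 102 1 4 2, .ded 102 3 4 3, .ded 102 4 6 1,
   .ded 102 4 7 1, .ded 103 1 3 2, .ded 103 2 3 2, .ded 104 0 2 2, .ded 104 0 3 2, .ded 104 2 3 3,
   .ded 104 3 5 1, .ded 104 3 6 1, .ded 104 3 7 1, .ded 105 0 6 2, .ded 105 0 7 2, .ded 105 1 6 2,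
   .ded 105 1 7 2, .ded 105 2 6 2, .ded 105 2 7 2, .ded 105 3 6 2, .ded 105 3 7 2, .ded 105 4 6 2,
   .ded 105 6 7 3, .ded 106 0 6 2, .ded 106 1 6 2, .ded 106 2 6 2, .ded 106 5 6 3, .ded 107 0 5 2,
   .ded 107 4 5 3, .ded 107 5 7 1, .ded 108 3 4 3, .ded 108 4 6 1, .ded 108 4 7 1, .ded 109 2 3 3,
   .ded 109 3 5 1, .ded 109 3 6 1, .ded 109 3 7 1, .ded 110 0 3 2, .ded 110 1 3 3, .ded 110 3 5 1,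
   .ded 110 3 6 1, .ded 110 3 7 1, .ded 111 0 2 3, .ded 111 1 2 2, .ded 111 2 4 1, .ded 111 2 5 1,
   .ded 111 2 6 1, .ded 111 2 7 1, .ded 112 0 7 2, .ded 112 1 7 2, .ded 112 2 7 2, .ded 112 3 7 2,
   .ded 112 4 7 2, .ded 112 5 7 2, .ded 113 0 6 2, .ded 113 1 6 2, .ded 113 2 6 2, .ded 113 3 6 2,
   .ded 113 4 6 2, .ded 114 0 5 2, .ded 114 1 5 2, .ded 114 2 5 2, .ded 114 3 5 2, .ded 114 5 7 1,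
   .ded 115 0 4 2, .ded 115 1 4 2, .ded 115 2 4 2, .ded 115 4 6 1, .ded 115 4 7 1, .ded 116 0 3 2,
   .ded 116 3 5 1, .ded 116 3 6 1, .ded 116 3 7 1, .ded 117 1 2 2, .ded 117 2 4 1, .ded 117 2 5 1,
   .ded 117 2 6 1, .ded 117 2 7 1, .ded 118 0 1 2, .ded 118 1 2 1, .ded 118 1 4 1, .ded 118 1 5 1,
   .ded 118 1 6 1, .ded 118 1 7 1, .ded 119 0 1 1, .ded 119 0 3 1, .ded 119 0 4 1, .ded 119 0 5 1,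
   .ded 119 0 6 1, .ded 119 0 7 1, .ded 120 0 6 2, .ded 120 1 6 2, .ded 120 2 6 2, .ded 120 3 6 2,
   .ded 120 4 6 2, .ded 120 5 6 3, .ded 121 0 5 2, .ded 121 1 5 2, .ded 121 2 5 2, .ded 121 3 5 2,
   .ded 121 4 5 3, .ded 121 5 7 1, .ded 122 0 4 2, .ded 122 1 4 2, .ded 122 2 4 2, .ded 122 3 4 3,
   .ded 122 4 6 1, .ded 122 4 7 1, .ded 123 0 3 2, .ded 123 1 3 3, .ded 123 2 3 3, .ded 123 3 5 1,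
   .ded 123 3 6 1, .ded 123 3 7 1, .ded 124 0 1 2, .ded 124 0 2 3, .ded 124 1 2 2, .ded 124 1 4 1,
   .ded 124 1 5 1, .ded 124 1 6 1, .ded 124 1 7 1, .ded 124 2 4 1, .ded 124 2 5 1, .ded 124 2 6 1,
   .ded 124 2 7 1, .ded 125 0 1 1, .ded 125 0 3 1, .ded 125 0 4 1, .ded 125 0 5 1, .ded 125 0 6 1,
   .ded 125 0 7 1, .ded 125 1 3 3, .ded 128 0 5 2, .ded 128 1 5 2, .ded 128 2 5 2, .ded 128 3 5 2,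
   .ded 128 4 5 3, .ded 129 0 4 2, .ded 129 1 4 2, .ded 129 2 4 2, .ded 129 3 4 3, .ded 129 4 7 1,
   .ded 130 0 3 2, .ded 130 1 3 3, .ded 130 2 3 3, .ded 130 3 6 1, .ded 130 3 7 1, .ded 130 6 7 2,
   .ded 131 0 1 2, .ded 131 0 2 3, .ded 131 1 2 2, .ded 131 1 5 1, .ded 131 1 6 1, .ded 131 1 7 1,
   .ded 131 2 5 1, .ded 131 2 6 1, .ded 131 2 7 1, .ded 131 5 6 2, .ded 132 0 2 3, .ded 132 2 4 1,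
   .ded 132 2 5 1, .ded 132 2 6 1, .ded 132 2 7 1, .ded 132 4 5 2, .ded 133 0 1 1, .ded 133 0 4 1,
   .ded 133 0 5 1, .ded 133 0 6 1, .ded 133 0 7 1, .ded 133 4 5 2, .ded 134 1 3 3, .ded 134 3 4 2,
   .ded 135 0 4 2, .ded 135 1 4 2, .ded 135 2 4 2, .ded 135 3 4 3, .ded 136 0 3 2, .ded 136 1 3 3,
   .ded 136 2 3 3, .ded 136 3 7 1, .ded 137 0 1 2, .ded 137 0 2 3, .ded 137 1 2 2, .ded 137 1 6 1,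
   .ded 137 1 7 1, .ded 137 2 6 1, .ded 137 2 7 1, .ded 137 6 7 2, .ded 138 0 2 3, .ded 138 2 3 2,
   .ded 138 2 5 1, .ded 138 2 6 1, .ded 138 2 7 1, .ded 138 5 6 2, .ded 139 0 1 1, .ded 139 0 5 1,
   .ded 139 0 6 1, .ded 139 0 7 1, .ded 139 1 3 2, .ded 139 5 6 2, .ded 140 0 4 1, .ded 140 0 5 1,
   .ded 140 0 6 1, .ded 140 0 7 1, .ded 140 3 4 3, .ded 140 4 5 2, .ded 141 4 5 2, .ded 142 0 3 2,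
   .ded 142 1 3 3, .ded 142 2 3 3, .ded 142 3 5 1, .ded 143 0 1 2, .ded 143 0 2 3, .ded 143 1 2 2,
   .ded 143 1 4 1, .ded 143 1 7 1, .ded 143 2 4 1, .ded 143 2 7 1, .ded 144 0 2 3, .ded 144 2 3 2,
   .ded 144 2 6 1, .ded 144 2 7 1, .ded 144 6 7 2, .ded 145 0 1 1, .ded 145 0 3 1, .ded 145 0 6 1,
   .ded 145 0 7 1, .ded 145 1 3 2, .ded 145 6 7 2, .ded 146 0 3 2, .ded 146 0 5 1, .ded 146 0 6 1,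
   .ded 146 0 7 1, .ded 146 3 5 1, .ded 146 3 6 1, .ded 146 3 7 1, .ded 146 5 6 2, .ded 147 1 3 2,
   .ded 147 5 6 2, .ded 148 3 4 3, .ded 148 4 5 2, .ded 149 0 1 2, .ded 149 0 2 3, .ded 149 1 2 2,
   .ded 149 1 4 1, .ded 149 1 5 1, .ded 149 2 4 1, .ded 149 2 5 1, .ded 150 0 2 3, .ded 150 2 3 2,
   .ded 150 2 4 1, .ded 150 2 7 1, .ded 151 0 1 1, .ded 151 0 3 1, .ded 151 0 4 1, .ded 151 0 7 1,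
   .ded 151 1 3 2, .ded 152 0 3 2, .ded 152 0 6 1, .ded 152 0 7 1, .ded 152 3 4 2, .ded 152 3 6 1,
   .ded 152 3 7 1, .ded 152 6 7 2, .ded 153 1 3 2, .ded 153 6 7 2, .ded 154 2 3 3, .ded 154 3 5 1,
   .ded 154 3 6 1, .ded 154 3 7 1, .ded 154 5 6 2, .ded 155 0 2 2, .ded 155 4 5 3, .ded 155 5 6 2,
   .ded 156 0 2 3, .ded 156 2 3 2, .ded 156 2 4 1, .ded 156 2 5 1, .ded 157 0 1 1, .ded 157 0 3 1,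
   .ded 157 0 4 1, .ded 157 0 5 1, .ded 157 1 3 2, .ded 158 0 3 2, .ded 158 0 4 1, .ded 158 0 7 1,
   .ded 158 3 4 2, .ded 158 3 7 1, .ded 159 1 3 2, .ded 160 2 3 3, .ded 160 3 4 2, .ded 160 3 6 1,
   .ded 160 3 7 1, .ded 160 6 7 2, .ded 161 0 2 2, .ded 161 0 4 2, .ded 161 1 4 2, .ded 161 2 4 2,
   .ded 161 4 6 1, .ded 161 4 7 1, .ded 161 6 7 2, .ded 162 1 2 2, .ded 162 2 4 1, .ded 162 2 5 1,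
   .ded 162 2 6 1, .ded 162 2 7 1, .ded 162 4 5 3, .ded 162 5 6 2, .ded 163 0 3 2, .ded 163 0 4 1,
   .ded 163 0 5 1, .ded 163 3 4 2, .ded 163 3 5 1, .ded 164 1 3 2, .ded 165 2 3 3, .ded 165 3 4 2,
   .ded 165 3 7 1, .ded 166 0 2 2, .ded 166 0 4 2, .ded 166 1 4 2, .ded 166 2 4 2, .ded 166 4 5 2,
   .ded 166 4 7 1, .ded 167 1 2 2, .ded 167 1 4 2, .ded 167 2 4 2, .ded 167 2 6 1, .ded 167 2 7 1,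
   .ded 167 4 6 1, .ded 167 4 7 1, .ded 167 6 7 2, .ded 168 0 2 2, .ded 168 5 6 3, .ded 168 6 7 2,
   .ded 169 4 5 3, .ded 169 5 6 2, .ded 170 2 3 3, .ded 170 3 4 2, .ded 170 3 5 1, .ded 171 0 2 2,
   .ded 171 0 4 2, .ded 171 1 4 2, .ded 171 2 4 2, .ded 171 4 5 2, .ded 172 1 2 2, .ded 172 1 4 2,
   .ded 172 2 4 2, .ded 172 2 7 1, .ded 172 4 5 2, .ded 172 4 7 1, .ded 173 0 2 2, .ded 173 0 5 2,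
   .ded 173 1 5 2, .ded 173 2 5 2, .ded 173 3 5 2, .ded 173 5 7 1, .ded 174 1 4 2, .ded 174 3 4 3,
   .ded 174 4 6 1, .ded 174 4 7 1, .ded 174 6 7 2, .ded 175 2 3 2, .ded 175 5 6 3, .ded 175 6 7 2,
   .ded 176 1 2 2, .ded 176 1 4 2, .ded 176 2 4 2, .ded 176 2 5 1, .ded 176 4 5 2, .ded 177 0 2 2,
   .ded 177 0 5 2, .ded 177 1 5 2, .ded 177 2 5 2, .ded 177 3 5 2, .ded 177 5 6 2, .ded 178 1 4 2,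
   .ded 178 3 4 3, .ded 178 4 5 2, .ded 178 4 7 1, .ded 179 1 5 2, .ded 179 2 3 2, .ded 179 2 5 2,
   .ded 179 3 5 2, .ded 179 5 7 1, .ded 180 0 2 2, .ded 180 6 7 3, .ded 181 0 3 2, .ded 181 1 3 3,
   .ded 181 3 5 1, .ded 181 3 6 1, .ded 181 3 7 1, .ded 181 5 6 3, .ded 181 6 7 2, .ded 182 1 4 2,
   .ded 182 3 4 3, .ded 182 4 5 2, .ded 183 1 5 2, .ded 183 2 3 2, .ded 183 2 5 2, .ded 183 3 5 2,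
   .ded 183 5 6 2, .ded 184 0 2 2, .ded 184 0 6 2, .ded 184 1 6 2, .ded 184 2 6 2, .ded 184 3 6 2,
   .ded 184 4 6 2, .ded 185 0 3 2, .ded 185 1 3 3, .ded 185 1 5 2, .ded 185 3 5 2, .ded 185 3 7 1,
   .ded 185 5 7 1, .ded 186 2 3 2, .ded 186 6 7 3, .ded 187 0 1 2, .ded 187 1 2 1, .ded 187 1 4 1,
   .ded 187 1 5 1, .ded 187 1 6 1, .ded 187 1 7 1, .ded 187 5 6 3, .ded 187 6 7 2, .ded 188 0 3 2,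
   .ded 188 1 3 3, .ded 188 1 5 2, .ded 188 3 5 2, .ded 188 5 6 2, .ded 189 1 6 2, .ded 189 2 3 2,
   .ded 189 2 6 2, .ded 189 3 6 2, .ded 189 4 6 2, .ded 190 0 2 2, .ded 191 0 1 2, .ded 191 0 5 2,
   .ded 191 1 2 1, .ded 191 1 4 1, .ded 191 1 5 2, .ded 191 1 7 1, .ded 191 4 5 3, .ded 191 5 7 1,
   .ded 192 1 3 3, .ded 192 3 4 2, .ded 192 6 7 3, .ded 193 5 6 3, .ded 193 6 7 2, .ded 194 0 1 2,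
   .ded 194 0 5 2, .ded 194 1 2 1, .ded 194 1 4 1, .ded 194 1 5 2, .ded 194 4 5 3, .ded 194 5 6 2,
   .ded 195 1 3 3, .ded 195 1 6 2, .ded 195 3 4 2, .ded 195 3 6 2, .ded 195 4 6 2, .ded 196 2 3 2,
   .ded 197 0 5 2, .ded 197 2 5 2, .ded 197 4 5 3, .ded 197 5 7 1, .ded 198 0 4 2, .ded 198 1 4 2,
   .ded 198 2 4 2, .ded 198 4 6 1, .ded 198 4 7 1, .ded 198 6 7 3, .ded 199 0 5 2, .ded 199 2 5 2,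
   .ded 199 4 5 3, .ded 199 5 6 2, .ded 200 0 4 2, .ded 200 0 6 2, .ded 200 1 4 2, .ded 200 1 6 2,
   .ded 200 2 4 2, .ded 200 4 6 2, .ded 201 1 3 3, .ded 201 3 4 2, .ded 202 0 4 2, .ded 202 2 4 2,
   .ded 202 3 4 3, .ded 202 4 6 1, .ded 202 4 7 1, .ded 202 6 7 3, .ded 203 1 3 2, .ded 203 6 7 3,
   .ded 204 0 4 2, .ded 204 0 6 2, .ded 204 2 4 2, .ded 204 2 6 2, .ded 204 3 4 3, .ded 204 4 6 2,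
   .ded 205 0 6 2, .ded 205 1 3 2, .ded 205 1 6 2, .ded 205 2 6 2, .ded 205 5 6 3, .ded 206 4 5 2,
   .ded 207 0 3 2, .ded 207 2 3 3, .ded 207 3 5 1, .ded 207 3 6 1, .ded 207 3 7 1, .ded 207 6 7 3,
   .ded 208 0 3 2, .ded 208 0 6 2, .ded 208 2 3 3, .ded 208 2 6 2, .ded 208 3 5 1, .ded 208 3 6 2,
   .ded 208 5 6 3, .ded 209 3 4 3, .ded 209 4 5 2, .ded 210 0 5 2, .ded 210 1 3 2, .ded 210 1 5 2,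
   .ded 210 2 5 2, .ded 210 3 5 2, .ded 210 5 7 1, .ded 211 0 2 3, .ded 211 1 2 2, .ded 211 2 4 1,
   .ded 211 2 5 1, .ded 211 2 6 1, .ded 211 2 7 1, .ded 211 6 7 3, .ded 212 0 2 3, .ded 212 0 6 2,
   .ded 212 1 2 2, .ded 212 2 4 1, .ded 212 2 5 1, .ded 212 2 6 2, .ded 212 5 6 3, .ded 213 0 5 2,
   .ded 213 2 3 3, .ded 213 2 5 2, .ded 213 3 5 2, .ded 213 5 7 1, .ded 214 1 3 2, .ded 215 0 1 1,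
   .ded 215 0 3 1, .ded 215 0 4 1, .ded 215 0 5 1, .ded 215 0 6 1, .ded 215 0 7 1, .ded 215 6 7 3,
   .ded 216 0 1 1, .ded 216 0 3 1, .ded 216 0 4 1, .ded 216 0 5 1, .ded 216 0 6 2, .ded 216 1 6 2,
   .ded 216 4 6 2, .ded 216 5 6 3, .ded 217 0 2 3, .ded 217 0 5 2, .ded 217 2 5 2, .ded 217 4 5 3,
   .ded 217 5 7 1, .ded 218 2 3 3, .ded 218 3 4 2, .ded 219 6 7 3, .ded 220 1 6 2, .ded 220 3 6 2,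
   .ded 220 4 6 2, .ded 220 5 6 3, .ded 221 0 5 2, .ded 221 1 5 2, .ded 221 4 5 3, .ded 221 5 7 1,
   .ded 222 0 2 3, .ded 222 0 4 2, .ded 222 1 4 2, .ded 222 2 4 2, .ded 222 4 6 1, .ded 222 4 7 1,
   .ded 223 1 5 2, .ded 223 3 5 2, .ded 223 4 5 3, .ded 223 5 7 1, .ded 224 0 4 2, .ded 224 1 4 2,
   .ded 224 3 4 3, .ded 224 4 6 1, .ded 224 4 7 1, .ded 225 0 2 3, .ded 225 2 3 2, .ded 226 1 4 2,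
   .ded 226 3 4 3, .ded 226 4 6 1, .ded 226 4 7 1, .ded 227 0 3 2, .ded 227 1 3 3, .ded 227 3 5 1,
   .ded 227 3 6 1, .ded 227 3 7 1, .ded 228 1 3 3, .ded 228 2 3 3, .ded 228 3 5 1, .ded 228 3 6 1,
   .ded 228 3 7 1, .ded 229 0 1 2, .ded 229 0 2 2, .ded 229 1 2 1, .ded 229 1 4 1, .ded 229 1 5 1,
   .ded 229 1 6 1, .ded 229 1 7 1, .ded 230 1 2 2, .ded 230 1 4 1, .ded 230 1 5 1, .ded 230 1 6 1,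
   .ded 230 1 7 1, .ded 230 2 4 1, .ded 230 2 5 1, .ded 230 2 6 1, .ded 230 2 7 1, .ded 231 0 2 2,
   .ded 232 2 3 2, .ded 232 2 4 1, .ded 232 2 5 1, .ded 232 2 6 1, .ded 232 2 7 1, .ded 233 1 3 2,
   .ded 234 0 3 2, .ded 234 3 4 2, .ded 234 3 5 1, .ded 234 3 6 1, .ded 234 3 7 1, .ded 235 0 4 2,
   .ded 235 1 4 2, .ded 235 2 4 2, .ded 235 4 5 2, .ded 235 4 6 1, .ded 235 4 7 1, .ded 236 0 5 2,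
   .ded 236 1 5 2, .ded 236 2 5 2, .ded 236 3 5 2, .ded 236 5 6 2, .ded 236 5 7 1, .ded 237 0 6 2,
   .ded 237 1 6 2, .ded 237 2 6 2, .ded 237 3 6 2, .ded 237 4 6 2, .ded 237 6 7 2, .ded 238 0 7 2,
   .ded 238 1 7 2, .ded 238 2 7 2, .ded 238 3 7 2, .ded 238 4 7 2, .ded 238 5 7 2]

set_option maxRecDepth 1000000 in
theorem checkE8_8 : check ctxE8_8 stepsE8_8 = true := by decide +kernel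

end Cfsg.Agent.Lib.H6.CoxTC.Data
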