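import Mathlib
import Cfsg.Agent.Lib.H6.CoxTC1

set_option autoImplicit false

namespace Cfsg.Agent.Lib.H6.CoxTC.Data

open Cfsg.Agent.Lib.H6.CoxTC

def mF4_1 : List (List ℕ) := [[1]]

def repsF4_1 : List (List ℕ) :=
  [[],
   [0]]

def ctxF4_1 : Ctx :=
  { n := 1, nh := 0, N := 2, m := fun a b => (mF4_1.getD a []).getD b 0, reps := repsF4_1 }

def stepsF4_1 : List Step :=
  [.defn 0 0 1]

set_option maxRecDepth 1000000 in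
theorem checkF4_1 : check ctxF4_1 stepsF4_1 = true := by decide +kernel

def mF4_2 : List (List ℕ) := [[1, 3], [3, 1]]

def repsF4_2 : List (List ℕ) :=
  [[],
   [1],
   [1, 0]]

def ctxF4_2 : Ctx :=
  { n := 2, nh := 1, N := 3, m := fun a b => (mF4_2.getD a []).getD b 0, reps := repsF4_2 }

def stepsF4_2 : List Step :=
  [.defn 0 1 1, .defn 1 0 2, .hgen 0, .ded 0 0 1 3]

set_option maxRecDepth 1000000 in
theorem checkF4_2 : check ctxF4_2 stepsF4_2 = true := by decide +kernel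

def mF4_3 : List (List ℕ) := [[1, 3, 2], [3, 1, 4], [2, 4, 1]]

def repsF4_3 : List (List ℕ) :=
  [[],
   [2],
   [2, 1],
   [2, 1, 0],
   [2, 1, 2],
   [2, 1, 0, 2],
   [2, 1, 0, 2, 1],
   [2, 1, 0, 2, 1, 2]]

def ctxF4_3 : Ctx :=
  { n := 3, nh := 2, N := 8, m := fun a b => (mF4_3.getD a []).getD b 0, reps := repsF4_3 }

def stepsF4_3 : List Step :=
  [.defn 0 2 1, .defn 1 1 2, .defn 2 0 3, .defn 2 2 4, .defn 3 2 5, .defn 5 1 6, .defn 6 2 7,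
   .hgen 0, .hgen 1, .ded 0 0 2 2, .ded 0 1 2 4, .ded 1 0 1 3, .ded 2 0 2 2, .ded 3 1 2 4,
   .ded 4 0 1 2, .ded 6 0 2 2]

set_option maxRecDepth 1000000 in
theorem checkF4_3 : check ctxF4_3 stepsF4_3 = true := by decide +kernel

def mF4_4 : List (List ℕ) := [[1, 3, 2, 2], [3, 1, 4, 2], [2, 4, 1, 3], [2, 2, 3, 1]]

def repsF4_4 : List (List ℕ) :=
  [[],
   [3],
   [3, 2],
   [3, 2, 1],
   [3, 2, 1, 0],
   [3, 2, 1, 2],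
   [3, 2, 1, 0, 2],
   [3, 2, 1, 2, 3],
   [3, 2, 1, 0, 2, 1],
   [3, 2, 1, 0, 2, 3],
   [3, 2, 1, 0, 2, 1, 2],
   [3, 2, 1, 0, 2, 1, 3],
   [3, 2, 1, 0, 2, 1, 2, 3],
   [3, 2, 1, 0, 2, 1, 3, 2],
   [3, 2, 1, 0, 2, 1, 2, 3, 2],
   [3, 2, 1, 0, 2, 1, 3, 2, 1],
   [3, 2, 1, 0, 2, 1, 2, 3, 2, 1],
   [3, 2, 1, 0, 2, 1, 3, 2, 1, 0],
   [3, 2, 1, 0, 2, 1, 2, 3, 2, 1, 0],
   [3, 2, 1, 0, 2, 1, 2, 3, 2, 1, 2],
   [3, 2, 1, 0, 2, 1, 2, 3, 2, 1, 0, 2],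
   [3, 2, 1, 0, 2, 1, 2, 3, 2, 1, 0, 2, 1],
   [3, 2, 1, 0, 2, 1, 2, 3, 2, 1, 0, 2, 1, 2],
   [3, 2, 1, 0, 2, 1, 2, 3, 2, 1, 0, 2, 1, 2, 3]]

def ctxF4_4 : Ctx :=
  { n := 4, nh := 3, N := 24, m := fun a b => (mF4_4.getD a []).getD b 0, reps := repsF4_4 }

def stepsF4_4 : List Step :=
  [.defn 0 3 1, .defn 1 2 2, .defn 2 1 3, .defn 3 0 4, .defn 3 2 5, .defn 4 2 6, .defn 5 3 7,
   .defn 6 1 8, .defn 6 3 9, .defn 8 2 10, .defn 8 3 11, .defn 10 3 12, .defn 11 2 13,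
   .defn 12 2 14, .defn 13 1 15, .defn 14 1 16, .defn 15 0 17, .defn 16 0 18, .defn 16 2 19,
   .defn 18 2 20, .defn 20 1 21, .defn 21 2 22, .defn 22 3 23, .hgen 0, .hgen 1, .hgen 2,
   .ded 0 0 3 2, .ded 0 1 3 2, .ded 0 2 3 3, .ded 1 0 2 2, .ded 1 1 2 4, .ded 2 0 1 3,
   .ded 2 1 3 1, .ded 3 0 2 2, .ded 3 0 3 1, .ded 3 2 3 2, .ded 4 1 2 4, .ded 4 2 3 2,
   .ded 5 0 1 2, .ded 5 0 3 2, .ded 5 1 3 2, .ded 6 1 3 2, .ded 7 0 1 2, .ded 8 0 2 2,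
   .ded 8 2 3 3, .ded 9 1 2 3, .ded 10 0 3 2, .ded 10 1 3 2, .ded 11 0 2 2, .ded 12 0 2 2,
   .ded 12 1 2 4, .ded 13 0 1 3, .ded 13 1 3 1, .ded 14 0 1 3, .ded 15 0 2 1, .ded 15 0 3 1,
   .ded 15 2 3 3, .ded 16 0 2 2, .ded 17 2 3 3, .ded 18 1 2 4, .ded 19 0 1 2, .ded 20 1 3 1,
   .ded 21 0 2 2, .ded 21 2 3 2, .ded 22 0 3 2, .ded 22 1 3 2]

set_option maxRecDepth 1000000 in
theorem checkF4_4 : check ctxF4_4 stepsF4_4 = true := by decide +kernel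

end Cfsg.Agent.Lib.H6.CoxTC.Data
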