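import Mathlib
import Cfsg.Agent.Lib.H6.CoxTC1

set_option autoImplicit false

namespace Cfsg.Agent.Lib.H6.CoxTC

variable {n : ℕ} (M : CoxeterMatrix (Fin n))

/-- simple reflections indexed by natural numbers (trivial outside the range) -/
def sN (a : ℕ) : M.Group := if h : a < n then M.simple ⟨a, h⟩ else 1

/-- the product of a word of natural numbers -/
def pN (w : List ℕ) : M.Group := (w.map (sN M)).prod

theorem sN_of_lt {a : ℕ} (h : a < n) : sN M a = M.simple ⟨a, h⟩ := by
  unfold sN; rw [dif_pos h]

theorem sN_mul_self (a : ℕ) : sN M a * sN M a = 1 := by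
  unfold sN
  split
  · rw [← M.toCoxeterSystem_simple]
    exact M.toCoxeterSystem.simple_mul_simple_self _
  · exact one_mul 1

theorem sN_inv (a : ℕ) : (sN M a)⁻¹ = sN M a :=
  inv_eq_of_mul_eq_one_left (sN_mul_self M a)

theorem pN_nil : pN M [] = 1 := rfl

theorem pN_cons (a : ℕ) (w : List ℕ) : pN M (a :: w) = sN M a * pN M w := by
  unfold pN; rw [List.map_cons, List.prod_cons]

theorem pN_append (u v : List ℕ) : pN M (u ++ v) = pN M u * pN M v := by
  unfold pN; rw [List.map_append, List.prod_append]

theorem pN_singleton (a : ℕ) : pN M [a] = sN M a := by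
  rw [pN_cons, pN_nil, mul_one]

theorem pN_reverse (w : List ℕ) : pN M w.reverse = (pN M w)⁻¹ := by
  induction w with
  | nil => simp [pN_nil]
  | cons a w ih =>
    rw [List.reverse_cons, pN_append, ih, pN_singleton, pN_cons, mul_inv_rev, sN_inv]

theorem pN_alt (a b t : ℕ) : pN M (alt a b (2 * t)) = (sN M a * sN M b) ^ t := by
  induction t with
  | zero => simp [alt, pN_nil]
  | succ t ih =>
    have : 2 * (t + 1) = (2 * t + 1) + 1 := by ring
    rw [this]
    show pN M (a :: b :: alt a b (2 * t)) = _
    rw [pN_cons, pN_cons, ih, pow_succ', mul_assoc]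

theorem sN_pow {a b : ℕ} (ha : a < n) (hb : b < n) :
    (sN M a * sN M b) ^ (M ⟨a, ha⟩ ⟨b, hb⟩) = 1 := by
  rw [sN_of_lt M ha, sN_of_lt M hb, ← M.toCoxeterSystem_simple]
  exact M.toCoxeterSystem.simple_mul_simple_pow _ _

theorem mem_alt {a b t c : ℕ} (h : c ∈ alt a b t) : c = a ∨ c = b := by
  induction t generalizing a b with
  | zero => simp [alt] at h
  | succ t ih =>
    simp only [alt, List.mem_cons] at h
    rcases h with h | h
    · exact Or.inl h
    · exact (ih h).symm

/-- the parabolic subgroup generated by the first `nh` simple reflections -/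
def Hsub (nh : ℕ) : Subgroup M.Group := Subgroup.closure {g | ∃ a, a < nh ∧ g = sN M a}

section inv

variable (C : Ctx)

/-- the coset representative of index `i` -/
def gRep (i : ℕ) : M.Group := pN M (C.reps.getD i [])

def Good (i a j : ℕ) : Prop :=
  i < C.N ∧ j < C.N ∧ a < C.n ∧ gRep M C i * sN M a * (gRep M C j)⁻¹ ∈ Hsub M C.nh

def Inv (T : Table) : Prop := ∀ i a j, lookup T i a = some j → Good M C i a j

variable {M C}

theorem Good.symm {i a j : ℕ} (h : Good M C i a j) : Good M C j a i := by
  obtain ⟨h1, h2, h3, h4⟩ := h
  refine ⟨h2, h1, h3, ?_⟩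
  have := inv_mem h4
  rw [mul_inv_rev, mul_inv_rev, inv_inv, sN_inv, ← mul_assoc] at this
  exact this

theorem Inv.setE {T : Table} (hT : Inv M C T) {i a j : ℕ} (h : Good M C i a j) :
    Inv M C (setE T i a j) := by
  intro i' a' j' hl
  rcases lookup_setE hl with ⟨rfl, rfl, rfl⟩ | h'
  · exact h
  · exact hT _ _ _ h'

theorem trace_good {T : Table} (hT : Inv M C T) {w : List ℕ} {i x : ℕ} (hi : i < C.N)
    (h : trace T i w = some x) :
    x < C.N ∧ gRep M C i * pN M w * (gRep M C x)⁻¹ ∈ Hsub M C.nh := by
  induction w generalizing i with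
  | nil =>
    simp only [trace, Option.some.injEq] at h
    subst h
    refine ⟨hi, ?_⟩
    rw [pN_nil, mul_one, mul_inv_cancel]
    exact one_mem _
  | cons a w ih =>
    simp only [trace] at h
    cases hl : lookup T i a with
    | none => rw [hl] at h; exact absurd h (by simp)
    | some j =>
      rw [hl] at h
      obtain ⟨-, hj, -, hmem⟩ := hT _ _ _ hl
      obtain ⟨hx, hmem2⟩ := ih hj h
      refine ⟨hx, ?_⟩
      have := mul_mem hmem hmem2
      rw [pN_cons]
      convert this using 1
      group

theorem step_inv (hn : C.n = n)
    (hm : ∀ (a b : ℕ) (ha : a < n) (hb : b < n), C.m a b = M ⟨a, ha⟩ ⟨b, hb⟩)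
    (h0 : 0 < C.N) (hr0 : C.reps.getD 0 [] = [])
    {T T' : Table} (hT : Inv M C T) {s : Step} (h : step C T s = some T') : Inv M C T' := by
  cases s with
  | defn i a j =>
    simp only [step] at h
    split at h
    · rename_i hc
      simp only [Bool.and_eq_true, Nat.blt_eq, beq_iff_eq] at hc
      obtain ⟨⟨⟨hi, hj⟩, ha⟩, hrep⟩ := hc
      simp only [Option.some.injEq] at h
      subst h
      have hg : Good M C i a j := by
        refine ⟨hi, hj, ha, ?_⟩
        unfold gRep
        rw [hrep, pN_append, pN_singleton, mul_inv_cancel]
        exact one_mem _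
      exact (hT.setE hg).setE hg.symm
    · exact absurd h (by simp)
  | hgen a =>
    simp only [step] at h
    split at h
    · rename_i hc
      simp only [Bool.and_eq_true, Nat.blt_eq] at hc
      obtain ⟨ha, ha'⟩ := hc
      simp only [Option.some.injEq] at h
      subst h
      have hg : Good M C 0 a 0 := by
        refine ⟨h0, h0, ha', ?_⟩
        unfold gRep
        rw [hr0, pN_nil, one_mul, inv_one, mul_one]
        exact Subgroup.subset_closure ⟨a, ha, rfl⟩
      exact hT.setE hg
    · exact absurd h (by simp)
  | ded i a b p =>
    simp only [step] at h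
    split at h
    · rename_i hc
      simp only [Bool.and_eq_true, Nat.blt_eq] at hc
      obtain ⟨⟨hi, ha⟩, hb⟩ := hc
      split at h
      · rename_i x y c hx hy hc'
        simp only [Option.some.injEq] at h
        subst h
        obtain ⟨hxN, hxm⟩ := trace_good hT hi hx
        obtain ⟨hyN, hym⟩ := trace_good hT hi hy
        have han : a < n := hn ▸ ha
        have hbn : b < n := hn ▸ hb
        -- the relator
        have hrel : pN M (alt a b (2 * C.m a b)) = 1 := by
          rw [pN_alt, hm a b han hbn]
          exact sN_pow M han hbn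
        have hp : p < (alt a b (2 * C.m a b)).length := by
          by_contra hlt
          rw [List.getElem?_eq_none (by omega)] at hc'
          exact absurd hc' (by simp)
        have hsplit : alt a b (2 * C.m a b) =
            (alt a b (2 * C.m a b)).take p ++ c :: (alt a b (2 * C.m a b)).drop (p + 1) := by
          have h1 : (alt a b (2 * C.m a b))[p] = c := by
            rw [List.getElem?_eq_getElem hp] at hc'
            exact Option.some.inj hc'
          rw [← h1, ← List.drop_eq_getElem_cons hp, List.take_append_drop]
        have hcn : c < C.n := by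
          have : c ∈ alt a b (2 * C.m a b) := by
            rw [hsplit]; simp
          rcases mem_alt this with rfl | rfl
          · exact ha
          · exact hb
        rw [pN_reverse] at hym
        have key : pN M ((alt a b (2 * C.m a b)).take p) * sN M c =
            (pN M ((alt a b (2 * C.m a b)).drop (p + 1)))⁻¹ := by
          rw [hsplit, pN_append, pN_cons, ← mul_assoc] at hrel
          exact eq_inv_of_mul_eq_one_left hrel
        have hg : Good M C x c y := by
          refine ⟨hxN, hyN, hcn, ?_⟩
          have := mul_mem (inv_mem hxm) hym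
          rw [← key] at this
          convert this using 1
          group
        exact (hT.setE hg).setE hg.symm
      · exact absurd h (by simp)
    · exact absurd h (by simp)

theorem run_inv (hn : C.n = n)
    (hm : ∀ (a b : ℕ) (ha : a < n) (hb : b < n), C.m a b = M ⟨a, ha⟩ ⟨b, hb⟩)
    (h0 : 0 < C.N) (hr0 : C.reps.getD 0 [] = [])
    {steps : List Step} {T T' : Table} (hT : Inv M C T) (h : run C T steps = some T') :
    Inv M C T' := by
  induction steps generalizing T with
  | nil =>
    simp only [run, Option.some.injEq] at h
    subst h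
    exact hT
  | cons s ss ih =>
    simp only [run] at h
    cases hs : step C T s with
    | none => rw [hs] at h; exact absurd h (by simp)
    | some T1 =>
      rw [hs] at h
      exact ih (step_inv hn hm h0 hr0 hT hs) h

/-- Soundness: every element of the Coxeter group lies in one of the cosets `H g_i`. -/
theorem covering (hn : C.n = n)
    (hm : ∀ (a b : ℕ) (ha : a < n) (hb : b < n), C.m a b = M ⟨a, ha⟩ ⟨b, hb⟩)
    {steps : List Step} (hcheck : check C steps = true) (w : M.Group) :
    ∃ i, i < C.N ∧ w * (gRep M C i)⁻¹ ∈ Hsub M C.nh := by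
  unfold check at hcheck
  simp only [Bool.and_eq_true, Nat.blt_eq, beq_iff_eq] at hcheck
  obtain ⟨⟨h0, hr0⟩, hrun⟩ := hcheck
  cases hr : run C (List.replicate C.N (List.replicate C.n none)) steps with
  | none => rw [hr] at hrun; exact absurd hrun (by simp)
  | some T =>
    rw [hr] at hrun
    have hinit : Inv M C (List.replicate C.N (List.replicate C.n none)) := by
      intro i a j hl
      rw [lookup_replicate] at hl
      exact absurd hl (by simp)
    have hT := run_inv hn hm h0 hr0 hinit hr
    unfold complete at hrun
    simp only [List.all_eq_true, List.mem_range] at hrun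
    induction w using M.toCoxeterSystem.simple_induction_right with
    | one =>
      refine ⟨0, h0, ?_⟩
      unfold gRep
      rw [hr0, pN_nil, inv_one, mul_one]
      exact one_mem _
    | mul_simple_right w a ih =>
      obtain ⟨i, hi, hmem⟩ := ih
      have hlook := hrun i hi a.val (hn ▸ a.isLt)
      cases hl : lookup T i a.val with
      | none => rw [hl] at hlook; exact absurd hlook (by simp)
      | some j =>
        obtain ⟨-, hj, -, hg⟩ := hT _ _ _ hl
        refine ⟨j, hj, ?_⟩
        have := mul_mem hmem hg
        rw [sN_of_lt M a.isLt, ← M.toCoxeterSystem_simple] at this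
        convert this using 1
        group

end inv

end Cfsg.Agent.Lib.H6.CoxTC
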