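import Mathlib
import Cfsg.Agent.Lib.H6.CoxTC1
import Cfsg.Agent.Lib.H6.CoxTC2

set_option autoImplicit false

namespace Cfsg.Agent.Lib.H6.CoxTC

/-- the Coxeter matrix on the first `k` nodes -/
def restrict {k : ℕ} (M : CoxeterMatrix (Fin (k + 1))) : CoxeterMatrix (Fin k) where
  M := Matrix.of fun i j => M i.castSucc j.castSucc
  isSymm := by
    ext i j
    simp only [Matrix.transpose_apply, Matrix.of_apply]
    exact M.symmetric _ _
  diagonal i := M.diagonal _
  off_diagonal i i' h := M.off_diagonal _ _ (fun e => h (Fin.castSucc_injective _ e))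

theorem restrict_apply {k : ℕ} (M : CoxeterMatrix (Fin (k + 1))) (i j : Fin k) :
    restrict M i j = M i.castSucc j.castSucc := rfl

/-- the natural map from the Coxeter group of the restricted matrix -/
noncomputable def restrictHom {k : ℕ} (M : CoxeterMatrix (Fin (k + 1))) :
    (restrict M).Group →* M.Group :=
  (restrict M).toCoxeterSystem.lift ⟨fun i => M.simple i.castSucc, by
    intro i j
    rw [restrict_apply, ← M.toCoxeterSystem_simple]
    exact M.toCoxeterSystem.simple_mul_simple_pow _ _⟩

theorem restrictHom_simple {k : ℕ} (M : CoxeterMatrix (Fin (k + 1))) (i : Fin k) :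
    restrictHom M ((restrict M).simple i) = M.simple i.castSucc := by
  unfold restrictHom
  rw [← (restrict M).toCoxeterSystem_simple]
  exact (restrict M).toCoxeterSystem.lift_apply_simple _ i

theorem Hsub_le_range {k : ℕ} (M : CoxeterMatrix (Fin (k + 1))) :
    Hsub M k ≤ (restrictHom M).range := by
  unfold Hsub
  rw [Subgroup.closure_le]
  rintro g ⟨a, ha, rfl⟩
  refine ⟨(restrict M).simple ⟨a, ha⟩, ?_⟩
  rw [restrictHom_simple, sN_of_lt M (by omega : a < k + 1)]
  rfl

/-- The cardinality bound obtained from a successful check. -/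
theorem card_le_of_check {k : ℕ} (M : CoxeterMatrix (Fin (k + 1))) (C : Ctx)
    (hn : C.n = k + 1) (hnh : C.nh = k)
    (hm : ∀ (a b : ℕ) (ha : a < k + 1) (hb : b < k + 1), C.m a b = M ⟨a, ha⟩ ⟨b, hb⟩)
    {steps : List Step} (hcheck : check C steps = true) [Finite (restrict M).Group] :
    Finite M.Group ∧ Nat.card M.Group ≤ C.N * Nat.card (restrict M).Group := by
  have hfinR : Finite (restrictHom M).range := Finite.of_surjective _
    (restrictHom M).rangeRestrict_surjective
  have hfinH : Finite (Hsub M k) :=
    Finite.of_injective (Subgroup.inclusion (Hsub_le_range M)) (Subgroup.inclusion_injective _)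
  have hcardH : Nat.card (Hsub M k) ≤ Nat.card (restrict M).Group := by
    calc Nat.card (Hsub M k) ≤ Nat.card (restrictHom M).range :=
          Nat.card_le_card_of_injective _ (Subgroup.inclusion_injective (Hsub_le_range M))
      _ ≤ Nat.card (restrict M).Group :=
          Nat.card_le_card_of_surjective _ (restrictHom M).rangeRestrict_surjective
  let f : Fin C.N × Hsub M k → M.Group := fun p => (p.2 : M.Group) * gRep M C p.1
  have hf : Function.Surjective f := by
    intro w
    obtain ⟨i, hi, hmem⟩ := covering hn hm hcheck w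
    rw [hnh] at hmem
    refine ⟨(⟨i, hi⟩, ⟨_, hmem⟩), ?_⟩
    show w * (gRep M C i)⁻¹ * gRep M C i = w
    group
  have hfin : Finite M.Group := Finite.of_surjective f hf
  refine ⟨hfin, ?_⟩
  have h1 := Nat.card_le_card_of_surjective f hf
  rw [Nat.card_prod, Nat.card_fin] at h1
  exact h1.trans (Nat.mul_le_mul_left _ hcardH)

/-- the Coxeter group on no generators is trivial -/
theorem card_group_fin_zero (M : CoxeterMatrix (Fin 0)) :
    Finite M.Group ∧ Nat.card M.Group = 1 := by
  have hsub : Subsingleton M.Group := by
    constructor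
    intro a b
    have h1 : ∀ w : M.Group, w = 1 := by
      intro w
      induction w using M.toCoxeterSystem.simple_induction_right with
      | one => rfl
      | mul_simple_right w a _ => exact a.elim0
    rw [h1 a, h1 b]
  exact ⟨inferInstance, Nat.card_unique⟩

end Cfsg.Agent.Lib.H6.CoxTC
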