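import Mathlib
import Cfsg.Prelude.Def_ChevStructure
import Cfsg.Agent.Lib.H6.CoxTC1
import Cfsg.Agent.Lib.H6.CoxTC2
import Cfsg.Agent.Lib.H6.CoxTC3
import Cfsg.Agent.Lib.H6.CoxDataF4
import Cfsg.Agent.Lib.H6.CoxDataE7
import Cfsg.Agent.Lib.H6.CoxDataE8

set_option autoImplicit false

namespace Cfsg.Agent.Lib.H6.CoxTC

open Data

/-- one step of the upper bound chain -/
theorem ub_step {k : ℕ} (M : CoxeterMatrix (Fin (k + 1))) (C : Ctx)
    (hn : C.n = k + 1) (hnh : C.nh = k)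
    (hm : ∀ a b : Fin (k + 1), C.m a.val b.val = M a b)
    {steps : List Step} (hcheck : check C steps = true) {B : ℕ}
    (h : Finite (restrict M).Group ∧ Nat.card (restrict M).Group ≤ B) :
    Finite M.Group ∧ Nat.card M.Group ≤ C.N * B := by
  obtain ⟨hfin, hB⟩ := h
  obtain ⟨h1, h2⟩ := card_le_of_check M C hn hnh (fun a b ha hb => hm ⟨a, ha⟩ ⟨b, hb⟩) hcheck
  exact ⟨h1, h2.trans (Nat.mul_le_mul_left _ hB)⟩

theorem ub_zero (M : CoxeterMatrix (Fin 0)) : Finite M.Group ∧ Nat.card M.Group ≤ 1 :=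
  ⟨(card_group_fin_zero M).1, (card_group_fin_zero M).2.le⟩

theorem restrict_E8 : restrict CoxeterMatrix.E₈ = CoxeterMatrix.E₇ := by
  apply CoxeterMatrix.ext
  ext i j
  fin_cases i <;> fin_cases j <;> rfl

theorem restrict_E7 : restrict CoxeterMatrix.E₇ = CoxeterMatrix.E₆ := by
  apply CoxeterMatrix.ext
  ext i j
  fin_cases i <;> fin_cases j <;> rfl

set_option maxRecDepth 100000 in
theorem ub_E6 : Finite CoxeterMatrix.E₆.Group ∧ Nat.card CoxeterMatrix.E₆.Group ≤ 51840 := by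
  have h0 := ub_zero (restrict (restrict (restrict (restrict (restrict (restrict CoxeterMatrix.E₆))))))
  have h1 := ub_step (restrict (restrict (restrict (restrict (restrict CoxeterMatrix.E₆))))) ctxE8_1 rfl rfl
    (by intro a b; fin_cases a <;> fin_cases b <;> rfl) checkE8_1 h0
  have h2 := ub_step (restrict (restrict (restrict (restrict CoxeterMatrix.E₆)))) ctxE8_2 rfl rfl
    (by intro a b; fin_cases a <;> fin_cases b <;> rfl) checkE8_2 h1
  have h3 := ub_step (restrict (restrict (restrict CoxeterMatrix.E₆))) ctxE8_3 rfl rfl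
    (by intro a b; fin_cases a <;> fin_cases b <;> rfl) checkE8_3 h2
  have h4 := ub_step (restrict (restrict CoxeterMatrix.E₆)) ctxE8_4 rfl rfl
    (by intro a b; fin_cases a <;> fin_cases b <;> rfl) checkE8_4 h3
  have h5 := ub_step (restrict CoxeterMatrix.E₆) ctxE8_5 rfl rfl
    (by intro a b; fin_cases a <;> fin_cases b <;> rfl) checkE8_5 h4
  have h6 := ub_step CoxeterMatrix.E₆ ctxE8_6 rfl rfl
    (by intro a b; fin_cases a <;> fin_cases b <;> rfl) checkE8_6 h5
  exact h6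

theorem ub_E7 : Finite CoxeterMatrix.E₇.Group ∧ Nat.card CoxeterMatrix.E₇.Group ≤ 2903040 := by
  have h6 := ub_E6
  rw [← restrict_E7] at h6
  exact ub_step CoxeterMatrix.E₇ ctxE8_7 rfl rfl (by intro a b; fin_cases a <;> fin_cases b <;> rfl) checkE8_7 h6

theorem ub_E8 : Finite CoxeterMatrix.E₈.Group ∧ Nat.card CoxeterMatrix.E₈.Group ≤ 696729600 := by
  have h7 := ub_E7
  rw [← restrict_E8] at h7
  exact ub_step CoxeterMatrix.E₈ ctxE8_8 rfl rfl (by intro a b; fin_cases a <;> fin_cases b <;> rfl) checkE8_8 h7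

end Cfsg.Agent.Lib.H6.CoxTC
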