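import Mathlib
import Cfsg.Agent.Lib.H15.HigBasic

/-!
# S3050 piece XV0 (L4): for `m ∈ X` the differences `U a m - m` lie in `V0` and are additive in `a`

(Primed local copies of the VPINV lemmas are proved here so that the file is self-contained.)
-/

set_option autoImplicit false

namespace Cfsg.Agent.Lib.H6.Hig

open Cfsg.Agent.Lib.H15.Hig

section abstract
variable {K : Type*} [Field K] [CharP K 2] {V : Type*} [AddCommGroup V] (O : Ops K V)

theorem W_mem_Vp' {m : V} (hm : m ∈ Vp O) : O.W m ∈ Vp O := by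
  obtain ⟨x, hx, y, hy, rfl⟩ := (mem_Vp O).1 hm
  refine (mem_Vp O).2 ⟨y, hy, x, hx, ?_⟩
  rw [map_add, O.W_W, add_comm]

theorem H_W_eq {c : K} (hc : c ≠ 0) (y : V) : O.H c (O.W y) = O.W (O.H c⁻¹ y) := by
  rw [O.W_H c⁻¹ (inv_ne_zero hc), inv_inv]

theorem H_mem_Vp' {c : K} (hc : c ≠ 0) {m : V} (hm : m ∈ Vp O) : O.H c m ∈ Vp O := by
  obtain ⟨x, hx, y, hy, rfl⟩ := (mem_Vp O).1 hm
  refine (mem_Vp O).2 ⟨O.H c x, H_mem_V0 O hc hx, O.H c⁻¹ y, H_mem_V0 O (inv_ne_zero hc) hy, ?_⟩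
  rw [map_add, H_W_eq O hc]

theorem U_add_W' (hg : Good K V) {a : K} (ha : a ≠ 0) {x y : V} (hx : x ∈ V0 O) (hy : y ∈ V0 O) :
    O.U a (x + O.W y) = (x + O.H a y) + O.W y := by
  rw [map_add, hx a, U_W_of_mem_V0' O hg ha hy, add_assoc]

theorem U_mem_Vp' (hg : Good K V) (a : K) {m : V} (hm : m ∈ Vp O) : O.U a m ∈ Vp O := by
  by_cases ha : a = 0
  · rw [ha, O.U_zero]; exact hm
  · obtain ⟨x, hx, y, hy, rfl⟩ := (mem_Vp O).1 hm
    rw [U_add_W' O hg ha hx hy]
    exact (mem_Vp O).2 ⟨x + O.H a y, (V0 O).add_mem hx (H_mem_V0 O ha hy), y, hy, rfl⟩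

theorem add_self_of_mem_Vp' (hg : Good K V) {m : V} (hm : m ∈ Vp O) : m + m = 0 := by
  obtain ⟨x, hx, y, hy, rfl⟩ := (mem_Vp O).1 hm
  have h1 := add_self_of_mem_V0 O hg hx
  have h2 : O.W y + O.W y = 0 := by
    rw [← map_add, add_self_of_mem_V0 O hg hy, map_zero]
  linear_combination (norm := abel) h1 + h2

theorem Vp_le_X' (hg : Good K V) : Vp O ≤ X O := by
  intro m hm a
  exact (Vp O).sub_mem (U_mem_Vp' O hg a hm) hm

/-! ### XV0 (L4) -/

theorem sub_mem_V0_of_mem_X (hg : Good K V) {m : V} (hm : m ∈ X O) (a : K) :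
    O.U a m - m ∈ V0 O := by
  by_cases ha : a = 0
  · rw [ha, O.U_zero, sub_self]
    exact (V0 O).zero_mem
  · obtain ⟨r, hr, t, ht, hp⟩ := (mem_Vp O).1 (hm a)
    -- `p + U a p = 0`
    have h1 : (O.U a m - m) + O.U a (O.U a m - m) = 0 := by
      rw [map_sub, U_U_self]
      abel
    rw [← hp, U_add_W' O hg ha hr ht] at h1
    have h2 : r + r = 0 := add_self_of_mem_V0 O hg hr
    have h3 : O.W t + O.W t = 0 := by
      rw [← map_add, add_self_of_mem_V0 O hg ht, map_zero]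
    have h4 : O.H a t = 0 := by
      linear_combination (norm := abel) h1 - h2 - h3
    have h5 : t = 0 := H_injective O ha (by rw [h4, map_zero])
    rw [← hp, h5, map_zero, add_zero]
    exact hr

theorem sub_add_of_mem_X (hg : Good K V) {m : V} (hm : m ∈ X O) (a b : K) :
    O.U (a + b) m - m = (O.U a m - m) + (O.U b m - m) := by
  have hb : O.U a (O.U b m - m) = O.U b m - m := sub_mem_V0_of_mem_X O hg hm b a
  rw [map_sub] at hb
  rw [O.U_add]
  linear_combination (norm := abel) hb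

end abstract

end Cfsg.Agent.Lib.H6.Hig
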