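import Mathlib.GroupTheory.Sylow
import Mathlib.GroupTheory.Solvable
import Mathlib.GroupTheory.SpecificGroups.Cyclic
import Mathlib.Tactic
import Cfsg.Agent.S0144

set_option autoImplicit false

namespace Cfsg.Agent.Lib.H6.S1001Core

/-- centraliser of an element = centraliser of the cyclic group it generates -/
theorem centralizer_singleton_eq_zpowers {G : Type*} [Group G] (x : G) :
    Subgroup.centralizer ({x} : Set G) = Subgroup.centralizer ((Subgroup.zpowers x : Subgroup G) : Set G) := by
  apply le_antisymm
  · intro g hg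
    rw [Subgroup.mem_centralizer_iff] at hg ⊢
    intro y hy
    obtain ⟨k, rfl⟩ := Subgroup.mem_zpowers_iff.mp hy
    have h1 : x * g = g * x := hg x (Set.mem_singleton x)
    have hc : Commute x g := h1
    exact (hc.zpow_left k).eq
  · exact Subgroup.centralizer_le (by
      intro y hy
      rw [Set.mem_singleton_iff] at hy
      subst hy
      exact Subgroup.mem_zpowers y)

/-- S1001 from the statement of S0904 (as a hypothesis) and Burnside's two-prime theorem. -/
theorem core {G : Type*} [Group G] [Finite G] [IsSimpleGroup G]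
    (h904 : ∀ (p q r a b : ℕ) (_hp : p.Prime) (_hq : q.Prime) [Fact r.Prime] (_hpq : p ≠ q) (_hpr : p ≠ r)
      (_hqr : q ≠ r) (_hcard : Nat.card G = p ^ a * q ^ b * r) (S : Sylow r G),
      Subgroup.centralizer (S : Set G) = (S : Subgroup G))
    (p a b : ℕ) (hp : p.Prime) (hG : Nat.card G = p * 3 ^ a * 2 ^ b) (x : G) (hx : orderOf x = p) :
    Subgroup.centralizer ({x} : Set G) = Subgroup.zpowers x := by
  have hx1 : x ≠ 1 := by
    intro h
    rw [h, orderOf_one] at hx
    exact hp.one_lt.ne hx
  by_cases hcomm : ∀ a b : G, a * b = b * a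
  · -- commutative: both sides are ⊤
    have hz : Subgroup.zpowers x = ⊤ := by
      have hn : (Subgroup.zpowers x).Normal := ⟨fun n hn g => by
        have : g * n * g⁻¹ = n := by rw [hcomm g n, mul_inv_cancel_right]
        rw [this]; exact hn⟩
      rcases hn.eq_bot_or_eq_top with h | h
      · exact absurd (Subgroup.zpowers_eq_bot.mp h) hx1
      · exact h
    rw [hz]
    rw [eq_top_iff]
    intro g _
    rw [Subgroup.mem_centralizer_iff]
    intro y _
    exact hcomm y g
  · -- non-commutative: p ∉ {2, 3}
    have hns : ¬ Group.IsSolvable G := fun h => hcomm (IsSimpleGroup.comm_iff_isSolvable.mpr h)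
    have hp2 : p ≠ 2 := by
      intro h
      apply hns
      refine Cfsg.Agent.S0144.result 2 3 (b + 1) a Nat.prime_two Nat.prime_three ?_
      rw [hG, h]; ring
    have hp3 : p ≠ 3 := by
      intro h
      apply hns
      refine Cfsg.Agent.S0144.result 2 3 b (a + 1) Nat.prime_two Nat.prime_three ?_
      rw [hG, h]; ring
    have : Fact p.Prime := ⟨hp⟩
    have hcard : Nat.card G = 2 ^ b * 3 ^ a * p := by rw [hG]; ring
    -- a Sylow p-subgroup containing ⟨x⟩
    have hxp : IsPGroup p (Subgroup.zpowers x) := by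
      refine IsPGroup.of_card (n := 1) ?_
      rw [Nat.card_zpowers, hx, pow_one]
    obtain ⟨P, hP⟩ := hxp.exists_le_sylow
    -- card P = p
    obtain ⟨k, hk⟩ := IsPGroup.iff_card.mp P.isPGroup'
    have hdvd : p ^ k ∣ 2 ^ b * 3 ^ a * p := by
      rw [← hk, ← hcard]; exact Subgroup.card_subgroup_dvd_card _
    have hcop : Nat.Coprime (p ^ k) (2 ^ b * 3 ^ a) := by
      apply Nat.Coprime.pow_left
      apply Nat.Coprime.mul_right
      · exact Nat.Coprime.pow_right _ ((Nat.coprime_primes hp Nat.prime_two).mpr hp2)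
      · exact Nat.Coprime.pow_right _ ((Nat.coprime_primes hp Nat.prime_three).mpr hp3)
    have hdvd' : p ^ k ∣ p := (Nat.Coprime.dvd_mul_left hcop).mp hdvd
    have hle : Nat.card (P : Subgroup G) ≤ Nat.card (Subgroup.zpowers x) := by
      rw [hk, Nat.card_zpowers, hx]
      exact Nat.le_of_dvd hp.pos hdvd'
    have hPx : Subgroup.zpowers x = (P : Subgroup G) :=
      Subgroup.eq_of_le_of_card_ge hP hle
    rw [centralizer_singleton_eq_zpowers, hPx]
    exact h904 2 3 p b a Nat.prime_two Nat.prime_three (by norm_num) (Ne.symm hp2) (Ne.symm hp3) hcard P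

end Cfsg.Agent.Lib.H6.S1001Core
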