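import Cfsg.Agent.Lib.H6.S4415PERM

/-!
# S4415, GOOD case `n = 4`: the permutation part (helper6)

Setting of `S4415PERM.card_le_four` with `Λ = Fin 4`: `Γ = R⟨b⟩` transitive on four points,
`R ⊴ Γ` without elements of order divisible by `3`, `b` acting as a `3`-cycle.  Then `R` acts as
the four-group: every `φ r` is the identity or a fixed-point-free involution, `R` is transitive,
`Γ` is `2`-transitive, and `|H| = 4 · |ker|` for any subgroup `H` acting like this.
-/

set_option autoImplicit false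

namespace Cfsg.Agent.Lib.H6.S4415PERM4

open Equiv Cfsg.Agent.Lib.H6.S4415PERM

set_option maxRecDepth 100000 in
/-- The decidable core: in `S₄`, an element `σ` such that neither `σ` nor `[c,σ]` has order `3`
(`c` of order `3`) lies in the four-group. -/
theorem v4_core : ∀ c σ : Perm (Fin 4), c ^ 3 = 1 → c ≠ 1 →
    (σ ^ 3 = 1 → σ = 1) → ((c * σ * c⁻¹ * σ⁻¹) ^ 3 = 1 → c * σ * c⁻¹ * σ⁻¹ = 1) →
    σ ^ 2 = 1 ∧ (σ = 1 ∨ ∀ x, σ x ≠ x) := by
  decide +kernel

theorem inv_apply_self' {α : Type*} (f : Perm α) (x : α) : f⁻¹ (f x) = x :=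
  f.symm_apply_apply x

theorem pow_apply_fixed {α : Type*} {c : Perm α} {p : α} (hp : c p = p) (k : ℕ) :
    (c ^ k) p = p := by
  induction k with
  | zero => simp
  | succ m ih => rw [pow_succ, Perm.mul_apply, hp, ih]

section abstract

variable {Γ : Type*} [Group Γ] (φ : Γ →* Perm (Fin 4)) (R : Subgroup Γ)

/-- No element of `R` acts with order `3`. -/
theorem eq_one_of_pow_three (hR3 : ∀ r ∈ R, ¬ 3 ∣ orderOf r) {r : Γ} (hr : r ∈ R)
    (h : (φ r) ^ 3 = 1) : φ r = 1 := by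
  have h1 : orderOf (φ r) ∣ 3 := orderOf_dvd_of_pow_eq_one h
  have h2 : orderOf (φ r) ∣ orderOf r := orderOf_map_dvd φ r
  rcases (Nat.dvd_prime Nat.prime_three).mp h1 with h3 | h3
  · exact orderOf_eq_one_iff.mp h3
  · exfalso
    apply hR3 r hr
    rw [← h3]
    exact h2

/-- (b) `R` acts through the four-group. -/
theorem phi_mem_V4 [R.Normal] (hR3 : ∀ r ∈ R, ¬ 3 ∣ orderOf r) (b : Γ)
    (hb : (φ b).IsThreeCycle) {r : Γ} (hr : r ∈ R) :
    (φ r) ^ 2 = 1 ∧ (φ r = 1 ∨ ∀ x, φ r x ≠ x) := by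
  have hc3 : (φ b) ^ 3 = 1 := pow_three_eq_one hb
  have hc1 : φ b ≠ 1 := by
    intro h
    have := hb.card_support
    rw [h, Perm.support_one] at this
    simp at this
  have hcomm : b * r * b⁻¹ * r⁻¹ ∈ R :=
    R.mul_mem (Subgroup.Normal.conj_mem inferInstance r hr b) (R.inv_mem hr)
  have e : φ (b * r * b⁻¹ * r⁻¹) = φ b * φ r * (φ b)⁻¹ * (φ r)⁻¹ := by
    rw [map_mul, map_mul, map_mul, map_inv, map_inv]
  apply v4_core (φ b) (φ r) hc3 hc1
  · exact eq_one_of_pow_three φ R hR3 hr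
  · intro h
    rw [← e] at h ⊢
    exact eq_one_of_pow_three φ R hR3 hcomm h

/-- The fixed point of the `3`-cycle. -/
theorem exists_fixed {c : Perm (Fin 4)} (hc : c.IsThreeCycle) :
    ∃ p : Fin 4, c p = p ∧ ∀ x, x ≠ p → x ∈ c.support := by
  have h3 := hc.card_support
  have hlt : c.support.card < (Finset.univ : Finset (Fin 4)).card := by
    rw [h3, Finset.card_univ, Fintype.card_fin]
    norm_num
  obtain ⟨p, _, hp⟩ := Finset.exists_mem_notMem_of_card_lt_card hlt
  refine ⟨p, Perm.notMem_support.mp hp, ?_⟩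
  intro x hx
  by_contra hxs
  -- two points outside the support: the support has at most two elements
  have hsub : c.support ⊆ (Finset.univ.erase p).erase x := by
    intro y hy
    rw [Finset.mem_erase, Finset.mem_erase]
    refine ⟨fun e => hxs (e ▸ hy), fun e => hp (e ▸ hy), Finset.mem_univ y⟩
  have hcard := Finset.card_le_card hsub
  rw [Finset.card_erase_of_mem (Finset.mem_erase.mpr ⟨hx, Finset.mem_univ x⟩),
    Finset.card_erase_of_mem (Finset.mem_univ p), Finset.card_univ, Fintype.card_fin, h3] at hcard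
  omega

variable (htr : ∀ x y : Fin 4, ∃ g : Γ, φ g x = y) (b : Γ)
  (hgen : ∀ g : Γ, ∃ r ∈ R, ∃ k : ℕ, g = r * b ^ k)

include htr hgen in
/-- From the fixed point of `b`, `R` reaches every point. -/
theorem exists_R_from_fixed {p : Fin 4} (hp : φ b p = p) (y : Fin 4) : ∃ r ∈ R, φ r p = y := by
  obtain ⟨g, hg⟩ := htr p y
  obtain ⟨r, hr, k, rfl⟩ := hgen g
  refine ⟨r, hr, ?_⟩
  rw [map_mul, map_pow, Perm.mul_apply] at hg
  have hk : ((φ b) ^ k) p = p := pow_apply_fixed hp k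
  rw [hk] at hg
  exact hg

include htr hgen in
/-- (d) `R` is transitive on the four points. -/
theorem R_transitive (hb : (φ b).IsThreeCycle) (x y : Fin 4) : ∃ r ∈ R, φ r x = y := by
  obtain ⟨p, hp, _⟩ := exists_fixed hb
  obtain ⟨r₁, hr₁, h1⟩ := exists_R_from_fixed φ R htr b hgen hp x
  obtain ⟨r₂, hr₂, h2⟩ := exists_R_from_fixed φ R htr b hgen hp y
  refine ⟨r₂ * r₁⁻¹, R.mul_mem hr₂ (R.inv_mem hr₁), ?_⟩
  rw [map_mul, map_inv, Perm.mul_apply, ← h1, inv_apply_self', h2]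

include htr hgen in
/-- `Γ` is `2`-transitive on the four points. -/
theorem two_transitive (hb : (φ b).IsThreeCycle) (i j k l : Fin 4) (hij : i ≠ j) (hkl : k ≠ l) :
    ∃ g : Γ, φ g i = k ∧ φ g j = l := by
  obtain ⟨p, hp, hsupp⟩ := exists_fixed hb
  obtain ⟨r₁, _, h1⟩ := R_transitive φ R htr b hgen hb i p
  obtain ⟨r₂, _, h2⟩ := R_transitive φ R htr b hgen hb k p
  have hj' : φ r₁ j ≠ p := by
    intro h
    apply hij
    apply (φ r₁).injective
    rw [h1, h]
  have hl' : φ r₂ l ≠ p := by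
    intro h
    apply hkl
    apply (φ r₂).injective
    rw [h2, h]
  have hjs := hsupp _ hj'
  have hls := hsupp _ hl'
  -- a power of `b` moves `φ r₁ j` to `φ r₂ l`
  obtain ⟨m, hm⟩ : ∃ m : ℕ, ((φ b) ^ m) (φ r₁ j) = φ r₂ l := by
    rcases mem_support_cases hb hjs hls with h | h | h
    · exact ⟨0, by rw [pow_zero, Perm.one_apply, h]⟩
    · exact ⟨1, by rw [pow_one, h]⟩
    · exact ⟨2, by rw [pow_two, Perm.mul_apply, h]⟩
  have hpm : ((φ b) ^ m) p = p := pow_apply_fixed hp m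
  refine ⟨r₂⁻¹ * b ^ m * r₁, ?_, ?_⟩
  · rw [map_mul, map_mul, map_inv, map_pow, Perm.mul_apply, Perm.mul_apply, h1, hpm, ← h2,
      inv_apply_self']
  · rw [map_mul, map_mul, map_inv, map_pow, Perm.mul_apply, Perm.mul_apply, hm,
      inv_apply_self']

/-- The four-group is regular: two elements of `R` agreeing at one point act equally. -/
theorem phi_eq_of_apply [R.Normal] (hR3 : ∀ r ∈ R, ¬ 3 ∣ orderOf r)
    (hb : (φ b).IsThreeCycle) {r r' : Γ} (hr : r ∈ R) (hr' : r' ∈ R) {x : Fin 4}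
    (h : φ r x = φ r' x) : φ r = φ r' := by
  have hm : r'⁻¹ * r ∈ R := R.mul_mem (R.inv_mem hr') hr
  have hfix : φ (r'⁻¹ * r) x = x := by
    rw [map_mul, map_inv, Perm.mul_apply, h, inv_apply_self']
  rcases (phi_mem_V4 φ R hR3 b hb hm).2 with h1 | h1
  · rw [map_mul, map_inv, inv_mul_eq_one] at h1
    exact h1.symm
  · exact absurd hfix (h1 x)

end abstract

end Cfsg.Agent.Lib.H6.S4415PERM4
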