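import Cfsg.Agent.Lib.H6.S4415CARD
import Cfsg.Agent.Lib.H6.S4415PERM4

/-!
# S4415, GOOD case `n = 4`: the permutation part in the monomial frame (helper6)

Wrappers of `S4415PERM4` for a `MonoFrame` on `Fin 4`: `R` acts on the four lines through the
four-group, transitively; `R<b>` is `2`-transitive on the lines; `|R| = 4 · |R₀|` for the diagonal
part `R₀ = {r ∈ R | φ r = 1}`.
-/

set_option autoImplicit false

namespace Cfsg.Agent.Lib.H6.S4415G5P

open Equiv Cfsg.Agent.Lib.H10.S4415 Cfsg.Agent.Lib.H24.S4415G Cfsg.Agent.Lib.H6.S4415CARD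
open Cfsg.Agent.Lib.H6.S4415PERM4

variable {S E : Type*} [Group S] [AddCommGroup E] [Module (ZMod 3) E]
variable {ρ : Representation (ZMod 3) S E} {R : Subgroup S} {b : S} {W : Submodule (ZMod 3) E}

/-- `R` is normal in `R<b>`. -/
theorem normal_R [Finite S] (hL : LinCtx ρ R b W) : (R.subgroupOf (RB R b)).Normal := by
  have hbN : b ∈ Subgroup.normalizer (R : Set S) :=
    Subgroup.mem_normalizer_fintype (fun r hr => hL.b_norm r hr)
  have hRBN : RB R b ≤ Subgroup.normalizer (R : Set S) := by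
    unfold RB
    apply sup_le Subgroup.le_normalizer
    rw [Subgroup.zpowers_le]
    exact hbN
  exact Subgroup.normal_subgroupOf_of_le_normalizer hRBN

/-- No element of `R` has order divisible by `3`. -/
theorem no3_R (hL : LinCtx ρ R b W) : ∀ r ∈ R.subgroupOf (RB R b), ¬ 3 ∣ orderOf r := by
  intro r hr hdvd
  rw [Subgroup.mem_subgroupOf] at hr
  have h1 : orderOf (⟨(r : S), hr⟩ : ↥R) ∣ Nat.card ↥R := orderOf_dvd_natCard _
  have h2 : orderOf (⟨(r : S), hr⟩ : ↥R) = orderOf r := by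
    rw [← Subgroup.orderOf_coe, ← Subgroup.orderOf_coe r]
  rw [h2] at h1
  have h3 : 3 ∣ Nat.card ↥R := dvd_trans hdvd h1
  have hc := hL.R_coprime
  have : (3 : ℕ) ∣ Nat.gcd (Nat.card ↥R) 3 := Nat.dvd_gcd h3 (dvd_refl 3)
  rw [Nat.Coprime] at hc
  rw [hc] at this
  omega

/-- `R<b> = R · <b>`. -/
theorem gen_RB [Finite S] (hL : LinCtx ρ R b W) :
    ∀ g : ↥(RB R b), ∃ r ∈ R.subgroupOf (RB R b), ∃ k : ℕ, g = r * bRB R b ^ k := by
  have := normal_R hL
  intro g
  have htop : R.subgroupOf (RB R b) ⊔ (Subgroup.zpowers b).subgroupOf (RB R b) = ⊤ := by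
    have := Subgroup.codisjoint_subgroupOf_sup R (Subgroup.zpowers b)
    rw [codisjoint_iff] at this
    exact this
  have hg : g ∈ ((R.subgroupOf (RB R b) ⊔ (Subgroup.zpowers b).subgroupOf (RB R b) :
      Subgroup ↥(RB R b)) : Set ↥(RB R b)) := by
    rw [htop]
    trivial
  rw [Subgroup.normal_mul] at hg
  obtain ⟨r, hr, z, hz, hrz⟩ := Set.mem_mul.mp hg
  refine ⟨r, hr, ?_⟩
  have hz' : (z : S) ∈ Subgroup.zpowers b := Subgroup.mem_subgroupOf.mp hz
  obtain ⟨k, hk⟩ := Subgroup.mem_zpowers_iff.mp hz'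
  refine ⟨(k % 3).toNat, ?_⟩
  rw [← hrz]
  congr 1
  apply Subtype.ext
  rw [Subgroup.coe_pow]
  show (z : S) = b ^ (k % 3).toNat
  have h3 : (0 : ℤ) ≤ k % 3 := Int.emod_nonneg k (by norm_num)
  rw [← zpow_natCast, Int.toNat_of_nonneg h3, ← hk]
  have := zpow_mod_orderOf b k
  rw [hL.b_ord] at this
  exact this.symm

/-- The permutation part of a monomial frame as a homomorphism. -/
def phiHom {n : ℕ} {f : Fin n → E} {φ : ↥(RB R b) → Perm (Fin n)}
    (hM : MonoFrame ρ R b W f φ) : ↥(RB R b) →* Perm (Fin n) :=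
  MonoidHom.mk' φ (phi_mul hM)

@[simp] theorem phiHom_apply {n : ℕ} {f : Fin n → E} {φ : ↥(RB R b) → Perm (Fin n)}
    (hM : MonoFrame ρ R b W f φ) (g : ↥(RB R b)) : phiHom hM g = φ g := rfl

section four

variable {f : Fin 4 → E} {φ : ↥(RB R b) → Perm (Fin 4)}

/-- (b) `R` acts on the four lines through the four-group. -/
theorem frame_V4 [Finite S] (hL : LinCtx ρ R b W) (hM : MonoFrame ρ R b W f φ)
    (g : ↥(RB R b)) (hg : (g : S) ∈ R) : (φ g) ^ 2 = 1 ∧ (φ g = 1 ∨ ∀ x, φ g x ≠ x) := by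
  have := normal_R hL
  exact phi_mem_V4 (phiHom hM) (R.subgroupOf (RB R b)) (no3_R hL) (bRB R b) hM.three
    (Subgroup.mem_subgroupOf.mpr hg)

/-- (d) `R` is transitive on the four lines. -/
theorem frame_R_transitive [Finite S] (hL : LinCtx ρ R b W) (hM : MonoFrame ρ R b W f φ)
    (x y : Fin 4) : ∃ g : ↥(RB R b), (g : S) ∈ R ∧ φ g x = y := by
  obtain ⟨r, hr, h⟩ := R_transitive (phiHom hM) (R.subgroupOf (RB R b)) hM.trans (bRB R b)
    (gen_RB hL) hM.three x y
  exact ⟨r, Subgroup.mem_subgroupOf.mp hr, h⟩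

/-- `R<b>` is `2`-transitive on the four lines. -/
theorem frame_two_transitive [Finite S] (hL : LinCtx ρ R b W) (hM : MonoFrame ρ R b W f φ)
    (i j k l : Fin 4) (hij : i ≠ j) (hkl : k ≠ l) : ∃ g : ↥(RB R b), φ g i = k ∧ φ g j = l :=
  two_transitive (phiHom hM) (R.subgroupOf (RB R b)) hM.trans (bRB R b) (gen_RB hL) hM.three
    i j k l hij hkl

/-- Two elements of `R` moving one line in the same way permute the lines equally. -/
theorem frame_phi_eq_of_apply [Finite S] (hL : LinCtx ρ R b W) (hM : MonoFrame ρ R b W f φ)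
    (g g' : ↥(RB R b)) (hg : (g : S) ∈ R) (hg' : (g' : S) ∈ R) (x : Fin 4)
    (h : φ g x = φ g' x) : φ g = φ g' := by
  have := normal_R hL
  exact phi_eq_of_apply (phiHom hM) (R.subgroupOf (RB R b)) (bRB R b) (no3_R hL) hM.three
    (Subgroup.mem_subgroupOf.mpr hg) (Subgroup.mem_subgroupOf.mpr hg') h

end four

/-- The diagonal part `R₀ = {r ∈ R | φ r = 1}` of `R`, as a subgroup of `S`. -/
def diagSub {n : ℕ} {f : Fin n → E} {φ : ↥(RB R b) → Perm (Fin n)}
    (hM : MonoFrame ρ R b W f φ) : Subgroup S :=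
  ((phiHom hM).ker ⊓ R.subgroupOf (RB R b)).map (RB R b).subtype

theorem mem_diagSub {n : ℕ} {f : Fin n → E} {φ : ↥(RB R b) → Perm (Fin n)}
    (hM : MonoFrame ρ R b W f φ) (s : S) :
    s ∈ diagSub hM ↔ ∃ h : s ∈ R, φ ⟨s, R_le_RB R b h⟩ = 1 := by
  unfold diagSub
  constructor
  · rintro ⟨g, hg, rfl⟩
    rw [Subgroup.coe_inf, Set.mem_inter_iff] at hg
    have h1 : phiHom hM g = 1 := hg.1
    have h2 : (g : S) ∈ R := Subgroup.mem_subgroupOf.mp hg.2
    exact ⟨h2, h1⟩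
  · rintro ⟨h, h1⟩
    refine ⟨⟨s, R_le_RB R b h⟩, ?_, rfl⟩
    rw [Subgroup.coe_inf, Set.mem_inter_iff]
    exact ⟨h1, Subgroup.mem_subgroupOf.mpr h⟩

theorem diagSub_le {n : ℕ} {f : Fin n → E} {φ : ↥(RB R b) → Perm (Fin n)}
    (hM : MonoFrame ρ R b W f φ) : diagSub hM ≤ R := by
  intro s hs
  obtain ⟨h, _⟩ := (mem_diagSub hM s).mp hs
  exact h

section four

variable {f : Fin 4 → E} {φ : ↥(RB R b) → Perm (Fin 4)}

/-- `|R| = 4 · |R₀|`. -/
theorem frame_card [Finite S] (hL : LinCtx ρ R b W) (hM : MonoFrame ρ R b W f φ) :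
    Nat.card ↥R = 4 * Nat.card ↥(diagSub hM) := by
  classical
  -- work inside `Γ = R<b>` with `H = R`
  have hcardH : Nat.card ↥(R.subgroupOf (RB R b)) = Nat.card ↥R :=
    Nat.card_congr (Subgroup.subgroupOfEquivOfLe (R_le_RB R b)).toEquiv
  -- the restricted homomorphism
  obtain ⟨ψ, hψ⟩ : ∃ ψ : ↥(R.subgroupOf (RB R b)) →* Perm (Fin 4),
      ∀ r, ψ r = φ (r : ↥(RB R b)) := ⟨(phiHom hM).comp (R.subgroupOf (RB R b)).subtype, fun _ => rfl⟩
  have h1 : Nat.card ↥ψ.ker * ψ.ker.index = Nat.card ↥(R.subgroupOf (RB R b)) :=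
    Subgroup.card_mul_index ψ.ker
  rw [Subgroup.index_ker] at h1
  -- the range has four elements: it acts regularly
  have hrange : Nat.card ↥ψ.range = 4 := by
    have hbij : Function.Bijective (fun τ : ↥ψ.range => (τ : Perm (Fin 4)) 0) := by
      constructor
      · rintro ⟨τ, ⟨r, rfl⟩⟩ ⟨τ', ⟨r', rfl⟩⟩ h
        apply Subtype.ext
        show ψ r = ψ r'
        rw [hψ, hψ]
        apply frame_phi_eq_of_apply hL hM _ _ (Subgroup.mem_subgroupOf.mp r.2)
          (Subgroup.mem_subgroupOf.mp r'.2) 0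
        have h' : (ψ r) 0 = (ψ r') 0 := h
        rw [hψ, hψ] at h'
        exact h'
      · intro y
        obtain ⟨g, hg, hgy⟩ := frame_R_transitive hL hM 0 y
        refine ⟨⟨ψ ⟨g, Subgroup.mem_subgroupOf.mpr hg⟩, ⟨_, rfl⟩⟩, ?_⟩
        show (ψ ⟨g, Subgroup.mem_subgroupOf.mpr hg⟩) 0 = y
        rw [hψ]
        exact hgy
    rw [Nat.card_congr (Equiv.ofBijective _ hbij), Nat.card_eq_fintype_card, Fintype.card_fin]
  -- the kernel is the diagonal part
  have hker : Nat.card ↥ψ.ker = Nat.card ↥(diagSub hM) := by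
    unfold diagSub
    rw [Subgroup.card_subtype]
    have e1 : (ψ.ker.map (R.subgroupOf (RB R b)).subtype) =
        (phiHom hM).ker ⊓ R.subgroupOf (RB R b) := by
      ext g
      constructor
      · rintro ⟨r, hr, rfl⟩
        rw [Subgroup.mem_inf]
        refine ⟨?_, r.2⟩
        have : ψ r = 1 := hr
        rw [hψ] at this
        exact this
      · intro hg
        rw [Subgroup.mem_inf] at hg
        refine ⟨⟨g, hg.2⟩, ?_, rfl⟩
        show ψ ⟨g, hg.2⟩ = 1
        rw [hψ]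
        exact hg.1
    rw [← e1, Subgroup.card_subtype]
  rw [← hcardH, ← h1, hrange, hker, mul_comm]

end four

end Cfsg.Agent.Lib.H6.S4415G5P
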