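import Mathlib
import Cfsg.Prelude.Def_KGroupFacts
import Cfsg.Agent.Lib.H18.SchurCover2

/-!
# S2112 piece CORE: the perfect core of a central extension of a perfect group is a stem extension
-/

set_option autoImplicit false

namespace Cfsg.Agent.Lib.H6.SZ8

open scoped commutatorElement
open Cfsg

/-- **CORE**: the perfect core of a central extension of a perfect group is a stem extension. -/
theorem isStem_commutator_restrict {E : Type*} {G : Type*} [Group E] [Group G] (ξ : E →* G)
    (hξ : Function.Surjective ξ) (hker : ξ.ker ≤ Subgroup.center E) (hperf : commutator G = ⊤) :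
    Cfsg.IsStemExtension (ξ.comp (commutator E).subtype) := by
  -- the commutator subgroup maps onto `G`
  have hmap : (commutator E).map ξ = ⊤ := by
    rw [commutator_def, Subgroup.map_commutator, ← MonoidHom.range_eq_map,
      MonoidHom.range_eq_top.mpr hξ, ← commutator_def, hperf]
  have hs : ∀ g : G, ∃ c ∈ commutator E, ξ c = g := by
    intro g
    have : g ∈ (commutator E).map ξ := by rw [hmap]; exact Subgroup.mem_top g
    exact Subgroup.mem_map.mp this
  have hpf : ⁅commutator E, commutator E⁆ = commutator E :=
    Cfsg.Agent.Lib.H18.commutator_isPerfect_of_central ξ hker (fun x => hs (ξ x))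
  refine ⟨?_, ?_, ?_⟩
  · intro g
    obtain ⟨c, hc, e⟩ := hs g
    exact ⟨⟨c, hc⟩, e⟩
  · intro x hx
    rw [MonoidHom.mem_ker] at hx
    have hx' : (x : E) ∈ ξ.ker := hx
    have hc := hker hx'
    rw [Subgroup.mem_center_iff]
    intro y
    apply Subtype.ext
    exact Subgroup.mem_center_iff.mp hc (y : E)
  · intro x _
    have htop : commutator ↥(commutator E) = ⊤ := by
      apply Subgroup.map_injective (commutator E).subtype_injective
      rw [Subgroup.map_subtype_commutator, ← MonoidHom.range_eq_map, Subgroup.range_subtype]
      exact hpf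
    rw [htop]
    exact Subgroup.mem_top x

end Cfsg.Agent.Lib.H6.SZ8
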