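import Mathlib
import Cfsg.Prelude.Def_KGroupFacts
import Cfsg.Agent.S0325
import Cfsg.Agent.Lib.H2.Sz6

/-!
# S2112 piece PERF: the Suzuki groups are perfect
-/

set_option autoImplicit false

namespace Cfsg.Agent.Lib.H6.SZ8

open Cfsg Cfsg.Agent.Lib.H2.Sz

universe u

/-- **PERF**: the Suzuki groups are perfect. -/
theorem commutator_Sz_eq_top {F : Type u} [Field F] [Fintype F] {m : ℕ} (hm : 1 ≤ m)
    (hF : Fintype.card F = 2 ^ (2 * m + 1)) : commutator (Sz F m) = ⊤ := by
  have hs : IsSimpleGroup (Sz F m) := Cfsg.Agent.S0325.result hm hF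
  have h : Fld F m := fld_of_card hF
  rcases (inferInstance : (commutator (Sz F m)).Normal).eq_bot_or_eq_top with hb | ht
  · exfalso
    rw [commutator_eq_bot_iff_center_eq_top] at hb
    have hcomm : ∀ a b : Sz F m, a * b = b * a := by
      intro a b
      have hb' : b ∈ Subgroup.center (Sz F m) := by rw [hb]; exact Subgroup.mem_top b
      exact (Subgroup.mem_center_iff.mp hb' a)
    let inst : CommGroup (Sz F m) := { (inferInstance : Group (Sz F m)) with mul_comm := hcomm }
    have hp : (Nat.card (Sz F m)).Prime := @IsSimpleGroup.prime_card (Sz F m) inst hs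
    have hcard := card_Sz h hm hF
    have h4 : 4 ∣ Nat.card (Sz F m) := by
      rw [hcard, ← pow_mul]
      apply Dvd.dvd.mul_right
      apply Dvd.dvd.mul_right
      have : (4 : ℕ) = 2 ^ 2 := by norm_num
      rw [this]
      exact pow_dvd_pow 2 (by omega)
    have h2 : 2 ∣ Nat.card (Sz F m) := (by norm_num : (2 : ℕ) ∣ 4).trans h4
    rcases (Nat.Prime.eq_one_or_self_of_dvd hp 2 h2) with e | e
    · omega
    · rw [← e] at h4
      omega
  · exact ht

end Cfsg.Agent.Lib.H6.SZ8
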