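import Mathlib

/-!
# S2112 piece KLEIN: a finite group of exponent at most 2 and order at most 4 is a quotient of `C2 × C2`
-/

set_option autoImplicit false

namespace Cfsg.Agent.Lib.H6.SZ8

/-- the homomorphism `(i, j) ↦ a ^ i * b ^ j` for commuting involutions -/
theorem exists_hom_of_pair {M : Type*} [Group M] (a b : M) (ha : a * a = 1) (hb : b * b = 1)
    (hab : a * b = b * a) :
    ∃ π : Multiplicative (ZMod 2 × ZMod 2) →* M,
      π (Multiplicative.ofAdd (1, 0)) = a ∧ π (Multiplicative.ofAdd (0, 1)) = b := by
  have ha2 : a ^ 2 = 1 := by rw [sq]; exact ha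
  have hb2 : b ^ 2 = 1 := by rw [sq]; exact hb
  have hcm : Commute a b := hab
  refine ⟨{ toFun := fun x => a ^ (Multiplicative.toAdd x).1.val * b ^ (Multiplicative.toAdd x).2.val
            map_one' := by simp
            map_mul' := ?_ }, ?_, ?_⟩
  · intro x y
    show a ^ ((Multiplicative.toAdd x).1 + (Multiplicative.toAdd y).1).val *
        b ^ ((Multiplicative.toAdd x).2 + (Multiplicative.toAdd y).2).val = _
    rw [ZMod.val_add, ZMod.val_add, ← pow_eq_pow_mod _ ha2, ← pow_eq_pow_mod _ hb2, pow_add, pow_add]
    have h1 : Commute (a ^ (Multiplicative.toAdd y).1.val) (b ^ (Multiplicative.toAdd x).2.val) :=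
      (hcm.pow_pow _ _)
    calc a ^ (Multiplicative.toAdd x).1.val * a ^ (Multiplicative.toAdd y).1.val *
          (b ^ (Multiplicative.toAdd x).2.val * b ^ (Multiplicative.toAdd y).2.val)
        = a ^ (Multiplicative.toAdd x).1.val * (a ^ (Multiplicative.toAdd y).1.val *
          b ^ (Multiplicative.toAdd x).2.val) * b ^ (Multiplicative.toAdd y).2.val := by group
      _ = a ^ (Multiplicative.toAdd x).1.val * (b ^ (Multiplicative.toAdd x).2.val *
          a ^ (Multiplicative.toAdd y).1.val) * b ^ (Multiplicative.toAdd y).2.val := by rw [h1.eq]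
      _ = _ := by group
  · show a ^ (1 : ZMod 2).val * b ^ (0 : ZMod 2).val = a
    rw [ZMod.val_one, ZMod.val_zero, pow_one, pow_zero, mul_one]
  · show a ^ (0 : ZMod 2).val * b ^ (1 : ZMod 2).val = b
    rw [ZMod.val_one, ZMod.val_zero, pow_one, pow_zero, one_mul]

/-- **KLEIN**: a finite group of exponent `≤ 2` and order `≤ 4` is a quotient of `C2 x C2`. -/
theorem exists_surjective_of_card_le_four {M : Type*} [Group M] [Finite M]
    (h2 : ∀ x : M, x * x = 1) (hc : Nat.card M ≤ 4) :
    ∃ π : Multiplicative (ZMod 2 × ZMod 2) →* M, Function.Surjective π := by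
  classical
  have : Fintype M := Fintype.ofFinite M
  have hinv : ∀ x : M, x⁻¹ = x := fun x => inv_eq_of_mul_eq_one_right (h2 x)
  have hcomm : ∀ x y : M, x * y = y * x := by
    intro x y
    have h := h2 (x * y)
    calc x * y = (x * y)⁻¹ := (hinv _).symm
      _ = y⁻¹ * x⁻¹ := mul_inv_rev x y
      _ = y * x := by rw [hinv, hinv]
  -- a pair generating everything
  have hpair : ∃ a b : M, ∀ x : M, x = 1 ∨ x = a ∨ x = b ∨ x = a * b := by
    by_cases h1 : ∀ x : M, x = 1
    · exact ⟨1, 1, fun x => Or.inl (h1 x)⟩
    · push Not at h1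
      obtain ⟨a, ha⟩ := h1
      by_cases h3 : ∀ x : M, x = 1 ∨ x = a
      · exact ⟨a, 1, fun x => (h3 x).elim Or.inl fun h => Or.inr (Or.inl h)⟩
      · push Not at h3
        obtain ⟨b, hb1, hba⟩ := h3
        refine ⟨a, b, fun x => ?_⟩
        by_contra hx
        push Not at hx
        obtain ⟨x1, x2, x3, x4⟩ := hx
        have hab1 : a * b ≠ 1 := by
          intro e
          apply hba
          calc b = a⁻¹ * (a * b) := by group
            _ = a := by rw [e, mul_one, hinv]
        have haba : a * b ≠ a := by
          intro e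
          apply hb1
          calc b = a⁻¹ * (a * b) := by group
            _ = 1 := by rw [e, inv_mul_cancel]
        have habb : a * b ≠ b := by
          intro e
          apply ha
          calc a = (a * b) * b⁻¹ := by group
            _ = 1 := by rw [e, mul_inv_cancel]
        have hcard : ({1, a, b, a * b, x} : Finset M).card = 5 := by
          rw [Finset.card_insert_of_notMem, Finset.card_insert_of_notMem, Finset.card_insert_of_notMem,
            Finset.card_insert_of_notMem, Finset.card_singleton]
          · simp only [Finset.mem_singleton]; exact fun e => x4 e.symm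
          · simp only [Finset.mem_insert, Finset.mem_singleton, not_or]
            exact ⟨fun e => habb e.symm, fun e => x3 e.symm⟩
          · simp only [Finset.mem_insert, Finset.mem_singleton, not_or]
            exact ⟨fun e => hba e.symm, fun e => haba e.symm, fun e => x2 e.symm⟩
          · simp only [Finset.mem_insert, Finset.mem_singleton, not_or]
            exact ⟨fun e => ha e.symm, fun e => hb1 e.symm, fun e => hab1 e.symm, fun e => x1 e.symm⟩
        have hle := Finset.card_le_univ ({1, a, b, a * b, x} : Finset M)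
        rw [hcard, ← Nat.card_eq_fintype_card] at hle
        omega
  obtain ⟨a, b, hab⟩ := hpair
  obtain ⟨π, hπa, hπb⟩ := exists_hom_of_pair a b (h2 a) (h2 b) (hcomm a b)
  refine ⟨π, fun x => ?_⟩
  rcases hab x with rfl | rfl | rfl | rfl
  · exact ⟨1, map_one π⟩
  · exact ⟨_, hπa⟩
  · exact ⟨_, hπb⟩
  · exact ⟨Multiplicative.ofAdd (1, 0) * Multiplicative.ofAdd (0, 1), by rw [map_mul, hπa, hπb]⟩

end Cfsg.Agent.Lib.H6.SZ8
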