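import Cfsg.Agent.Lib.H6.PermTab

set_option autoImplicit false

/-!
# Faster table look-ups and checks for permutation representations

`getR` reads a leaf of a binary tree along the bits of the index, lowest bit first; the leaf
index is forced to a numeral first, so that the kernel's cache is hit whenever the same leaf is
read again.  `checkEqs` compares the images of points under pairs of words (a relator is the pair
of the word and the empty word), applying the letters without forcing the intermediate points,
so that common prefixes are shared.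
-/

namespace Cfsg.Agent.Lib.H6.PermFast

open Cfsg.Agent.Lib.H17.CosetCert Cfsg.Agent.Lib.H6.PermTab

/-- the leaf addressed by the bits of `w`, lowest bit first -/
noncomputable def getR (t : BT) : ℕ → ℕ :=
  BT.rec (motive := fun _ => ℕ → ℕ) (fun n _ => n)
    (fun _ _ ihl ihr w => Nat.rec (motive := fun _ => ℕ) (ihl (Nat.shiftRight w 1))
        (fun _ _ => ihr (Nat.shiftRight w 1)) (Nat.land w 1)) t

/-- entry `i` of a packed table whose leaves hold `2 ^ lb` entries of `wb` bits
(`L1 = 2 ^ lb - 1`, `M = 2 ^ wb - 1`) -/
noncomputable def lkR (lb wb L1 M : ℕ) (t : BT) (i : ℕ) : ℕ :=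
  Nat.land (Nat.shiftRight (force (Nat.shiftRight i lb) (getR t))
    (Nat.mul wb (Nat.land i L1))) M

section checks

variable (T : ℕ → ℕ → ℕ)

/-- apply a word, first letter first, without forcing the intermediate points -/
noncomputable def applyL (w : List ℕ) : ℕ → ℕ :=
  List.rec (motive := fun _ => ℕ → ℕ) (fun i => i) (fun x _ ih i => ih (T x i)) w

theorem applyL_eq (w : List ℕ) (i : ℕ) : applyL T w i = applyW T w i := by
  induction w generalizing i with
  | nil => rfl
  | cons x w ih =>
    rw [applyW_cons]
    exact ih (T x i)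

/-- the two words agree at the points `lo, …, lo + n - 1` -/
noncomputable def checkEq (u v : List ℕ) (lo n : ℕ) : Bool :=
  Nat.rec (motive := fun _ => Bool) true
    (fun k ih => force (Nat.add lo k) fun i =>
      cond (Nat.beq (applyL T u i) (applyL T v i)) ih false) n

theorem checkEq_sound (u v : List ℕ) (lo n : ℕ) (h : checkEq T u v lo n = true) :
    ∀ i, lo ≤ i → i < lo + n → applyW T u i = applyW T v i := by
  induction n with
  | zero => intro i h1 h2; omega
  | succ n ih =>
    have h' : force (Nat.add lo n) (fun i => cond (Nat.beq (applyL T u i) (applyL T v i))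
        (checkEq T u v lo n) false) = true := h
    rw [force_eq] at h'
    cases hb : Nat.beq (applyL T u (Nat.add lo n)) (applyL T v (Nat.add lo n)) with
    | false => rw [hb] at h'; exact absurd h' (by simp)
    | true =>
      rw [hb] at h'
      intro i h1 h2
      rcases Nat.lt_succ_iff_lt_or_eq.mp (show i < (lo + n) + 1 by omega) with hlt | rfl
      · exact ih h' i h1 hlt
      · have := Nat.eq_of_beq_eq_true hb
        rw [applyL_eq, applyL_eq] at this
        exact this

/-- all pairs of words of a list agree at the points `lo, …, lo + n - 1` -/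
noncomputable def checkEqs (ps : List (List ℕ × List ℕ)) (lo n : ℕ) : Bool :=
  List.rec (motive := fun _ => Bool) true
    (fun p _ ih => cond (checkEq T p.1 p.2 lo n) ih false) ps

theorem checkEqs_sound (ps : List (List ℕ × List ℕ)) (lo n : ℕ)
    (h : checkEqs T ps lo n = true) :
    ∀ p ∈ ps, ∀ i, lo ≤ i → i < lo + n → applyW T p.1 i = applyW T p.2 i := by
  induction ps with
  | nil => intro p hp; exact absurd hp (by simp)
  | cons p0 ps ih =>
    have h' : cond (checkEq T p0.1 p0.2 lo n) (checkEqs T ps lo n) false = true := h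
    cases hb : checkEq T p0.1 p0.2 lo n with
    | false => rw [hb] at h'; exact absurd h' (by simp)
    | true =>
      rw [hb] at h'
      intro p hp
      rcases List.mem_cons.mp hp with rfl | hp'
      · exact checkEq_sound T _ _ lo n hb
      · exact ih h' p hp'

/-- the pairs of words agree, the letters `x < ng` map below `N` and some letter `x < ngc`
maps to a smaller point, at the points `lo, …, lo + n - 1` -/
noncomputable def checkAll (ps : List (List ℕ × List ℕ)) (ng ngc N lo n : ℕ) : Bool :=
  cond (checkEqs T ps lo n) (cond (checkRange T ng N lo n) (checkConn T ngc lo n) false) false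

theorem checkAll_sound (ps : List (List ℕ × List ℕ)) (ng ngc N lo n : ℕ)
    (h : checkAll T ps ng ngc N lo n = true) :
    (∀ p ∈ ps, ∀ i, lo ≤ i → i < lo + n → applyW T p.1 i = applyW T p.2 i) ∧
    (∀ i, lo ≤ i → i < lo + n → ∀ x < ng, T x i < N) ∧
    (∀ i, lo ≤ i → i < lo + n → i ≠ 0 → ∃ x < ngc, T x i < i) := by
  unfold checkAll at h
  cases h1 : checkEqs T ps lo n with
  | false => rw [h1] at h; exact absurd h (by simp)
  | true =>
    rw [h1] at h
    cases h2 : checkRange T ng N lo n with
    | false => rw [h2] at h; exact absurd h (by simp)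
    | true =>
      rw [h2] at h
      exact ⟨checkEqs_sound T ps lo n h1, checkRange_sound T ng N lo n h2,
        checkConn_sound T ngc lo n h⟩

end checks

section perms

variable (T : ℕ → ℕ → ℕ) (iv : ℕ → ℕ) (ng n : ℕ)

/-- two words with the same images give the same product of the inverse permutations -/
theorem prod_inv_eq_of_apply_eq (hg : Good T iv ng n) (u v : List ℕ)
    (hu : ∀ x ∈ u, x < ng) (hv : ∀ x ∈ v, x < ng)
    (h : ∀ i < n, applyW T u i = applyW T v i) :
    (u.map fun x => (σ T iv ng n x)⁻¹).prod = (v.map fun x => (σ T iv ng n x)⁻¹).prod := by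
  have h1 : (u.map (σ T iv ng n)).reverse.prod = (v.map (σ T iv ng n)).reverse.prod := by
    ext i
    rw [prod_reverse_apply T iv ng n hg u hu i, prod_reverse_apply T iv ng n hg v hv i, h i i.2]
  have h2 : ∀ w : List ℕ, (w.map fun x => (σ T iv ng n x)⁻¹).prod =
      ((w.map (σ T iv ng n)).reverse.prod)⁻¹ := by
    intro w
    rw [List.prod_inv_reverse, List.map_reverse, List.reverse_reverse, List.map_map]
    rfl
  rw [h2 u, h2 v, h1]

/-- transitivity from the connectivity check with the letters `x < ngc` -/
theorem trans_of_conn' {G : Type*} [Group G] (hn : 0 < n) (φ : G →* Equiv.Perm (Fin n))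
    (hg : Good T iv ng n) (ngc : ℕ) (hle : ngc ≤ ng)
    (hφ : ∀ x < ngc, ∃ g : G, φ g = σ T iv ng n x)
    (hs : ∀ i < n, i ≠ 0 → ∃ x < ngc, T x i < i) :
    ∀ i : Fin n, ∃ g : G, φ g ⟨0, hn⟩ = i := by
  have key : ∀ r : ℕ, ∀ i : Fin n, (i : ℕ) = r → ∃ g : G, φ g i = ⟨0, hn⟩ := by
    intro r
    induction r using Nat.strong_induction_on with
    | _ r ih =>
      intro i hir
      by_cases hi0 : (i : ℕ) = 0
      · exact ⟨1, by rw [map_one]; exact Fin.ext hi0⟩
      · obtain ⟨x, hx, hlt⟩ := hs i i.2 hi0
        obtain ⟨gt, hgt⟩ := hφ x hx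
        have hx' : x < ng := lt_of_lt_of_le hx hle
        have hj : T x i < n := hg.2.2.1 x hx' i i.2
        obtain ⟨g', hg'⟩ := ih _ (by rw [← hir]; exact hlt) ⟨T x i, hj⟩ rfl
        refine ⟨g' * gt, ?_⟩
        rw [map_mul, Equiv.Perm.mul_apply, hgt]
        have : σ T iv ng n x i = ⟨T x i, hj⟩ := Fin.ext (σ_apply T iv ng n hg x hx' i)
        rw [this, hg']
  intro i
  obtain ⟨g, hg'⟩ := key _ i rfl
  refine ⟨g⁻¹, ?_⟩
  rw [map_inv, ← hg']
  simp

end perms

section group

variable {K : Type*} [Group K]

theorem sq_of_comm (a b : K) (ha : a * a = 1) (hb : b * b = 1) (h : a * b = b * a) :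
    (a * b) ^ 2 = 1 := by
  rw [pow_two]
  calc a * b * (a * b) = a * (b * a) * b := by group
    _ = a * (a * b) * b := by rw [h]
    _ = (a * a) * (b * b) := by group
    _ = 1 := by rw [ha, hb, one_mul]

theorem cube_of_braid (a b : K) (ha : a * a = 1) (hb : b * b = 1) (h : a * b * a = b * a * b) :
    (a * b) ^ 3 = 1 := by
  rw [pow_succ, pow_two]
  calc a * b * (a * b) * (a * b) = (a * b * a) * (b * a * b) := by group
    _ = (b * a * b) * (b * a * b) := by rw [h]
    _ = b * a * (b * b) * a * b := by group
    _ = b * (a * a) * b := by rw [hb]; group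
    _ = 1 := by rw [ha, mul_one, hb]

end group

end Cfsg.Agent.Lib.H6.PermFast
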