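import Cfsg.Agent.Lib.H6.TC

set_option autoImplicit false

/-!
# Applying a certified coset enumeration to a subgroup of a group

The certificate speaks about an action in which the relator words act trivially and the
subgroup words fix the base point.  Here it is applied to the action on the cosets of a
subgroup `H`, with the letters acting by the inverses of given elements `e x`.
-/

namespace Cfsg.Agent.Lib.H6.TCApply

open Cfsg.Agent.Lib.H17.CosetCert Cfsg.Agent.Lib.H6.TC

/-- what a certified enumeration proves -/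
def Bound (iv : ℕ → ℕ) (ng : ℕ) (words : WT) (N : ℕ) : Prop :=
  ∀ (G : Type) [Group G] (Q : Type) [MulAction G Q] [MulAction.IsPretransitive G Q]
    (γ : ℕ → G), (∀ x < ng, γ (iv x) = (γ x)⁻¹) → ∀ q0 : Q, WordsOK γ q0 words →
    Subgroup.closure {g : G | ∃ x < ng, g = γ x} = ⊤ → Finite Q ∧ Nat.card Q ≤ N

section

variable {G : Type} [Group G] (e : ℕ → G)

theorem act_inv {Q : Type} [MulAction G Q] (w : List ℕ) (q : Q) :
    act (fun x => (e x)⁻¹) w q = ((w.map e).prod)⁻¹ • q := by
  induction w generalizing q with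
  | nil => simp [act]
  | cons x u ih =>
    rw [act, ih, List.map_cons, List.prod_cons, mul_inv_rev, mul_smul]

/-- is `v` a rotation of `b`? -/
def isRot (b v : List ℕ) : Bool := (List.range (b.length + 1)).any fun k => decide (v = b.rotate k)

/-- is the word of the certificate justified by the base words and the subgroup words? -/
def okWord (iv : ℕ → ℕ) (ng : ℕ) (baseW subW : List (List ℕ)) (v : List ℕ × Bool) : Bool :=
  cond v.2
    (baseW.any (fun b => isRot b v.1) || (List.range ng).any (fun h => decide (v.1 = [iv h, h])))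
    (subW.any (fun s => decide (v.1 = s)))

theorem wordsOK (H : Subgroup G) (iv : ℕ → ℕ) (ng : ℕ)
    (hiv : ∀ x < ng, e (iv x) = (e x)⁻¹) (baseW subW : List (List ℕ))
    (hbase : ∀ w ∈ baseW, (w.map e).prod = 1) (hsub : ∀ w ∈ subW, (w.map e).prod ∈ H)
    (words : WT) (hchk : words.toList.all (okWord iv ng baseW subW) = true) :
    WordsOK (fun x => (e x)⁻¹) (((1 : G) : G ⧸ H)) words := by
  intro v hv
  have hv' := List.all_eq_true.mp hchk v hv
  unfold okWord at hv'
  constructor
  · intro hr q
    rw [hr, cond_true, Bool.or_eq_true, List.any_eq_true, List.any_eq_true] at hv'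
    rw [act_inv]
    have hone : (v.1.map e).prod = 1 := by
      rcases hv' with ⟨b, hb, hrot⟩ | ⟨h, hh, hw⟩
      · unfold isRot at hrot
        rw [List.any_eq_true] at hrot
        obtain ⟨k, _, hk⟩ := hrot
        rw [decide_eq_true_eq] at hk
        rw [hk, List.map_rotate]
        exact List.prod_rotate_eq_one_of_prod_eq_one (hbase b hb) k
      · rw [decide_eq_true_eq] at hw
        rw [List.mem_range] at hh
        rw [hw]
        simp [hiv h hh]
    rw [hone, inv_one, one_smul]
  · intro hr
    rw [hr, cond_false, List.any_eq_true] at hv'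
    obtain ⟨s, hs, hw⟩ := hv'
    rw [decide_eq_true_eq] at hw
    rw [act_inv, hw]
    have hm := hsub s hs
    rw [MulAction.Quotient.smul_coe, smul_eq_mul, mul_one, QuotientGroup.eq, inv_inv, mul_one]
    exact hm

/-- the index bound from a certified enumeration -/
theorem index_le (H : Subgroup G) (iv : ℕ → ℕ) (ng : ℕ)
    (hiv : ∀ x < ng, e (iv x) = (e x)⁻¹) (baseW subW : List (List ℕ))
    (hbase : ∀ w ∈ baseW, (w.map e).prod = 1) (hsub : ∀ w ∈ subW, (w.map e).prod ∈ H)
    (words : WT) (hchk : words.toList.all (okWord iv ng baseW subW) = true)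
    (hgen : Subgroup.closure {g : G | ∃ x < ng, g = e x} = ⊤)
    (N : ℕ) (hB : Bound iv ng words N) : H.index ≠ 0 ∧ H.index ≤ N := by
  have hw := wordsOK e H iv ng hiv baseW subW hbase hsub words hchk
  have hiv' : ∀ x < ng, (fun x => (e x)⁻¹) (iv x) = ((fun x => (e x)⁻¹) x)⁻¹ := by
    intro x hx
    simp only
    rw [hiv x hx]
  have hgen' : Subgroup.closure {g : G | ∃ x < ng, g = (fun x => (e x)⁻¹) x} = ⊤ := by
    rw [eq_top_iff, ← hgen, Subgroup.closure_le]
    rintro _ ⟨x, hx, rfl⟩
    have : (e x)⁻¹ ∈ Subgroup.closure {g : G | ∃ x < ng, g = (fun x => (e x)⁻¹) x} :=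
      Subgroup.subset_closure ⟨x, hx, rfl⟩
    simpa using inv_mem this
  obtain ⟨hfin, hcard⟩ := hB G (G ⧸ H) (fun x => (e x)⁻¹) hiv' _ hw hgen'
  have hidx : H.index = Nat.card (G ⧸ H) := rfl
  rw [hidx]
  exact ⟨Nat.card_pos.ne', hcard⟩

end

end Cfsg.Agent.Lib.H6.TCApply
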