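import Cfsg.Agent.Lib.H6.FiGlue
import Cfsg.Agent.Lib.H6.TCApply
import Cfsg.Agent.Lib.H6.FiTC.Cert
import Cfsg.Agent.Lib.H6.FiPerm.Good
import Cfsg.Agent.Lib.H17.CosetPerm

set_option autoImplicit false

/-!
# The subgroup generated by all generators but `k` of the presented `Fi24` has index `306936`

The upper bound is the certified coset enumeration `FiTC`, the lower bound the permutation
representation `FiPerm` on `306936` points.
-/

namespace Cfsg.Agent.Lib.H6.FiIndex

open Cfsg.Agent.Lib.H6.FiGlue Cfsg.Agent.Lib.H6.TCApply Cfsg.Agent.Lib.H6.PermTab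
  Cfsg.Agent.Lib.H6.PermFast Cfsg.Agent.Lib.H17.CosetCert Cfsg.Agent.Lib.H17.CoxGlue

/-- the letters in the presented group -/
noncomputable def e (x : ℕ) : G := PresentedGroup.of (gen x)

/-- the subgroup generated by all generators but `k` -/
def H : Subgroup G := Subgroup.closure {g : G | ∃ x, x < 12 ∧ x ≠ 1 ∧ g = e x}

theorem e_mem_H {x : ℕ} (h1 : x < 12) (h2 : x ≠ 1) : e x ∈ H :=
  Subgroup.subset_closure ⟨x, h1, h2, rfl⟩

theorem e_mul_self (x : ℕ) : e x * e x = 1 := of_mul_self _

theorem e_inv (x : ℕ) : (e x)⁻¹ = e x := inv_eq_of_mul_eq_one_left (e_mul_self x)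

/-! ## The upper bound -/

theorem closure_e : Subgroup.closure {g : G | ∃ x < 12, g = e x} = ⊤ := closure_gens

theorem fi_bound : Bound FiTC.iv 12 FiTC.words 306936 := fun _ _ _ _ _ γ hiv q0 hw hgen =>
  FiTC.bound γ hiv q0 hw hgen

/-- the words generating the subgroup -/
def subW : List (List ℕ) := [[0], [2], [3], [4], [5], [6], [7], [8], [9], [10], [11]]

set_option maxRecDepth 100000 in
set_option maxHeartbeats 0 in
theorem fi_words : FiTC.words.toList.all (okWord FiTC.iv 12 relW subW) = true := by
  decide +kernel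

theorem relW_e : ∀ w ∈ relW, (w.map e).prod = 1 := by
  intro w hw
  have := relW_trivial w hw
  rw [List.map_map] at this
  exact this

theorem H_index_le : H.index ≠ 0 ∧ H.index ≤ 306936 := by
  refine index_le e H FiTC.iv 12 (fun x _ => (e_inv x).symm) relW subW relW_e ?_
    FiTC.words fi_words closure_e 306936 fi_bound
  intro w hw
  simp only [subW, List.mem_cons, List.not_mem_nil, or_false] at hw
  rcases hw with rfl | rfl | rfl | rfl | rfl | rfl | rfl | rfl | rfl | rfl | rfl
  all_goals
    simp only [List.map_cons, List.map_nil, List.prod_cons, List.prod_nil, mul_one]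
    exact e_mem_H (by norm_num) (by norm_num)

/-! ## The permutation representation -/

/-- the number of points -/
abbrev n : ℕ := 306936

theorem good : Good FiPerm.T FiPerm.iv 16 n := by
  refine ⟨by decide, by decide, fun x hx i hi => (FiPerm.all_chunks i hi).2.1 x hx, ?_⟩
  intro x hx i hi
  have hmem : ([x, FiPerm.iv x], ([] : List ℕ)) ∈ FiPerm.eqPairs := by
    interval_cases x <;> decide
  have := (FiPerm.all_chunks i hi).1 _ hmem
  rw [applyW_cons, applyW_cons, applyW_nil, applyW_nil] at this
  exact this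

/-- the permutation of a letter -/
noncomputable def sg (x : ℕ) : Equiv.Perm (Fin n) := σ FiPerm.T FiPerm.iv 16 n x

/-- the letter assignment -/
noncomputable def eps (x : ℕ) : Equiv.Perm (Fin n) := (sg x)⁻¹

theorem sg_iv (x : ℕ) (hx : x < 16) : sg (FiPerm.iv x) = (sg x)⁻¹ := σ_iv _ _ _ _ good x hx

theorem eps_sq (x : ℕ) (hx : x < 12) : eps x * eps x = 1 := by
  unfold eps
  have h := sg_iv x (by omega)
  have hx' : FiPerm.iv x = x := by interval_cases x <;> rfl
  rw [hx'] at h
  rw [← mul_inv_rev, inv_eq_one]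
  nth_rewrite 1 [h]
  exact inv_mul_cancel _

/-- equal images give equal products -/
theorem eps_eq (u v : List ℕ) (hmem : (u, v) ∈ FiPerm.eqPairs) (hu : ∀ x ∈ u, x < 16)
    (hv : ∀ x ∈ v, x < 16) : (u.map eps).prod = (v.map eps).prod :=
  prod_inv_eq_of_apply_eq _ _ _ _ good u v hu hv
    (fun i hi => (FiPerm.all_chunks i hi).1 _ hmem)

theorem pair2 (x y : ℕ) (hx : x < 12) (hy : y < 12)
    (hmem : ([x, y], [y, x]) ∈ FiPerm.eqPairs) : ([x, y, x, y].map eps).prod = 1 := by
  have h := eps_eq _ _ hmem (by intro z hz; simp at hz; omega) (by intro z hz; simp at hz; omega)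
  simp only [List.map_cons, List.map_nil, List.prod_cons, List.prod_nil, mul_one] at h ⊢
  have := sq_of_comm (eps x) (eps y) (eps_sq x hx) (eps_sq y hy) h
  rw [pow_two] at this
  rw [← mul_assoc]
  exact this

theorem pair3 (x y : ℕ) (hx : x < 12) (hy : y < 12)
    (hmem : ([x, y, x], [y, x, y]) ∈ FiPerm.eqPairs) : ([x, y, x, y, x, y].map eps).prod = 1 := by
  have h := eps_eq _ _ hmem (by intro z hz; simp at hz; omega) (by intro z hz; simp at hz; omega)
  simp only [List.map_cons, List.map_nil, List.prod_cons, List.prod_nil, mul_one] at h ⊢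
  have h' : eps x * eps y * eps x = eps y * eps x * eps y := by
    rw [mul_assoc, mul_assoc]; exact h
  have := cube_of_braid (eps x) (eps y) (eps_sq x hx) (eps_sq y hy) h'
  rw [pow_succ, pow_two] at this
  rw [← this]
  group

theorem prod_flatten_replicate {K : Type*} [Monoid K] (f : ℕ → K) (u : List ℕ) (m : ℕ) :
    (((List.replicate m u).flatten).map f).prod = ((u.map f).prod) ^ m := by
  induction m with
  | zero => simp
  | succ m ih =>
    rw [List.replicate_succ, List.flatten_cons, List.map_append, List.prod_append, ih, pow_succ']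

/-- the word `d c b a k l d e f g j d h i` -/
def uW : List ℕ := [5, 4, 3, 2, 1, 0, 5, 6, 7, 8, 9, 5, 10, 11]

/-- the word `h f e d c b a` -/
def vW : List ℕ := [10, 7, 6, 5, 4, 3, 2]

theorem long1 : (((List.replicate 17 uW).flatten).map eps).prod = 1 := by
  rw [prod_flatten_replicate]
  have h1 : (uW.map eps).prod = eps 12 := by
    have := eps_eq uW [12] (by decide) (by decide) (by decide)
    simpa using this
  have h2 : (eps 12) ^ 17 = 1 := by
    have := eps_eq (List.replicate 17 12) [] (by decide) (by decide) (by decide)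
    rw [List.map_replicate, List.prod_replicate, List.map_nil, List.prod_nil] at this
    exact this
  rw [h1, h2]

theorem long0 : (([0] ++ (List.replicate 9 vW).flatten).map eps).prod = 1 := by
  rw [List.map_append, List.prod_append, prod_flatten_replicate]
  have h1 : (vW.map eps).prod = eps 14 := by
    have := eps_eq vW [14] (by decide) (by decide) (by decide)
    simpa using this
  have h2 : eps 0 * (eps 14) ^ 9 = 1 := by
    have := eps_eq ([0] ++ List.replicate 9 14) [] (by decide) (by decide) (by decide)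
    rw [List.map_append, List.prod_append, List.map_replicate, List.prod_replicate, List.map_nil,
      List.prod_nil, List.map_cons, List.map_nil, List.prod_cons, List.prod_nil, mul_one] at this
    exact this
  rw [h1]
  simpa using h2

set_option maxRecDepth 100000 in
theorem relW66 : relW[66] = [0] ++ (List.replicate 9 vW).flatten := by decide

set_option maxRecDepth 100000 in
theorem relW67 : relW[67] = (List.replicate 17 uW).flatten := by decide

theorem relW_eps : ∀ w ∈ relW, (w.map eps).prod = 1 := by
  intro w hw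
  obtain ⟨t, ht, rfl⟩ := List.getElem_of_mem hw
  have ht' : t < 80 := by rw [relW_length] at ht; exact ht
  interval_cases t
  · exact pair3 0 1 (by norm_num) (by norm_num) (by decide)
  · exact pair2 0 2 (by norm_num) (by norm_num) (by decide)
  · exact pair2 0 3 (by norm_num) (by norm_num) (by decide)
  · exact pair2 0 4 (by norm_num) (by norm_num) (by decide)
  · exact pair2 0 5 (by norm_num) (by norm_num) (by decide)
  · exact pair2 0 6 (by norm_num) (by norm_num) (by decide)
  · exact pair2 0 7 (by norm_num) (by norm_num) (by decide)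
  · exact pair2 0 8 (by norm_num) (by norm_num) (by decide)
  · exact pair2 0 9 (by norm_num) (by norm_num) (by decide)
  · exact pair2 0 10 (by norm_num) (by norm_num) (by decide)
  · exact pair2 0 11 (by norm_num) (by norm_num) (by decide)
  · exact pair3 1 2 (by norm_num) (by norm_num) (by decide)
  · exact pair2 1 3 (by norm_num) (by norm_num) (by decide)
  · exact pair2 1 4 (by norm_num) (by norm_num) (by decide)
  · exact pair2 1 5 (by norm_num) (by norm_num) (by decide)
  · exact pair2 1 6 (by norm_num) (by norm_num) (by decide)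
  · exact pair2 1 7 (by norm_num) (by norm_num) (by decide)
  · exact pair2 1 8 (by norm_num) (by norm_num) (by decide)
  · exact pair2 1 9 (by norm_num) (by norm_num) (by decide)
  · exact pair2 1 10 (by norm_num) (by norm_num) (by decide)
  · exact pair2 1 11 (by norm_num) (by norm_num) (by decide)
  · exact pair3 2 3 (by norm_num) (by norm_num) (by decide)
  · exact pair2 2 4 (by norm_num) (by norm_num) (by decide)
  · exact pair2 2 5 (by norm_num) (by norm_num) (by decide)
  · exact pair2 2 6 (by norm_num) (by norm_num) (by decide)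
  · exact pair2 2 7 (by norm_num) (by norm_num) (by decide)
  · exact pair2 2 8 (by norm_num) (by norm_num) (by decide)
  · exact pair2 2 9 (by norm_num) (by norm_num) (by decide)
  · exact pair2 2 10 (by norm_num) (by norm_num) (by decide)
  · exact pair2 2 11 (by norm_num) (by norm_num) (by decide)
  · exact pair3 3 4 (by norm_num) (by norm_num) (by decide)
  · exact pair2 3 5 (by norm_num) (by norm_num) (by decide)
  · exact pair2 3 6 (by norm_num) (by norm_num) (by decide)
  · exact pair2 3 7 (by norm_num) (by norm_num) (by decide)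
  · exact pair2 3 8 (by norm_num) (by norm_num) (by decide)
  · exact pair2 3 9 (by norm_num) (by norm_num) (by decide)
  · exact pair2 3 10 (by norm_num) (by norm_num) (by decide)
  · exact pair2 3 11 (by norm_num) (by norm_num) (by decide)
  · exact pair3 4 5 (by norm_num) (by norm_num) (by decide)
  · exact pair2 4 6 (by norm_num) (by norm_num) (by decide)
  · exact pair2 4 7 (by norm_num) (by norm_num) (by decide)
  · exact pair2 4 8 (by norm_num) (by norm_num) (by decide)
  · exact pair2 4 9 (by norm_num) (by norm_num) (by decide)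
  · exact pair2 4 10 (by norm_num) (by norm_num) (by decide)
  · exact pair2 4 11 (by norm_num) (by norm_num) (by decide)
  · exact pair3 5 6 (by norm_num) (by norm_num) (by decide)
  · exact pair2 5 7 (by norm_num) (by norm_num) (by decide)
  · exact pair2 5 8 (by norm_num) (by norm_num) (by decide)
  · exact pair2 5 9 (by norm_num) (by norm_num) (by decide)
  · exact pair3 5 10 (by norm_num) (by norm_num) (by decide)
  · exact pair2 5 11 (by norm_num) (by norm_num) (by decide)
  · exact pair3 6 7 (by norm_num) (by norm_num) (by decide)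
  · exact pair2 6 8 (by norm_num) (by norm_num) (by decide)
  · exact pair2 6 9 (by norm_num) (by norm_num) (by decide)
  · exact pair2 6 10 (by norm_num) (by norm_num) (by decide)
  · exact pair2 6 11 (by norm_num) (by norm_num) (by decide)
  · exact pair3 7 8 (by norm_num) (by norm_num) (by decide)
  · exact pair2 7 9 (by norm_num) (by norm_num) (by decide)
  · exact pair2 7 10 (by norm_num) (by norm_num) (by decide)
  · exact pair2 7 11 (by norm_num) (by norm_num) (by decide)
  · exact pair3 8 9 (by norm_num) (by norm_num) (by decide)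
  · exact pair2 8 10 (by norm_num) (by norm_num) (by decide)
  · exact pair2 8 11 (by norm_num) (by norm_num) (by decide)
  · exact pair2 9 10 (by norm_num) (by norm_num) (by decide)
  · exact pair2 9 11 (by norm_num) (by norm_num) (by decide)
  · exact pair3 10 11 (by norm_num) (by norm_num) (by decide)
  · rw [relW66]; exact long0
  · rw [relW67]; exact long1
  · show eps 0 * (eps 0 * 1) = 1
    rw [mul_one]
    exact eps_sq 0 (by norm_num)
  · show eps 1 * (eps 1 * 1) = 1
    rw [mul_one]
    exact eps_sq 1 (by norm_num)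
  · show eps 2 * (eps 2 * 1) = 1
    rw [mul_one]
    exact eps_sq 2 (by norm_num)
  · show eps 3 * (eps 3 * 1) = 1
    rw [mul_one]
    exact eps_sq 3 (by norm_num)
  · show eps 4 * (eps 4 * 1) = 1
    rw [mul_one]
    exact eps_sq 4 (by norm_num)
  · show eps 5 * (eps 5 * 1) = 1
    rw [mul_one]
    exact eps_sq 5 (by norm_num)
  · show eps 6 * (eps 6 * 1) = 1
    rw [mul_one]
    exact eps_sq 6 (by norm_num)
  · show eps 7 * (eps 7 * 1) = 1
    rw [mul_one]
    exact eps_sq 7 (by norm_num)
  · show eps 8 * (eps 8 * 1) = 1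
    rw [mul_one]
    exact eps_sq 8 (by norm_num)
  · show eps 9 * (eps 9 * 1) = 1
    rw [mul_one]
    exact eps_sq 9 (by norm_num)
  · show eps 10 * (eps 10 * 1) = 1
    rw [mul_one]
    exact eps_sq 10 (by norm_num)
  · show eps 11 * (eps 11 * 1) = 1
    rw [mul_one]
    exact eps_sq 11 (by norm_num)

theorem idx_gen : ∀ x < 12, idx (gen x) = x := by decide

set_option maxRecDepth 100000 in
theorem relW_lt : ∀ w ∈ relW, ∀ x ∈ w, x < 12 := by decide

/-- the generator images -/
noncomputable def fgen (u : Gen) : Equiv.Perm (Fin n) := eps (idx u)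

theorem fgen_rels : ∀ r ∈ rels, FreeGroup.lift fgen r = 1 := by
  refine lift_rels fgen (fun u => eps_sq _ (idx_lt u)) ?_
  intro w hw
  have h := relW_eps w hw
  rw [List.map_map]
  rw [← h]
  congr 1
  apply List.map_congr_left
  intro x hx
  show eps (idx (gen x)) = eps x
  rw [idx_gen x (relW_lt w hw x hx)]

/-- the permutation representation on `306936` points -/
noncomputable def phi : G →* Equiv.Perm (Fin n) :=
  PresentedGroup.toGroup (f := fgen) fgen_rels

theorem phi_e (x : ℕ) (hx : x < 12) : phi (e x) = eps x := by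
  unfold phi e
  rw [PresentedGroup.toGroup.of]
  show eps (idx (gen x)) = eps x
  rw [idx_gen x hx]

theorem phi_trans : ∀ i : Fin n, ∃ g : G, phi g ⟨0, by norm_num⟩ = i := by
  refine trans_of_conn' FiPerm.T FiPerm.iv 16 n (by norm_num) phi good 12 (by norm_num) ?_
    (fun i hi hi0 => (FiPerm.all_chunks i hi).2.2 hi0)
  intro x hx
  refine ⟨(e x)⁻¹, ?_⟩
  rw [map_inv, phi_e x hx]
  exact inv_inv _

set_option maxRecDepth 100000 in
theorem T_zero : ∀ x, x < 12 → x ≠ 1 → FiPerm.T x 0 = 0 := by decide +kernel

theorem phi_H : ∀ h ∈ H, phi h ⟨0, by norm_num⟩ = ⟨0, by norm_num⟩ := by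
  intro h hh
  induction hh using Subgroup.closure_induction with
  | mem g hg =>
    obtain ⟨x, h1, h2, rfl⟩ := hg
    rw [phi_e x h1]
    unfold eps
    rw [Equiv.Perm.inv_eq_iff_eq]
    apply Fin.ext
    have hσ : ((sg x ⟨0, by norm_num⟩ : Fin n) : ℕ) = FiPerm.T x 0 :=
      σ_apply _ _ _ _ good x (by omega) _
    rw [hσ]
    exact (T_zero x h1 h2).symm
  | one => rw [map_one]; rfl
  | mul a b _ _ ha hb => rw [map_mul, Equiv.Perm.mul_apply, hb, ha]
  | inv a _ ha => rw [map_inv, Equiv.Perm.inv_eq_iff_eq, ha]

/-- the index, and the stabiliser of the base point -/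
theorem H_index : H.index = 306936 ∧
    ∀ g : G, phi g ⟨0, by norm_num⟩ = ⟨0, by norm_num⟩ → g ∈ H := by
  obtain ⟨h0, h1⟩ := H_index_le
  have hfin : Finite (G ⧸ H) := by
    have : Nat.card (G ⧸ H) ≠ 0 := h0
    exact Nat.finite_of_card_ne_zero this
  exact Cfsg.Agent.Lib.H17.CosetCert.index_eq_and_stab H phi ⟨0, by norm_num⟩ (by norm_num)
    phi_trans phi_H hfin h1

/-- the subgroup of the statement -/
theorem map_closure_eq :
    (Subgroup.closure ({Cfsg.Spor.Fi24.a, Cfsg.Spor.Fi24.b, Cfsg.Spor.Fi24.c, Cfsg.Spor.Fi24.d,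
      Cfsg.Spor.Fi24.e, Cfsg.Spor.Fi24.f, Cfsg.Spor.Fi24.g, Cfsg.Spor.Fi24.h, Cfsg.Spor.Fi24.i,
      Cfsg.Spor.Fi24.j, Cfsg.Spor.Fi24.l} : Set (FreeGroup Cfsg.Spor.Fi24.Gen))).map
      (PresentedGroup.mk rels) = H := by
  rw [MonoidHom.map_closure]
  unfold H
  congr 1
  ext g
  simp only [Set.image_insert_eq, Set.image_singleton, Set.mem_insert_iff, Set.mem_singleton_iff,
    Set.mem_ofPred_eq]
  constructor
  · rintro (rfl | rfl | rfl | rfl | rfl | rfl | rfl | rfl | rfl | rfl | rfl)
    · exact ⟨2, by norm_num, by norm_num, rfl⟩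
    · exact ⟨3, by norm_num, by norm_num, rfl⟩
    · exact ⟨4, by norm_num, by norm_num, rfl⟩
    · exact ⟨5, by norm_num, by norm_num, rfl⟩
    · exact ⟨6, by norm_num, by norm_num, rfl⟩
    · exact ⟨7, by norm_num, by norm_num, rfl⟩
    · exact ⟨8, by norm_num, by norm_num, rfl⟩
    · exact ⟨10, by norm_num, by norm_num, rfl⟩
    · exact ⟨11, by norm_num, by norm_num, rfl⟩
    · exact ⟨9, by norm_num, by norm_num, rfl⟩
    · exact ⟨0, by norm_num, by norm_num, rfl⟩
  · rintro ⟨x, h1, h2, rfl⟩
    interval_cases x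
    · exact Or.inr (Or.inr (Or.inr (Or.inr (Or.inr (Or.inr (Or.inr (Or.inr (Or.inr (Or.inr rfl)))))))))
    · exact absurd rfl h2
    · exact Or.inl rfl
    · exact Or.inr (Or.inl rfl)
    · exact Or.inr (Or.inr (Or.inl rfl))
    · exact Or.inr (Or.inr (Or.inr (Or.inl rfl)))
    · exact Or.inr (Or.inr (Or.inr (Or.inr (Or.inl rfl))))
    · exact Or.inr (Or.inr (Or.inr (Or.inr (Or.inr (Or.inl rfl)))))
    · exact Or.inr (Or.inr (Or.inr (Or.inr (Or.inr (Or.inr (Or.inl rfl))))))
    · exact Or.inr (Or.inr (Or.inr (Or.inr (Or.inr (Or.inr (Or.inr (Or.inr (Or.inr (Or.inl rfl)))))))))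
    · exact Or.inr (Or.inr (Or.inr (Or.inr (Or.inr (Or.inr (Or.inr (Or.inl rfl)))))))
    · exact Or.inr (Or.inr (Or.inr (Or.inr (Or.inr (Or.inr (Or.inr (Or.inr (Or.inl rfl))))))))

end Cfsg.Agent.Lib.H6.FiIndex
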