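import Cfsg.Agent.Lib.H17.CosetPerm

set_option autoImplicit false

/-!
# Permutation representations from coset tables with inverse letters

`T x i` is the image of the point `i` under the letter `x` (a right action: words are applied
letter by letter, first letter first), `iv` is the inverse letter.
-/

namespace Cfsg.Agent.Lib.H6.PermTab

open Cfsg.Agent.Lib.H17.CosetCert

section tables

variable (T : ℕ → ℕ → ℕ)

/-- apply a word, first letter first -/
noncomputable def applyW (w : List ℕ) : ℕ → ℕ :=
  List.rec (motive := fun _ => ℕ → ℕ) (fun i => i)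
    (fun x _ ih i => force (T x i) ih) w

theorem applyW_nil (i : ℕ) : applyW T [] i = i := rfl

theorem applyW_cons (x : ℕ) (w : List ℕ) (i : ℕ) :
    applyW T (x :: w) i = applyW T w (T x i) := by
  change force (T x i) (applyW T w) = _
  rw [force_eq]

theorem applyW_append (u v : List ℕ) (i : ℕ) :
    applyW T (u ++ v) i = applyW T v (applyW T u i) := by
  induction u generalizing i with
  | nil => rfl
  | cons x u ih => rw [List.cons_append, applyW_cons, applyW_cons, ih]

/-- the word fixes the points `lo, …, lo + n - 1` -/
noncomputable def checkWord (w : List ℕ) (lo n : ℕ) : Bool :=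
  Nat.rec (motive := fun _ => Bool) true
    (fun k ih => force (Nat.add lo k) fun i => cond (Nat.beq (applyW T w i) i) ih false) n

theorem checkWord_sound (w : List ℕ) (lo n : ℕ) (h : checkWord T w lo n = true) :
    ∀ i, lo ≤ i → i < lo + n → applyW T w i = i := by
  induction n with
  | zero => intro i h1 h2; omega
  | succ n ih =>
    have h' : force (Nat.add lo n) (fun i => cond (Nat.beq (applyW T w i) i)
        (checkWord T w lo n) false) = true := h
    rw [force_eq] at h'
    cases hb : Nat.beq (applyW T w (Nat.add lo n)) (Nat.add lo n) with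
    | false => rw [hb] at h'; exact absurd h' (by simp)
    | true =>
      rw [hb] at h'
      intro i h1 h2
      rcases Nat.lt_succ_iff_lt_or_eq.mp (show i < (lo + n) + 1 by omega) with hlt | rfl
      · exact ih h' i h1 hlt
      · exact Nat.eq_of_beq_eq_true hb

/-- all words of a list fix the points `lo, …, lo + n - 1` -/
noncomputable def checkWords (ws : List (List ℕ)) (lo n : ℕ) : Bool :=
  List.rec (motive := fun _ => Bool) true
    (fun w _ ih => cond (checkWord T w lo n) ih false) ws

theorem checkWords_sound (ws : List (List ℕ)) (lo n : ℕ) (h : checkWords T ws lo n = true) :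
    ∀ w ∈ ws, ∀ i, lo ≤ i → i < lo + n → applyW T w i = i := by
  induction ws with
  | nil => intro w hw; exact absurd hw (by simp)
  | cons w0 ws ih =>
    have h' : cond (checkWord T w0 lo n) (checkWords T ws lo n) false = true := h
    cases hb : checkWord T w0 lo n with
    | false => rw [hb] at h'; exact absurd h' (by simp)
    | true =>
      rw [hb] at h'
      intro w hw
      rcases List.mem_cons.mp hw with rfl | hw'
      · exact checkWord_sound T _ lo n hb
      · exact ih h' w hw'

/-- the letters `x < ng` map the points `lo, …, lo + n - 1` below `N` -/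
noncomputable def checkRange (ng N lo n : ℕ) : Bool :=
  Nat.rec (motive := fun _ => Bool) true
    (fun k ih => force (Nat.add lo k) fun i =>
      cond (Nat.rec (motive := fun _ => Bool) true
        (fun x ihx => cond (Nat.blt (T x i) N) ihx false) ng) ih false) n

theorem checkRange_sound (ng N lo n : ℕ) (h : checkRange T ng N lo n = true) :
    ∀ i, lo ≤ i → i < lo + n → ∀ x < ng, T x i < N := by
  induction n with
  | zero => intro i h1 h2; omega
  | succ n ih =>
    have h' : force (Nat.add lo n) (fun i =>
      cond (Nat.rec (motive := fun _ => Bool) true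
        (fun x ihx => cond (Nat.blt (T x i) N) ihx false) ng) (checkRange T ng N lo n) false)
          = true := h
    rw [force_eq] at h'
    have inner : ∀ (m : ℕ) (j : ℕ), Nat.rec (motive := fun _ => Bool) true
        (fun x ihx => cond (Nat.blt (T x j) N) ihx false) m = true → ∀ x < m, T x j < N := by
      intro m j
      induction m with
      | zero => intro _ x hx; omega
      | succ m ihm =>
        intro hm x hx
        have hm' : cond (Nat.blt (T m j) N) (Nat.rec (motive := fun _ => Bool) true
          (fun x ihx => cond (Nat.blt (T x j) N) ihx false) m) false = true := hm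
        cases hb : Nat.blt (T m j) N with
        | false => rw [hb] at hm'; exact absurd hm' (by simp)
        | true =>
          rw [hb] at hm'
          rcases Nat.lt_succ_iff_lt_or_eq.mp hx with hlt | rfl
          · exact ihm hm' x hlt
          · simpa [Nat.blt_eq] using hb
    cases hb : Nat.rec (motive := fun _ => Bool) true
        (fun x ihx => cond (Nat.blt (T x (Nat.add lo n)) N) ihx false) ng with
    | false => rw [hb] at h'; exact absurd h' (by simp)
    | true =>
      rw [hb] at h'
      intro i h1 h2
      rcases Nat.lt_succ_iff_lt_or_eq.mp (show i < (lo + n) + 1 by omega) with hlt | rfl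
      · exact ih h' i h1 hlt
      · exact inner ng _ hb

/-- some letter `x < ng` sends each of the points `lo, …, lo + n - 1` (other than `0`) to a
smaller point -/
noncomputable def checkConn (ng lo n : ℕ) : Bool :=
  Nat.rec (motive := fun _ => Bool) true
    (fun k ih => force (Nat.add lo k) fun i =>
      cond (Nat.beq i 0) ih
        (cond (Nat.rec (motive := fun _ => Bool) false
          (fun x ihx => cond (Nat.blt (T x i) i) true ihx) ng) ih false)) n

theorem checkConn_sound (ng lo n : ℕ) (h : checkConn T ng lo n = true) :
    ∀ i, lo ≤ i → i < lo + n → i ≠ 0 → ∃ x < ng, T x i < i := by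
  induction n with
  | zero => intro i h1 h2; omega
  | succ n ih =>
    have h' : force (Nat.add lo n) (fun i =>
      cond (Nat.beq i 0) (checkConn T ng lo n)
        (cond (Nat.rec (motive := fun _ => Bool) false
          (fun x ihx => cond (Nat.blt (T x i) i) true ihx) ng) (checkConn T ng lo n) false))
          = true := h
    rw [force_eq] at h'
    have inner : ∀ (m : ℕ) (j : ℕ), Nat.rec (motive := fun _ => Bool) false
        (fun x ihx => cond (Nat.blt (T x j) j) true ihx) m = true → ∃ x < m, T x j < j := by
      intro m j
      induction m with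
      | zero => intro hm; exact absurd hm (by simp)
      | succ m ihm =>
        intro hm
        have hm' : cond (Nat.blt (T m j) j) true (Nat.rec (motive := fun _ => Bool) false
          (fun x ihx => cond (Nat.blt (T x j) j) true ihx) m) = true := hm
        cases hb : Nat.blt (T m j) j with
        | true => exact ⟨m, Nat.lt_succ_self m, by simpa [Nat.blt_eq] using hb⟩
        | false =>
          rw [hb] at hm'
          obtain ⟨x, hx, hlt⟩ := ihm hm'
          exact ⟨x, Nat.lt_succ_of_lt hx, hlt⟩
    have hrest : checkConn T ng lo n = true := by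
      cases hb : Nat.beq (Nat.add lo n) 0 with
      | true => rw [hb] at h'; exact h'
      | false =>
        rw [hb] at h'
        cases ha : Nat.rec (motive := fun _ => Bool) false
            (fun x ihx => cond (Nat.blt (T x (Nat.add lo n)) (Nat.add lo n)) true ihx) ng with
        | true => rw [ha] at h'; exact h'
        | false => rw [ha] at h'; exact absurd h' (by simp)
    intro i h1 h2 hi0
    rcases Nat.lt_succ_iff_lt_or_eq.mp (show i < (lo + n) + 1 by omega) with hlt | rfl
    · exact ih hrest i h1 hlt hi0
    · have hb : Nat.beq (Nat.add lo n) 0 = false := by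
        cases hb : Nat.beq (Nat.add lo n) 0 with
        | false => rfl
        | true => exact absurd (Nat.eq_of_beq_eq_true hb) hi0
      rw [hb] at h'
      cases ha : Nat.rec (motive := fun _ => Bool) false
          (fun x ihx => cond (Nat.blt (T x (Nat.add lo n)) (Nat.add lo n)) true ihx) ng with
      | true => exact inner ng _ ha
      | false => rw [ha] at h'; exact absurd h' (by simp)

end tables

section perms

variable (T : ℕ → ℕ → ℕ) (iv : ℕ → ℕ) (ng n : ℕ)

/-- the tables define permutations of the points `< n`, the table of `iv x` being inverse to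
that of `x` -/
def Good : Prop :=
  (∀ x < ng, iv x < ng) ∧ (∀ x < ng, iv (iv x) = x) ∧ (∀ x < ng, ∀ i < n, T x i < n) ∧
    (∀ x < ng, ∀ i < n, T (iv x) (T x i) = i)

open Classical in
/-- the permutation of a letter (the identity for letters `≥ ng` or bad tables) -/
noncomputable def σ (x : ℕ) : Equiv.Perm (Fin n) :=
  if h : Good T iv ng n ∧ x < ng then
    { toFun := fun i => ⟨T x i, h.1.2.2.1 x h.2 i i.2⟩
      invFun := fun i => ⟨T (iv x) i, h.1.2.2.1 (iv x) (h.1.1 x h.2) i i.2⟩
      left_inv := fun i => Fin.ext (h.1.2.2.2 x h.2 i i.2)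
      right_inv := fun i => Fin.ext (by
        have := h.1.2.2.2 (iv x) (h.1.1 x h.2) i i.2
        rw [h.1.2.1 x h.2] at this
        exact this) }
  else 1

theorem σ_apply (hg : Good T iv ng n) (x : ℕ) (hx : x < ng) (i : Fin n) :
    ((σ T iv ng n x i : Fin n) : ℕ) = T x i := by
  unfold σ
  rw [dif_pos ⟨hg, hx⟩]
  rfl

theorem σ_iv (hg : Good T iv ng n) (x : ℕ) (hx : x < ng) :
    σ T iv ng n (iv x) = (σ T iv ng n x)⁻¹ := by
  rw [eq_inv_iff_mul_eq_one]
  ext i
  rw [Equiv.Perm.mul_apply, σ_apply T iv ng n hg (iv x) (hg.1 x hx), σ_apply T iv ng n hg x hx]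
  exact hg.2.2.2 x hx i i.2

theorem prod_reverse_apply (hg : Good T iv ng n) (w : List ℕ) (hw : ∀ x ∈ w, x < ng)
    (i : Fin n) :
    ((((w.map (σ T iv ng n)).reverse.prod) i : Fin n) : ℕ) = applyW T w i := by
  induction w generalizing i with
  | nil => simp [applyW_nil]
  | cons x w ih =>
    rw [List.map_cons, List.reverse_cons, List.prod_append, List.prod_singleton,
      Equiv.Perm.mul_apply, ih (fun y hy => hw y (List.mem_cons_of_mem _ hy)), applyW_cons,
      σ_apply T iv ng n hg x (hw x List.mem_cons_self)]

/-- a word fixing all points gives the trivial product of the inverse permutations -/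
theorem prod_inv_eq_one (hg : Good T iv ng n) (w : List ℕ) (hw : ∀ x ∈ w, x < ng)
    (h : ∀ i < n, applyW T w i = i) : (w.map fun x => (σ T iv ng n x)⁻¹).prod = 1 := by
  have h1 : (w.map (σ T iv ng n)).reverse.prod = 1 := by
    ext i
    rw [prod_reverse_apply T iv ng n hg w hw i, h i i.2]
    rfl
  have h2 : (w.map fun x => (σ T iv ng n x)⁻¹).prod = ((w.map (σ T iv ng n)).reverse.prod)⁻¹ := by
    rw [List.prod_inv_reverse, List.map_reverse, List.reverse_reverse, List.map_map]
    rfl
  rw [h2, h1, inv_one]

/-- transitivity from the connectivity check -/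
theorem trans_of_conn {G : Type*} [Group G] (hn : 0 < n) (φ : G →* Equiv.Perm (Fin n))
    (hg : Good T iv ng n) (hφ : ∀ x < ng, ∃ g : G, φ g = σ T iv ng n x)
    (hs : ∀ i < n, i ≠ 0 → ∃ x < ng, T x i < i) :
    ∀ i : Fin n, ∃ g : G, φ g ⟨0, hn⟩ = i := by
  have key : ∀ r : ℕ, ∀ i : Fin n, (i : ℕ) = r → ∃ g : G, φ g i = ⟨0, hn⟩ := by
    intro r
    induction r using Nat.strong_induction_on with
    | _ r ih =>
      intro i hir
      by_cases hi0 : (i : ℕ) = 0
      · exact ⟨1, by rw [map_one]; exact Fin.ext hi0⟩
      · obtain ⟨x, hx, hlt⟩ := hs i i.2 hi0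
        obtain ⟨gt, hgt⟩ := hφ x hx
        have hj : T x i < n := hg.2.2.1 x hx i i.2
        obtain ⟨g', hg'⟩ := ih _ (by rw [← hir]; exact hlt) ⟨T x i, hj⟩ rfl
        refine ⟨g' * gt, ?_⟩
        rw [map_mul, Equiv.Perm.mul_apply, hgt]
        have : σ T iv ng n x i = ⟨T x i, hj⟩ := Fin.ext (σ_apply T iv ng n hg x hx i)
        rw [this, hg']
  intro i
  obtain ⟨g, hg'⟩ := key _ i rfl
  refine ⟨g⁻¹, ?_⟩
  rw [map_inv, ← hg']
  simp

end perms

end Cfsg.Agent.Lib.H6.PermTab
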