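import Mathlib
import Cfsg.Agent.Lib.H17.HJDefs

/-!
# S3313 piece GAUSS: the number of solutions of `x² = 1` in an extraspecial group of order 32
-/

set_option autoImplicit false

namespace Cfsg.Agent.Lib.H6.HJ

open Cfsg Cfsg.Agent.Lib.H17.HJ

/-- abstract extraspecial-type data on a finite group `P` with a distinguished central involution. -/
structure XS (P : Type*) [Group P] (zq : P) : Prop where
  z_ne : zq ≠ 1
  z_sq : zq * zq = 1
  z_comm : ∀ x : P, zq * x = x * zq
  sq : ∀ x : P, x * x = 1 ∨ x * x = zq
  comm : ∀ x y : P, x * y = y * x ∨ x * y = zq * (y * x)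
  center : ∀ x : P, (∀ y : P, x * y = y * x) → x = 1 ∨ x = zq

section xs

variable {P : Type*} [Group P] [Fintype P] [DecidableEq P] {zq : P}

/-- the sign of an element of `{1, z}` -/
def chi (a : P) : ℤ := if a = 1 then 1 else -1

/-- the sign of the square -/
def fS (x : P) : ℤ := chi (x * x)

/-- the commutation sign -/
def cS (d x : P) : ℤ := if d * x = x * d then 1 else -1

theorem chi_one : chi (1 : P) = 1 := by simp [chi]

theorem chi_z (h : XS P zq) : chi zq = -1 := by simp [chi, h.z_ne]

theorem chi_mul (h : XS P zq) {a b : P} (ha : a = 1 ∨ a = zq) (hb : b = 1 ∨ b = zq) :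
    chi (a * b) = chi a * chi b := by
  rcases ha with rfl | rfl <;> rcases hb with rfl | rfl
  · simp [chi]
  · simp [chi, h.z_ne]
  · simp [chi, h.z_ne]
  · simp [chi, h.z_ne, h.z_sq]

theorem chi_z_mul (h : XS P zq) {a : P} (ha : a = 1 ∨ a = zq) : chi (zq * a) = - chi a := by
  rcases ha with rfl | rfl
  · simp [chi, h.z_ne]
  · simp [chi, h.z_ne, h.z_sq]

theorem chi_sq (a : P) : chi a * chi a = 1 := by
  unfold chi; split_ifs <;> norm_num

theorem fS_sq (x : P) : fS x * fS x = 1 := chi_sq _

theorem fS_mul (h : XS P zq) (x d : P) : fS (x * d) = fS x * fS d * cS d x := by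
  unfold fS cS
  rcases h.comm d x with hc | hc
  · have h1 : (x * d) * (x * d) = (x * x) * (d * d) := by
      calc (x * d) * (x * d) = x * (d * x) * d := by group
        _ = x * (x * d) * d := by rw [hc]
        _ = (x * x) * (d * d) := by group
    rw [h1, chi_mul h (h.sq x) (h.sq d), if_pos hc, mul_one]
  · have hne : d * x ≠ x * d := by
      intro h2
      rw [h2] at hc
      have : zq = 1 := by
        have h3 : zq * (x * d) = 1 * (x * d) := by rw [one_mul]; exact hc.symm
        exact mul_right_cancel h3
      exact h.z_ne this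
    have h1 : (x * d) * (x * d) = zq * ((x * x) * (d * d)) := by
      calc (x * d) * (x * d) = x * (d * x) * d := by group
        _ = x * (zq * (x * d)) * d := by rw [hc]
        _ = (x * zq) * (x * d) * d := by group
        _ = (zq * x) * (x * d) * d := by rw [h.z_comm x]
        _ = zq * ((x * x) * (d * d)) := by group
    have hab : (x * x) * (d * d) = 1 ∨ (x * x) * (d * d) = zq := by
      rcases h.sq x with e1 | e1 <;> rcases h.sq d with e2 | e2 <;> rw [e1, e2]
      · left; simp
      · right; simp
      · right; simp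
      · left; exact h.z_sq
    rw [h1, chi_z_mul h hab, chi_mul h (h.sq x) (h.sq d), if_neg hne]
    ring

theorem cS_mul (h : XS P zq) (d x y : P) : cS d (x * y) = cS d x * cS d y := by
  unfold cS
  have key : ∀ {u : P}, d * u = zq * (u * d) → d * u ≠ u * d := by
    intro u hc h2
    rw [h2] at hc
    have : zq = 1 := by
      have h3 : zq * (u * d) = 1 * (u * d) := by rw [one_mul]; exact hc.symm
      exact mul_right_cancel h3
    exact h.z_ne this
  rcases h.comm d x with hx | hx <;> rcases h.comm d y with hy | hy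
  · have : d * (x * y) = (x * y) * d := by
      calc d * (x * y) = (d * x) * y := by group
        _ = (x * d) * y := by rw [hx]
        _ = x * (d * y) := by group
        _ = x * (y * d) := by rw [hy]
        _ = (x * y) * d := by group
    rw [if_pos this, if_pos hx, if_pos hy]; norm_num
  · have : d * (x * y) = zq * ((x * y) * d) := by
      calc d * (x * y) = (d * x) * y := by group
        _ = (x * d) * y := by rw [hx]
        _ = x * (d * y) := by group
        _ = x * (zq * (y * d)) := by rw [hy]
        _ = (x * zq) * (y * d) := by group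
        _ = (zq * x) * (y * d) := by rw [h.z_comm x]
        _ = zq * ((x * y) * d) := by group
    rw [if_neg (key this), if_pos hx, if_neg (key hy)]; norm_num
  · have : d * (x * y) = zq * ((x * y) * d) := by
      calc d * (x * y) = (d * x) * y := by group
        _ = (zq * (x * d)) * y := by rw [hx]
        _ = zq * (x * (d * y)) := by group
        _ = zq * (x * (y * d)) := by rw [hy]
        _ = zq * ((x * y) * d) := by group
    rw [if_neg (key this), if_neg (key hx), if_pos hy]; norm_num
  · have : d * (x * y) = (x * y) * d := by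
      calc d * (x * y) = (d * x) * y := by group
        _ = (zq * (x * d)) * y := by rw [hx]
        _ = zq * (x * (d * y)) := by group
        _ = zq * (x * (zq * (y * d))) := by rw [hy]
        _ = zq * ((x * zq) * (y * d)) := by group
        _ = zq * ((zq * x) * (y * d)) := by rw [h.z_comm x]
        _ = (zq * zq) * ((x * y) * d) := by group
        _ = (x * y) * d := by rw [h.z_sq, one_mul]
    rw [if_pos this, if_neg (key hx), if_neg (key hy)]; norm_num

theorem sum_cS (h : XS P zq) (d : P) :
    ∑ x : P, cS d x = if d = 1 ∨ d = zq then (Fintype.card P : ℤ) else 0 := by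
  by_cases hd : ∀ y : P, d * y = y * d
  · have h1 : d = 1 ∨ d = zq := h.center d hd
    rw [if_pos h1]
    have : ∀ x : P, cS d x = 1 := fun x => by unfold cS; rw [if_pos (hd x)]
    simp [this]
  · have h1 : ¬ (d = 1 ∨ d = zq) := by
      rintro (rfl | rfl)
      · exact hd fun y => by simp
      · exact hd fun y => h.z_comm y
    rw [if_neg h1]
    push Not at hd
    obtain ⟨y₀, hy₀⟩ := hd
    have hc : cS d y₀ = -1 := by unfold cS; rw [if_neg hy₀]
    have h2 : ∑ x : P, cS d x = ∑ x : P, cS d (x * y₀) :=
      (Equiv.sum_comp (Equiv.mulRight y₀) (fun x => cS d x)).symm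
    have h3 : ∑ x : P, cS d (x * y₀) = - ∑ x : P, cS d x := by
      rw [← Finset.sum_neg_distrib]
      refine Finset.sum_congr rfl fun x _ => ?_
      rw [cS_mul h, hc]; ring
    linarith

theorem sum_fS_sq (h : XS P zq) : (∑ x : P, fS x) * (∑ x : P, fS x) = 2 * (Fintype.card P : ℤ) := by
  have h1 : (∑ x : P, fS x) * (∑ y : P, fS y) = ∑ x : P, ∑ d : P, fS x * fS (x * d) := by
    rw [Finset.sum_mul]
    refine Finset.sum_congr rfl fun x _ => ?_
    rw [Finset.mul_sum]
    exact (Equiv.sum_comp (Equiv.mulLeft x) (fun y => fS x * fS y)).symm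
  rw [h1]
  have h2 : ∀ x d : P, fS x * fS (x * d) = fS d * cS d x := by
    intro x d
    rw [fS_mul h]
    calc fS x * (fS x * fS d * cS d x) = (fS x * fS x) * (fS d * cS d x) := by ring
      _ = fS d * cS d x := by rw [fS_sq, one_mul]
  simp_rw [h2]
  rw [Finset.sum_comm]
  simp_rw [← Finset.mul_sum, sum_cS h]
  have h3 : ∀ d : P, fS d * (if d = 1 ∨ d = zq then (Fintype.card P : ℤ) else 0) =
      (if d = 1 then (Fintype.card P : ℤ) else 0) + (if d = zq then (Fintype.card P : ℤ) else 0) := by
    intro d
    by_cases h1 : d = 1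
    · subst h1
      have : (1 : P) ≠ zq := fun e => h.z_ne e.symm
      simp [fS, chi, this]
    · by_cases h2 : d = zq
      · subst h2
        simp [fS, chi, h.z_sq, h1]
      · simp [h1, h2]
  simp_rw [h3]
  rw [Finset.sum_add_distrib, Finset.sum_ite_eq' Finset.univ (1 : P),
    Finset.sum_ite_eq' Finset.univ zq]
  simp
  ring

theorem card_filter_sq (h : XS P zq) (h32 : Fintype.card P = 32) :
    (Finset.univ.filter fun x : P => x * x = 1).card = 12 ∨
      (Finset.univ.filter fun x : P => x * x = 1).card = 20 := by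
  set N : ℕ := (Finset.univ.filter fun x : P => x * x = 1).card with hN
  set N' : ℕ := (Finset.univ.filter fun x : P => ¬ x * x = 1).card with hN'
  have hsum : N + N' = 32 := by
    rw [hN, hN', Finset.card_filter_add_card_filter_not, Finset.card_univ, h32]
  have hS : ∑ x : P, fS x = (N : ℤ) - (N' : ℤ) := by
    unfold fS chi
    rw [Finset.sum_ite, Finset.sum_const, Finset.sum_const, hN, hN']
    simp
    ring
  have h64 := sum_fS_sq h
  rw [hS, h32] at h64
  have hN'eq : (N' : ℤ) = 32 - N := by
    have : (N : ℤ) + N' = 32 := by exact_mod_cast hsum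
    linarith
  rw [hN'eq] at h64
  have h5 : ((N : ℤ) - 12) * ((N : ℤ) - 20) = 0 := by
    push_cast at h64
    nlinarith
  rcases mul_eq_zero.mp h5 with h6 | h6
  · left
    have : (N : ℤ) = 12 := by linarith
    exact_mod_cast this
  · right
    have : (N : ℤ) = 20 := by linarith
    exact_mod_cast this

end xs

/-- the structure `XS` on `↥Q` from `QData`. -/
theorem xs_of_qdata {G : Type*} [Group G] {z : G} {Q : Subgroup G} (hQ : QData z Q) :
    XS ↥Q ⟨z, hQ.z_mem⟩ where
  z_ne := fun h => hQ.z_ne (congrArg Subtype.val h)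
  z_sq := Subtype.ext hQ.z_sq
  z_comm := fun x => Subtype.ext (hQ.z_comm x x.2)
  sq := fun x => (hQ.sq x x.2).imp (fun h => Subtype.ext h) (fun h => Subtype.ext h)
  comm := fun x y => (hQ.comm x x.2 y y.2).imp (fun h => Subtype.ext h) (fun h => Subtype.ext h)
  center := fun x hx => by
    have := hQ.center x x.2 (fun y hy => congrArg Subtype.val (hx ⟨y, hy⟩))
    exact this.imp (fun h => Subtype.ext h) (fun h => Subtype.ext h)

/-- the count in `G` equals the count in `↥Q`. -/
theorem card_sq_eq_filter {G : Type*} [Group G] (Q : Subgroup G) [Fintype ↥Q] [DecidableEq ↥Q] :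
    Nat.card {x : G // x ∈ Q ∧ x * x = 1} = (Finset.univ.filter fun x : ↥Q => x * x = 1).card := by
  have e : {x : ↥Q // x * x = 1} ≃ {x : G // x ∈ Q ∧ x * x = 1} :=
    { toFun := fun x => ⟨x.1.1, x.1.2, congrArg Subtype.val x.2⟩
      invFun := fun x => ⟨⟨x.1, x.2.1⟩, Subtype.ext x.2.2⟩
      left_inv := fun x => rfl
      right_inv := fun x => rfl }
  rw [← Nat.card_congr e, Nat.card_eq_fintype_card, Fintype.card_subtype]

/-- **Piece GAUSS.** -/
theorem card_sq_eq_one {G : Type*} [Group G] {z : G} {Q : Subgroup G} (hQ : QData z Q) :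
    Nat.card {x : G // x ∈ Q ∧ x * x = 1} = 12 ∨ Nat.card {x : G // x ∈ Q ∧ x * x = 1} = 20 := by
  classical
  have : Finite ↥Q := Nat.finite_of_card_ne_zero (by rw [hQ.card]; norm_num)
  let _ : Fintype ↥Q := Fintype.ofFinite ↥Q
  have h32 : Fintype.card ↥Q = 32 := by rw [← Nat.card_eq_fintype_card]; exact hQ.card
  rw [card_sq_eq_filter Q]
  exact card_filter_sq (xs_of_qdata hQ) h32

end Cfsg.Agent.Lib.H6.HJ
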