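import Mathlib
import Cfsg.Agent.Lib.H17.HJDefs
import Cfsg.Agent.Lib.H6.HJGAUSS

/-!
# S3313 piece FPF5: an element of order 5 acting non-trivially on `Q` forces `12` solutions of `x² = 1`
-/

set_option autoImplicit false

namespace Cfsg.Agent.Lib.H6.HJ

open Cfsg Cfsg.Agent.Lib.H17.HJ

/-- five-fold conjugation -/
theorem conj_five {G : Type*} [Group G] (k : G) (hk5 : k ^ 5 = 1) (q : G) :
    k * (k * (k * (k * (k * q * k⁻¹) * k⁻¹) * k⁻¹) * k⁻¹) * k⁻¹ = q := by
  have e : k * (k * (k * (k * (k * q * k⁻¹) * k⁻¹) * k⁻¹) * k⁻¹) * k⁻¹ = k ^ 5 * q * (k ^ 5)⁻¹ := by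
    simp only [pow_succ, pow_zero, one_mul, mul_inv_rev, mul_assoc]
  rw [e, hk5, inv_one, one_mul, mul_one]

/-- a self-map of a finite type whose fifth iterate is the identity: `card ≡ #fixed points mod 5` -/
theorem card_modEq_fixed_five {α : Type*} [Fintype α] [DecidableEq α] (f : α → α)
    (hf : ∀ x, f (f (f (f (f x)))) = x) :
    Fintype.card α ≡ Fintype.card {x : α // f x = x} [MOD 5] := by
  have : Fact (Nat.Prime 5) := ⟨by norm_num⟩
  let F : Function.End α := f
  have hF : F ^ 5 ^ 1 = 1 := by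
    rw [pow_one]
    have : F ^ 5 = F * (F * (F * (F * F))) := by
      simp [pow_succ, mul_assoc]
    rw [this]
    funext x
    exact hf x
  have h1 := Equiv.Perm.card_fixedPoints_modEq (f := F) (p := 5) (n := 1) hF
  have h2 : Fintype.card (Function.fixedPoints F) = Fintype.card {x : α // f x = x} :=
    Fintype.card_congr (Equiv.refl _)
  rw [← h2]
  exact h1

/-- **Piece FPF5.** -/
theorem card_sq_eq_one_twelve {G : Type*} [Group G] {z : G} {Q : Subgroup G} (hQ : QData z Q)
    (k : G) (hk : orderOf k = 5) (hkz : k * z = z * k) (hkQ : ∀ q ∈ Q, k * q * k⁻¹ ∈ Q)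
    (hkc : ¬ ∀ q ∈ Q, k * q = q * k) :
    Nat.card {x : G // x ∈ Q ∧ x * x = 1} = 12 := by
  classical
  have : Finite ↥Q := Nat.finite_of_card_ne_zero (by rw [hQ.card]; norm_num)
  let _ : Fintype ↥Q := Fintype.ofFinite ↥Q
  have h32 : Fintype.card ↥Q = 32 := by rw [← Nat.card_eq_fintype_card]; exact hQ.card
  have hk5 : k ^ 5 = 1 := by rw [← hk]; exact pow_orderOf_eq_one k
  -- the conjugation map on `Q`
  let f : ↥Q → ↥Q := fun q => ⟨k * q * k⁻¹, hkQ q q.2⟩
  have hf5 : ∀ q : ↥Q, f (f (f (f (f q)))) = q := fun q => Subtype.ext (conj_five k hk5 q)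
  have hfix : ∀ q : ↥Q, f q = q ↔ k * (q : G) = q * k := by
    intro q
    constructor
    · intro h
      have := congrArg Subtype.val h
      simp only [f] at this
      calc k * (q : G) = (k * q * k⁻¹) * k := by group
        _ = q * k := by rw [this]
    · intro h
      apply Subtype.ext
      show k * (q : G) * k⁻¹ = q
      rw [h]; group
  -- step 1 : the centralizer of `k` in `Q`
  let C : Subgroup G := Q ⊓ Subgroup.centralizer ({k} : Set G)
  have hmemC : ∀ x : G, x ∈ C ↔ x ∈ Q ∧ k * x = x * k := by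
    intro x
    show x ∈ Q ∧ x ∈ Subgroup.centralizer ({k} : Set G) ↔ _
    rw [Subgroup.mem_centralizer_iff]
    constructor
    · rintro ⟨h1, h2⟩; exact ⟨h1, h2 k rfl⟩
    · rintro ⟨h1, h2⟩
      refine ⟨h1, fun y hy => ?_⟩
      rw [Set.mem_singleton_iff.mp hy]; exact h2
  have hCcard : Nat.card ↥C = Fintype.card {q : ↥Q // f q = q} := by
    rw [← Nat.card_eq_fintype_card]
    refine Nat.card_congr
      { toFun := fun x => ⟨⟨x.1, ((hmemC x.1).1 x.2).1⟩, (hfix _).2 ((hmemC x.1).1 x.2).2⟩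
        invFun := fun q => ⟨q.1.1, (hmemC _).2 ⟨q.1.2, (hfix _).1 q.2⟩⟩
        left_inv := fun x => rfl
        right_inv := fun q => rfl }
  have hmod1 := card_modEq_fixed_five f hf5
  rw [h32, ← hCcard] at hmod1
  have hCle : C ≤ Q := inf_le_left
  have : Finite ↥C := Finite.of_injective (Subgroup.inclusion hCle) (Subgroup.inclusion_injective hCle)
  have hCdvd : Nat.card ↥C ∣ 32 := by
    rw [← hQ.card]; exact Subgroup.card_dvd_of_le hCle
  have hCne : Nat.card ↥C ≠ 32 := by
    intro h
    apply hkc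
    have hCQ : C = Q := Subgroup.eq_of_le_of_card_ge hCle (by rw [h, hQ.card])
    intro q hq
    have : q ∈ C := by rw [hCQ]; exact hq
    exact ((hmemC q).1 this).2
  have hC2 : Nat.card ↥C = 2 := by
    have h25 : (32 : ℕ) = 2 ^ 5 := by norm_num
    rw [h25] at hCdvd
    obtain ⟨m, hm, hmc⟩ := (Nat.dvd_prime_pow Nat.prime_two).1 hCdvd
    rw [hmc] at hmod1 hCne ⊢
    interval_cases m <;> simp_all (config := {decide := true})
  have hz1 : z ≠ 1 := hQ.z_ne
  have hzC : z ∈ C := (hmemC z).2 ⟨hQ.z_mem, hkz⟩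
  have hordz : orderOf z = 2 := by
    have : Fact (Nat.Prime 2) := ⟨Nat.prime_two⟩
    exact orderOf_eq_prime (by rw [pow_two]; exact hQ.z_sq) hz1
  have hCz : C = Subgroup.zpowers z := by
    symm
    refine Subgroup.eq_of_le_of_card_ge ((Subgroup.zpowers_le).2 hzC) ?_
    rw [hC2, Nat.card_zpowers, hordz]
  have hCelts : ∀ x : G, x ∈ Q → k * x = x * k → x = 1 ∨ x = z := by
    intro x hx hkx
    have : x ∈ C := (hmemC x).2 ⟨hx, hkx⟩
    rw [hCz, Subgroup.mem_zpowers_iff] at this
    obtain ⟨i, rfl⟩ := this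
    rcases Int.emod_two_eq_zero_or_one i with h | h
    · left
      have : i = 2 * (i / 2) := by omega
      rw [this, zpow_mul, zpow_two, hQ.z_sq, one_zpow]
    · right
      have : i = 2 * (i / 2) + 1 := by omega
      rw [this, zpow_add, zpow_mul, zpow_two, hQ.z_sq, one_zpow, one_mul, zpow_one]
  -- step 2 : the action on the solutions of `x² = 1`
  let T := {x : ↥Q // x * x = 1}
  have hTf : ∀ x : ↥Q, x * x = 1 → f x * f x = 1 := by
    intro x hx
    apply Subtype.ext
    show (k * (x : G) * k⁻¹) * (k * (x : G) * k⁻¹) = 1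
    have h1 : ((x : G) * (x : G)) = 1 := congrArg Subtype.val hx
    calc (k * (x : G) * k⁻¹) * (k * (x : G) * k⁻¹) = k * ((x : G) * (x : G)) * k⁻¹ := by group
      _ = 1 := by rw [h1]; group
  let g : T → T := fun x => ⟨f x.1, hTf x.1 x.2⟩
  have hg5 : ∀ x : T, g (g (g (g (g x)))) = x := fun x => Subtype.ext (hf5 x.1)
  have hmod2 := card_modEq_fixed_five g hg5
  -- the fixed points of `g` are `1` and `z`
  have hfixcard : Fintype.card {x : T // g x = x} = 2 := by
    let one' : {x : T // g x = x} := ⟨⟨1, by simp⟩, by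
      apply Subtype.ext; apply Subtype.ext
      show k * ((1 : ↥Q) : G) * k⁻¹ = ((1 : ↥Q) : G)
      simp⟩
    let z' : {x : T // g x = x} := ⟨⟨⟨z, hQ.z_mem⟩, Subtype.ext hQ.z_sq⟩, by
      apply Subtype.ext; apply Subtype.ext
      show k * z * k⁻¹ = z
      rw [hkz]; group⟩
    have hne : one' ≠ z' := by
      intro h
      have := congrArg (fun x : {x : T // g x = x} => ((x.1.1 : ↥Q) : G)) h
      exact hz1 this.symm
    have huniv : (Finset.univ : Finset {x : T // g x = x}) = {one', z'} := by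
      ext x
      simp only [Finset.mem_univ, Finset.mem_insert, Finset.mem_singleton, true_iff]
      have hx : f x.1.1 = x.1.1 := congrArg Subtype.val x.2
      rcases hCelts x.1.1 x.1.1.2 ((hfix _).1 hx) with h | h
      · left; apply Subtype.ext; apply Subtype.ext; apply Subtype.ext; exact h
      · right; apply Subtype.ext; apply Subtype.ext; apply Subtype.ext; exact h
    rw [← Finset.card_univ, huniv, Finset.card_pair hne]
  rw [hfixcard] at hmod2
  have hTcard : Nat.card {x : G // x ∈ Q ∧ x * x = 1} = Fintype.card T := by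
    rw [card_sq_eq_filter Q, Fintype.card_subtype]
  rw [hTcard]
  have hG := card_sq_eq_one hQ
  rw [hTcard] at hG
  rcases hG with h | h
  · exact h
  · exfalso
    rw [h] at hmod2
    exact absurd hmod2 (by decide)

end Cfsg.Agent.Lib.H6.HJ
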