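import Mathlib
import Cfsg.Agent.Lib.H17.HJDefs
import Cfsg.Agent.Lib.H6.HJGAUSS

/-!
# S3313 piece NOE8: with `12` solutions of `x² = 1`, an involution `u ≠ z` of `Q` commutes with
exactly four of them: `1, z, u, u z`
-/

set_option autoImplicit false

namespace Cfsg.Agent.Lib.H6.HJ

open Cfsg Cfsg.Agent.Lib.H17.HJ

section xs

variable {P : Type*} [Group P] [Fintype P] [DecidableEq P] {zq : P}

theorem sum_fS_eq :
    ∑ x : P, fS x = 2 * ((Finset.univ.filter fun x : P => x * x = 1).card : ℤ) - Fintype.card P := by
  have hsum : (Finset.univ.filter fun x : P => x * x = 1).card +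
      (Finset.univ.filter fun x : P => ¬ x * x = 1).card = Fintype.card P := by
    rw [Finset.card_filter_add_card_filter_not, Finset.card_univ]
  unfold fS chi
  rw [Finset.sum_ite, Finset.sum_const, Finset.sum_const]
  have : ((Finset.univ.filter fun x : P => ¬ x * x = 1).card : ℤ) =
      Fintype.card P - (Finset.univ.filter fun x : P => x * x = 1).card := by
    have := congrArg (fun n : ℕ => (n : ℤ)) hsum
    push_cast at this
    linarith
  simp only [nsmul_eq_mul, mul_one, mul_neg]
  rw [this]
  ring

/-- the number of solutions of `x² = 1` commuting with a non-central involution `u`. -/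
theorem card_comm_sq (h : XS P zq) (h32 : Fintype.card P = 32)
    (h12 : (Finset.univ.filter fun x : P => x * x = 1).card = 12) (u : P) (hu2 : u * u = 1)
    (hu1 : u ≠ 1) (huz : u ≠ zq) :
    (Finset.univ.filter fun x : P => x * x = 1 ∧ u * x = x * u).card = 4 := by
  have hfu : fS u = 1 := by unfold fS chi; rw [if_pos hu2]
  have hS : ∑ x : P, fS x = -8 := by rw [sum_fS_eq, h12, h32]; norm_num
  have hC : ∑ x : P, cS u x = 0 := by
    rw [sum_cS h u, if_neg]
    rintro (h1 | h1)
    · exact hu1 h1
    · exact huz h1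
  have hFC : ∑ x : P, fS x * cS u x = -8 := by
    have h1 : ∀ x : P, fS x * cS u x = fS (x * u) := by
      intro x
      rw [fS_mul h, hfu, mul_one]
    simp_rw [h1]
    have hsc := Equiv.sum_comp (Equiv.mulRight u) (fun x => fS x)
    simp only [Equiv.coe_mulRight] at hsc
    rw [hsc]
    exact hS
  have hpt : ∀ x : P, (if x * x = 1 ∧ u * x = x * u then (4 : ℤ) else 0) =
      (1 + fS x) * (1 + cS u x) := by
    intro x
    unfold fS chi cS
    by_cases h1 : x * x = 1 <;> by_cases h2 : u * x = x * u <;> simp [h1, h2]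
  have hsum : ∑ x : P, (if x * x = 1 ∧ u * x = x * u then (4 : ℤ) else 0) = 16 := by
    simp_rw [hpt]
    have : ∀ x : P, (1 + fS x) * (1 + cS u x) = 1 + fS x + cS u x + fS x * cS u x := by
      intro x; ring
    simp_rw [this]
    rw [Finset.sum_add_distrib, Finset.sum_add_distrib, Finset.sum_add_distrib, hS, hC, hFC]
    simp [h32]
  rw [Finset.sum_ite, Finset.sum_const, Finset.sum_const_zero, add_zero, nsmul_eq_mul] at hsum
  have : ((Finset.univ.filter fun x : P => x * x = 1 ∧ u * x = x * u).card : ℤ) = 4 := by
    linarith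
  exact_mod_cast this

theorem comm_four (h : XS P zq) (h32 : Fintype.card P = 32)
    (h12 : (Finset.univ.filter fun x : P => x * x = 1).card = 12) (u w : P) (hu2 : u * u = 1)
    (hw2 : w * w = 1) (hu1 : u ≠ 1) (huz : u ≠ zq) (huw : u * w = w * u) :
    w = 1 ∨ w = zq ∨ w = u ∨ w = u * zq := by
  have hcard := card_comm_sq h h32 h12 u hu2 hu1 huz
  set S := Finset.univ.filter fun x : P => x * x = 1 ∧ u * x = x * u with hS
  have hsub : ({1, zq, u, u * zq} : Finset P) ⊆ S := by
    intro x hx
    simp only [Finset.mem_insert, Finset.mem_singleton] at hx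
    rw [hS, Finset.mem_filter]
    refine ⟨Finset.mem_univ _, ?_⟩
    rcases hx with rfl | rfl | rfl | rfl
    · simp
    · exact ⟨h.z_sq, (h.z_comm u).symm⟩
    · exact ⟨hu2, rfl⟩
    · constructor
      · calc (u * zq) * (u * zq) = u * (zq * u) * zq := by group
          _ = u * (u * zq) * zq := by rw [h.z_comm u]
          _ = (u * u) * (zq * zq) := by group
          _ = 1 := by rw [hu2, h.z_sq, one_mul]
      · rw [mul_assoc u zq u, h.z_comm u]
  have hcard4 : ({1, zq, u, u * zq} : Finset P).card = 4 := by
    have h1 : (1 : P) ≠ zq := fun e => h.z_ne e.symm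
    have h2 : (1 : P) ≠ u := fun e => hu1 e.symm
    have h3 : (1 : P) ≠ u * zq := by
      intro e
      apply huz
      have : u * zq * zq = zq := by rw [← e, one_mul]
      rw [mul_assoc, h.z_sq, mul_one] at this
      exact this
    have h4 : zq ≠ u := fun e => huz e.symm
    have h5 : zq ≠ u * zq := by
      intro e
      apply hu1
      have : 1 * zq = u * zq := by rw [one_mul]; exact e
      exact (mul_right_cancel this).symm
    have h6 : u ≠ u * zq := by
      intro e
      apply h.z_ne
      have : u * 1 = u * zq := by rw [mul_one]; exact e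
      exact (mul_left_cancel this).symm
    rw [Finset.card_insert_of_notMem, Finset.card_insert_of_notMem, Finset.card_insert_of_notMem,
      Finset.card_singleton]
    · simp only [Finset.mem_singleton]; exact h6
    · simp only [Finset.mem_insert, Finset.mem_singleton]; push Not; exact ⟨h4, h5⟩
    · simp only [Finset.mem_insert, Finset.mem_singleton]; push Not; exact ⟨h1, h2, h3⟩
  have heq : ({1, zq, u, u * zq} : Finset P) = S :=
    Finset.eq_of_subset_of_card_le hsub (by rw [hcard, hcard4])
  have hwS : w ∈ S := by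
    rw [hS, Finset.mem_filter]
    exact ⟨Finset.mem_univ _, hw2, huw⟩
  rw [← heq] at hwS
  simpa only [Finset.mem_insert, Finset.mem_singleton] using hwS

end xs

/-- **Piece NOE8.** -/
theorem invol_comm {G : Type*} [Group G] {z : G} {Q : Subgroup G} (hQ : QData z Q)
    (h12 : Nat.card {x : G // x ∈ Q ∧ x * x = 1} = 12) (u w : G) (hu : u ∈ Q) (hw : w ∈ Q)
    (hu2 : u * u = 1) (hw2 : w * w = 1) (hu1 : u ≠ 1) (huz : u ≠ z) (huw : u * w = w * u) :
    w = 1 ∨ w = z ∨ w = u ∨ w = u * z := by
  classical
  have : Finite ↥Q := Nat.finite_of_card_ne_zero (by rw [hQ.card]; norm_num)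
  let _ : Fintype ↥Q := Fintype.ofFinite ↥Q
  have h32 : Fintype.card ↥Q = 32 := by rw [← Nat.card_eq_fintype_card]; exact hQ.card
  rw [card_sq_eq_filter Q] at h12
  have := comm_four (xs_of_qdata hQ) h32 h12 ⟨u, hu⟩ ⟨w, hw⟩ (Subtype.ext hu2) (Subtype.ext hw2)
    (fun e => hu1 (congrArg Subtype.val e)) (fun e => huz (congrArg Subtype.val e))
    (Subtype.ext huw)
  rcases this with h | h | h | h
  · left; exact congrArg Subtype.val h
  · right; left; exact congrArg Subtype.val h
  · right; right; left; exact congrArg Subtype.val h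
  · right; right; right; exact congrArg Subtype.val h

end Cfsg.Agent.Lib.H6.HJ
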