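import Mathlib
import Cfsg.Prelude.Def_ChevStructure
import Cfsg.Agent.Lib.H6.InvWord

/-!
# Rank certificates for `(word) - 1`

For a word `y = x_{r_1}(1) ⋯ x_{r_k}(1)` over a field of characteristic `p`:
* a lower bound `k ≤ rank (y - 1)` from a sparse integer matrix `V` such that `(y - 1) V` has an identity submatrix of
  size `k` modulo `p`;
* an upper bound `rank (y - 1) + m ≤ dim` from a sparse integer matrix `K` with `(y - 1) K ≡ 0` and an identity
  submatrix of `K` of size `m` modulo `p`.
The rank of `g - 1` is a conjugacy invariant in `GL`.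
-/

set_option autoImplicit false
set_option linter.unusedSectionVars false
set_option linter.unusedSimpArgs false
set_option linter.unusedVariables false

namespace Cfsg.Agent.Lib.H6.Inv

open Cfsg.Lie Matrix Cfsg.Agent.Lib.H29.Chev

variable {D : ChevalleyDatum} {fd : FD} {fx : FX} {F : Type*} [Field F]

/-- the sparse matrix `word * V - V` -/
def nSM (fd : FD) (L : List ℕ) (V : SM) : SM :=
  fun c => SM.apply (wordSM fd L) (V c) ++ SV.smul (-1) (V c)

/-- the submatrix of `M` on the rows `piv[s].1` and the columns `piv[t].2` is the identity modulo `p` -/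
def chkId (p : ℕ) (M : SM) (piv : List (ℕ × ℕ)) : Bool :=
  (List.range piv.length).all fun t => (List.range piv.length).all fun s =>
    intBeq ((SV.get (M (piv.getD t (0, 0)).2) (piv.getD s (0, 0)).1 - (if s = t then 1 else 0)) % (p : ℤ)) 0

/-- all columns below `N` are bounded by `N` -/
def chkBdd (N : ℕ) (M : SM) : Bool := (List.range N).all fun c => SV.bddB N (M c)

/-- all columns below `N` vanish modulo `p` -/
def chkZero (p N : ℕ) (M : SM) : Bool := (List.range N).all fun c => SV.eqMod p (M c) []

/-- all pivots are below `N` -/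
def chkPiv (N : ℕ) (piv : List (ℕ × ℕ)) : Bool := piv.all fun q => Nat.blt q.1 N && Nat.blt q.2 N

theorem chkId_spec {p : ℕ} {M : SM} {piv : List (ℕ × ℕ)} (h : chkId p M piv = true) (s t : Fin piv.length) :
    (p : ℤ) ∣ SV.get (M (piv.get t).2) (piv.get s).1 - (if s = t then 1 else 0) := by
  simp only [chkId, List.all_eq_true, List.mem_range, intBeq_iff] at h
  have := h t.val t.isLt s.val s.isLt
  rw [List.getD_eq_getElem _ _ t.isLt, List.getD_eq_getElem _ _ s.isLt] at this
  have e : (if s.val = t.val then (1 : ℤ) else 0) = (if s = t then 1 else 0) := by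
    by_cases hst : s = t
    · subst hst; simp
    · have : s.val ≠ t.val := fun h => hst (Fin.ext h)
      simp [hst, this]
  rw [e] at this
  exact Int.dvd_of_emod_eq_zero this

theorem chkPiv_spec {N : ℕ} {piv : List (ℕ × ℕ)} (h : chkPiv N piv = true) (s : Fin piv.length) :
    (piv.get s).1 < N ∧ (piv.get s).2 < N := by
  simp only [chkPiv, List.all_eq_true, Bool.and_eq_true, natBlt_iff] at h
  exact h _ (List.get_mem piv s)

theorem chkBdd_spec {N : ℕ} {M : SM} (h : chkBdd N M = true) (c : ℕ) (hc : c < N) : SV.bdd N (M c) = true := by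
  simp only [chkBdd, List.all_eq_true, List.mem_range] at h
  exact SV.bdd_of_bddB (h c hc)

/-- the row index of the pivot `s` -/
noncomputable def pivRow (C : Cert2 D fd fx) (piv : List (ℕ × ℕ)) (h : chkPiv (fd.l + fd.n) piv = true)
    (s : Fin piv.length) : D.Idx :=
  Classical.choose (code_surj' C _ (chkPiv_spec h s).1)

/-- the column index of the pivot `s` -/
noncomputable def pivCol (C : Cert2 D fd fx) (piv : List (ℕ × ℕ)) (h : chkPiv (fd.l + fd.n) piv = true)
    (s : Fin piv.length) : D.Idx :=
  Classical.choose (code_surj' C _ (chkPiv_spec h s).2)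

theorem code_pivRow (C : Cert2 D fd fx) (piv : List (ℕ × ℕ)) (h : chkPiv (fd.l + fd.n) piv = true)
    (s : Fin piv.length) : code D (pivRow C piv h s) = (piv.get s).1 :=
  Classical.choose_spec (code_surj' C _ (chkPiv_spec h s).1)

theorem code_pivCol (C : Cert2 D fd fx) (piv : List (ℕ × ℕ)) (h : chkPiv (fd.l + fd.n) piv = true)
    (s : Fin piv.length) : code D (pivCol C piv h s) = (piv.get s).2 :=
  Classical.choose_spec (code_surj' C _ (chkPiv_spec h s).2)

/-- a matrix with an identity submatrix of size `k` has rank at least `k` -/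
theorem le_rank_of_submatrix_one {k : ℕ} (A : Matrix D.Idx D.Idx F) (ρ γ : Fin k → D.Idx)
    (h : A.submatrix ρ γ = 1) : k ≤ A.rank := by
  have h1 := Matrix.rank_submatrix_le A ρ γ
  rw [h, Matrix.rank_one, Fintype.card_fin] at h1
  exact h1

/-- the image of a sparse matrix with an identity submatrix modulo `p` has rank at least the number of pivots -/
theorem le_rank_dens (p : ℕ) [CharP F p] (C : Cert2 D fd fx) (M : SM) (piv : List (ℕ × ℕ))
    (hp : chkPiv (fd.l + fd.n) piv = true) (hid : chkId p M piv = true) :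
    piv.length ≤ ((SM.dens (code D) M).map (Int.castRingHom F)).rank := by
  apply le_rank_of_submatrix_one _ (pivRow C piv hp) (pivCol C piv hp)
  ext s t
  simp only [Matrix.submatrix_apply, Matrix.map_apply, SM.dens_apply, Int.coe_castRingHom, code_pivRow,
    code_pivCol, Matrix.one_apply]
  have := cast_eq_of_dvd_sub (F := F) p _ _ (chkId_spec hid s t)
  rw [this]
  split_ifs <;> simp

/-- the image over the field of `word * V - V` -/
theorem nSM_map (C : Cert2 D fd fx) (L : List ℕ) (hL : ∀ r ∈ L, r < fd.n) (V : SM)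
    (hV : chkBdd (fd.l + fd.n) V = true) :
    (SM.dens (code D) (nSM fd L V)).map (Int.castRingHom F) =
      ((L.map fun r => D.x F r 1).prod - 1) * (SM.dens (code D) V).map (Int.castRingHom F) := by
  rw [sub_mul, one_mul, wordF C L hL, ← Matrix.map_mul,
    SM.dens_mul (code D) (code_injective D) (fd.l + fd.n) (code_surj' C) _ _
      (fun j => chkBdd_spec hV _ (code_lt' C j))]
  ext a b
  simp only [Matrix.map_apply, Matrix.sub_apply, SM.dens_apply, nSM, SM.mul, SV.get_append, SV.get_smul,
    Int.coe_castRingHom]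
  push_cast
  ring

/-- lower bound for the rank of `word - 1` -/
theorem le_rank_word (p : ℕ) [CharP F p] (C : Cert2 D fd fx) (L : List ℕ) (hL : ∀ r ∈ L, r < fd.n) (V : SM)
    (piv : List (ℕ × ℕ)) (hV : chkBdd (fd.l + fd.n) V = true) (hp : chkPiv (fd.l + fd.n) piv = true)
    (hid : chkId p (nSM fd L V) piv = true) :
    piv.length ≤ ((L.map fun r => D.x F r 1).prod - 1).rank := by
  have h1 := le_rank_dens (F := F) p C (nSM fd L V) piv hp hid
  rw [nSM_map C L hL V hV] at h1
  exact h1.trans (Matrix.rank_mul_le_left _ _)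

/-- upper bound for the rank of `word - 1` -/
theorem rank_word_le (p : ℕ) [CharP F p] (C : Cert2 D fd fx) (L : List ℕ) (hL : ∀ r ∈ L, r < fd.n) (K : SM)
    (piv : List (ℕ × ℕ)) (hK : chkBdd (fd.l + fd.n) K = true) (hp : chkPiv (fd.l + fd.n) piv = true)
    (hz : chkZero p (fd.l + fd.n) (nSM fd L K) = true) (hid : chkId p K piv = true) :
    ((L.map fun r => D.x F r 1).prod - 1).rank + piv.length ≤ fd.l + fd.n := by
  have h1 := le_rank_dens (F := F) p C K piv hp hid
  have h0 : ((L.map fun r => D.x F r 1).prod - 1) * (SM.dens (code D) K).map (Int.castRingHom F) = 0 := by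
    rw [← nSM_map C L hL K hK]
    have := dens_map_congr (F := F) p C (nSM fd L K) (fun _ => []) (fun c hc => by
      simp only [chkZero, List.all_eq_true, List.mem_range] at hz
      exact hz c hc)
    rw [this]
    ext a b
    simp [SM.dens_apply]
  have h2 := Matrix.rank_add_rank_le_card_of_mul_eq_zero h0
  have hcard : Fintype.card D.Idx = fd.l + fd.n := by
    rw [← C.agrees.hl, ← C.agrees.hn]
    simp
  rw [hcard] at h2
  omega

/-- the rank of `g - 1` is a conjugacy invariant -/
theorem rank_sub_one_conj {n : Type*} [Fintype n] [DecidableEq n] (h g : GL n F) :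
    ((((h * g * h⁻¹ : GL n F)) : Matrix n n F) - 1).rank = ((g : Matrix n n F) - 1).rank := by
  have e : (((h * g * h⁻¹ : GL n F)) : Matrix n n F) - 1 =
      (h : Matrix n n F) * ((g : Matrix n n F) - 1) * ((h⁻¹ : GL n F) : Matrix n n F) := by
    have hh : (h : Matrix n n F) * ((h⁻¹ : GL n F) : Matrix n n F) = 1 := by
      rw [← Units.val_mul, mul_inv_cancel, Units.val_one]
    rw [Units.val_mul, Units.val_mul, mul_sub, sub_mul, mul_one, hh]
  rw [e]
  have hd1 : IsUnit (h : Matrix n n F).det := (Matrix.isUnit_iff_isUnit_det _).mp h.isUnit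
  have hd2 : IsUnit ((h⁻¹ : GL n F) : Matrix n n F).det := (Matrix.isUnit_iff_isUnit_det _).mp (h⁻¹).isUnit
  rw [Matrix.rank_mul_eq_left_of_isUnit_det _ _ hd2, Matrix.rank_mul_eq_right_of_isUnit_det _ _ hd1]

end Cfsg.Agent.Lib.H6.Inv
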