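import Mathlib
import Cfsg.Prelude.Def_LieChev
import Cfsg.Agent.Lib.H6.InvRank
import Cfsg.Agent.Lib.H29.ChevCert13

/-!
# `E₆` in characteristic two: the ranks of `y - 1` for the three involutions `x_71`, `x_68 x_66`, `x_55 x_65 x_67`

The ranks are 22, 32 and 38; the certificates (kernel vectors, and vectors whose images have an identity
submatrix) are checked on the packed tables. Consequently the three involutions are pairwise non-conjugate in `GL`.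
-/

set_option autoImplicit false
set_option linter.unusedSectionVars false
set_option linter.unusedSimpArgs false
set_option linter.unusedVariables false

namespace Cfsg.Agent.Lib.H6.Inv

open Cfsg.Lie Matrix Cfsg.Agent.Lib.H29.Chev

/-- the sparse matrix with the given columns -/
def smOf (l : List SV) : SM := fun c => l.getD c []

def e6K_y1 : List SV := [[(0, 1)], [(2, 1)], [(3, 1)], [(4, 1)], [(5, 1)], [(17, 1)], [(18, 1)], [(19, 1)], [(20, 1)], [(21, 1)], [(32, 1)], [(33, 1)], [(34, 1)], [(35, 1)], [(36, 1)], [(37, 1)], [(38, 1)], [(39, 1)], [(40, 1)], [(41, 1)], [(42, 1)], [(43, 1)], [(44, 1)], [(45, 1)], [(46, 1)], [(47, 1)], [(48, 1)], [(49, 1)], [(50, 1)], [(51, 1)], [(52, 1)], [(53, 1)], [(54, 1)], [(55, 1)], [(56, 1)], [(57, 1)], [(58, 1)], [(59, 1)], [(60, 1)], [(61, 1)], [(62, 1)], [(63, 1)], [(64, 1)], [(65, 1)], [(66, 1)], [(67, 1)], [(68, 1)], [(69, 1)], [(70, 1)], [(71, 1)], [(72,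 1)], [(73, 1)], [(74, 1)], [(75, 1)], [(76, 1)], [(77, 1)]]

def e6PK_y1 : List (ℕ × ℕ) := [(0, 0), (2, 1), (3, 2), (4, 3), (5, 4), (17, 5), (18, 6), (19, 7), (20, 8), (21, 9), (32, 10), (33, 11), (34, 12), (35, 13), (36, 14), (37, 15), (38, 16), (39, 17), (40, 18), (41, 19), (42, 20), (43, 21), (44, 22), (45, 23), (46, 24), (47, 25), (48, 26), (49, 27), (50, 28), (51, 29), (52, 30), (53, 31), (54, 32), (55, 33), (56, 34), (57, 35), (58, 36), (59, 37), (60, 38), (61, 39), (62, 40), (63, 41), (64, 42), (65, 43), (66, 44), (67, 45), (68, 46), (69, 47), (70, 48), (71, 49), (72, 50), (73, 51), (74, 52), (75, 53), (76, 54), (77, 55)]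

def e6V_y1 : List SV := [[(1, 1), (6, 1)], [(7, 1)], [(8, 1)], [(9, 1)], [(10, 1)], [(11, 1)], [(12, 1)], [(13, 1)], [(14, 1)], [(15, 1)], [(16, 1)], [(22, 1)], [(23, 1)], [(24, 1)], [(25, 1)], [(26, 1)], [(27, 1)], [(28, 1)], [(29, 1)], [(30, 1)], [(31, 1)], [(1, 1)]]

def e6PV_y1 : List (ℕ × ℕ) := [(0, 0), (52, 1), (53, 2), (54, 3), (55, 4), (56, 5), (57, 6), (58, 7), (59, 8), (60, 9), (61, 10), (67, 11), (68, 12), (69, 13), (70, 14), (71, 15), (72, 16), (73, 17), (74, 18), (75, 19), (76, 20), (77, 21)]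

theorem e6K_y1_bdd : chkBdd (fdE6.l + fdE6.n) (smOf e6K_y1) = true := by decide +kernel
theorem e6PK_y1_piv : chkPiv (fdE6.l + fdE6.n) e6PK_y1 = true := by decide +kernel
theorem e6K_y1_zero : chkZero 2 (fdE6.l + fdE6.n) (nSM fdE6 [71] (smOf e6K_y1)) = true := by decide +kernel
theorem e6K_y1_id : chkId 2 (smOf e6K_y1) e6PK_y1 = true := by decide +kernel
theorem e6V_y1_bdd : chkBdd (fdE6.l + fdE6.n) (smOf e6V_y1) = true := by decide +kernel
theorem e6PV_y1_piv : chkPiv (fdE6.l + fdE6.n) e6PV_y1 = true := by decide +kernel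
theorem e6V_y1_id : chkId 2 (nSM fdE6 [71] (smOf e6V_y1)) e6PV_y1 = true := by decide +kernel

section
variable {F : Type*} [Field F] [CharP F 2]

theorem e6_rank_y1_le : (([71].map fun r => chevE6.x F r 1).prod - 1).rank + 56 ≤ 78 :=
  rank_word_le 2 cert12_E6.c6.c2 [71] (by decide) (smOf e6K_y1) e6PK_y1 e6K_y1_bdd e6PK_y1_piv
    e6K_y1_zero e6K_y1_id

theorem e6_le_rank_y1 : 22 ≤ (([71].map fun r => chevE6.x F r 1).prod - 1).rank :=
  le_rank_word 2 cert12_E6.c6.c2 [71] (by decide) (smOf e6V_y1) e6PV_y1 e6V_y1_bdd e6PV_y1_piv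
    e6V_y1_id

end

def e6K_y2 : List SV := [[(1, 1)], [(3, 1)], [(2, 1), (4, 1)], [(0, 1), (2, 1), (5, 1)], [(24, 1)], [(26, 1)], [(27, 1), (29, 1)], [(30, 1)], [(31, 1)], [(33, 1)], [(34, 1), (37, 1)], [(38, 1)], [(35, 1), (40, 1)], [(42, 1)], [(44, 1)], [(45, 1)], [(47, 1)], [(43, 1), (48, 1)], [(46, 1), (49, 1)], [(50, 1)], [(51, 1)], [(52, 1)], [(53, 1)], [(55, 1)], [(54, 1), (56, 1)], [(57, 1)], [(58, 1)], [(59, 1)], [(60, 1)], [(61, 1)], [(62, 1)], [(63, 1)], [(64, 1)], [(65, 1)], [(66, 1)], [(67, 1)], [(68, 1)], [(69, 1)], [(70, 1)], [(71, 1)], [(72, 1)], [(73, 1)], [(74, 1)], [(75, 1)], [(76, 1)], [(77, 1)]]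

def e6PK_y2 : List (ℕ × ℕ) := [(1, 0), (3, 1), (4, 2), (5, 3), (24, 4), (26, 5), (29, 6), (30, 7), (31, 8), (33, 9), (37, 10), (38, 11), (40, 12), (42, 13), (44, 14), (45, 15), (47, 16), (48, 17), (49, 18), (50, 19), (51, 20), (52, 21), (53, 22), (55, 23), (56, 24), (57, 25), (58, 26), (59, 27), (60, 28), (61, 29), (62, 30), (63, 31), (64, 32), (65, 33), (66, 34), (67, 35), (68, 36), (69, 37), (70, 38), (71, 39), (72, 40), (73, 41), (74, 42), (75, 43), (76, 44), (77, 45)]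

def e6V_y2 : List SV := [[(0, 1), (4, 1), (9, 1)], [(4, 1), (9, 1), (11, 1)], [(6, 1), (27, 1)], [(7, 1), (34, 1)], [(8, 1), (35, 1)], [(10, 1)], [(12, 1), (43, 1)], [(13, 1)], [(14, 1), (46, 1)], [(15, 1)], [(16, 1)], [(17, 1), (54, 1)], [(18, 1)], [(19, 1)], [(20, 1)], [(21, 1)], [(22, 1)], [(23, 1)], [(25, 1)], [(28, 1)], [(27, 1)], [(32, 1)], [(36, 1)], [(34, 1)], [(39, 1)], [(35, 1)], [(0, 1)], [(41, 1)], [(0, 1), (4, 1)], [(43, 1)], [(46, 1)], [(54, 1)]]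

def e6PV_y2 : List (ℕ × ℕ) := [(0, 0), (2, 1), (27, 2), (34, 3), (35, 4), (42, 5), (43, 6), (44, 7), (46, 8), (47, 9), (51, 10), (54, 11), (55, 12), (58, 13), (60, 14), (61, 15), (62, 16), (63, 17), (64, 18), (65, 19), (66, 20), (67, 21), (68, 22), (69, 23), (70, 24), (71, 25), (72, 26), (73, 27), (74, 28), (75, 29), (76, 30), (77, 31)]

theorem e6K_y2_bdd : chkBdd (fdE6.l + fdE6.n) (smOf e6K_y2) = true := by decide +kernel
theorem e6PK_y2_piv : chkPiv (fdE6.l + fdE6.n) e6PK_y2 = true := by decide +kernel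
theorem e6K_y2_zero : chkZero 2 (fdE6.l + fdE6.n) (nSM fdE6 [68, 66] (smOf e6K_y2)) = true := by decide +kernel
theorem e6K_y2_id : chkId 2 (smOf e6K_y2) e6PK_y2 = true := by decide +kernel
theorem e6V_y2_bdd : chkBdd (fdE6.l + fdE6.n) (smOf e6V_y2) = true := by decide +kernel
theorem e6PV_y2_piv : chkPiv (fdE6.l + fdE6.n) e6PV_y2 = true := by decide +kernel
theorem e6V_y2_id : chkId 2 (nSM fdE6 [68, 66] (smOf e6V_y2)) e6PV_y2 = true := by decide +kernel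

section
variable {F : Type*} [Field F] [CharP F 2]

theorem e6_rank_y2_le : (([68, 66].map fun r => chevE6.x F r 1).prod - 1).rank + 46 ≤ 78 :=
  rank_word_le 2 cert12_E6.c6.c2 [68, 66] (by decide) (smOf e6K_y2) e6PK_y2 e6K_y2_bdd e6PK_y2_piv
    e6K_y2_zero e6K_y2_id

theorem e6_le_rank_y2 : 32 ≤ (([68, 66].map fun r => chevE6.x F r 1).prod - 1).rank :=
  le_rank_word 2 cert12_E6.c6.c2 [68, 66] (by decide) (smOf e6V_y2) e6PV_y2 e6V_y2_bdd e6PV_y2_piv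
    e6V_y2_id

end

def e6K_y3 : List SV := [[(1, 1)], [(0, 1), (4, 1)], [(2, 1), (5, 1)], [(31, 1)], [(20, 1), (39, 1)], [(21, 1), (40, 1)], [(35, 1), (41, 1)], [(45, 1)], [(46, 1)], [(16, 1), (26, 1), (28, 1), (47, 1)], [(42, 1), (48, 1)], [(49, 1)], [(16, 1), (26, 1), (28, 1), (50, 1)], [(51, 1)], [(52, 1)], [(53, 1)], [(54, 1)], [(19, 1), (33, 1), (36, 1), (55, 1)], [(56, 1)], [(19, 1), (33, 1), (36, 1), (57, 1)], [(58, 1)], [(59, 1)], [(60, 1)], [(61, 1)], [(43, 1), (62, 1)], [(44, 1), (63, 1)], [(16, 1), (26, 1), (28, 1), (64, 1)], [(65, 1)], [(66, 1)], [(19, 1), (33, 1), (36, 1), (67, 1)], [(68, 1)], [(69, 1)], [(70, 1)], [(71, 1)], [(72, 1)], [(73, 1)], [(74, 1)], [(75, 1)], [(76, 1)], [(77, 1)]]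

def e6PK_y3 : List (ℕ × ℕ) := [(1, 0), (4, 1), (5, 2), (31, 3), (39, 4), (40, 5), (41, 6), (45, 7), (46, 8), (47, 9), (48, 10), (49, 11), (50, 12), (51, 13), (52, 14), (53, 15), (54, 16), (55, 17), (56, 18), (57, 19), (58, 20), (59, 21), (60, 22), (61, 23), (62, 24), (63, 25), (64, 26), (65, 27), (66, 28), (67, 29), (68, 30), (69, 31), (70, 32), (71, 33), (72, 34), (73, 35), (74, 36), (75, 37), (76, 38), (77, 39)]

def e6V_y3 : List SV := [[(4, 1), (12, 1), (22, 1)], [(2, 1), (3, 1), (4, 1), (10, 1), (12, 1), (22, 1)], [(2, 1), (10, 1), (12, 1)], [(6, 1), (16, 1)], [(7, 1), (19, 1)], [(8, 1), (20, 1)], [(11, 1), (21, 1)], [(9, 1), (35, 1)], [(13, 1), (42, 1)], [(23, 1), (43, 1)], [(24, 1), (44, 1)], [(14, 1)], [(25, 1)], [(16, 1), (28, 1)], [(15, 1)], [(16, 1), (26, 1)], [(29, 1)], [(17, 1)], [(32, 1)], [(19, 1), (36, 1)], [(18, 1)], [(19, 1), (33, 1)], [(37, 1)], [(20, 1)], [(21, 1)], [(3, 1), (4,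 1)], [(27, 1)], [(30, 1)], [(34, 1)], [(38, 1)], [(35, 1)], [(3, 1)], [(43, 1)], [(2, 1), (3, 1)], [(42, 1)], [(44, 1)], [(16, 1), (26, 1), (28, 1)], [(19, 1), (33, 1), (36, 1)]]

def e6PV_y3 : List (ℕ × ℕ) := [(0, 0), (1, 1), (2, 2), (16, 3), (19, 4), (20, 5), (21, 6), (35, 7), (42, 8), (43, 9), (44, 10), (45, 11), (46, 12), (47, 13), (49, 14), (50, 15), (51, 16), (53, 17), (54, 18), (55, 19), (56, 20), (57, 21), (58, 22), (59, 23), (60, 24), (61, 25), (65, 26), (66, 27), (68, 28), (69, 29), (70, 30), (71, 31), (72, 32), (73, 33), (74, 34), (75, 35), (76, 36), (77, 37)]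

theorem e6K_y3_bdd : chkBdd (fdE6.l + fdE6.n) (smOf e6K_y3) = true := by decide +kernel
theorem e6PK_y3_piv : chkPiv (fdE6.l + fdE6.n) e6PK_y3 = true := by decide +kernel
theorem e6K_y3_zero : chkZero 2 (fdE6.l + fdE6.n) (nSM fdE6 [55, 65, 67] (smOf e6K_y3)) = true := by decide +kernel
theorem e6K_y3_id : chkId 2 (smOf e6K_y3) e6PK_y3 = true := by decide +kernel
theorem e6V_y3_bdd : chkBdd (fdE6.l + fdE6.n) (smOf e6V_y3) = true := by decide +kernel
theorem e6PV_y3_piv : chkPiv (fdE6.l + fdE6.n) e6PV_y3 = true := by decide +kernel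
theorem e6V_y3_id : chkId 2 (nSM fdE6 [55, 65, 67] (smOf e6V_y3)) e6PV_y3 = true := by decide +kernel

section
variable {F : Type*} [Field F] [CharP F 2]

theorem e6_rank_y3_le : (([55, 65, 67].map fun r => chevE6.x F r 1).prod - 1).rank + 40 ≤ 78 :=
  rank_word_le 2 cert12_E6.c6.c2 [55, 65, 67] (by decide) (smOf e6K_y3) e6PK_y3 e6K_y3_bdd e6PK_y3_piv
    e6K_y3_zero e6K_y3_id

theorem e6_le_rank_y3 : 38 ≤ (([55, 65, 67].map fun r => chevE6.x F r 1).prod - 1).rank :=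
  le_rank_word 2 cert12_E6.c6.c2 [55, 65, 67] (by decide) (smOf e6V_y3) e6PV_y3 e6V_y3_bdd e6PV_y3_piv
    e6V_y3_id

end

end Cfsg.Agent.Lib.H6.Inv
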