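import Mathlib
import Cfsg.Prelude.Def_RootSubgroups
import Cfsg.Agent.Lib.H25.RootSubgroups
import Cfsg.Agent.Lib.H25.CommutatorCase

set_option autoImplicit false

/-! The graph of rank one pairs on a set of abstract root subgroups: paths, conjugation,
and the key lemma on line partners (Timmesfeld II §2). -/

namespace Cfsg.Agent.Lib.H6.FConn

open Cfsg Cfsg.Agent.Lib.H25
open scoped commutatorElement

variable {G : Type*} [Group G] {S : Set (Subgroup G)}

theorem fadj_symm {A B : Subgroup G} (h : FAdj S A B) : FAdj S B A :=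
  ⟨h.2.1, h.1, RankOnePair_symm h.2.2⟩

theorem rtg_symm {A B : Subgroup G} (h : Relation.ReflTransGen (FAdj S) A B) :
    Relation.ReflTransGen (FAdj S) B A := by
  induction h with
  | refl => exact Relation.ReflTransGen.refl
  | tail _ hbc ih => exact Relation.ReflTransGen.head (fadj_symm hbc) ih

theorem fadj_conj (hS : IsRootSubgroupSet S) {A B : Subgroup G} (h : FAdj S A B) (g : G) :
    FAdj S (conjBy A g) (conjBy B g) :=
  ⟨hS.conj_mem A h.1 g, hS.conj_mem B h.2.1 g, RankOne.isRankOnePair_conj h.2.2 g⟩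

theorem rtg_conj (hS : IsRootSubgroupSet S) {A B : Subgroup G}
    (h : Relation.ReflTransGen (FAdj S) A B) (g : G) :
    Relation.ReflTransGen (FAdj S) (conjBy A g) (conjBy B g) := by
  induction h with
  | refl => exact Relation.ReflTransGen.refl
  | tail _ hbc ih => exact Relation.ReflTransGen.tail ih (fadj_conj hS hbc g)

/-- A path gives a conjugating element. -/
theorem exists_conj_of_rtg {A B : Subgroup G} (h : Relation.ReflTransGen (FAdj S) A B) :
    ∃ g : G, B = conjBy A g := by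
  induction h with
  | refl => exact ⟨1, (conjBy_one A).symm⟩
  | tail _ hbc ih =>
    obtain ⟨g, rfl⟩ := ih
    obtain ⟨x, -, hx⟩ := RankOne.exists_conj_eq_right hbc.2.2
    exact ⟨x * g, by rw [hx, conjBy_conjBy]⟩

/-- For a rank one pair `(P, Q)` and `p ∈ P#`, `(p Q p⁻¹, Q)` is a rank one pair generating
`P ⊔ Q`. -/
theorem pair_conj {P Q : Subgroup G} (h : IsRankOnePair P Q) {p : G} (hp : p ∈ P) (hp1 : p ≠ 1) :
    IsRankOnePair (conjBy Q p) Q ∧ Q ⊔ conjBy Q p = Q ⊔ P := by
  have h' := RankOnePair_symm h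
  have h1 : conjBy Q p ∈ unipotentSubgroups Q P := ⟨p, Subgroup.mem_sup_right hp, rfl⟩
  have h2 : Q ∈ unipotentSubgroups Q P := RankOne.left_mem_unipotentSubgroups Q P
  have hne : conjBy Q p ≠ Q := by
    intro hh
    exact hp1 (RankOne.eq_one_of_mem_normalizer h hp (conjBy_eq_self_iff.1 hh))
  exact ⟨RankOne.isRankOnePair_of_mem h' h1 h2 hne, RankOne.sup_eq_of_mem h' h2 h1 hne.symm⟩

/-- No non-identity element of `Q` commutes with a non-identity element of `p Q p⁻¹`. -/
theorem not_commute_conj {P Q : Subgroup G} (h : IsRankOnePair P Q) {p : G} (hp : p ∈ P)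
    (hp1 : p ≠ 1) {q q' : G} (hq : q ∈ Q) (hq1 : q ≠ 1) (hq' : q' ∈ Q) (hq'1 : q' ≠ 1) :
    (p * q * p⁻¹) * q' ≠ q' * (p * q * p⁻¹) := by
  intro hc
  have hpair := (pair_conj h hp hp1).1
  have hmem : p * q * p⁻¹ ∈ conjBy Q p := by
    rw [mem_conjBy]
    have : p⁻¹ * (p * q * p⁻¹) * p = q := by group
    rw [this]; exact hq
  have hne : p * q * p⁻¹ ≠ 1 := by
    intro hh
    apply hq1
    have := congrArg (fun t => p⁻¹ * t * p) hh
    simpa [mul_assoc] using this
  exact hq'1 (RankOne.eq_one_of_commute hpair hmem hne hq' hc)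

/-- Centrality of the commutator subgroup for a pair which is not a rank one pair. -/
theorem central_of_not_rankOne (hS : IsRootSubgroupSet S) {A B : Subgroup G} (hA : A ∈ S)
    (hB : B ∈ S) (hn : ¬ IsRankOnePair A B) :
    ∀ c ∈ ⁅A, B⁆, ∀ x ∈ A ⊔ B, c * x = x * c := by
  rcases hS.pair A hA B hB with h0 | hr | hc
  · intro c hc x _
    rw [h0, Subgroup.mem_bot] at hc
    rw [hc, one_mul, mul_one]
  · exact absurd hr hn
  · exact hc.2.1

theorem mem_comm_of_mem {A B : Subgroup G} {a b : G} (ha : a ∈ A) (hb : b ∈ B) :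
    a * b * a⁻¹ * b⁻¹ ∈ ⁅A, B⁆ := by
  have := Subgroup.commutator_mem_commutator ha hb
  rwa [commutatorElement_def] at this

/-- Elements of `A ⊔ B` for elementwise commuting `A`, `B`. -/
theorem exists_mul_of_mem_sup {A B : Subgroup G} (hAB : ∀ a ∈ A, ∀ b ∈ B, a * b = b * a) {x : G}
    (hx : x ∈ A ⊔ B) : ∃ a ∈ A, ∃ b ∈ B, x = a * b := by
  have hAN : A ≤ Subgroup.normalizer (B : Set G) := by
    intro a ha
    apply Subgroup.centralizer_le_normalizer
    rw [Subgroup.mem_centralizer_iff]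
    intro b hb
    exact (hAB a ha b hb).symm
  have hx' : x ∈ (↑(A ⊔ B) : Set G) := hx
  rw [Subgroup.coe_mul_of_left_le_normalizer_right A B hAN] at hx'
  obtain ⟨a, ha, b, hb, rfl⟩ := hx'
  exact ⟨a, ha, b, hb, rfl⟩

end Cfsg.Agent.Lib.H6.FConn
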