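import Mathlib
import Cfsg.Prelude.Def_RootSubgroups
import Cfsg.Agent.Lib.H6.FConn

set_option autoImplicit false

/-! The natural-module configuration: `A, B, C, D ∈ S` with `⁅A, B⁆ = C`, `⁅D, C⁆ = A`
(Timmesfeld II §2).  Part 1: `B`, `D` form a rank one pair. -/

namespace Cfsg.Agent.Lib.H6.NatMod

open Cfsg Cfsg.Agent.Lib.H25 Cfsg.Agent.Lib.H6.FConn
open scoped commutatorElement

variable {G : Type*} [Group G] {S : Set (Subgroup G)}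

theorem commute_conj {x y : G} (h : x * y = y * x) (g : G) :
    (g * x * g⁻¹) * (g * y * g⁻¹) = (g * y * g⁻¹) * (g * x * g⁻¹) := by
  have e1 : (g * x * g⁻¹) * (g * y * g⁻¹) = g * (x * y) * g⁻¹ := by group
  have e2 : (g * y * g⁻¹) * (g * x * g⁻¹) = g * (y * x) * g⁻¹ := by group
  rw [e1, e2, h]

theorem conj_eq_of_comm {x g : G} (h : x * g = g * x) : g * x * g⁻¹ = x := by
  rw [← h, mul_assoc, mul_inv_cancel, mul_one]

theorem conj_eq_of_comm' {x g : G} (h : x * g = g * x) : g⁻¹ * x * g = x := by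
  rw [mul_assoc, h, ← mul_assoc, inv_mul_cancel, one_mul]

/-- The configuration. -/
structure Cfg (S : Set (Subgroup G)) (A B C D : Subgroup G) : Prop where
  hS : IsRootSubgroupSet S
  hA : A ∈ S
  hB : B ∈ S
  hC : C ∈ S
  hD : D ∈ S
  hAB : ⁅A, B⁆ = C
  hDC : ⁅D, C⁆ = A

variable {A B C D : Subgroup G}

namespace Cfg

theorem ccAB (h : Cfg S A B C D) : RootCommutatorCase S A B :=
  commutatorCase_of_mem h.hS h.hA h.hB (h.hAB ▸ h.hC)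

theorem ccDC (h : Cfg S A B C D) : RootCommutatorCase S D C :=
  commutatorCase_of_mem h.hS h.hD h.hC (h.hDC ▸ h.hA)

theorem ccBA (h : Cfg S A B C D) : RootCommutatorCase S B A :=
  commutatorCase_of_mem h.hS h.hB h.hA (by rw [Subgroup.commutator_comm, h.hAB]; exact h.hC)

theorem comm_CB (h : Cfg S A B C D) {c b : G} (hc : c ∈ C) (hb : b ∈ B) : c * b = b * c :=
  h.ccAB.2.1 c (h.hAB ▸ hc) b (Subgroup.mem_sup_right hb)

theorem comm_CA (h : Cfg S A B C D) {c a : G} (hc : c ∈ C) (ha : a ∈ A) : c * a = a * c :=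
  h.ccAB.2.1 c (h.hAB ▸ hc) a (Subgroup.mem_sup_left ha)

theorem comm_AD (h : Cfg S A B C D) {a d : G} (ha : a ∈ A) (hd : d ∈ D) : a * d = d * a :=
  h.ccDC.2.1 a (h.hDC ▸ ha) d (Subgroup.mem_sup_left hd)

theorem mem_C_of_comm (h : Cfg S A B C D) {a b : G} (ha : a ∈ A) (hb : b ∈ B) :
    a * b * a⁻¹ * b⁻¹ ∈ C := by
  rw [← h.hAB]; exact mem_comm_of_mem ha hb

theorem mem_A_of_comm (h : Cfg S A B C D) {d c : G} (hd : d ∈ D) (hc : c ∈ C) :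
    d * c * d⁻¹ * c⁻¹ ∈ A := by
  have := mem_comm_of_mem hd hc
  rwa [h.hDC] at this

/-- Surjectivity of `a ↦ a⁻¹ b⁻¹ a b`. -/
theorem surjAB (h : Cfg S A B C D) {b : G} (hb : b ∈ B) (hb1 : b ≠ 1) {k : G} (hk : k ∈ C) :
    ∃ a ∈ A, b⁻¹ * a * b = a * k := by
  obtain ⟨a, ha, hak⟩ := exists_kap_left_of_closure h.ccAB.2.1 hb (h.ccAB.2.2.2 b hb hb1)
    (h.hAB ▸ hk : k ∈ ⁅A, B⁆)
  exact ⟨a, ha, by rw [← hak, mul_kap]⟩

/-- Surjectivity of `b ↦ a⁻¹ b⁻¹ a b`. -/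
theorem surjAB' (h : Cfg S A B C D) {a : G} (ha : a ∈ A) (ha1 : a ≠ 1) {k : G} (hk : k ∈ C) :
    ∃ b ∈ B, b⁻¹ * a * b = a * k := by
  obtain ⟨b, hb, hak⟩ := exists_kap_right_of_closure h.ccAB.2.1 ha (h.ccAB.2.2.1 a ha ha1)
    (h.hAB ▸ hk : k ∈ ⁅A, B⁆)
  exact ⟨b, hb, by rw [← hak, mul_kap]⟩

/-- Surjectivity of `k ↦ k⁻¹ d k d⁻¹`. -/
theorem surjDC (h : Cfg S A B C D) {d : G} (hd : d ∈ D) (hd1 : d ≠ 1) {a₀ : G} (ha₀ : a₀ ∈ A) :
    ∃ k ∈ C, d * k * d⁻¹ = k * a₀ := by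
  obtain ⟨k, hk, hak⟩ := exists_kap_right_of_closure h.ccDC.2.1 hd (h.ccDC.2.2.1 d hd hd1)
    (h.hDC ▸ ha₀ : a₀ ∈ ⁅D, C⁆)
  refine ⟨k, hk, ?_⟩
  have h1 := h.comm_AD ha₀ hd
  have h2 : d * k = k * d * a₀ := by
    rw [← hak]; unfold kap; group
  have h3 : d * a₀ * d⁻¹ = a₀ := conj_eq_of_comm h1
  have h4 : k * d * a₀ * d⁻¹ = k * (d * a₀ * d⁻¹) := by group
  rw [h2, h4, h3]

/-- `B` and `D` form a rank one pair. -/
theorem rankOne_BD (h : Cfg S A B C D) : IsRankOnePair B D := by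
  by_contra hn
  have hcenBD := central_of_not_rankOne h.hS h.hB h.hD hn
  obtain ⟨b, hb, hb1⟩ : ∃ b ∈ B, b ≠ 1 := by
    obtain ⟨x, hx⟩ := (Subgroup.ne_bot_iff_exists_ne_one).mp (h.hS.ne_bot B h.hB)
    exact ⟨x, x.2, fun hh => hx (Subtype.ext hh)⟩
  obtain ⟨d, hd, hd1⟩ : ∃ d ∈ D, d ≠ 1 := by
    obtain ⟨x, hx⟩ := (Subgroup.ne_bot_iff_exists_ne_one).mp (h.hS.ne_bot D h.hD)
    exact ⟨x, x.2, fun hh => hx (Subtype.ext hh)⟩
  have hb1' : b⁻¹ ≠ 1 := fun hh => hb1 (inv_eq_one.mp hh)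
  -- `d' = b d b⁻¹` commutes with `d`
  have hdd' : d * (b * d * b⁻¹) = (b * d * b⁻¹) * d := by
    have hz : b * d * b⁻¹ * d⁻¹ ∈ ⁅B, D⁆ := mem_comm_of_mem hb hd
    have h1 := hcenBD _ hz d (Subgroup.mem_sup_right hd)
    have e1 : b * d * b⁻¹ = (b * d * b⁻¹ * d⁻¹) * d := by group
    rw [e1, ← mul_assoc, ← h1]
  -- Claim A
  have claimA : ∀ a₀ ∈ A, (b * d * b⁻¹) * a₀ = a₀ * (b * d * b⁻¹) := by
    intro a₀ ha₀
    obtain ⟨k, hk, hdk⟩ := h.surjDC hd hd1 ha₀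
    obtain ⟨a, ha, hak⟩ := h.surjAB (B.inv_mem hb) hb1' hk
    rw [inv_inv] at hak
    -- `a k` commutes with `d'`
    have c1 : (a * k) * (b * d * b⁻¹) = (b * d * b⁻¹) * (a * k) := by
      rw [← hak]
      exact commute_conj (h.comm_AD ha hd) b
    -- `d (a k) d⁻¹ = a k a₀` commutes with `d'`
    have c2 : (a * k * a₀) * (b * d * b⁻¹) = (b * d * b⁻¹) * (a * k * a₀) := by
      have e1 : d * (a * k) * d⁻¹ = a * k * a₀ := by
        have e2 : d * (a * k) * d⁻¹ = (d * a * d⁻¹) * (d * k * d⁻¹) := by group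
        rw [e2, hdk, conj_eq_of_comm (h.comm_AD ha hd), mul_assoc]
      have e3 : d * (b * d * b⁻¹) * d⁻¹ = b * d * b⁻¹ := conj_eq_of_comm hdd'.symm
      have := commute_conj c1 d
      rwa [e1, e3] at this
    -- hence `a₀` commutes with `d'`
    have e4 : a₀ = (a * k)⁻¹ * (a * k * a₀) := by group
    have c1c : Commute (a * k) (b * d * b⁻¹) := c1
    have c2c : Commute (a * k * a₀) (b * d * b⁻¹) := c2
    have c3 : Commute a₀ (b * d * b⁻¹) := by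
      rw [e4]; exact c1c.inv_left.mul_left c2c
    exact c3.symm.eq
  -- Claim B: `d` centralizes `C`
  have claimB : ∀ k₀ ∈ C, d * k₀ = k₀ * d := by
    intro k₀ hk₀
    obtain ⟨a₁, ha₁, hak⟩ := h.surjAB hb hb1 hk₀
    have c1 := claimA a₁ ha₁
    have c2 := commute_conj c1 b⁻¹
    rw [inv_inv] at c2
    have e1 : b⁻¹ * (b * d * b⁻¹) * b = d := by group
    rw [e1, hak] at c2
    have c2c : Commute d (a₁ * k₀) := c2
    have hda : Commute d a₁ := (h.comm_AD ha₁ hd).symm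
    have c3 : Commute d (a₁⁻¹ * (a₁ * k₀)) := hda.inv_right.mul_right c2c
    rw [inv_mul_cancel_left] at c3
    exact c3.eq
  -- hence `⁅D, C⁆ = ⊥`
  apply h.hS.ne_bot A h.hA
  rw [← h.hDC, ← h.ccDC.2.2.1 d hd hd1, Subgroup.closure_eq_bot_iff]
  rintro _ ⟨c, hc, rfl⟩
  show d * c * d⁻¹ * c⁻¹ = 1
  rw [claimB c hc, mul_assoc c, mul_inv_cancel, mul_one, mul_inv_cancel]

end Cfg

end Cfsg.Agent.Lib.H6.NatMod
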