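import Mathlib
import Cfsg.Prelude.Def_RootSubgroups
import Cfsg.Agent.Lib.H6.NatMod

set_option autoImplicit false

/-! The natural-module configuration, part 2: `N = A C`, normalized by `X = ⟨B, D⟩`, with
`C_N(B) = C`, `C_N(D) = A`. -/

namespace Cfsg.Agent.Lib.H6.NatMod

open Cfsg Cfsg.Agent.Lib.H25 Cfsg.Agent.Lib.H6.FConn
open scoped commutatorElement

variable {G : Type*} [Group G] {S : Set (Subgroup G)} {A B C D : Subgroup G}

theorem exists_ne_one_of_mem {S : Set (Subgroup G)} (hS : IsRootSubgroupSet S) {A : Subgroup G}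
    (hA : A ∈ S) : ∃ a ∈ A, a ≠ 1 := by
  obtain ⟨x, hx⟩ := (Subgroup.ne_bot_iff_exists_ne_one).mp (hS.ne_bot A hA)
  exact ⟨x, x.2, fun hh => hx (Subtype.ext hh)⟩

theorem le_normalizer_of_conjBy_le {K N : Subgroup G} (h : ∀ g ∈ K, conjBy N g ≤ N) :
    K ≤ Subgroup.normalizer (N : Set G) := by
  intro g hg
  rw [← conjBy_eq_self_iff]
  apply le_antisymm (h g hg)
  have h1 := h g⁻¹ (K.inv_mem hg)
  have h2 := conjBy_mono g h1
  rwa [conjBy_conjBy, mul_inv_cancel, conjBy_one] at h2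

theorem conjBy_inf_centralizer (N K : Subgroup G) (g : G) :
    conjBy (N ⊓ Subgroup.centralizer (K : Set G)) g =
      conjBy N g ⊓ Subgroup.centralizer (conjBy K g : Set G) := by
  ext x
  rw [mem_conjBy, Subgroup.mem_inf, Subgroup.mem_inf, mem_conjBy, Subgroup.mem_centralizer_iff,
    Subgroup.mem_centralizer_iff]
  constructor
  · rintro ⟨h1, h2⟩
    refine ⟨h1, ?_⟩
    intro y hy
    have hy' : g⁻¹ * y * g ∈ K := mem_conjBy.1 hy
    have h3 := h2 _ hy'
    have h4 : g * (g⁻¹ * y * g * (g⁻¹ * x * g)) * g⁻¹ = g * (g⁻¹ * x * g * (g⁻¹ * y * g)) * g⁻¹ :=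
      congrArg (fun t => g * t * g⁻¹) h3
    have e1 : g * (g⁻¹ * y * g * (g⁻¹ * x * g)) * g⁻¹ = y * x := by group
    have e2 : g * (g⁻¹ * x * g * (g⁻¹ * y * g)) * g⁻¹ = x * y := by group
    rw [e1, e2] at h4
    exact h4
  · rintro ⟨h1, h2⟩
    refine ⟨h1, ?_⟩
    intro k hk
    have hy : g * k * g⁻¹ ∈ conjBy K g := by
      rw [mem_conjBy]
      have : g⁻¹ * (g * k * g⁻¹) * g = k := by group
      rw [this]; exact hk
    have h3 := h2 _ hy
    have h4 : g⁻¹ * (g * k * g⁻¹ * x) * g = g⁻¹ * (x * (g * k * g⁻¹)) * g :=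
      congrArg (fun t => g⁻¹ * t * g) h3
    have e1 : g⁻¹ * (g * k * g⁻¹ * x) * g = k * (g⁻¹ * x * g) := by group
    have e2 : g⁻¹ * (x * (g * k * g⁻¹)) * g = (g⁻¹ * x * g) * k := by group
    rw [e1, e2] at h4
    exact h4

namespace Cfg

theorem ndBA (h : Cfg S A B C D) {b a : G} (hb : b ∈ B) (hb1 : b ≠ 1) (ha : a ∈ A)
    (ha1 : a ≠ 1) : b * a ≠ a * b :=
  not_commute_of_commutatorCase h.hS h.hB h.hA h.hD h.rankOne_BD h.ccBA hb hb1 ha ha1

theorem ndDC (h : Cfg S A B C D) {d c : G} (hd : d ∈ D) (hd1 : d ≠ 1) (hc : c ∈ C)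
    (hc1 : c ≠ 1) : d * c ≠ c * d :=
  not_commute_of_commutatorCase h.hS h.hD h.hC h.hB (RankOnePair_symm h.rankOne_BD) h.ccDC
    hd hd1 hc hc1

theorem commAC (h : Cfg S A B C D) : ∀ a ∈ A, ∀ c ∈ C, a * c = c * a :=
  fun _ ha _ hc => (h.comm_CA hc ha).symm

theorem exists_mul (h : Cfg S A B C D) {x : G} (hx : x ∈ A ⊔ C) :
    ∃ a ∈ A, ∃ c ∈ C, x = a * c :=
  exists_mul_of_mem_sup h.commAC hx

theorem conjBy_A_le (h : Cfg S A B C D) {b : G} (hb : b ∈ B) : conjBy A b ≤ A ⊔ C := by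
  intro y hy
  rw [mem_conjBy] at hy
  obtain ⟨a, haa⟩ : ∃ a, a = b⁻¹ * y * b := ⟨_, rfl⟩
  rw [← haa] at hy
  have e1 : y = a * (a⁻¹ * b * a⁻¹⁻¹ * b⁻¹) := by rw [haa]; group
  rw [e1]
  exact Subgroup.mul_mem _ (Subgroup.mem_sup_left hy)
    (Subgroup.mem_sup_right (h.mem_C_of_comm (A.inv_mem hy) hb))

theorem conjBy_C_B (h : Cfg S A B C D) {b : G} (hb : b ∈ B) : conjBy C b = C := by
  rw [conjBy_eq_self_iff]
  apply Subgroup.centralizer_le_normalizer
  rw [Subgroup.mem_centralizer_iff]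
  intro c hc
  exact h.comm_CB hc hb

theorem conjBy_A_D (h : Cfg S A B C D) {d : G} (hd : d ∈ D) : conjBy A d = A := by
  rw [conjBy_eq_self_iff]
  apply Subgroup.centralizer_le_normalizer
  rw [Subgroup.mem_centralizer_iff]
  intro a ha
  exact h.comm_AD ha hd

theorem conjBy_C_le (h : Cfg S A B C D) {d : G} (hd : d ∈ D) : conjBy C d ≤ A ⊔ C := by
  intro y hy
  rw [mem_conjBy] at hy
  obtain ⟨c, hcc⟩ : ∃ c, c = d⁻¹ * y * d := ⟨_, rfl⟩
  rw [← hcc] at hy
  have e1 : y = (d * c * d⁻¹ * c⁻¹) * c := by rw [hcc]; group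
  rw [e1]
  exact Subgroup.mul_mem _ (Subgroup.mem_sup_left (h.mem_A_of_comm hd hy))
    (Subgroup.mem_sup_right hy)

theorem X_le_normalizer (h : Cfg S A B C D) :
    B ⊔ D ≤ Subgroup.normalizer ((A ⊔ C : Subgroup G) : Set G) := by
  apply sup_le
  · apply le_normalizer_of_conjBy_le
    intro b hb
    rw [conjBy_sup, h.conjBy_C_B hb]
    exact sup_le (h.conjBy_A_le hb) le_sup_right
  · apply le_normalizer_of_conjBy_le
    intro d hd
    rw [conjBy_sup, h.conjBy_A_D hd]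
    exact sup_le le_sup_left (h.conjBy_C_le hd)

theorem conjBy_N (h : Cfg S A B C D) {x : G} (hx : x ∈ B ⊔ D) : conjBy (A ⊔ C) x = A ⊔ C :=
  conjBy_eq_self_iff.2 (h.X_le_normalizer hx)

theorem inf_centralizer_B (h : Cfg S A B C D) :
    (A ⊔ C) ⊓ Subgroup.centralizer (B : Set G) = C := by
  apply le_antisymm
  · intro x hx
    rw [Subgroup.mem_inf] at hx
    obtain ⟨hxN, hxB⟩ := hx
    obtain ⟨a, ha, c, hc, rfl⟩ := h.exists_mul hxN
    rw [Subgroup.mem_centralizer_iff] at hxB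
    have ha1 : a = 1 := by
      by_contra ha1
      obtain ⟨b, hb, hb1⟩ := exists_ne_one_of_mem h.hS h.hB
      apply h.ndBA hb hb1 ha ha1
      have h1 : Commute b (a * c) := hxB b hb
      have h2 : Commute b c := (h.comm_CB hc hb).symm
      have h3 : Commute b (a * c * c⁻¹) := h1.mul_right h2.inv_right
      rw [mul_inv_cancel_right] at h3
      exact h3.eq
    rw [ha1, one_mul]; exact hc
  · intro c hc
    rw [Subgroup.mem_inf]
    refine ⟨Subgroup.mem_sup_right hc, ?_⟩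
    rw [Subgroup.mem_centralizer_iff]
    intro b hb
    exact (h.comm_CB hc hb).symm

theorem inf_centralizer_D (h : Cfg S A B C D) :
    (A ⊔ C) ⊓ Subgroup.centralizer (D : Set G) = A := by
  apply le_antisymm
  · intro x hx
    rw [Subgroup.mem_inf] at hx
    obtain ⟨hxN, hxD⟩ := hx
    obtain ⟨a, ha, c, hc, rfl⟩ := h.exists_mul hxN
    rw [Subgroup.mem_centralizer_iff] at hxD
    have hc1 : c = 1 := by
      by_contra hc1
      obtain ⟨d, hd, hd1⟩ := exists_ne_one_of_mem h.hS h.hD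
      apply h.ndDC hd hd1 hc hc1
      have h1 : Commute d (a * c) := hxD d hd
      have h2 : Commute d a := (h.comm_AD ha hd).symm
      have h3 : Commute d (a⁻¹ * (a * c)) := h2.inv_right.mul_right h1
      rw [inv_mul_cancel_left] at h3
      exact h3.eq
    rw [hc1, mul_one]; exact ha
  · intro a ha
    rw [Subgroup.mem_inf]
    refine ⟨Subgroup.mem_sup_left ha, ?_⟩
    rw [Subgroup.mem_centralizer_iff]
    intro d hd
    exact (h.comm_AD ha hd).symm

/-- The rank one relation between `b` and `d` gives `C^d = A^b`. -/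
theorem partner_AC (h : Cfg S A B C D) {b d : G} (hb : b ∈ B) (hd : d ∈ D)
    (hE : conjBy B d⁻¹ = conjBy D b⁻¹) : conjBy C d⁻¹ = conjBy A b⁻¹ := by
  have h1 : conjBy C d⁻¹ =
      (A ⊔ C) ⊓ Subgroup.centralizer (conjBy B d⁻¹ : Set G) := by
    conv_lhs => rw [← h.inf_centralizer_B]
    rw [conjBy_inf_centralizer, h.conjBy_N (Subgroup.mem_sup_right (D.inv_mem hd))]
  have h2 : conjBy A b⁻¹ =
      (A ⊔ C) ⊓ Subgroup.centralizer (conjBy D b⁻¹ : Set G) := by
    conv_lhs => rw [← h.inf_centralizer_D]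
    rw [conjBy_inf_centralizer, h.conjBy_N (Subgroup.mem_sup_left (B.inv_mem hb))]
  rw [h1, h2, hE]

end Cfg

end Cfsg.Agent.Lib.H6.NatMod
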