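import Mathlib
import Cfsg.Prelude.Def_RootSubgroups

set_option autoImplicit false

/-! Unipotent linear groups via their canonical fixed-point flag: `Fl H 0 = ⊥`,
`Fl H (j+1) = {m | ∀ g ∈ H, (g - 1) m ∈ Fl H j}`.  `H` acts unipotently iff the flag reaches `⊤`,
and then it does so after `finrank` steps. -/

namespace Cfsg.Agent.Lib.H6.Unip

open Cfsg

variable {k : Type*} [Field k] {M : Type*} [AddCommGroup M] [Module k M]

/-- `g - 1` as an endomorphism. -/
def dl (g : LinearMap.GeneralLinearGroup k M) : M →ₗ[k] M := (g : M →ₗ[k] M) - 1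

theorem dl_def (g : LinearMap.GeneralLinearGroup k M) : dl g = (g : M →ₗ[k] M) - 1 := rfl

theorem coe_eq (g : LinearMap.GeneralLinearGroup k M) : (g : M →ₗ[k] M) = 1 + dl g := by
  rw [dl_def]; abel

theorem dl_one : dl (1 : LinearMap.GeneralLinearGroup k M) = 0 := by
  rw [dl_def, Units.val_one, sub_self]

theorem dl_mul (g h : LinearMap.GeneralLinearGroup k M) :
    dl (g * h) = dl g * dl h + dl g + dl h := by
  rw [dl_def, dl_def, dl_def, Units.val_mul]; noncomm_ring

theorem dl_inv (g : LinearMap.GeneralLinearGroup k M) :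
    dl g⁻¹ = - dl g - dl g⁻¹ * dl g := by
  have h : ((g⁻¹ : LinearMap.GeneralLinearGroup k M) : M →ₗ[k] M) * (g : M →ₗ[k] M) = 1 :=
    Units.inv_mul g
  rw [dl_def, dl_def]
  have h2 : (((g⁻¹ : LinearMap.GeneralLinearGroup k M) : M →ₗ[k] M) - 1) * ((g : M →ₗ[k] M) - 1)
      = ((g⁻¹ : LinearMap.GeneralLinearGroup k M) : M →ₗ[k] M) * (g : M →ₗ[k] M)
        - ((g⁻¹ : LinearMap.GeneralLinearGroup k M) : M →ₗ[k] M) - (g : M →ₗ[k] M) + 1 := by
    noncomm_ring
  rw [h2, h]; abel

theorem mul_apply' (x y : M →ₗ[k] M) (m : M) : (x * y) m = x (y m) := rfl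

theorem dl_eq_zero_iff (g : LinearMap.GeneralLinearGroup k M) : dl g = 0 ↔ g = 1 := by
  rw [dl_def, sub_eq_zero]
  constructor
  · intro h; exact Units.ext h
  · intro h; rw [h]; rfl

/-- One step of the flag. -/
def FlSucc (H : Subgroup (LinearMap.GeneralLinearGroup k M)) (U : Submodule k M) : Submodule k M :=
  ⨅ g ∈ H, U.comap (dl g)

theorem mem_FlSucc {H : Subgroup (LinearMap.GeneralLinearGroup k M)} {U : Submodule k M} {m : M} :
    m ∈ FlSucc H U ↔ ∀ g ∈ H, dl g m ∈ U := by
  simp [FlSucc, Submodule.mem_iInf]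

/-- The canonical flag of `H`. -/
def Fl (H : Subgroup (LinearMap.GeneralLinearGroup k M)) : ℕ → Submodule k M
  | 0 => ⊥
  | (j + 1) => FlSucc H (Fl H j)

theorem Fl_zero (H : Subgroup (LinearMap.GeneralLinearGroup k M)) : Fl H 0 = ⊥ := rfl

theorem Fl_succ (H : Subgroup (LinearMap.GeneralLinearGroup k M)) (j : ℕ) :
    Fl H (j + 1) = FlSucc H (Fl H j) := rfl

theorem mem_Fl_succ {H : Subgroup (LinearMap.GeneralLinearGroup k M)} {j : ℕ} {m : M} :
    m ∈ Fl H (j + 1) ↔ ∀ g ∈ H, dl g m ∈ Fl H j := by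
  rw [Fl_succ, mem_FlSucc]

theorem FlSucc_mono (H : Subgroup (LinearMap.GeneralLinearGroup k M)) {U U' : Submodule k M}
    (h : U ≤ U') : FlSucc H U ≤ FlSucc H U' := by
  intro m hm
  rw [mem_FlSucc] at hm ⊢
  exact fun g hg => h (hm g hg)

theorem Fl_le_succ (H : Subgroup (LinearMap.GeneralLinearGroup k M)) (j : ℕ) :
    Fl H j ≤ Fl H (j + 1) := by
  induction j with
  | zero => rw [Fl_zero]; exact bot_le
  | succ j ih => rw [Fl_succ, Fl_succ H (j + 1)]; exact FlSucc_mono H ih

theorem Fl_mono (H : Subgroup (LinearMap.GeneralLinearGroup k M)) : Monotone (Fl H) :=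
  monotone_nat_of_le_succ (Fl_le_succ H)

theorem Fl_anti {H K : Subgroup (LinearMap.GeneralLinearGroup k M)} (h : H ≤ K) (j : ℕ) :
    Fl K j ≤ Fl H j := by
  induction j with
  | zero => rw [Fl_zero, Fl_zero]
  | succ j ih =>
    intro m hm
    rw [mem_Fl_succ] at hm ⊢
    exact fun g hg => ih (hm g (h hg))

/-- The canonical flag is the largest flag shifted down by all `g - 1`. -/
theorem flag_le {K : Subgroup (LinearMap.GeneralLinearGroup k M)} (F : ℕ → Submodule k M)
    (h0 : F 0 = ⊥) (hs : ∀ g ∈ K, ∀ j, ∀ m ∈ F (j + 1), dl g m ∈ F j) (j : ℕ) : F j ≤ Fl K j := by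
  induction j with
  | zero => rw [h0]; exact bot_le
  | succ j ih =>
    intro m hm
    rw [mem_Fl_succ]
    exact fun g hg => ih (hs g hg j m hm)

theorem dl_mem_self {H : Subgroup (LinearMap.GeneralLinearGroup k M)}
    {g : LinearMap.GeneralLinearGroup k M} (hg : g ∈ H) {j : ℕ} {m : M} (hm : m ∈ Fl H j) :
    dl g m ∈ Fl H j := by
  cases j with
  | zero =>
    rw [Fl_zero, Submodule.mem_bot] at hm
    rw [hm, map_zero]; exact Submodule.zero_mem _
  | succ j => exact Fl_le_succ H j (mem_Fl_succ.1 hm g hg)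

theorem prod_mem_Fl {H : Subgroup (LinearMap.GeneralLinearGroup k M)}
    (l : List (LinearMap.GeneralLinearGroup k M)) (hl : ∀ g ∈ l, g ∈ H) (j : ℕ) (m : M)
    (hm : m ∈ Fl H (j + l.length)) : (l.map dl).prod m ∈ Fl H j := by
  induction l generalizing j with
  | nil => simpa using hm
  | cons g l ih =>
    rw [List.map_cons, List.prod_cons, mul_apply']
    have h1 : (l.map dl).prod m ∈ Fl H (j + 1) := by
      apply ih (fun x hx => hl x (List.mem_cons_of_mem _ hx))
      rw [List.length_cons] at hm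
      rw [add_assoc, add_comm 1]; exact hm
    exact mem_Fl_succ.1 h1 g (hl g List.mem_cons_self)

theorem lists_of_Fl_top {H : Subgroup (LinearMap.GeneralLinearGroup k M)} {n : ℕ}
    (h : Fl H n = ⊤) (l : List (LinearMap.GeneralLinearGroup k M)) (hl : ∀ g ∈ l, g ∈ H)
    (hn : l.length = n) : (l.map dl).prod = 0 := by
  ext m
  have := prod_mem_Fl l hl 0 m (by rw [zero_add, hn, h]; exact Submodule.mem_top)
  rw [Fl_zero, Submodule.mem_bot] at this
  rw [this]; rfl

theorem Fl_top_of_lists {H : Subgroup (LinearMap.GeneralLinearGroup k M)} {n : ℕ}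
    (h : ∀ l : List (LinearMap.GeneralLinearGroup k M), (∀ g ∈ l, g ∈ H) → l.length = n →
      (l.map dl).prod = 0) : Fl H n = ⊤ := by
  have key : ∀ j : ℕ, ∀ l : List (LinearMap.GeneralLinearGroup k M), (∀ g ∈ l, g ∈ H) →
      l.length + j = n → ∀ m : M, (l.map dl).prod m ∈ Fl H j := by
    intro j
    induction j with
    | zero =>
      intro l hl hn m
      rw [h l hl (by simpa using hn)]
      exact Submodule.zero_mem _
    | succ j ih =>
      intro l hl hn m
      rw [mem_Fl_succ]
      intro g hg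
      have := ih (g :: l) (by
        intro x hx
        rcases List.mem_cons.1 hx with rfl | hx
        · exact hg
        · exact hl x hx) (by rw [List.length_cons]; omega) m
      rwa [List.map_cons, List.prod_cons, mul_apply'] at this
  rw [eq_top_iff]
  intro m _
  have := key n [] (by simp) (by simp) m
  simpa using this

theorem flatMap_singleton_eq_map {α β : Type*} (f : α → β) (l : List α) :
    List.flatMap (fun a => [f a]) l = l.map f := by
  induction l with
  | nil => rfl
  | cons a l ih => simp [List.flatMap_cons, ih]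

theorem isUnipotentOn_iff_lists {H : Subgroup (LinearMap.GeneralLinearGroup k M)} :
    IsUnipotentOn H ↔ ∃ n : ℕ, ∀ l : List (LinearMap.GeneralLinearGroup k M),
      (∀ g ∈ l, g ∈ H) → l.length = n → (l.map dl).prod = 0 := by
  unfold IsUnipotentOn
  simp only [List.bind_eq_flatMap, List.pure_def, flatMap_singleton_eq_map, List.map_map]
  rfl

theorem isUnipotentOn_iff {H : Subgroup (LinearMap.GeneralLinearGroup k M)} :
    IsUnipotentOn H ↔ ∃ n, Fl H n = ⊤ := by
  rw [isUnipotentOn_iff_lists]
  constructor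
  · rintro ⟨n, hn⟩
    exact ⟨n, Fl_top_of_lists hn⟩
  · rintro ⟨n, hn⟩
    exact ⟨n, lists_of_Fl_top hn⟩

theorem Fl_stable {H : Subgroup (LinearMap.GeneralLinearGroup k M)} {j : ℕ}
    (h : Fl H (j + 1) = Fl H j) (i : ℕ) : Fl H (j + i) = Fl H j := by
  induction i with
  | zero => rfl
  | succ i ih =>
    rw [← add_assoc, Fl_succ, ih, ← Fl_succ, h]

theorem Fl_top_mono {H : Subgroup (LinearMap.GeneralLinearGroup k M)} {n n' : ℕ} (hn : n ≤ n')
    (h : Fl H n = ⊤) : Fl H n' = ⊤ := by
  rw [eq_top_iff, ← h]; exact Fl_mono H hn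

section FD
variable [FiniteDimensional k M]

theorem Fl_finrank_top {H : Subgroup (LinearMap.GeneralLinearGroup k M)} {n : ℕ}
    (h : Fl H n = ⊤) : Fl H (Module.finrank k M) = ⊤ := by
  have key : ∀ j : ℕ, Fl H j = ⊤ ∨ j ≤ Module.finrank k (Fl H j) := by
    intro j
    induction j with
    | zero => right; exact Nat.zero_le _
    | succ j ih =>
      rcases ih with ih | ih
      · left; exact Fl_top_mono (Nat.le_succ j) ih
      · by_cases htop : Fl H (j + 1) = ⊤
        · left; exact htop
        · right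
          have hne : Fl H j ≠ Fl H (j + 1) := by
            intro heq
            have hst := Fl_stable heq.symm
            apply htop
            rcases le_total n j with hnj | hnj
            · exact Fl_top_mono (le_trans hnj (Nat.le_succ j)) h
            · obtain ⟨i, rfl⟩ := Nat.exists_eq_add_of_le hnj
              rw [hst i] at h
              rw [← heq, h]
          have hlt : Fl H j < Fl H (j + 1) := lt_of_le_of_ne (Fl_le_succ H j) hne
          have := Submodule.finrank_lt_finrank_of_lt hlt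
          omega
  rcases key (Module.finrank k M) with h1 | h1
  · exact h1
  · apply Submodule.eq_top_of_finrank_eq
    exact le_antisymm (Submodule.finrank_le _) h1

theorem isUnipotentOn_iff_finrank {H : Subgroup (LinearMap.GeneralLinearGroup k M)} :
    IsUnipotentOn H ↔ Fl H (Module.finrank k M) = ⊤ := by
  rw [isUnipotentOn_iff]
  constructor
  · rintro ⟨n, hn⟩; exact Fl_finrank_top hn
  · intro h; exact ⟨_, h⟩

end FD

theorem isUnipotentOn_mono {H K : Subgroup (LinearMap.GeneralLinearGroup k M)} (h : H ≤ K)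
    (hK : IsUnipotentOn K) : IsUnipotentOn H := by
  obtain ⟨n, hn⟩ := hK
  exact ⟨n, fun l hl hlen => hn l (fun g hg => h (hl g hg)) hlen⟩

end Cfsg.Agent.Lib.H6.Unip
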