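import Mathlib
import Cfsg.Prelude.Def_RootSubgroups
import Cfsg.Agent.Lib.H6.UnipFlag

set_option autoImplicit false

/-! Endomorphisms shifting the canonical flag of a unipotent linear group, the subgroups `SI H i`
of group elements shifting the flag by `i` steps (a central series), the linear span `Lin H` of the
`g - 1`, and the extension lemma: a unipotent group normalized by a unipotent group. -/

namespace Cfsg.Agent.Lib.H6.Unip

open Cfsg

variable {k : Type*} [Field k] {M : Type*} [AddCommGroup M] [Module k M]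

/-- `x` maps `Fl H (j + i)` into `Fl H j` for all `j`. -/
def Shifts (H : Subgroup (LinearMap.GeneralLinearGroup k M)) (i : ℕ) (x : M →ₗ[k] M) : Prop :=
  ∀ j, ∀ m ∈ Fl H (j + i), x m ∈ Fl H j

namespace Shifts

variable {H : Subgroup (LinearMap.GeneralLinearGroup k M)} {i i' : ℕ} {x y : M →ₗ[k] M}

theorem mono (h : Shifts H i x) (hi : i' ≤ i) : Shifts H i' x :=
  fun j m hm => h j m (Fl_mono H (Nat.add_le_add_left hi j) hm)

theorem self (h : Shifts H i x) {j : ℕ} {m : M} (hm : m ∈ Fl H j) : x m ∈ Fl H j := by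
  have h0 : Shifts H 0 x := h.mono (Nat.zero_le i)
  exact h0 j m hm

theorem zero : Shifts H i (0 : M →ₗ[k] M) := fun j m _ => by
  rw [LinearMap.zero_apply]; exact Submodule.zero_mem _

theorem one : Shifts H 0 (1 : M →ₗ[k] M) := fun j m hm => hm

theorem add (hx : Shifts H i x) (hy : Shifts H i y) : Shifts H i (x + y) := fun j m hm => by
  rw [LinearMap.add_apply]; exact Submodule.add_mem _ (hx j m hm) (hy j m hm)

theorem neg (hx : Shifts H i x) : Shifts H i (-x) := fun j m hm => by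
  rw [LinearMap.neg_apply]; exact Submodule.neg_mem _ (hx j m hm)

theorem sub (hx : Shifts H i x) (hy : Shifts H i y) : Shifts H i (x - y) := fun j m hm => by
  rw [LinearMap.sub_apply]; exact Submodule.sub_mem _ (hx j m hm) (hy j m hm)

theorem smul (c : k) (hx : Shifts H i x) : Shifts H i (c • x) := fun j m hm => by
  rw [LinearMap.smul_apply]; exact Submodule.smul_mem _ c (hx j m hm)

theorem mul (hx : Shifts H i x) (hy : Shifts H i' y) : Shifts H (i + i') (x * y) := fun j m hm => by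
  rw [mul_apply']
  apply hx j
  apply hy (j + i)
  rwa [add_assoc]

end Shifts

theorem shifts_dl_of_mem {H : Subgroup (LinearMap.GeneralLinearGroup k M)}
    {g : LinearMap.GeneralLinearGroup k M} (hg : g ∈ H) : Shifts H 1 (dl g) :=
  fun _ _ hm => mem_Fl_succ.1 hm g hg

theorem shifts_coe {H : Subgroup (LinearMap.GeneralLinearGroup k M)} {i : ℕ}
    {g : LinearMap.GeneralLinearGroup k M} (hg : Shifts H i (dl g)) :
    Shifts H 0 (g : M →ₗ[k] M) := by
  rw [coe_eq]
  exact Shifts.one.add (hg.mono (Nat.zero_le i))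

/-- Group elements which, together with their inverses, shift the flag of `H` by `i` steps. -/
def SI (H : Subgroup (LinearMap.GeneralLinearGroup k M)) (i : ℕ) :
    Subgroup (LinearMap.GeneralLinearGroup k M) where
  carrier := {g | Shifts H i (dl g) ∧ Shifts H i (dl g⁻¹)}
  one_mem' := by
    refine ⟨?_, ?_⟩
    · rw [dl_one]; exact Shifts.zero
    · rw [inv_one, dl_one]; exact Shifts.zero
  mul_mem' := by
    rintro g h ⟨hg1, hg2⟩ ⟨hh1, hh2⟩
    refine ⟨?_, ?_⟩
    · rw [dl_mul]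
      exact (((hg1.mul hh1).mono (Nat.le_add_right i i)).add hg1).add hh1
    · rw [mul_inv_rev, dl_mul]
      exact (((hh2.mul hg2).mono (Nat.le_add_right i i)).add hh2).add hg2
  inv_mem' := by
    rintro g ⟨hg1, hg2⟩
    refine ⟨hg2, ?_⟩
    rw [inv_inv]; exact hg1

theorem mem_SI {H : Subgroup (LinearMap.GeneralLinearGroup k M)} {i : ℕ}
    {g : LinearMap.GeneralLinearGroup k M} :
    g ∈ SI H i ↔ Shifts H i (dl g) ∧ Shifts H i (dl g⁻¹) := Iff.rfl

theorem SI_anti (H : Subgroup (LinearMap.GeneralLinearGroup k M)) {i i' : ℕ} (h : i' ≤ i) :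
    SI H i ≤ SI H i' := fun _ hg => ⟨hg.1.mono h, hg.2.mono h⟩

theorem le_SI_one (H : Subgroup (LinearMap.GeneralLinearGroup k M)) : H ≤ SI H 1 :=
  fun _ hg => ⟨shifts_dl_of_mem hg, shifts_dl_of_mem (H.inv_mem hg)⟩

theorem SI_eq_bot_of_top {H : Subgroup (LinearMap.GeneralLinearGroup k M)} {n : ℕ}
    (h : Fl H n = ⊤) : SI H n = ⊥ := by
  rw [eq_bot_iff]
  intro g hg
  rw [Subgroup.mem_bot, ← dl_eq_zero_iff]
  ext m
  have := hg.1 0 m (by rw [zero_add, h]; exact Submodule.mem_top)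
  rw [Fl_zero, Submodule.mem_bot] at this
  rw [this]; rfl

theorem dl_commutator (g x : LinearMap.GeneralLinearGroup k M) :
    dl (g * x * g⁻¹ * x⁻¹) = (dl g * dl x - dl x * dl g) *
      ((g⁻¹ : LinearMap.GeneralLinearGroup k M) : M →ₗ[k] M) *
      ((x⁻¹ : LinearMap.GeneralLinearGroup k M) : M →ₗ[k] M) := by
  have h1 : (x : M →ₗ[k] M) * ((x⁻¹ : LinearMap.GeneralLinearGroup k M) : M →ₗ[k] M) = 1 :=
    Units.mul_inv x
  have h2 : (g : M →ₗ[k] M) * ((g⁻¹ : LinearMap.GeneralLinearGroup k M) : M →ₗ[k] M) = 1 :=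
    Units.mul_inv g
  have h3 : (dl g * dl x - dl x * dl g) = (g : M →ₗ[k] M) * (x : M →ₗ[k] M)
      - (x : M →ₗ[k] M) * (g : M →ₗ[k] M) := by
    rw [dl_def, dl_def]; noncomm_ring
  rw [h3, dl_def, Units.val_mul, Units.val_mul, Units.val_mul, sub_mul,
    sub_mul, mul_assoc (x : M →ₗ[k] M) (g : M →ₗ[k] M), h2, mul_one, h1]

theorem commutator_mem_SI {H : Subgroup (LinearMap.GeneralLinearGroup k M)} {i i' : ℕ}
    {g x : LinearMap.GeneralLinearGroup k M} (hg : g ∈ SI H i) (hx : x ∈ SI H i') :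
    g * x * g⁻¹ * x⁻¹ ∈ SI H (i + i') := by
  have key : ∀ {i i' : ℕ} {g x : LinearMap.GeneralLinearGroup k M}, g ∈ SI H i → x ∈ SI H i' →
      Shifts H (i + i') (dl (g * x * g⁻¹ * x⁻¹)) := by
    intro i i' g x hg hx
    rw [dl_commutator]
    have h1 : Shifts H (i + i') (dl g * dl x - dl x * dl g) := by
      apply Shifts.sub (hg.1.mul hx.1)
      rw [add_comm]; exact hx.1.mul hg.1
    have := (h1.mul (shifts_coe hg.2)).mul (shifts_coe hx.2)
    simpa using this
  refine ⟨key hg hx, ?_⟩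
  have : (g * x * g⁻¹ * x⁻¹)⁻¹ = x * g * x⁻¹ * g⁻¹ := by group
  rw [this, add_comm]
  exact key hx hg

/-- The linear span of the `g - 1`, `g ∈ H`. -/
def Lin (H : Subgroup (LinearMap.GeneralLinearGroup k M)) : Submodule k (M →ₗ[k] M) :=
  Submodule.span k (dl '' (H : Set (LinearMap.GeneralLinearGroup k M)))

theorem dl_mem_Lin {H : Subgroup (LinearMap.GeneralLinearGroup k M)}
    {g : LinearMap.GeneralLinearGroup k M} (hg : g ∈ H) : dl g ∈ Lin H :=
  Submodule.subset_span ⟨g, hg, rfl⟩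

theorem Lin_mono {H K : Subgroup (LinearMap.GeneralLinearGroup k M)} (h : H ≤ K) :
    Lin H ≤ Lin K :=
  Submodule.span_mono (Set.image_mono h)

theorem shifts_of_mem_Lin {H : Subgroup (LinearMap.GeneralLinearGroup k M)} {x : M →ₗ[k] M}
    (hx : x ∈ Lin H) : Shifts H 1 x := by
  unfold Lin at hx
  induction hx using Submodule.span_induction with
  | mem x hx =>
    obtain ⟨g, hg, rfl⟩ := hx
    exact shifts_dl_of_mem hg
  | zero => exact Shifts.zero
  | add x y _ _ hx hy => exact hx.add hy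
  | smul c x _ hx => exact hx.smul c

theorem le_SI_of_Lin {A Q : Subgroup (LinearMap.GeneralLinearGroup k M)}
    (h : ∀ a ∈ A, dl a ∈ Lin Q) : A ≤ SI Q 1 :=
  fun a ha => ⟨shifts_of_mem_Lin (h a ha), shifts_of_mem_Lin (h a⁻¹ (A.inv_mem ha))⟩

theorem Fl_le_of_le_SI {H K : Subgroup (LinearMap.GeneralLinearGroup k M)} (h : K ≤ SI H 1)
    (j : ℕ) : Fl H j ≤ Fl K j :=
  flag_le (Fl H) (Fl_zero H) (fun _ hg j m hm => (h hg).1 j m hm) j

end Cfsg.Agent.Lib.H6.Unip
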