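import Mathlib
import Cfsg.Prelude.Def_RootSubgroups
import Cfsg.Agent.Lib.H25.RankOne
import Cfsg.Agent.Lib.H6.NatMod2
import Cfsg.Agent.Lib.H6.UnipStab

set_option autoImplicit false

/-! The extension lemma (a unipotent linear group normalized by a unipotent linear group) and a
normalizer-growth lemma for groups with a finite central series, relative to an invariant generating
family of subgroups. -/

namespace Cfsg.Agent.Lib.H6.Unip

open Cfsg Cfsg.Agent.Lib.H25 Cfsg.Agent.Lib.H6.NatMod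

section Ext

variable {k : Type*} [Field k] {M : Type*} [AddCommGroup M] [Module k M]

theorem dl_mul_coe (δ t : LinearMap.GeneralLinearGroup k M) :
    dl δ * (t : M →ₗ[k] M) = (t : M →ₗ[k] M) * dl (t⁻¹ * δ * t) := by
  have h : (t : M →ₗ[k] M) * ((t⁻¹ : LinearMap.GeneralLinearGroup k M) : M →ₗ[k] M) = 1 :=
    Units.mul_inv t
  rw [dl_def, dl_def, Units.val_mul, Units.val_mul, mul_sub, ← mul_assoc, ← mul_assoc, h, one_mul,
    mul_one, sub_mul, one_mul]

theorem dl_mul' (t δ : LinearMap.GeneralLinearGroup k M) :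
    dl (t * δ) = (t : M →ₗ[k] M) * dl δ + dl t := by
  rw [dl_def, dl_def, dl_def, Units.val_mul]; noncomm_ring

theorem coe_mem_Fl_of_mem_normalizer {D : Subgroup (LinearMap.GeneralLinearGroup k M)}
    {t : LinearMap.GeneralLinearGroup k M}
    (ht : t ∈ Subgroup.normalizer (D : Set (LinearMap.GeneralLinearGroup k M))) (j : ℕ) :
    ∀ m ∈ Fl D j, (t : M →ₗ[k] M) m ∈ Fl D j := by
  induction j with
  | zero =>
    intro m hm
    rw [Fl_zero, Submodule.mem_bot] at hm
    rw [hm, map_zero]; exact Submodule.zero_mem _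
  | succ j ih =>
    intro m hm
    rw [mem_Fl_succ] at hm ⊢
    intro δ hδ
    have h1 : dl δ ((t : M →ₗ[k] M) m) = (t : M →ₗ[k] M) (dl (t⁻¹ * δ * t) m) := by
      rw [← mul_apply', dl_mul_coe, mul_apply']
    rw [h1]
    apply ih
    apply hm
    have ht' := Subgroup.inv_mem _ ht
    have := (Subgroup.mem_normalizer_iff.1 ht' δ).1 hδ
    rwa [inv_inv] at this

theorem Fl_le_sup_mul {D T : Subgroup (LinearMap.GeneralLinearGroup k M)} {d : ℕ}
    (hT : Fl T d = ⊤)
    (hN : T ≤ Subgroup.normalizer (D : Set (LinearMap.GeneralLinearGroup k M))) (j : ℕ) :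
    Fl D j ≤ Fl (T ⊔ D) (j * d) := by
  induction j with
  | zero => rw [Fl_zero]; exact bot_le
  | succ j ih =>
    have inner : ∀ i, Fl D (j + 1) ⊓ Fl T i ≤ Fl (T ⊔ D) (j * d + i) := by
      intro i
      induction i with
      | zero => rw [Fl_zero, inf_bot_eq]; exact bot_le
      | succ i ihi =>
        rintro m ⟨hm1, hm2⟩
        rw [← add_assoc, mem_Fl_succ]
        intro r hr
        have hr' : r ∈ (↑(T ⊔ D) : Set (LinearMap.GeneralLinearGroup k M)) := hr
        rw [Subgroup.coe_mul_of_left_le_normalizer_right T D hN] at hr'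
        obtain ⟨t, ht, δ, hδ, rfl⟩ := hr'
        rw [dl_mul', LinearMap.add_apply, mul_apply']
        apply Submodule.add_mem
        · apply Fl_mono (T ⊔ D) (Nat.le_add_right (j * d) i)
          apply ih
          apply coe_mem_Fl_of_mem_normalizer (hN ht)
          exact mem_Fl_succ.1 hm1 δ hδ
        · apply ihi
          refine ⟨?_, mem_Fl_succ.1 hm2 t ht⟩
          rw [dl_def, LinearMap.sub_apply]
          apply Submodule.sub_mem _ _ hm1
          exact coe_mem_Fl_of_mem_normalizer (hN ht) (j + 1) m hm1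
    have h := inner d
    rw [hT, inf_top_eq] at h
    have e : (j + 1) * d = j * d + d := by ring
    rw [e]; exact h

/-- Extension lemma: `D` unipotent, normalized by the unipotent group `T`; then `T ⊔ D` is
unipotent. -/
theorem Fl_sup_top {D T : Subgroup (LinearMap.GeneralLinearGroup k M)} {e d : ℕ}
    (hD : Fl D e = ⊤) (hT : Fl T d = ⊤)
    (hN : T ≤ Subgroup.normalizer (D : Set (LinearMap.GeneralLinearGroup k M))) :
    Fl (T ⊔ D) (e * d) = ⊤ := by
  rw [eq_top_iff, ← hD]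
  exact Fl_le_sup_mul hT hN e

end Ext

section NG

variable {G : Type*} [Group G]

theorem conj_mem_sup_of_commutator {D Q1 : Subgroup G} {g y : G}
    (h : ∀ δ ∈ D, g * δ * g⁻¹ * δ⁻¹ ∈ Q1) (hy : y ∈ conjBy D g) : y ∈ D ⊔ Q1 := by
  rw [mem_conjBy] at hy
  have e : y = (g * (g⁻¹ * y * g) * g⁻¹ * (g⁻¹ * y * g)⁻¹) * (g⁻¹ * y * g) := by group
  rw [e]
  exact Subgroup.mul_mem _ (Subgroup.mem_sup_right (h _ hy)) (Subgroup.mem_sup_left hy)

/-- Normalizer growth relative to an invariant generating family, in a group with a finite central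
series `Q`. -/
theorem exists_normalizing {P D : Subgroup G} (Q : ℕ → Subgroup G) {n : ℕ} (hQ0 : Q 0 = P)
    (hQn : Q n = ⊥) (hQP : ∀ i, Q i ≤ P)
    (hcomm : ∀ i, ∀ g ∈ Q i, ∀ x ∈ P, g * x * g⁻¹ * x⁻¹ ∈ Q (i + 1))
    {W' : Set (Subgroup G)} (hW'P : ∀ A ∈ W', A ≤ P)
    (hconj : ∀ A ∈ W', ∀ g ∈ P, conjBy A g ∈ W') (hP : P ≤ sSup W') (hDP : D ≤ P)
    (hD : D ≤ sSup {A | A ∈ W' ∧ A ≤ D}) (hne : D ≠ P) :
    ∃ A ∈ W', ¬ A ≤ D ∧ A ≤ Subgroup.normalizer (D : Set G) := by
  have hSn : ∀ A ∈ W', A ≤ D ⊔ Q n → A ≤ D := by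
    intro A _ hA; rwa [hQn, sup_bot_eq] at hA
  have hS0 : ¬ ∀ A ∈ W', A ≤ D ⊔ Q 0 → A ≤ D := by
    intro h
    apply hne
    apply le_antisymm hDP
    apply le_trans hP
    apply sSup_le
    intro A hA
    apply h A hA
    rw [hQ0]; exact le_trans (hW'P A hA) le_sup_right
  have hex : ∃ i, (∀ A ∈ W', A ≤ D ⊔ Q (i + 1) → A ≤ D) ∧ ¬ ∀ A ∈ W', A ≤ D ⊔ Q i → A ≤ D := by
    by_contra hcon
    push_neg at hcon
    have : ∀ m, m ≤ n → ∀ A ∈ W', A ≤ D ⊔ Q (n - m) → A ≤ D := by
      intro m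
      induction m with
      | zero => intro _; exact hSn
      | succ m ih =>
        intro hm
        have h1 := ih (by omega)
        have e : n - m = (n - (m + 1)) + 1 := by omega
        rw [e] at h1
        exact hcon _ h1
    apply hS0
    have h2 := this n le_rfl
    rwa [Nat.sub_self] at h2
  obtain ⟨i, hSi1, hSi⟩ := hex
  push_neg at hSi
  obtain ⟨A, hAW, hAle, hAD⟩ := hSi
  refine ⟨A, hAW, hAD, ?_⟩
  have hN1 : D ⊔ Q i ≤ Subgroup.normalizer ((D ⊔ Q (i + 1) : Subgroup G) : Set G) := by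
    apply sup_le
    · exact le_trans le_sup_left Subgroup.le_normalizer
    · apply le_normalizer_of_conjBy_le
      intro g hg
      rw [conjBy_sup]
      apply sup_le
      · intro y hy
        exact conj_mem_sup_of_commutator (fun δ hδ => hcomm i g hg δ (hDP hδ)) hy
      · intro y hy
        have := conj_mem_sup_of_commutator (D := Q (i + 1)) (Q1 := Q (i + 1))
          (fun δ hδ => hcomm i g hg δ (hQP _ hδ)) hy
        rw [sup_idem] at this
        exact Subgroup.mem_sup_right this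
  apply le_normalizer_of_conjBy_le
  intro a ha
  unfold conjBy
  rw [Subgroup.map_le_iff_le_comap]
  apply le_trans hD
  apply sSup_le
  rintro B ⟨hBW, hBD⟩
  rw [← Subgroup.map_le_iff_le_comap]
  change conjBy B a ≤ D
  apply hSi1 _ (hconj B hBW a (hW'P A hAW ha))
  have h1 : conjBy B a ≤ conjBy (D ⊔ Q (i + 1)) a := conjBy_mono a (le_trans hBD le_sup_left)
  have h2 : conjBy (D ⊔ Q (i + 1)) a = D ⊔ Q (i + 1) := conjBy_eq_self_iff.2 (hN1 (hAle ha))
  rwa [h2] at h1

end NG

end Cfsg.Agent.Lib.H6.Unip
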