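import Mathlib
import Cfsg.Prelude.Def_RootSubgroups
import Cfsg.Agent.Lib.H25.RankOne
import Cfsg.Agent.Lib.H6.NatMod2
import Cfsg.Agent.Lib.H6.UnipExt

set_option autoImplicit false

/-! A Baer–Suzuki type theorem for unipotent linear groups (Alperin–Lyons argument): a
conjugation-invariant family of subgroups of `GL(M)`, any two of which generate a unipotent group,
generates a unipotent group. -/

namespace Cfsg.Agent.Lib.H6.Unip

open Cfsg Cfsg.Agent.Lib.H25 Cfsg.Agent.Lib.H6.NatMod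

variable {k : Type*} [Field k] {M : Type*} [AddCommGroup M] [Module k M]

/-- The subgroup generated by the members of `W` inside `K`. -/
def Wgen (W : Set (Subgroup (LinearMap.GeneralLinearGroup k M)))
    (K : Subgroup (LinearMap.GeneralLinearGroup k M)) :
    Subgroup (LinearMap.GeneralLinearGroup k M) := sSup {A | A ∈ W ∧ A ≤ K}

section Wgen

variable {W : Set (Subgroup (LinearMap.GeneralLinearGroup k M))}
  {K K' A : Subgroup (LinearMap.GeneralLinearGroup k M)}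

theorem Wgen_le : Wgen W K ≤ K := sSup_le (fun _ hA => hA.2)

theorem Wgen_mono (h : K ≤ K') : Wgen W K ≤ Wgen W K' :=
  sSup_le_sSup (fun _ hA => ⟨hA.1, hA.2.trans h⟩)

theorem le_Wgen_of_mem (hA : A ∈ W) (hAK : A ≤ K) : A ≤ Wgen W K := le_sSup ⟨hA, hAK⟩

theorem Wgen_le_sSup : Wgen W K ≤ sSup W := sSup_le_sSup (fun _ hA => hA.1)

theorem Wgen_idem : Wgen W K ≤ Wgen W (Wgen W K) :=
  sSup_le (fun _ hA => le_Wgen_of_mem hA.1 (le_Wgen_of_mem hA.1 hA.2))

theorem sup_le_Wgen (h1 : K ≤ Wgen W K) (h2 : K' ≤ Wgen W K') : K ⊔ K' ≤ Wgen W (K ⊔ K') :=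
  sup_le (h1.trans (Wgen_mono le_sup_left)) (h2.trans (Wgen_mono le_sup_right))

end Wgen

section FD

variable [FiniteDimensional k M]

/-- The unipotent subgroups generated by members of `W`. -/
def UU (W : Set (Subgroup (LinearMap.GeneralLinearGroup k M))) :
    Set (Subgroup (LinearMap.GeneralLinearGroup k M)) :=
  {K | K ≤ Wgen W K ∧ Fl K (Module.finrank k M) = ⊤}

variable {W : Set (Subgroup (LinearMap.GeneralLinearGroup k M))}

theorem exists_mem_chain {c : Set (Subgroup (LinearMap.GeneralLinearGroup k M))}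
    (hc : IsChain (· ≤ ·) c) {y : Subgroup (LinearMap.GeneralLinearGroup k M)} (hy : y ∈ c)
    (l : List (LinearMap.GeneralLinearGroup k M)) (hl : ∀ g ∈ l, g ∈ sSup c) :
    ∃ K ∈ c, ∀ g ∈ l, g ∈ K := by
  induction l with
  | nil => exact ⟨y, hy, fun g hg => absurd hg List.not_mem_nil⟩
  | cons g l ih =>
    obtain ⟨K1, hK1, h1⟩ := ih (fun x hx => hl x (List.mem_cons_of_mem _ hx))
    obtain ⟨K2, hK2, h2⟩ := (Subgroup.mem_sSup_of_directedOn ⟨y, hy⟩ hc.directedOn).1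
      (hl g List.mem_cons_self)
    rcases hc.total hK1 hK2 with h | h
    · refine ⟨K2, hK2, fun x hx => ?_⟩
      rcases List.mem_cons.1 hx with rfl | hx
      · exact h2
      · exact h (h1 x hx)
    · refine ⟨K1, hK1, fun x hx => ?_⟩
      rcases List.mem_cons.1 hx with rfl | hx
      · exact h h2
      · exact h1 x hx

theorem sSup_chain_mem {c : Set (Subgroup (LinearMap.GeneralLinearGroup k M))} (hcU : c ⊆ UU W)
    (hc : IsChain (· ≤ ·) c) {y : Subgroup (LinearMap.GeneralLinearGroup k M)} (hy : y ∈ c) :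
    sSup c ∈ UU W := by
  refine ⟨?_, ?_⟩
  · apply sSup_le
    intro K hK
    exact (hcU hK).1.trans (Wgen_mono (le_sSup hK))
  · apply Fl_top_of_lists
    intro l hl hlen
    obtain ⟨K, hK, h⟩ := exists_mem_chain hc hy l hl
    exact lists_of_Fl_top (hcU hK).2 l h hlen

theorem exists_maximal {K : Subgroup (LinearMap.GeneralLinearGroup k M)} (hK : K ∈ UU W) :
    ∃ R, K ≤ R ∧ Maximal (fun x => x ∈ UU W) R :=
  zorn_le_nonempty₀ (UU W)
    (fun c hcU hc _ hy => ⟨sSup c, sSup_chain_mem hcU hc hy, fun _ hz => le_sSup hz⟩) K hK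

theorem exists_normalizing_W (hconj : ∀ A ∈ W, ∀ g ∈ sSup W, conjBy A g ∈ W)
    {P D : Subgroup (LinearMap.GeneralLinearGroup k M)} (hP : P ∈ UU W) (hDP : D ≤ P)
    (hD : D ≤ Wgen W D) (hne : D ≠ P) :
    ∃ A ∈ W, A ≤ P ∧ ¬ A ≤ D ∧
      A ≤ Subgroup.normalizer (D : Set (LinearMap.GeneralLinearGroup k M)) := by
  obtain ⟨A, ⟨hAW, hAP⟩, hAD, hAN⟩ := exists_normalizing (P := P) (D := D)
    (fun i => SI P i ⊓ P) (n := Module.finrank k M)
    (W' := {A | A ∈ W ∧ A ≤ P})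
    (inf_eq_right.2 ((le_SI_one P).trans (SI_anti P (Nat.zero_le 1))))
    (by rw [SI_eq_bot_of_top hP.2, bot_inf_eq])
    (fun i => inf_le_right)
    (fun i g hg x hx => ⟨commutator_mem_SI hg.1 (le_SI_one P hx),
      P.mul_mem (P.mul_mem (P.mul_mem hg.2 hx) (P.inv_mem hg.2)) (P.inv_mem hx)⟩)
    (fun A hA => hA.2)
    (fun A hA g hg => ⟨hconj A hA.1 g (Wgen_le_sSup (hP.1 hg)), by
      have := conjBy_mono g hA.2
      rwa [conjBy_of_mem hg] at this⟩)
    hP.1 hDP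
    (hD.trans (sSup_le_sSup (fun A hA => ⟨⟨hA.1, hA.2.trans hDP⟩, hA.2⟩)))
    hne
  exact ⟨A, hAW, hAP, hAD, hAN⟩

theorem step {P Q R D A : Subgroup (LinearMap.GeneralLinearGroup k M)}
    (hQ : Maximal (fun x => x ∈ UU W) Q) (hDQ : D ≤ Q) (hAW : A ∈ W) (hAP : A ≤ P) (hAR : A ≤ R)
    (hAQ : ¬ A ≤ Q) (hDRP : D ≤ Wgen W (R ⊓ P))
    (IH : ∀ L', Lin D < L' → ∀ P' Q', Maximal (fun x => x ∈ UU W) P' →
      Maximal (fun x => x ∈ UU W) Q' → Lin (Wgen W (P' ⊓ Q')) = L' → P' = Q')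
    (hR : Maximal (fun x => x ∈ UU W) R) (hP : Maximal (fun x => x ∈ UU W) P) : R = P := by
  by_contra hne
  have hle : Lin D ≤ Lin (Wgen W (R ⊓ P)) := Lin_mono hDRP
  rcases hle.eq_or_lt with heq | hlt
  · apply hAQ
    have hA1 : A ≤ Wgen W (R ⊓ P) := le_Wgen_of_mem hAW (le_inf hAR hAP)
    have hA2 : A ≤ SI Q 1 := le_SI_of_Lin (fun a ha => by
      apply Lin_mono hDQ
      rw [heq]
      exact dl_mem_Lin (hA1 ha))
    have hQA : Q ⊔ A ∈ UU W := by
      refine ⟨sup_le_Wgen hQ.1.1 (le_Wgen_of_mem hAW le_rfl), ?_⟩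
      rw [eq_top_iff, ← hQ.1.2]
      exact Fl_le_of_le_SI (sup_le (le_SI_one Q) hA2) _
    exact le_trans le_sup_right (hQ.2 hQA le_sup_left)
  · exact hne (IH _ hlt R P hR hP rfl)

theorem maximal_unique (hWW : ∀ A ∈ W, ∀ B ∈ W, IsUnipotentOn (A ⊔ B))
    (hconj : ∀ A ∈ W, ∀ g ∈ sSup W, conjBy A g ∈ W) :
    ∀ L : Submodule k (M →ₗ[k] M), ∀ P Q, Maximal (fun x => x ∈ UU W) P →
      Maximal (fun x => x ∈ UU W) Q → Lin (Wgen W (P ⊓ Q)) = L → P = Q := by
  intro L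
  induction L using WellFoundedGT.induction with
  | _ L IH =>
    intro P Q hP hQ hL
    by_contra hne
    have hDP : Wgen W (P ⊓ Q) ≤ P := Wgen_le.trans inf_le_left
    have hDQ : Wgen W (P ⊓ Q) ≤ Q := Wgen_le.trans inf_le_right
    have hDneP : Wgen W (P ⊓ Q) ≠ P := by
      intro h
      apply hne
      have : P ≤ Q := by rw [← h]; exact hDQ
      exact le_antisymm this (hP.2 hQ.1 this)
    have hDneQ : Wgen W (P ⊓ Q) ≠ Q := by
      intro h
      apply hne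
      have : Q ≤ P := by rw [← h]; exact hDP
      exact le_antisymm (hQ.2 hP.1 this) this
    obtain ⟨A, hAW, hAP, hAD, hAN⟩ := exists_normalizing_W hconj hP.1 hDP Wgen_idem hDneP
    obtain ⟨B, hBW, hBQ, hBD, hBN⟩ := exists_normalizing_W hconj hQ.1 hDQ Wgen_idem hDneQ
    have hT : Fl (A ⊔ B) (Module.finrank k M) = ⊤ :=
      isUnipotentOn_iff_finrank.1 (hWW A hAW B hBW)
    have hDfl : Fl (Wgen W (P ⊓ Q)) (Module.finrank k M) = ⊤ := by
      rw [eq_top_iff, ← hP.1.2]; exact Fl_anti hDP _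
    have hR0 : (A ⊔ B) ⊔ Wgen W (P ⊓ Q) ∈ UU W := by
      refine ⟨sup_le_Wgen (sup_le_Wgen (le_Wgen_of_mem hAW le_rfl) (le_Wgen_of_mem hBW le_rfl))
        Wgen_idem, ?_⟩
      exact Fl_finrank_top (Fl_sup_top hDfl hT (sup_le hAN hBN))
    obtain ⟨R, hR0R, hR⟩ := exists_maximal hR0
    have IH' : ∀ L', Lin (Wgen W (P ⊓ Q)) < L' → ∀ P' Q', Maximal (fun x => x ∈ UU W) P' →
        Maximal (fun x => x ∈ UU W) Q' → Lin (Wgen W (P' ⊓ Q')) = L' → P' = Q' := by
      intro L' hL'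
      rw [hL] at hL'
      exact IH L' hL'
    have hAR : A ≤ R := le_trans (le_trans le_sup_left le_sup_left) hR0R
    have hBR : B ≤ R := le_trans (le_trans le_sup_right le_sup_left) hR0R
    have hDR : Wgen W (P ⊓ Q) ≤ R := le_trans le_sup_right hR0R
    have hRP : R = P :=
      step hQ hDQ hAW hAP hAR (fun h => hAD (le_Wgen_of_mem hAW (le_inf hAP h)))
        (Wgen_idem.trans (Wgen_mono (le_inf hDR hDP))) IH' hR hP
    have hRQ : R = Q :=
      step hP hDP hBW hBQ hBR (fun h => hBD (le_Wgen_of_mem hBW (le_inf h hBQ)))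
        (Wgen_idem.trans (Wgen_mono (le_inf hDR hDQ))) IH' hR hQ
    exact hne (hRP.symm.trans hRQ)

theorem bot_mem_UU : (⊥ : Subgroup (LinearMap.GeneralLinearGroup k M)) ∈ UU W := by
  refine ⟨bot_le, ?_⟩
  apply Fl_finrank_top (n := 1)
  rw [eq_top_iff]
  intro m _
  rw [mem_Fl_succ]
  intro g hg
  rw [Subgroup.mem_bot] at hg
  rw [hg, dl_one, LinearMap.zero_apply]
  exact Submodule.zero_mem _

/-- Baer–Suzuki for unipotent linear groups. -/
theorem isUnipotentOn_sSup (hWW : ∀ A ∈ W, ∀ B ∈ W, IsUnipotentOn (A ⊔ B))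
    (hconj : ∀ A ∈ W, ∀ g ∈ sSup W, conjBy A g ∈ W) : IsUnipotentOn (sSup W) := by
  obtain ⟨P, _, hP⟩ := exists_maximal (bot_mem_UU (W := W))
  have hle : sSup W ≤ P := by
    apply sSup_le
    intro A hA
    have hAU : A ∈ UU W := by
      refine ⟨le_Wgen_of_mem hA le_rfl, isUnipotentOn_iff_finrank.1 ?_⟩
      have := hWW A hA A hA
      rwa [sup_idem] at this
    obtain ⟨Q, hAQ, hQ⟩ := exists_maximal hAU
    have := maximal_unique hWW hconj _ Q P hQ hP rfl
    rw [← this]; exact hAQ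
  exact isUnipotentOn_mono hle (isUnipotentOn_iff_finrank.2 hP.1.2)

end FD

end Cfsg.Agent.Lib.H6.Unip
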