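import Mathlib
import Cfsg.Prelude.Def_RootSubgroups
import Cfsg.Agent.Lib.H25.RankOne
import Cfsg.Agent.Lib.H25.RootSubgroups

set_option autoImplicit false
set_option linter.unusedSectionVars false
set_option linter.unusedSimpArgs false
set_option linter.unusedVariables false

/-! Transfer of root subgroup notions to a subgroup `K` containing the subgroups (helper6). -/

namespace Cfsg.Agent.Lib.H6.RootSub

open Cfsg Cfsg.Agent.Lib.H25

variable {H : Type*} [Group H] (K : Subgroup H)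

theorem conjBy_subgroupOf (A : Subgroup H) (g : K) :
    conjBy (A.subgroupOf K) g = (conjBy A (g : H)).subgroupOf K := by
  ext x
  rw [mem_conjBy, Subgroup.mem_subgroupOf, Subgroup.mem_subgroupOf, mem_conjBy]
  rfl

theorem subgroupOf_eq_iff {A B : Subgroup H} (hA : A ≤ K) (hB : B ≤ K) :
    A.subgroupOf K = B.subgroupOf K ↔ A = B := by
  rw [Subgroup.subgroupOf_inj, inf_eq_left.mpr hA, inf_eq_left.mpr hB]

theorem subgroupOf_ne_bot {A : Subgroup H} (hA : A ≤ K) (h : A ≠ ⊥) : A.subgroupOf K ≠ ⊥ := by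
  intro h0
  apply h
  rw [eq_bot_iff]
  intro a ha
  have h1 : (⟨a, hA ha⟩ : K) ∈ A.subgroupOf K := Subgroup.mem_subgroupOf.mpr ha
  rw [h0, Subgroup.mem_bot] at h1
  rw [Subgroup.mem_bot]
  exact congrArg Subtype.val h1

theorem isMulCommutative_subgroupOf {A : Subgroup H} (h : IsMulCommutative A) :
    IsMulCommutative (A.subgroupOf K) := by
  refine ⟨⟨?_⟩⟩
  rintro ⟨a, ha⟩ ⟨b, hb⟩
  apply Subtype.ext
  apply Subtype.ext
  exact comm_of_isMulCommutative h (Subgroup.mem_subgroupOf.mp ha) (Subgroup.mem_subgroupOf.mp hb)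

theorem commutator_eq_bot_iff_forall {G : Type*} [Group G] {A B : Subgroup G} :
    ⁅A, B⁆ = ⊥ ↔ ∀ a ∈ A, ∀ b ∈ B, a * b = b * a := by
  rw [Subgroup.commutator_eq_bot_iff_le_centralizer]
  constructor
  · intro h a ha b hb
    have := h ha
    rw [Subgroup.mem_centralizer_iff] at this
    exact (this b hb).symm
  · intro h a ha
    rw [Subgroup.mem_centralizer_iff]
    intro b hb
    exact (h a ha b hb).symm

theorem commutator_subgroupOf_eq_bot {A B : Subgroup H} (h : ⁅A, B⁆ = ⊥) :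
    ⁅A.subgroupOf K, B.subgroupOf K⁆ = ⊥ := by
  rw [commutator_eq_bot_iff_forall] at h ⊢
  intro a ha b hb
  apply Subtype.ext
  exact h _ (Subgroup.mem_subgroupOf.mp ha) _ (Subgroup.mem_subgroupOf.mp hb)

theorem commutator_eq_bot_of_subgroupOf {A B : Subgroup H} (hA : A ≤ K) (hB : B ≤ K)
    (h : ⁅A.subgroupOf K, B.subgroupOf K⁆ = ⊥) : ⁅A, B⁆ = ⊥ := by
  rw [commutator_eq_bot_iff_forall] at h ⊢
  intro a ha b hb
  have := h ⟨a, hA ha⟩ (Subgroup.mem_subgroupOf.mpr ha) ⟨b, hB hb⟩ (Subgroup.mem_subgroupOf.mpr hb)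
  exact congrArg Subtype.val this

theorem rankOneCondition_subgroupOf {A B : Subgroup H} (hA : A ≤ K) (hB : B ≤ K)
    (h : RankOneCondition A B) : RankOneCondition (A.subgroupOf K) (B.subgroupOf K) := by
  intro a ha ha1
  have ha' : (a : H) ∈ A := Subgroup.mem_subgroupOf.mp ha
  have ha1' : (a : H) ≠ 1 := by
    intro h0
    apply ha1
    apply Subtype.ext
    exact h0
  obtain ⟨b, hb, hb1, hE⟩ := h (a : H) ha' ha1'
  refine ⟨⟨b, hB hb⟩, Subgroup.mem_subgroupOf.mpr hb, ?_, ?_⟩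
  · intro h0
    apply hb1
    exact congrArg Subtype.val h0
  · rw [conjBy_subgroupOf, conjBy_subgroupOf]
    show (conjBy A b⁻¹).subgroupOf K = (conjBy B (a : H)⁻¹).subgroupOf K
    rw [hE]

theorem isNilpotent_subgroupOf {A : Subgroup H} (hA : A ≤ K) (h : Group.IsNilpotent A) :
    Group.IsNilpotent (A.subgroupOf K) :=
  (Group.isNilpotent_congr (Subgroup.subgroupOfEquivOfLe hA)).mpr h

theorem isRankOnePair_subgroupOf {A B : Subgroup H} (hA : A ≤ K) (hB : B ≤ K)
    (h : IsRankOnePair A B) : IsRankOnePair (A.subgroupOf K) (B.subgroupOf K) := by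
  refine ⟨?_, isNilpotent_subgroupOf K hA h.nilpotent_left,
    isNilpotent_subgroupOf K hB h.nilpotent_right,
    rankOneCondition_subgroupOf K hA hB h.cond_left, rankOneCondition_subgroupOf K hB hA h.cond_right⟩
  intro hE
  exact h.ne ((subgroupOf_eq_iff K hA hB).mp hE)

theorem map_codRestrict {G : Type*} [Group G] (φ : G →* H) (hφ : ∀ g, φ g ∈ K) (U : Subgroup G) :
    U.map (φ.codRestrict K hφ) = (U.map φ).subgroupOf K := by
  ext x
  rw [Subgroup.mem_subgroupOf, Subgroup.mem_map, Subgroup.mem_map]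
  constructor
  · rintro ⟨u, hu, rfl⟩
    exact ⟨u, hu, rfl⟩
  · rintro ⟨u, hu, hx⟩
    exact ⟨u, hu, Subtype.ext hx⟩

theorem isPSL2PairOver_subgroupOf {k : Type*} [Field k] {A B : Subgroup H} (hA : A ≤ K)
    (hB : B ≤ K) (h : IsPSL2PairOver k A B) : IsPSL2PairOver k (A.subgroupOf K) (B.subgroupOf K) := by
  obtain ⟨φ, hr, hk, hu, hl⟩ := h
  have hφ : ∀ g, φ g ∈ K := by
    intro g
    have : φ g ∈ φ.range := ⟨g, rfl⟩
    rw [hr] at this
    exact (sup_le hA hB) this
  refine ⟨φ.codRestrict K hφ, ?_, ?_, ?_, ?_⟩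
  · rw [MonoidHom.range_eq_map, map_codRestrict, ← MonoidHom.range_eq_map, hr,
      Subgroup.subgroupOf_sup hA hB]
  · intro g hg
    apply hk
    rw [MonoidHom.mem_ker] at hg ⊢
    exact congrArg Subtype.val hg
  · rw [map_codRestrict, hu]
  · rw [map_codRestrict, hl]

/-- a rank one pair does not commute. -/
theorem commutator_ne_bot_of_rankOne {G : Type*} [Group G] {A B : Subgroup G}
    (h : IsRankOnePair A B) : ⁅A, B⁆ ≠ ⊥ := by
  intro h0
  rw [commutator_eq_bot_iff_forall] at h0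
  obtain ⟨a, ha, ha1⟩ := RankOne.exists_ne_one_left h
  obtain ⟨b, hb, hb1⟩ := RankOne.exists_ne_one_right h
  exact hb1 (RankOne.eq_one_of_commute h ha ha1 hb (h0 a ha b hb))

end Cfsg.Agent.Lib.H6.RootSub
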