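import Mathlib
import Cfsg.Prelude.Def_RootSubgroups
import Cfsg.Agent.Lib.H6.RootGrpPair

set_option autoImplicit false
set_option linter.unusedSectionVars false
set_option linter.unusedSimpArgs false

/-! Rank one pairs of root groups of `SL(ι, F)` (helper6). -/

namespace Cfsg.Agent.Lib.H6.RootGrp

open Matrix Cfsg Cfsg.Agent.Lib.H6.TransvCent Cfsg.Agent.Lib.H6.TransvSL Cfsg.Agent.Lib.H6.TransvPair
open Cfsg.Agent.Lib.H25

variable {ι : Type*} [Fintype ι] [DecidableEq ι] {F : Type*} [Field F]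
variable {v φ w ψ : ι → F}

theorem RG_ne (hv : v ≠ 0) (hφv : φ ⬝ᵥ v = 0) (hψw : ψ ⬝ᵥ w = 0) (hα : φ ⬝ᵥ w ≠ 0) :
    RG v φ ≠ RG w ψ := by
  intro hE
  have h1 : mk v φ hφv ∈ RG w ψ := by
    rw [← hE]; exact mem_RG'.mpr ⟨1, by rw [one_smul]; rfl⟩
  obtain ⟨d, hd⟩ := h1
  rw [mk_val] at hd
  have h2 : vecMulVec v φ = d • vecMulVec w ψ := add_left_cancel hd
  have h3 := congrArg (fun M => M *ᵥ w) h2
  simp only [vecMulVec_mulVec, smul_mulVec, hψw, op_smul_eq_smul, zero_smul, smul_zero] at h3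
  exact hv ((smul_eq_zero.mp h3).resolve_left hα)

theorem inv_mulVec {a : SpecialLinearGroup ι F} {c : F} (ha : a.1 = 1 + c • vecMulVec v φ)
    (x : ι → F) : (a⁻¹).1 *ᵥ x = x - (c * (φ ⬝ᵥ x)) • v := by
  rw [← smul_vecMulVec] at ha
  rw [val_inv_of_val ha, add_mulVec, one_mulVec, vecMulVec_mulVec, op_smul_eq_smul, smul_neg,
    smul_smul, sub_eq_add_neg, mul_comm]

theorem vecMul_val {a : SpecialLinearGroup ι F} {c : F} (ha : a.1 = 1 + c • vecMulVec v φ)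
    (χ : ι → F) : χ ᵥ* a.1 = χ + (c * (χ ⬝ᵥ v)) • φ := by
  rw [ha, vecMul_add, vecMul_one, vecMul_smul, vecMul_vecMulVec, smul_smul]

theorem rankOneCondition (hv : v ≠ 0) (hφ : φ ≠ 0) (hw : w ≠ 0) (hψ : ψ ≠ 0) (hφv : φ ⬝ᵥ v = 0)
    (hψw : ψ ⬝ᵥ w = 0) (hα : φ ⬝ᵥ w ≠ 0) (hβ : ψ ⬝ᵥ v ≠ 0) :
    RankOneCondition (RG v φ) (RG w ψ) := by
  intro a ha ha1
  obtain ⟨c, hc⟩ := ha
  have hc0 := coeff_ne_zero hv hφ hc ha1
  set α := φ ⬝ᵥ w with hαdef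
  set β := ψ ⬝ᵥ v with hβdef
  obtain ⟨b, hb⟩ := exists_of_val w ψ hψw (c * α * β)⁻¹
  have hd0 : (c * α * β)⁻¹ ≠ 0 := inv_ne_zero (mul_ne_zero (mul_ne_zero hc0 hα) hβ)
  refine ⟨b, ⟨_, hb⟩, ?_, ?_⟩
  · rintro rfl
    have h1 : (1 : SpecialLinearGroup ι F).1 = 1 := rfl
    rw [h1] at hb
    have h2 : (c * α * β)⁻¹ • vecMulVec w ψ = 0 := left_eq_add.mp hb
    rcases smul_eq_zero.mp h2 with h | h
    · exact hd0 h
    · exact Matrix.vecMulVec_ne_zero hw hψ h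
  · rw [conjBy_RG, conjBy_RG, inv_inv, inv_inv, inv_mulVec hb, inv_mulVec hc, vecMul_val hb,
      vecMul_val hc, ← hαdef, ← hβdef]
    have e1 : v - ((c * α * β)⁻¹ * β) • w = (-((c * α * β)⁻¹ * β)) • (w - (c * α) • v) := by
      rw [smul_sub, smul_smul]
      have : -((c * α * β)⁻¹ * β) * (c * α) = -1 := by field_simp
      rw [this, neg_smul, neg_smul, one_smul]
      abel
    have e2 : φ + ((c * α * β)⁻¹ * α) • ψ = ((c * α * β)⁻¹ * α) • (ψ + (c * β) • φ) := by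
      rw [smul_add, smul_smul]
      have : (c * α * β)⁻¹ * α * (c * β) = 1 := by field_simp
      rw [this, one_smul]
      abel
    rw [e1, e2, RG_smul _ _ (neg_ne_zero.mpr (mul_ne_zero hd0 hβ)) (mul_ne_zero hd0 hα)]

theorem isRankOnePair (hv : v ≠ 0) (hφ : φ ≠ 0) (hw : w ≠ 0) (hψ : ψ ≠ 0) (hφv : φ ⬝ᵥ v = 0)
    (hψw : ψ ⬝ᵥ w = 0) (hα : φ ⬝ᵥ w ≠ 0) (hβ : ψ ⬝ᵥ v ≠ 0) :
    IsRankOnePair (RG v φ) (RG w ψ) := by
  refine ⟨RG_ne hv hφv hψw hα, ?_, ?_, rankOneCondition hv hφ hw hψ hφv hψw hα hβ,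
    rankOneCondition hw hψ hv hφ hψw hφv hβ hα⟩
  · exact ⟨⟨1, Subgroup.upperCentralSeries_one_eq_top_iff.mpr (RG_comm hφv)⟩⟩
  · exact ⟨⟨1, Subgroup.upperCentralSeries_one_eq_top_iff.mpr (RG_comm hψw)⟩⟩

end Cfsg.Agent.Lib.H6.RootGrp
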