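import Mathlib
import Cfsg.Prelude.Def_RootSubgroups
import Cfsg.Agent.Lib.H6.RootGrpRank1

set_option autoImplicit false
set_option linter.unusedSectionVars false
set_option linter.unusedSimpArgs false

/-! The root groups of `SL(ι, F)` form a non-degenerate class of abstract root subgroups (helper6). -/

namespace Cfsg.Agent.Lib.H6.RootGrp

open Matrix Cfsg Cfsg.Agent.Lib.H6.TransvCent Cfsg.Agent.Lib.H6.TransvSL Cfsg.Agent.Lib.H6.TransvPair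
open Cfsg.Agent.Lib.H25

variable {ι : Type*} [Fintype ι] [DecidableEq ι] {F : Type*} [Field F]
variable {i₀ i₁ : ι}

theorem single_dot_self (i : ι) : (Pi.single i (1 : F) : ι → F) ⬝ᵥ (Pi.single i (1 : F)) = 1 := by
  rw [single_dotProduct, one_mul, Pi.single_eq_same]

theorem RG_single_mem (h3 : 3 ≤ Fintype.card ι) (h01 : i₀ ≠ i₁) {i j : ι} (hij : i ≠ j) :
    RG (Pi.single i (1 : F)) (Pi.single j (1 : F)) ∈ Sig (F := F) i₀ i₁ := by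
  rw [mem_Sig_iff h3 h01]
  exact ⟨_, _, single_ne_zero i, single_ne_zero j, single_dot_single hij, rfl⟩

theorem iSup_Sig (h3 : 3 ≤ Fintype.card ι) (h01 : i₀ ≠ i₁) :
    (⨆ A ∈ Sig (F := F) i₀ i₁, A) = ⊤ := by
  have : Nontrivial ι := Fintype.one_lt_card_iff_nontrivial.mp (by omega)
  rw [eq_top_iff, ← Cfsg.Agent.Lib.H2.SL_closure_transvection, Subgroup.closure_le]
  rintro _ ⟨i, j, hij, c, rfl⟩
  have h1 : SpecialLinearGroup.transvection hij c ∈ RG (Pi.single i (1 : F)) (Pi.single j (1 : F)) := by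
    rw [mem_RG']
    refine ⟨c, ?_⟩
    show (SpecialLinearGroup.transvection hij c : Matrix ι ι F) = _
    rw [SpecialLinearGroup.transvection_coe]
    exact transvection_eq i j c
  have h2 : RG (Pi.single i (1 : F)) (Pi.single j (1 : F)) ≤ ⨆ A ∈ Sig (F := F) i₀ i₁, A :=
    le_iSup₂ (f := fun A (_ : A ∈ Sig (F := F) i₀ i₁) => A) _ (RG_single_mem h3 h01 hij)
  exact h2 h1

theorem pair_cases (h3 : 3 ≤ Fintype.card ι) (h01 : i₀ ≠ i₁) {v φ w ψ : ι → F}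
    (hv : v ≠ 0) (hφ : φ ≠ 0) (hw : w ≠ 0) (hψ : ψ ≠ 0) (hφv : φ ⬝ᵥ v = 0) (hψw : ψ ⬝ᵥ w = 0) :
    ⁅RG v φ, RG w ψ⁆ = ⊥ ∨ IsRankOnePair (RG v φ) (RG w ψ) ∨
      RootCommutatorCase (Sig (F := F) i₀ i₁) (RG v φ) (RG w ψ) := by
  by_cases hα : φ ⬝ᵥ w = 0
  · by_cases hβ : ψ ⬝ᵥ v = 0
    · left; exact commutator_eq_bot hφv hψw hα hβ
    · right; right
      apply commutatorCase_alpha hv hφ hw hψ hφv hψw hα hβ
      rw [mem_Sig_iff h3 h01]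
      exact ⟨w, φ, hw, hφ, hα, rfl⟩
  · by_cases hβ : ψ ⬝ᵥ v = 0
    · right; right
      apply commutatorCase_beta hv hφ hw hψ hφv hψw hα hβ
      rw [mem_Sig_iff h3 h01]
      exact ⟨v, ψ, hv, hψ, hβ, rfl⟩
    · right; left
      exact isRankOnePair hv hφ hw hψ hφv hψw hα hβ

theorem isRootSubgroupSet (h3 : 3 ≤ Fintype.card ι) (h01 : i₀ ≠ i₁) :
    IsRootSubgroupSet (Sig (F := F) i₀ i₁) := by
  refine ⟨?_, ?_, iSup_Sig h3 h01, ?_, ?_⟩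
  · intro A hA
    rw [mem_Sig_iff h3 h01] at hA
    obtain ⟨v, φ, hv, hφ, h, rfl⟩ := hA
    exact RG_comm h
  · intro A hA
    rw [mem_Sig_iff h3 h01] at hA
    obtain ⟨v, φ, hv, hφ, h, rfl⟩ := hA
    exact RG_ne_bot hv hφ h
  · rintro A ⟨g, rfl⟩ h
    exact ⟨h * g, conjBy_conjBy _ g h⟩
  · intro A hA B hB
    rw [mem_Sig_iff h3 h01] at hA hB
    obtain ⟨v, φ, hv, hφ, hφv, rfl⟩ := hA
    obtain ⟨w, ψ, hw, hψ, hψw, rfl⟩ := hB
    exact pair_cases h3 h01 hv hφ hw hψ hφv hψw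

theorem isRootSubgroupClass (h3 : 3 ≤ Fintype.card ι) (h01 : i₀ ≠ i₁) :
    IsRootSubgroupClass (Sig (F := F) i₀ i₁) := by
  refine ⟨isRootSubgroupSet h3 h01, ⟨_, RG_single_mem h3 h01 h01⟩, ?_⟩
  rintro A ⟨g₁, rfl⟩ B ⟨g₂, rfl⟩
  refine ⟨g₂ * g₁⁻¹, ?_⟩
  rw [conjBy_conjBy, inv_mul_cancel_right]

theorem exists_third (h3 : 3 ≤ Fintype.card ι) (i j : ι) : ∃ k : ι, k ≠ i ∧ k ≠ j := by
  by_contra hcon
  push Not at hcon
  have : Fintype.card ι ≤ ({i, j} : Finset ι).card := by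
    rw [← Finset.card_univ]
    apply Finset.card_le_card
    intro x _
    by_cases hx : x = i
    · simp [hx]
    · simp [hcon x hx]
  have h2 : ({i, j} : Finset ι).card ≤ 2 := Finset.card_le_two
  omega

theorem isNondegenerate (h3 : 3 ≤ Fintype.card ι) (h01 : i₀ ≠ i₁) :
    IsNondegenerateRootSet (Sig (F := F) i₀ i₁) := by
  obtain ⟨i₂, h20, h21⟩ := exists_third h3 i₀ i₁
  refine ⟨?_, ?_, ?_⟩
  · refine ⟨_, RG_single_mem h3 h01 h01, _, RG_single_mem h3 h01 (Ne.symm h20), ?_, ?_⟩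
    · -- T(e0,e1) ≠ T(e0,e2)
      intro hE
      have h1 : mk (Pi.single i₀ (1 : F)) (Pi.single i₁ (1 : F)) (single_dot_single h01) ∈
          RG (Pi.single i₀ (1 : F)) (Pi.single i₂ (1 : F)) := by
        rw [← hE]; exact mem_RG'.mpr ⟨1, by rw [one_smul]; rfl⟩
      obtain ⟨d, hd⟩ := h1
      rw [mk_val] at hd
      have h2 : vecMulVec (Pi.single i₀ (1 : F)) (Pi.single i₁ (1 : F)) =
          d • vecMulVec (Pi.single i₀ (1 : F)) (Pi.single i₂ (1 : F)) := add_left_cancel hd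
      have h4 := congrFun (congrFun h2 i₀) i₁
      simp [vecMulVec_apply, Pi.single_apply, h21.symm] at h4
    · apply commutator_eq_bot (single_dot_single h01) (single_dot_single (Ne.symm h20))
      · exact single_dot_single h01
      · exact single_dot_single (Ne.symm h20)
  · refine ⟨_, RG_single_mem h3 h01 h01, _, RG_single_mem h3 h01 (Ne.symm h01), ?_⟩
    apply isRankOnePair (single_ne_zero i₀) (single_ne_zero i₁) (single_ne_zero i₁)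
      (single_ne_zero i₀) (single_dot_single h01) (single_dot_single (Ne.symm h01))
    · rw [single_dot_self]; exact one_ne_zero
    · rw [single_dot_self]; exact one_ne_zero
  · refine ⟨_, RG_single_mem h3 h01 h01, _, RG_single_mem h3 h01 (Ne.symm h21), ?_⟩
    apply commutatorCase_beta (single_ne_zero i₀) (single_ne_zero i₁) (single_ne_zero i₁)
      (single_ne_zero i₂) (single_dot_single h01) (single_dot_single (Ne.symm h21))
    · rw [single_dot_self]; exact one_ne_zero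
    · exact single_dot_single (Ne.symm h20)
    · exact RG_single_mem h3 h01 (Ne.symm h20)

/-- a vector outside two hyperplanes -/
theorem exists_vec {φ ψ : ι → F} (hφ : φ ≠ 0) (hψ : ψ ≠ 0) :
    ∃ r : ι → F, φ ⬝ᵥ r ≠ 0 ∧ ψ ⬝ᵥ r ≠ 0 := by
  have hex : ∀ χ : ι → F, χ ≠ 0 → ∃ r : ι → F, χ ⬝ᵥ r ≠ 0 := by
    intro χ hχ
    obtain ⟨i, hi⟩ : ∃ i, χ i ≠ 0 := by
      by_contra h
      push Not at h
      exact hχ (funext h)
    exact ⟨Pi.single i 1, by rw [dotProduct_single_one]; exact hi⟩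
  obtain ⟨r₁, h1⟩ := hex φ hφ
  obtain ⟨r₂, h2⟩ := hex ψ hψ
  by_cases h3 : ψ ⬝ᵥ r₁ = 0
  · by_cases h4 : φ ⬝ᵥ r₂ = 0
    · refine ⟨r₁ + r₂, ?_, ?_⟩
      · rw [dotProduct_add, h4, add_zero]; exact h1
      · rw [dotProduct_add, h3, zero_add]; exact h2
    · exact ⟨r₂, h4, h2⟩
  · exact ⟨r₁, h1, h3⟩

/-- a covector killing `r` but neither `v` nor `w`. -/
theorem exists_covec {v w r φ ψ : ι → F} (hv : v ≠ 0) (hw : w ≠ 0) (hφv : φ ⬝ᵥ v = 0)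
    (hψw : ψ ⬝ᵥ w = 0) (hφr : φ ⬝ᵥ r ≠ 0) (hψr : ψ ⬝ᵥ r ≠ 0) :
    ∃ ρ : ι → F, ρ ⬝ᵥ r = 0 ∧ ρ ⬝ᵥ v ≠ 0 ∧ ρ ⬝ᵥ w ≠ 0 := by
  have hex : ∀ (x χ : ι → F), x ≠ 0 → χ ⬝ᵥ x = 0 → χ ⬝ᵥ r ≠ 0 →
      ∃ ρ : ι → F, ρ ⬝ᵥ r = 0 ∧ ρ ⬝ᵥ x ≠ 0 := by
    intro x χ hx hχx hχr
    obtain ⟨i, hi⟩ : ∃ i, x i ≠ 0 := by
      by_contra h
      push Not at h
      exact hx (funext h)
    refine ⟨(χ ⬝ᵥ r) • Pi.single i (1 : F) - ((Pi.single i (1 : F) : ι → F) ⬝ᵥ r) • χ, ?_, ?_⟩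
    · rw [sub_dotProduct, smul_dotProduct, smul_dotProduct, smul_eq_mul, smul_eq_mul, mul_comm,
        sub_self]
    · rw [sub_dotProduct, smul_dotProduct, smul_dotProduct, hχx, smul_zero, sub_zero,
        single_dotProduct, one_mul, smul_eq_mul]
      exact mul_ne_zero hχr hi
  obtain ⟨ρ₁, h1r, h1v⟩ := hex v φ hv hφv hφr
  obtain ⟨ρ₂, h2r, h2w⟩ := hex w ψ hw hψw hψr
  by_cases h3 : ρ₁ ⬝ᵥ w = 0
  · by_cases h4 : ρ₂ ⬝ᵥ v = 0
    · refine ⟨ρ₁ + ρ₂, ?_, ?_, ?_⟩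
      · rw [add_dotProduct, h1r, h2r, add_zero]
      · rw [add_dotProduct, h4, add_zero]; exact h1v
      · rw [add_dotProduct, h3, zero_add]; exact h2w
    · exact ⟨ρ₂, h2r, h4, h2w⟩
  · exact ⟨ρ₁, h1r, h1v, h3⟩

theorem isConnected (h3 : 3 ≤ Fintype.card ι) (h01 : i₀ ≠ i₁) :
    IsConnectedFamily (FAdj (Sig (F := F) i₀ i₁)) (Sig (F := F) i₀ i₁) := by
  intro A hA B hB
  have hA' := hA
  have hB' := hB
  rw [mem_Sig_iff h3 h01] at hA hB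
  obtain ⟨v, φ, hv, hφ, hφv, rfl⟩ := hA
  obtain ⟨w, ψ, hw, hψ, hψw, rfl⟩ := hB
  obtain ⟨r, hφr, hψr⟩ := exists_vec hφ hψ
  obtain ⟨ρ, hρr, hρv, hρw⟩ := exists_covec hv hw hφv hψw hφr hψr
  have hr : r ≠ 0 := by rintro rfl; simp at hφr
  have hρ : ρ ≠ 0 := by rintro rfl; simp at hρv
  have hC : RG r ρ ∈ Sig (F := F) i₀ i₁ := by
    rw [mem_Sig_iff h3 h01]
    exact ⟨r, ρ, hr, hρ, hρr, rfl⟩
  have e1 : FAdj (Sig (F := F) i₀ i₁) (RG v φ) (RG r ρ) :=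
    ⟨hA', hC, isRankOnePair hv hφ hr hρ hφv hρr hφr hρv⟩
  have e2 : FAdj (Sig (F := F) i₀ i₁) (RG r ρ) (RG w ψ) :=
    ⟨hC, hB', isRankOnePair hr hρ hw hψ hρr hψw hρw hψr⟩
  exact Relation.ReflTransGen.trans (Relation.ReflTransGen.single e1) (Relation.ReflTransGen.single e2)

end Cfsg.Agent.Lib.H6.RootGrp
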