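import Mathlib
import Cfsg.Prelude.Def_RootSubgroups
import Cfsg.Agent.Lib.H6.RootGrpSet
import Cfsg.Agent.Lib.H25.SL2RankOne
import Cfsg.Agent.Lib.H25.RootSubgroups
import Cfsg.Agent.S5016

set_option autoImplicit false
set_option linter.unusedSectionVars false
set_option linter.unusedSimpArgs false

/-! Rank one pairs of root groups of `SL(ι, F)` are images of `SL₂(F)` (helper6). -/

namespace Cfsg.Agent.Lib.H6.RootGrp

open Matrix Cfsg Cfsg.Agent.Lib.H6.TransvCent Cfsg.Agent.Lib.H6.TransvSL Cfsg.Agent.Lib.H6.TransvPair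
open Cfsg.Agent.Lib.H25 Cfsg.Agent.Lib.H25.SL2

variable {ι : Type*} [Fintype ι] [DecidableEq ι] {F : Type*} [Field F]

section emb

variable (L : Matrix ι (Fin 2) F) (R : Matrix (Fin 2) ι F)

theorem emb_det (hRL : R * L = 1) (g : SpecialLinearGroup (Fin 2) F) : det (1 + L * (g.1 - 1) * R) = 1 := by
  rw [det_one_add_mul_comm, ← Matrix.mul_assoc, hRL, Matrix.one_mul, add_sub_cancel, g.2]

theorem emb_mul (hRL : R * L = 1) (g h : SpecialLinearGroup (Fin 2) F) :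
    1 + L * ((g * h).1 - 1) * R = (1 + L * (g.1 - 1) * R) * (1 + L * (h.1 - 1) * R) := by
  have e1 : (g * h).1 - 1 = (g.1 - 1) + (h.1 - 1) + (g.1 - 1) * (h.1 - 1) := by
    rw [val_mul']; noncomm_ring
  have e2 : L * (g.1 - 1) * R * (L * (h.1 - 1) * R) = L * ((g.1 - 1) * (h.1 - 1)) * R := by
    calc L * (g.1 - 1) * R * (L * (h.1 - 1) * R)
        = L * (g.1 - 1) * (R * L) * (h.1 - 1) * R := by simp only [Matrix.mul_assoc]
      _ = L * ((g.1 - 1) * (h.1 - 1)) * R := by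
          rw [hRL, Matrix.mul_one]; simp only [Matrix.mul_assoc]
  rw [e1, Matrix.mul_add, Matrix.mul_add, Matrix.add_mul, Matrix.add_mul, ← e2, mul_add, add_mul,
    add_mul, one_mul, mul_one, one_mul]
  abel

/-- the embedding `SL₂(F) → SL(ι, F)` attached to `L`, `R` with `R L = 1`. -/
def emb (hRL : R * L = 1) : SpecialLinearGroup (Fin 2) F →* SpecialLinearGroup ι F where
  toFun g := ⟨1 + L * (g.1 - 1) * R, emb_det L R hRL g⟩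
  map_one' := by
    apply Subtype.ext
    show 1 + L * ((1 : SpecialLinearGroup (Fin 2) F).1 - 1) * R = 1
    rw [val_one', sub_self, Matrix.mul_zero, Matrix.zero_mul, add_zero]
  map_mul' g h := by
    apply Subtype.ext
    exact emb_mul L R hRL g h

theorem emb_val (hRL : R * L = 1) (g : SpecialLinearGroup (Fin 2) F) :
    (emb L R hRL g).1 = 1 + L * (g.1 - 1) * R := rfl

theorem emb_ker (hRL : R * L = 1) : (emb L R hRL).ker = ⊥ := by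
  rw [eq_bot_iff]
  intro g hg
  rw [MonoidHom.mem_ker] at hg
  have h1 : (emb L R hRL g).1 = 1 := by rw [hg]; rfl
  rw [emb_val] at h1
  have h2 : L * (g.1 - 1) * R = 0 := add_eq_left.mp h1
  have h3 : R * (L * (g.1 - 1) * R) * L = 0 := by rw [h2, Matrix.mul_zero, Matrix.zero_mul]
  have h4 : R * (L * (g.1 - 1) * R) * L = (R * L) * (g.1 - 1) * (R * L) := by
    simp only [Matrix.mul_assoc]
  rw [h4, hRL, Matrix.one_mul, Matrix.mul_one] at h3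
  rw [Subgroup.mem_bot]
  apply Subtype.ext
  rw [val_one']
  exact sub_eq_zero.mp h3

end emb

variable {v φ w ψ : ι → F}

/-- the matrix with columns `v`, `w`. -/
def Lmat (v w : ι → F) : Matrix ι (Fin 2) F := (Matrix.of ![v, w])ᵀ

/-- the matrix with rows `β⁻¹ ψ`, `α⁻¹ φ`. -/
def Rmat (φ ψ : ι → F) (α β : F) : Matrix (Fin 2) ι F := Matrix.of ![β⁻¹ • ψ, α⁻¹ • φ]

theorem RL_apply (v w φ ψ : ι → F) (α β : F) (a b : Fin 2) :
    (Rmat φ ψ α β * Lmat v w) a b = (![β⁻¹ • ψ, α⁻¹ • φ] a) ⬝ᵥ (![v, w] b) := rfl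

theorem Rmat_mul_Lmat (hφv : φ ⬝ᵥ v = 0) (hψw : ψ ⬝ᵥ w = 0) (hα : φ ⬝ᵥ w ≠ 0) (hβ : ψ ⬝ᵥ v ≠ 0) :
    Rmat φ ψ (φ ⬝ᵥ w) (ψ ⬝ᵥ v) * Lmat v w = 1 := by
  ext a b
  rw [RL_apply]
  fin_cases a <;> fin_cases b <;> simp [smul_dotProduct, hφv, hψw, hα, hβ]

theorem L_mul_R (M : Matrix (Fin 2) (Fin 2) F) (α β : F) :
    Lmat v w * M * Rmat φ ψ α β =
      (M 0 0 * β⁻¹) • vecMulVec v ψ + (M 0 1 * α⁻¹) • vecMulVec v φ +
      (M 1 0 * β⁻¹) • vecMulVec w ψ + (M 1 1 * α⁻¹) • vecMulVec w φ := by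
  ext i j
  simp only [Matrix.mul_apply, Fin.sum_univ_two, Lmat, Rmat, Matrix.of_apply, Fin.isValue,
    Matrix.cons_val_zero, Matrix.cons_val_one, Pi.smul_apply, smul_eq_mul, Matrix.add_apply,
    Matrix.smul_apply, vecMulVec_apply, Matrix.transpose_apply]
  ring

theorem emb_up (hRL : Rmat φ ψ (φ ⬝ᵥ w) (ψ ⬝ᵥ v) * Lmat v w = 1) (t : F) :
    (emb (Lmat v w) (Rmat φ ψ (φ ⬝ᵥ w) (ψ ⬝ᵥ v)) hRL (up t)).1 =
      1 + (t * (φ ⬝ᵥ w)⁻¹) • vecMulVec v φ := by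
  rw [emb_val, L_mul_R]
  simp [up]

theorem emb_lo (hRL : Rmat φ ψ (φ ⬝ᵥ w) (ψ ⬝ᵥ v) * Lmat v w = 1) (t : F) :
    (emb (Lmat v w) (Rmat φ ψ (φ ⬝ᵥ w) (ψ ⬝ᵥ v)) hRL (lo t)).1 =
      1 + (t * (ψ ⬝ᵥ v)⁻¹) • vecMulVec w ψ := by
  rw [emb_val, L_mul_R]
  simp [lo]

theorem isPSL2Pair (hφv : φ ⬝ᵥ v = 0) (hψw : ψ ⬝ᵥ w = 0) (hα : φ ⬝ᵥ w ≠ 0) (hβ : ψ ⬝ᵥ v ≠ 0) :
    IsPSL2PairOver F (RG v φ) (RG w ψ) := by
  have hRL := Rmat_mul_Lmat hφv hψw hα hβ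
  set Φ := emb (Lmat v w) (Rmat φ ψ (φ ⬝ᵥ w) (ψ ⬝ᵥ v)) hRL with hΦ
  have hup : (upperUnipotentSL2 F).map Φ = RG v φ := by
    apply le_antisymm
    · rintro _ ⟨g, hg, rfl⟩
      rw [eq_up_of_mem hg]
      exact ⟨_, emb_up hRL _⟩
    · rintro x ⟨c, hc⟩
      refine ⟨up (c * (φ ⬝ᵥ w)), up_mem _, ?_⟩
      apply Subtype.ext
      rw [hc]
      show (emb (Lmat v w) (Rmat φ ψ (φ ⬝ᵥ w) (ψ ⬝ᵥ v)) hRL (up (c * (φ ⬝ᵥ w)))).1 = _
      rw [emb_up hRL, mul_assoc, mul_inv_cancel₀ hα, mul_one]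
  have hlo : (lowerUnipotentSL2 F).map Φ = RG w ψ := by
    apply le_antisymm
    · rintro _ ⟨g, hg, rfl⟩
      rw [eq_lo_of_mem hg]
      exact ⟨_, emb_lo hRL _⟩
    · rintro x ⟨c, hc⟩
      refine ⟨lo (c * (ψ ⬝ᵥ v)), lo_mem _, ?_⟩
      apply Subtype.ext
      rw [hc]
      show (emb (Lmat v w) (Rmat φ ψ (φ ⬝ᵥ w) (ψ ⬝ᵥ v)) hRL (lo (c * (ψ ⬝ᵥ v)))).1 = _
      rw [emb_lo hRL, mul_assoc, mul_inv_cancel₀ hβ, mul_one]
  refine ⟨Φ, ?_, ?_, hup, hlo⟩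
  · rw [MonoidHom.range_eq_map, ← Cfsg.Agent.S5016.sup_eq_top, Subgroup.map_sup, hup, hlo, sup_comm]
  · rw [hΦ, emb_ker]; exact bot_le

end Cfsg.Agent.Lib.H6.RootGrp
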