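import Mathlib
import Cfsg.Prelude.Def_RootSubgroups
import Cfsg.Agent.Lib.H2.SpPerfect
import Cfsg.Agent.Lib.H25.RootSubgroups

set_option autoImplicit false
set_option linter.unusedSectionVars false
set_option linter.unusedSimpArgs false
set_option linter.unusedVariables false

/-! Symplectic transvection groups as abstract root subgroups (helper6). -/

namespace Cfsg.Agent.Lib.H6.SpRoot

open Matrix Cfsg Cfsg.Agent.Lib.H4 Cfsg.Agent.Lib.H2.Sp Cfsg.Agent.Lib.H25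

variable {F : Type*} [Field F] {m : ℕ}

local notation "V" => (Fin m ⊕ Fin m → F)
local notation "Spm" => Matrix.symplecticGroup (Fin m) F

theorem tv_inv (p : V) (c : F) : (tv m p c)⁻¹ = tv m p (-c) := by
  rw [inv_eq_iff_mul_eq_one, tv_mul, add_neg_cancel, tv_zero_right]

/-- the transvection group of `p`. -/
def TP (p : V) : Subgroup Spm where
  carrier := {g | ∃ c : F, g = tv m p c}
  one_mem' := ⟨0, (tv_zero_right p).symm⟩
  mul_mem' := by
    rintro _ _ ⟨c, rfl⟩ ⟨d, rfl⟩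
    exact ⟨c + d, tv_mul p c d⟩
  inv_mem' := by
    rintro _ ⟨c, rfl⟩
    exact ⟨-c, tv_inv p c⟩

theorem mem_TP {p : V} {g : Spm} : g ∈ TP p ↔ ∃ c : F, g = tv m p c := Iff.rfl

theorem tv_mem (p : V) (c : F) : tv m p c ∈ TP p := ⟨c, rfl⟩

/-- the generating set in the statement is the carrier of `TP p`. -/
theorem closure_eq (p : V) :
    Subgroup.closure {g : Spm | ∃ c : F, ∀ v : V,
      (g : Matrix (Fin m ⊕ Fin m) (Fin m ⊕ Fin m) F) *ᵥ v =
        v + (c * (v ⬝ᵥ (Matrix.J (Fin m) F *ᵥ p))) • p} = TP p := by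
  have : {g : Spm | ∃ c : F, ∀ v : V,
      (g : Matrix (Fin m ⊕ Fin m) (Fin m ⊕ Fin m) F) *ᵥ v =
        v + (c * (v ⬝ᵥ (Matrix.J (Fin m) F *ᵥ p))) • p} = (TP p : Set Spm) := by
    ext g
    constructor
    · rintro ⟨c, hc⟩
      refine ⟨c, ?_⟩
      apply Subtype.ext
      rw [Matrix.ext_iff_mulVec]
      intro x
      rw [hc x, tv_mulVec]
      rfl
    · rintro ⟨c, rfl⟩
      refine ⟨c, fun x => ?_⟩
      rw [tv_mulVec]
      rfl
  rw [this, Subgroup.closure_eq]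

theorem conjBy_TP (p : V) (g : Spm) :
    conjBy (TP p) g = TP ((g : Matrix (Fin m ⊕ Fin m) (Fin m ⊕ Fin m) F) *ᵥ p) := by
  apply le_antisymm
  · intro x hx
    rw [mem_conjBy] at hx
    obtain ⟨c, hc⟩ := hx
    refine ⟨c, ?_⟩
    rw [← conj_tv, ← hc]
    group
  · rintro x ⟨c, rfl⟩
    rw [mem_conjBy, ← conj_tv]
    refine ⟨c, ?_⟩
    group

theorem TP_smul (p : V) {a : F} (ha : a ≠ 0) : TP (a • p) = TP p := by
  ext g
  rw [mem_TP, mem_TP]
  constructor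
  · rintro ⟨c, rfl⟩
    exact ⟨_, tv_smul a p c⟩
  · rintro ⟨c, rfl⟩
    refine ⟨c * (a ^ 2)⁻¹, ?_⟩
    rw [tv_smul, mul_assoc, inv_mul_cancel₀ (pow_ne_zero 2 ha), mul_one]

theorem tv_ne_one {p : V} (hp : p ≠ 0) {c : F} (hc : c ≠ 0) : tv m p c ≠ 1 := by
  intro h
  obtain ⟨z, hz⟩ := exists_sympForm_ne_zero m p hp
  have h1 := tv_mulVec m p c z
  rw [h] at h1
  have h2 : ((1 : Spm) : Matrix (Fin m ⊕ Fin m) (Fin m ⊕ Fin m) F) = 1 := rfl
  rw [h2, one_mulVec] at h1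
  have h3 : (c * Cfsg.sympForm m F z p) • p = 0 := by
    have := h1.symm
    rwa [add_eq_left] at this
  rcases smul_eq_zero.mp h3 with h4 | h4
  · rcases mul_eq_zero.mp h4 with h5 | h5
    · exact hc h5
    · rw [sympForm_swap, neg_eq_zero] at h5
      exact hz h5
  · exact hp h4

theorem TP_ne_bot {p : V} (hp : p ≠ 0) : TP p ≠ ⊥ := by
  intro h
  have := tv_mem p (1 : F)
  rw [h, Subgroup.mem_bot] at this
  exact tv_ne_one hp one_ne_zero this

theorem TP_comm (p : V) : IsMulCommutative (TP p) := by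
  refine ⟨⟨?_⟩⟩
  rintro ⟨_, c, rfl⟩ ⟨_, d, rfl⟩
  apply Subtype.ext
  show tv m p c * tv m p d = tv m p d * tv m p c
  rw [tv_mul, tv_mul, add_comm]

theorem tv_commute {p r : V} (h : Cfsg.sympForm m F p r = 0) (c d : F) :
    tv m p c * tv m r d = tv m r d * tv m p c := by
  have h' : Cfsg.sympForm m F r p = 0 := by rw [sympForm_swap, h, neg_zero]
  apply Subtype.ext
  rw [Submonoid.coe_mul, Submonoid.coe_mul, Matrix.ext_iff_mulVec]
  intro x
  rw [← Matrix.mulVec_mulVec, ← Matrix.mulVec_mulVec, tv_mulVec, tv_mulVec, tv_mulVec, tv_mulVec,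
    sympForm_add_left, sympForm_add_left, sympForm_smul_left, sympForm_smul_left, h, h', mul_zero,
    mul_zero, add_zero, add_zero]
  abel

theorem commutator_eq_bot {p r : V} (h : Cfsg.sympForm m F p r = 0) : ⁅TP p, TP r⁆ = ⊥ := by
  rw [Subgroup.commutator_eq_bot_iff_le_centralizer]
  rintro _ ⟨c, rfl⟩
  rw [Subgroup.mem_centralizer_iff]
  rintro _ ⟨d, rfl⟩
  exact (tv_commute h c d).symm

theorem TP_ne {p r : V} (hr : r ≠ 0) (h : Cfsg.sympForm m F p r ≠ 0) : TP p ≠ TP r := by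
  intro hE
  have hp : p ≠ 0 := by
    rintro rfl
    apply h
    have := sympForm_smul_left m (0 : F) (0 : V) r
    rw [zero_smul, zero_mul] at this
    exact this
  have h1 : tv m p 1 ∈ TP r := by rw [← hE]; exact tv_mem p 1
  obtain ⟨d, hd⟩ := h1
  have h2 := tv_mulVec m p 1 p
  rw [hd, tv_mulVec, sympForm_self, mul_zero, zero_smul, add_zero] at h2
  have h3 : (d * Cfsg.sympForm m F p r) • r = 0 := by rwa [add_eq_left] at h2
  rcases smul_eq_zero.mp h3 with h4 | h4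
  · rcases mul_eq_zero.mp h4 with h5 | h5
    · rw [h5, tv_zero_right] at hd
      exact tv_ne_one hp one_ne_zero hd
    · exact h h5
  · exact hr h4

theorem rankOneCondition {p r : V} (hp : p ≠ 0) (hr : r ≠ 0) (h : Cfsg.sympForm m F p r ≠ 0) :
    RankOneCondition (TP p) (TP r) := by
  rintro _ ⟨c, rfl⟩ ha1
  have hc : c ≠ 0 := by
    rintro rfl
    exact ha1 (tv_zero_right p)
  set γ := Cfsg.sympForm m F p r with hγ
  have hγ' : Cfsg.sympForm m F r p = -γ := by rw [sympForm_swap]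
  have hd : -(c * γ ^ 2)⁻¹ ≠ 0 := neg_ne_zero.mpr (inv_ne_zero (mul_ne_zero hc (pow_ne_zero 2 h)))
  refine ⟨tv m r (-(c * γ ^ 2)⁻¹), tv_mem r _, tv_ne_one hr hd, ?_⟩
  rw [conjBy_TP, conjBy_TP, tv_inv, tv_inv, tv_mulVec, tv_mulVec, ← hγ, hγ']
  have e : p + (- -(c * γ ^ 2)⁻¹ * γ) • r = ((c * γ ^ 2)⁻¹ * γ) • (r + (-c * -γ) • p) := by
    rw [smul_add, smul_smul, neg_neg]
    have : (c * γ ^ 2)⁻¹ * γ * (-c * -γ) = 1 := by field_simp
    rw [this, one_smul]
    abel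
  rw [e, TP_smul _ (mul_ne_zero (inv_ne_zero (mul_ne_zero hc (pow_ne_zero 2 h))) h)]

theorem isRankOnePair {p r : V} (hp : p ≠ 0) (hr : r ≠ 0) (h : Cfsg.sympForm m F p r ≠ 0) :
    IsRankOnePair (TP p) (TP r) := by
  have h' : Cfsg.sympForm m F r p ≠ 0 := by rw [sympForm_swap, neg_ne_zero]; exact h
  refine ⟨TP_ne hr h, ?_, ?_, rankOneCondition hp hr h, rankOneCondition hr hp h'⟩
  · exact ⟨⟨1, Subgroup.upperCentralSeries_one_eq_top_iff.mpr (TP_comm p)⟩⟩
  · exact ⟨⟨1, Subgroup.upperCentralSeries_one_eq_top_iff.mpr (TP_comm r)⟩⟩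

end Cfsg.Agent.Lib.H6.SpRoot
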