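import Mathlib
import Cfsg.Prelude.Def_RootSubgroups
import Cfsg.Agent.Lib.H6.SpRoot
import Cfsg.Agent.Lib.H6.RootGrpSL2

set_option autoImplicit false
set_option linter.unusedSectionVars false
set_option linter.unusedSimpArgs false
set_option linter.unusedVariables false

/-! Symplectic transvection groups form a degenerate class of `F`-root subgroups (helper6). -/

namespace Cfsg.Agent.Lib.H6.SpRoot

open Matrix Cfsg Cfsg.Agent.Lib.H4 Cfsg.Agent.Lib.H2.Sp Cfsg.Agent.Lib.H25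
open Cfsg.Agent.Lib.H25.SL2

/-- a pair that commutes or is a rank one pair is not in the commutator case. -/
theorem not_commutatorCase {G : Type*} [Group G] {S : Set (Subgroup G)} (hS : ∀ C ∈ S, C ≠ ⊥)
    {A B : Subgroup G} (h : ⁅A, B⁆ = ⊥ ∨ IsRankOnePair A B) : ¬ RootCommutatorCase S A B := by
  intro hc
  have hbot : ⁅A, B⁆ = ⊥ := by
    rcases h with h | hR
    · exact h
    · rw [eq_bot_iff, Subgroup.commutator_le]
      intro a ha b hb
      rw [Subgroup.mem_bot, commutatorElement_def]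
      by_cases ha1 : a = 1
      · rw [ha1]; group
      · have hd : a * b * a⁻¹ * b⁻¹ ∈ ⁅A, B⁆ := by
          rw [← commutatorElement_def]
          exact Subgroup.commutator_mem_commutator ha hb
        apply RankOne.commutator_eq_one_of_central hR ha ha1 hb
        · exact hc.2.1 _ hd a (Subgroup.mem_sup_left ha)
        · intro y hy
          exact hc.2.1 _ hd y (Subgroup.mem_sup_right hy)
  exact hS _ hc.1 hbot

variable {F : Type*} [Field F] {m : ℕ}

local notation "V" => (Fin m ⊕ Fin m → F)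
local notation "Spm" => Matrix.symplecticGroup (Fin m) F

/-- the family of symplectic transvection groups, as in the statement. -/
def SigSp (F : Type*) [Field F] (m : ℕ) : Set (Subgroup (Matrix.symplecticGroup (Fin m) F)) :=
  {A | ∃ p : Fin m ⊕ Fin m → F, p ≠ 0 ∧
    A = Subgroup.closure {g : Matrix.symplecticGroup (Fin m) F | ∃ c : F, ∀ v : Fin m ⊕ Fin m → F,
      (g : Matrix (Fin m ⊕ Fin m) (Fin m ⊕ Fin m) F) *ᵥ v =
        v + (c * (v ⬝ᵥ (Matrix.J (Fin m) F *ᵥ p))) • p}}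

theorem mem_SigSp (A : Subgroup Spm) : A ∈ SigSp F m ↔ ∃ p : V, p ≠ 0 ∧ A = TP p := by
  constructor
  · rintro ⟨p, hp, rfl⟩
    exact ⟨p, hp, closure_eq p⟩
  · rintro ⟨p, hp, rfl⟩
    exact ⟨p, hp, (closure_eq p).symm⟩

theorem TP_mem {p : V} (hp : p ≠ 0) : TP p ∈ SigSp F m := (mem_SigSp _).mpr ⟨p, hp, rfl⟩

theorem iSup_SigSp : (⨆ A ∈ SigSp F m, A) = ⊤ := by
  rw [eq_top_iff, ← TS_eq_top m, TS, Subgroup.closure_le]
  rintro _ ⟨v, c, rfl⟩
  by_cases hv : v = 0
  · have : tv m v c = 1 := by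
      have h1 := tv_smul (0 : F) v c
      rw [zero_smul] at h1
      rw [hv, h1]
      simp [tv_zero_right]
    rw [this]
    exact Subgroup.one_mem _
  · have h2 : TP v ≤ ⨆ A ∈ SigSp F m, A :=
      le_iSup₂ (f := fun A (_ : A ∈ SigSp F m) => A) _ (TP_mem hv)
    exact h2 (tv_mem v c)

theorem isRootSubgroupSet : IsRootSubgroupSet (SigSp F m) := by
  refine ⟨?_, ?_, iSup_SigSp, ?_, ?_⟩
  · intro A hA
    obtain ⟨p, hp, rfl⟩ := (mem_SigSp A).mp hA
    exact TP_comm p
  · intro A hA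
    obtain ⟨p, hp, rfl⟩ := (mem_SigSp A).mp hA
    exact TP_ne_bot hp
  · intro A hA g
    obtain ⟨p, hp, rfl⟩ := (mem_SigSp A).mp hA
    rw [conjBy_TP]
    apply TP_mem
    intro h
    apply hp
    have h1 : ((g⁻¹ : Spm) : Matrix (Fin m ⊕ Fin m) (Fin m ⊕ Fin m) F) *ᵥ
        ((g : Matrix (Fin m ⊕ Fin m) (Fin m ⊕ Fin m) F) *ᵥ p) = p := by
      rw [Matrix.mulVec_mulVec, ← Submonoid.coe_mul, inv_mul_cancel]
      show (1 : Matrix (Fin m ⊕ Fin m) (Fin m ⊕ Fin m) F) *ᵥ p = p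
      rw [one_mulVec]
    rw [← h1, h, mulVec_zero]
  · intro A hA B hB
    obtain ⟨p, hp, rfl⟩ := (mem_SigSp A).mp hA
    obtain ⟨r, hr, rfl⟩ := (mem_SigSp B).mp hB
    by_cases h : Cfsg.sympForm m F p r = 0
    · left; exact commutator_eq_bot h
    · right; left; exact isRankOnePair hp hr h

theorem isRootSubgroupClass (hne : ∃ p : V, p ≠ 0) : IsRootSubgroupClass (SigSp F m) := by
  refine ⟨isRootSubgroupSet, ?_, ?_⟩
  · obtain ⟨p, hp⟩ := hne
    exact ⟨_, TP_mem hp⟩
  · intro A hA B hB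
    obtain ⟨p, hp, rfl⟩ := (mem_SigSp A).mp hA
    obtain ⟨r, hr, rfl⟩ := (mem_SigSp B).mp hB
    obtain ⟨g, hg⟩ := Cfsg.Agent.Lib.H2.Sp.transitive m p r hp hr
    refine ⟨g, ?_⟩
    rw [conjBy_TP]
    congr 1
    exact hg.symm

theorem isDegenerate : IsDegenerateRootSet (SigSp F m) := by
  intro A hA B hB
  apply not_commutatorCase (fun C hC => isRootSubgroupSet.ne_bot C hC)
  rcases isRootSubgroupSet.pair A hA B hB with h | h | h
  · exact Or.inl h
  · exact Or.inr h
  · exfalso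
    obtain ⟨p, hp, rfl⟩ := (mem_SigSp A).mp hA
    obtain ⟨r, hr, rfl⟩ := (mem_SigSp B).mp hB
    have h1 : ⁅TP p, TP r⁆ = ⊥ ∨ IsRankOnePair (TP p) (TP r) := by
      by_cases h0 : Cfsg.sympForm m F p r = 0
      · left; exact commutator_eq_bot h0
      · right; exact isRankOnePair hp hr h0
    exact not_commutatorCase (fun C hC => isRootSubgroupSet.ne_bot C hC) h1 h

theorem isConnected : IsConnectedFamily (FAdj (SigSp F m)) (SigSp F m) := by
  intro A hA B hB
  obtain ⟨p, hp, rfl⟩ := (mem_SigSp A).mp hA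
  obtain ⟨r, hr, rfl⟩ := (mem_SigSp B).mp hB
  obtain ⟨z, h1, h2⟩ := exists_sympForm_ne_zero_two m p r hp hr
  have hz : z ≠ 0 := by
    rintro rfl
    apply h1
    have := sympForm_smul_right m (0 : F) p (0 : V)
    rw [zero_smul, zero_mul] at this
    exact this
  have h2' : Cfsg.sympForm m F z r ≠ 0 := by rw [sympForm_swap, neg_ne_zero]; exact h2
  have e1 : FAdj (SigSp F m) (TP p) (TP z) := ⟨hA, TP_mem hz, isRankOnePair hp hz h1⟩
  have e2 : FAdj (SigSp F m) (TP z) (TP r) := ⟨TP_mem hz, hB, isRankOnePair hz hr h2'⟩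
  exact Relation.ReflTransGen.trans (Relation.ReflTransGen.single e1) (Relation.ReflTransGen.single e2)

end Cfsg.Agent.Lib.H6.SpRoot
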