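import Mathlib
import Cfsg.Prelude.Def_RootSubgroups
import Cfsg.Agent.Lib.H6.RootSub
import Cfsg.Agent.Lib.H6.SpRootSet

set_option autoImplicit false
set_option linter.unusedSectionVars false
set_option linter.unusedSimpArgs false
set_option linter.unusedVariables false

/-! A family `S` of subgroups of `H`, viewed inside the subgroup it generates (helper6). -/

namespace Cfsg.Agent.Lib.H6.RootSub

open Cfsg Cfsg.Agent.Lib.H25

variable {H : Type*} [Group H] (S : Set (Subgroup H))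

/-- the subgroup generated by the family -/
abbrev G0 : Subgroup H := ⨆ B ∈ S, B

/-- the family viewed inside `G0 S` -/
abbrev img : Set (Subgroup (G0 S)) := (fun A : Subgroup H => A.subgroupOf (G0 S)) '' S

variable {S}

theorem le_G0 {A : Subgroup H} (hA : A ∈ S) : A ≤ G0 S :=
  le_iSup₂ (f := fun B (_ : B ∈ S) => B) A hA

theorem mem_img {A : Subgroup H} (hA : A ∈ S) : A.subgroupOf (G0 S) ∈ img S := ⟨A, hA, rfl⟩

theorem iSup_img : (⨆ A ∈ img S, A) = ⊤ := by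
  rw [eq_top_iff]
  have h1 : G0 S ≤ (⨆ A ∈ img S, A).map (G0 S).subtype := by
    apply iSup₂_le
    intro B hB b hb
    refine ⟨⟨b, le_G0 hB hb⟩, ?_, rfl⟩
    have h2 : B.subgroupOf (G0 S) ≤ ⨆ A ∈ img S, A :=
      le_iSup₂ (f := fun A (_ : A ∈ img S) => A) _ (mem_img hB)
    exact h2 (Subgroup.mem_subgroupOf.mpr hb)
  rintro ⟨x, hx⟩ -
  obtain ⟨y, hy, hyx⟩ := h1 hx
  have : y = ⟨x, hx⟩ := Subtype.ext hyx
  rw [← this]
  exact hy

theorem isRootSubgroupSet_img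
    (hcomm : ∀ A ∈ S, IsMulCommutative A) (hne : ∀ A ∈ S, A ≠ ⊥)
    (hconj : ∀ A ∈ S, ∀ g : H, conjBy A g ∈ S)
    (hpair : ∀ A ∈ S, ∀ B ∈ S, ⁅A, B⁆ = ⊥ ∨ IsRankOnePair A B) :
    IsRootSubgroupSet (img S) := by
  refine ⟨?_, ?_, iSup_img, ?_, ?_⟩
  · rintro _ ⟨A, hA, rfl⟩
    exact isMulCommutative_subgroupOf _ (hcomm A hA)
  · rintro _ ⟨A, hA, rfl⟩
    exact subgroupOf_ne_bot _ (le_G0 hA) (hne A hA)
  · rintro _ ⟨A, hA, rfl⟩ g
    show conjBy (A.subgroupOf (G0 S)) g ∈ img S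
    rw [conjBy_subgroupOf]
    exact mem_img (hconj A hA _)
  · rintro _ ⟨A, hA, rfl⟩ _ ⟨B, hB, rfl⟩
    rcases hpair A hA B hB with h | h
    · left; exact commutator_subgroupOf_eq_bot _ h
    · right; left; exact isRankOnePair_subgroupOf _ (le_G0 hA) (le_G0 hB) h

theorem isDegenerate_img
    (hcomm : ∀ A ∈ S, IsMulCommutative A) (hne : ∀ A ∈ S, A ≠ ⊥)
    (hconj : ∀ A ∈ S, ∀ g : H, conjBy A g ∈ S)
    (hpair : ∀ A ∈ S, ∀ B ∈ S, ⁅A, B⁆ = ⊥ ∨ IsRankOnePair A B) :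
    IsDegenerateRootSet (img S) := by
  have hR := isRootSubgroupSet_img hcomm hne hconj hpair
  rintro _ ⟨A, hA, rfl⟩ _ ⟨B, hB, rfl⟩
  apply Cfsg.Agent.Lib.H6.SpRoot.not_commutatorCase (fun C hC => hR.ne_bot C hC)
  rcases hpair A hA B hB with h | h
  · left; exact commutator_subgroupOf_eq_bot _ h
  · right; exact isRankOnePair_subgroupOf _ (le_G0 hA) (le_G0 hB) h

theorem isKRoot_img {k : Type*} [Field k]
    (hcomm : ∀ A ∈ S, IsMulCommutative A) (hne : ∀ A ∈ S, A ≠ ⊥)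
    (hconj : ∀ A ∈ S, ∀ g : H, conjBy A g ∈ S)
    (hpair : ∀ A ∈ S, ∀ B ∈ S, ⁅A, B⁆ = ⊥ ∨ IsRankOnePair A B)
    (hK : ∀ A ∈ S, ∀ B ∈ S, ⁅A, B⁆ ≠ ⊥ → IsPSL2PairOver k A B) :
    IsKRootSubgroupSet k (img S) := by
  refine ⟨isRootSubgroupSet_img hcomm hne hconj hpair, ?_⟩
  rintro _ ⟨A, hA, rfl⟩ _ ⟨B, hB, rfl⟩ hR
  apply isPSL2PairOver_subgroupOf _ (le_G0 hA) (le_G0 hB)
  apply hK A hA B hB
  intro h0
  exact commutator_ne_bot_of_rankOne hR (commutator_subgroupOf_eq_bot _ h0)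

theorem isConnected_img (hC : IsConnectedFamily (FAdj S) S) :
    IsConnectedFamily (FAdj (img S)) (img S) := by
  rintro _ ⟨A, hA, rfl⟩ _ ⟨B, hB, rfl⟩
  refine Relation.ReflTransGen.lift (fun A : Subgroup H => A.subgroupOf (G0 S)) ?_ _ _ (hC A hA B hB)
  rintro C D ⟨hCS, hDS, hR⟩
  exact ⟨mem_img hCS, mem_img hDS, isRankOnePair_subgroupOf _ (le_G0 hCS) (le_G0 hDS) hR⟩

theorem exists_conj_of_path {A B : Subgroup H} (hA : A ∈ S)
    (h : Relation.ReflTransGen (FAdj S) A B) : ∃ g ∈ G0 S, B = conjBy A g := by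
  induction h with
  | refl => exact ⟨1, Subgroup.one_mem _, (conjBy_one A).symm⟩
  | tail _ hstep ih =>
    rename_i C D
    obtain ⟨g, hg, rfl⟩ := ih
    obtain ⟨hCS, hDS, hR⟩ := hstep
    obtain ⟨x, hx, hD⟩ := RankOne.right_mem_unipotentSubgroups hR
    refine ⟨x * g, Subgroup.mul_mem _ (sup_le (le_G0 hCS) (le_G0 hDS) hx) hg, ?_⟩
    rw [hD, conjBy_conjBy]

theorem isConjClass_img (hne : S.Nonempty) (hC : IsConnectedFamily (FAdj S) S) :
    IsConjClassOfSubgroups (img S) := by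
  refine ⟨?_, ?_⟩
  · obtain ⟨A, hA⟩ := hne
    exact ⟨_, mem_img hA⟩
  · rintro _ ⟨A, hA, rfl⟩ _ ⟨B, hB, rfl⟩
    obtain ⟨g, hg, rfl⟩ := exists_conj_of_path hA (hC A hA B hB)
    refine ⟨⟨g, hg⟩, ?_⟩
    show (conjBy A g).subgroupOf (G0 S) = conjBy (A.subgroupOf (G0 S)) ⟨g, hg⟩
    rw [conjBy_subgroupOf]

/-- the whole package for a family in which any two members commute or form a rank one pair. -/
theorem main_img {k : Type*} [Field k] (hne0 : S.Nonempty)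
    (hcomm : ∀ A ∈ S, IsMulCommutative A) (hne : ∀ A ∈ S, A ≠ ⊥)
    (hconj : ∀ A ∈ S, ∀ g : H, conjBy A g ∈ S)
    (hpair : ∀ A ∈ S, ∀ B ∈ S, ⁅A, B⁆ = ⊥ ∨ IsRankOnePair A B)
    (hK : ∀ A ∈ S, ∀ B ∈ S, ⁅A, B⁆ ≠ ⊥ → IsPSL2PairOver k A B)
    (hC : IsConnectedFamily (FAdj S) S) :
    IsRootSubgroupClass (img S) ∧ IsDegenerateRootSet (img S) ∧ IsKRootSubgroupSet k (img S) ∧
      IsConnectedFamily (FAdj (img S)) (img S) :=
  ⟨⟨isRootSubgroupSet_img hcomm hne hconj hpair, isConjClass_img hne0 hC⟩,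
    isDegenerate_img hcomm hne hconj hpair, isKRoot_img hcomm hne hconj hpair hK,
    isConnected_img hC⟩

end Cfsg.Agent.Lib.H6.RootSub
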