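import Mathlib
import Cfsg.Prelude.Def_RootSubgroups
import Cfsg.Agent.Lib.H6.RootSubMain

set_option autoImplicit false
set_option linter.unusedSectionVars false
set_option linter.unusedSimpArgs false
set_option linter.unusedVariables false

/-! Rank one pairs under injective homomorphisms; the commutator case inside a subgroup; the
general transfer theorem for a family with all three cases (helper6). -/

namespace Cfsg.Agent.Lib.H6.RootSub

open Cfsg Cfsg.Agent.Lib.H25

section map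

variable {G H : Type*} [Group G] [Group H] (φ : G →* H)

theorem conjBy_map (A : Subgroup G) (g : G) : conjBy (A.map φ) (φ g) = (conjBy A g).map φ := by
  ext x
  rw [mem_conjBy, Subgroup.mem_map, Subgroup.mem_map]
  constructor
  · rintro ⟨a, ha, hax⟩
    refine ⟨g * a * g⁻¹, ?_, ?_⟩
    · rw [mem_conjBy]
      have : g⁻¹ * (g * a * g⁻¹) * g = a := by group
      rw [this]; exact ha
    · rw [map_mul, map_mul, hax, map_inv]; group
  · rintro ⟨y, hy, rfl⟩
    rw [mem_conjBy] at hy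
    refine ⟨g⁻¹ * y * g, hy, ?_⟩
    rw [map_mul, map_mul, map_inv]

variable {φ}

theorem rankOneCondition_map (hφ : Function.Injective φ) {A B : Subgroup G}
    (h : RankOneCondition A B) : RankOneCondition (A.map φ) (B.map φ) := by
  rintro _ ⟨a, ha, rfl⟩ ha1
  have ha1' : a ≠ 1 := by
    rintro rfl
    exact ha1 (map_one φ)
  obtain ⟨b, hb, hb1, hE⟩ := h a ha ha1'
  refine ⟨φ b, ⟨b, hb, rfl⟩, ?_, ?_⟩
  · intro h0
    apply hb1
    apply hφ
    rw [h0, map_one]
  · rw [← map_inv, ← map_inv, conjBy_map, conjBy_map, hE]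

theorem isRankOnePair_map (hφ : Function.Injective φ) {A B : Subgroup G}
    (h : IsRankOnePair A B) : IsRankOnePair (A.map φ) (B.map φ) := by
  refine ⟨?_, ?_, ?_, rankOneCondition_map hφ h.cond_left, rankOneCondition_map hφ h.cond_right⟩
  · intro hE
    exact h.ne (Subgroup.map_injective hφ hE)
  · exact (Group.isNilpotent_congr (A.equivMapOfInjective φ hφ)).mp h.nilpotent_left
  · exact (Group.isNilpotent_congr (B.equivMapOfInjective φ hφ)).mp h.nilpotent_right

/-- an image of `SL₂` with trivial kernel gives a rank one pair. -/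
theorem isRankOnePair_of_injective_SL2 {k : Type*} [Field k]
    (φ : Matrix.SpecialLinearGroup (Fin 2) k →* H) (hφ : Function.Injective φ) :
    IsRankOnePair ((upperUnipotentSL2 k).map φ) ((lowerUnipotentSL2 k).map φ) :=
  isRankOnePair_map hφ (RankOnePair_symm Cfsg.Agent.S5016.isRankOnePair)

end map

section sub

variable {H : Type*} [Group H] (K : Subgroup H)

theorem commutator_subgroupOf {A B : Subgroup H} (hA : A ≤ K) (hB : B ≤ K) :
    ⁅A.subgroupOf K, B.subgroupOf K⁆ = (⁅A, B⁆).subgroupOf K := by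
  have h1 : (⁅A.subgroupOf K, B.subgroupOf K⁆).map K.subtype = ⁅A, B⁆ := by
    rw [Subgroup.map_commutator, Subgroup.map_subgroupOf_eq_of_le hA,
      Subgroup.map_subgroupOf_eq_of_le hB]
  rw [← h1]
  exact (Subgroup.comap_map_eq_self_of_injective K.subtype_injective _).symm

theorem closure_image_subgroupOf (T : Set K) :
    Subgroup.closure T = (Subgroup.closure (Subtype.val '' T : Set H)).subgroupOf K := by
  have h1 : (Subgroup.closure T).map K.subtype = Subgroup.closure (Subtype.val '' T : Set H) := by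
    rw [MonoidHom.map_closure]; rfl
  rw [← h1]
  exact (Subgroup.comap_map_eq_self_of_injective K.subtype_injective _).symm

theorem rootCommutatorCase_subgroupOf {S : Set (Subgroup H)} {A B : Subgroup H} (hA : A ≤ K)
    (hB : B ≤ K) (h : RootCommutatorCase S A B) :
    RootCommutatorCase ((fun C : Subgroup H => C.subgroupOf K) '' S) (A.subgroupOf K)
      (B.subgroupOf K) := by
  obtain ⟨h1, h2, h3, h4⟩ := h
  have hc := commutator_subgroupOf K hA hB
  refine ⟨?_, ?_, ?_, ?_⟩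
  · rw [hc]; exact ⟨_, h1, rfl⟩
  · intro c hcm x hx
    rw [hc] at hcm
    rw [← Subgroup.subgroupOf_sup hA hB] at hx
    apply Subtype.ext
    exact h2 _ (Subgroup.mem_subgroupOf.mp hcm) _ (Subgroup.mem_subgroupOf.mp hx)
  · intro a ha ha1
    have ha' : (a : H) ∈ A := Subgroup.mem_subgroupOf.mp ha
    have ha1' : (a : H) ≠ 1 := fun h0 => ha1 (Subtype.ext h0)
    rw [hc, closure_image_subgroupOf, ← h3 (a : H) ha' ha1']
    congr 2
    ext y
    constructor
    · rintro ⟨_, ⟨b, hb, rfl⟩, rfl⟩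
      exact ⟨(b : H), Subgroup.mem_subgroupOf.mp hb, rfl⟩
    · rintro ⟨b, hb, rfl⟩
      exact ⟨_, ⟨⟨b, hB hb⟩, Subgroup.mem_subgroupOf.mpr hb, rfl⟩, rfl⟩
  · intro b hb hb1
    have hb' : (b : H) ∈ B := Subgroup.mem_subgroupOf.mp hb
    have hb1' : (b : H) ≠ 1 := fun h0 => hb1 (Subtype.ext h0)
    rw [hc, closure_image_subgroupOf, ← h4 (b : H) hb' hb1']
    congr 2
    ext y
    constructor
    · rintro ⟨_, ⟨a, ha, rfl⟩, rfl⟩
      exact ⟨(a : H), Subgroup.mem_subgroupOf.mp ha, rfl⟩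
    · rintro ⟨a, ha, rfl⟩
      exact ⟨_, ⟨⟨a, hA ha⟩, Subgroup.mem_subgroupOf.mpr ha, rfl⟩, rfl⟩

end sub

section family

variable {H : Type*} [Group H] {S : Set (Subgroup H)}

theorem isRootSubgroupSet_img'
    (hcomm : ∀ A ∈ S, IsMulCommutative A) (hne : ∀ A ∈ S, A ≠ ⊥)
    (hconj : ∀ A ∈ S, ∀ g : H, conjBy A g ∈ S)
    (hpair : ∀ A ∈ S, ∀ B ∈ S, ⁅A, B⁆ = ⊥ ∨ IsRankOnePair A B ∨ RootCommutatorCase S A B) :
    IsRootSubgroupSet (img S) := by
  refine ⟨?_, ?_, iSup_img, ?_, ?_⟩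
  · rintro _ ⟨A, hA, rfl⟩
    exact isMulCommutative_subgroupOf _ (hcomm A hA)
  · rintro _ ⟨A, hA, rfl⟩
    exact subgroupOf_ne_bot _ (le_G0 hA) (hne A hA)
  · rintro _ ⟨A, hA, rfl⟩ g
    show conjBy (A.subgroupOf (G0 S)) g ∈ img S
    rw [conjBy_subgroupOf]
    exact mem_img (hconj A hA _)
  · rintro _ ⟨A, hA, rfl⟩ _ ⟨B, hB, rfl⟩
    rcases hpair A hA B hB with h | h | h
    · left; exact commutator_subgroupOf_eq_bot _ h
    · right; left; exact isRankOnePair_subgroupOf _ (le_G0 hA) (le_G0 hB) h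
    · right; right; exact rootCommutatorCase_subgroupOf _ (le_G0 hA) (le_G0 hB) h

theorem isKRoot_img' {k : Type*} [Field k]
    (hcomm : ∀ A ∈ S, IsMulCommutative A) (hne : ∀ A ∈ S, A ≠ ⊥)
    (hconj : ∀ A ∈ S, ∀ g : H, conjBy A g ∈ S)
    (hpair : ∀ A ∈ S, ∀ B ∈ S, ⁅A, B⁆ = ⊥ ∨ IsRankOnePair A B ∨ RootCommutatorCase S A B)
    (hK : ∀ A ∈ S, ∀ B ∈ S, IsRankOnePair A B → IsPSL2PairOver k A B) :
    IsKRootSubgroupSet k (img S) := by
  have hR := isRootSubgroupSet_img' hcomm hne hconj hpair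
  refine ⟨hR, ?_⟩
  rintro _ ⟨A, hA, rfl⟩ _ ⟨B, hB, rfl⟩ hRk
  apply isPSL2PairOver_subgroupOf _ (le_G0 hA) (le_G0 hB)
  rcases hpair A hA B hB with h | h | h
  · exact absurd (commutator_subgroupOf_eq_bot _ h) (commutator_ne_bot_of_rankOne hRk)
  · exact hK A hA B hB h
  · exfalso
    have hc := rootCommutatorCase_subgroupOf (G0 S) (le_G0 hA) (le_G0 hB) h
    exact Cfsg.Agent.Lib.H6.SpRoot.not_commutatorCase (fun C hC => hR.ne_bot C hC) (Or.inr hRk) hc

end family

end Cfsg.Agent.Lib.H6.RootSub
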