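import Mathlib
import Cfsg.Prelude.Def_RootSubgroups
import Cfsg.Agent.Lib.H6.FConn

set_option autoImplicit false

/-! Key lemma: a member `E ≠ A` of `S` inside `A B` (with `A`, `B` commuting and `B` in a rank one
pair with `D`) is in a rank one pair with `D`, unless `A` is joined to `B` directly. -/

namespace Cfsg.Agent.Lib.H6.FConn

open Cfsg Cfsg.Agent.Lib.H25
open scoped commutatorElement

variable {G : Type*} [Group G] {S : Set (Subgroup G)}

/-- `a⁻¹ d' a` commutes with `D` when `⁅D, A⁆` is central in `D ⊔ A`. -/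
theorem conj_comm_left {A D : Subgroup G} (hDab : IsMulCommutative D)
    (hcenDA : ∀ c ∈ ⁅D, A⁆, ∀ x ∈ D ⊔ A, c * x = x * c)
    {a : G} (ha : a ∈ A) {d' : G} (hd' : d' ∈ D) {d : G} (hd : d ∈ D) :
    (a⁻¹ * d' * a) * d = d * (a⁻¹ * d' * a) := by
  obtain ⟨z, hz⟩ : ∃ z, z = d' * a * d'⁻¹ * a⁻¹ := ⟨_, rfl⟩
  have hzm : z ∈ ⁅D, A⁆ := by rw [hz]; exact mem_comm_of_mem hd' ha
  have e1 : a⁻¹ * d' * a = (a⁻¹ * z * a) * d' := by rw [hz]; group
  have e2 : a⁻¹ * z * a = z := by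
    have := hcenDA z hzm a (Subgroup.mem_sup_right ha)
    rw [mul_assoc, this, ← mul_assoc, inv_mul_cancel, one_mul]
  rw [e1, e2]
  have e3 := hcenDA z hzm d (Subgroup.mem_sup_left hd)
  have e4 := comm_of_isMulCommutative hDab hd' hd
  rw [mul_assoc, e4, ← mul_assoc, e3, mul_assoc]

/-- Step 1–3: under the two centrality hypotheses, `a⁻¹ d' a` centralizes `B`. -/
theorem conj_centralizes {A B D E : Subgroup G} (hDab : IsMulCommutative D)
    (hBD : IsRankOnePair B D)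
    (hcenDA : ∀ c ∈ ⁅D, A⁆, ∀ x ∈ D ⊔ A, c * x = x * c)
    (hcenDE : ∀ c ∈ ⁅D, E⁆, ∀ x ∈ D ⊔ E, c * x = x * c)
    {a b : G} (ha : a ∈ A) (hb : b ∈ B) (hb1 : b ≠ 1) (he : a * b ∈ E)
    {d' : G} (hd' : d' ∈ D) {b' : G} (hb' : b' ∈ B) :
    (a⁻¹ * d' * a) * b' = b' * (a⁻¹ * d' * a) := by
  have h2 : ∀ d ∈ D, (a⁻¹ * d' * a) * d = d * (a⁻¹ * d' * a) := fun d hd =>
    conj_comm_left hDab hcenDA ha hd' hd
  -- `a⁻¹ d' a` commutes with `b D b⁻¹`
  have h1 : ∀ d ∈ D, (a⁻¹ * d' * a) * (b * d * b⁻¹) = (b * d * b⁻¹) * (a⁻¹ * d' * a) := by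
    intro d hd
    obtain ⟨e, hee⟩ : ∃ e, e = a * b := ⟨_, rfl⟩
    rw [← hee] at he
    obtain ⟨z, hz⟩ : ∃ z, z = d * e * d⁻¹ * e⁻¹ := ⟨_, rfl⟩
    have hzm : z ∈ ⁅D, E⁆ := by rw [hz]; exact mem_comm_of_mem hd he
    -- `e d e⁻¹ = z⁻¹ d` hmm: `e d e⁻¹ = e d e⁻¹ d⁻¹ d`
    have hz' : z⁻¹ ∈ ⁅D, E⁆ := Subgroup.inv_mem _ hzm
    have e1 : e * d * e⁻¹ = z⁻¹ * d := by rw [hz]; group
    have e3 : (e * d * e⁻¹) * d' = d' * (e * d * e⁻¹) := by
      rw [e1]
      have e5 := hcenDE z⁻¹ hz' d' (Subgroup.mem_sup_left hd')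
      have e4 := comm_of_isMulCommutative hDab hd hd'
      rw [mul_assoc, e4, ← mul_assoc, e5, mul_assoc]
    rw [hee] at e3
    have e6 : (a⁻¹ * d' * a) * (b * d * b⁻¹) = a⁻¹ * (d' * (a * b * d * (a * b)⁻¹)) * a := by group
    have e7 : (b * d * b⁻¹) * (a⁻¹ * d' * a) = a⁻¹ * ((a * b * d * (a * b)⁻¹) * d') * a := by group
    rw [e6, e7, e3]
  -- hence with `D ⊔ b D b⁻¹ = D ⊔ B`
  have hsup := (pair_conj hBD hb hb1).2
  have hle : D ⊔ conjBy D b ≤ Subgroup.centralizer ({a⁻¹ * d' * a} : Set G) := by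
    apply sup_le
    · intro d hd
      rw [Subgroup.mem_centralizer_iff]
      intro y hy
      rw [Set.mem_singleton_iff] at hy
      rw [hy]
      exact h2 d hd
    · intro x hx
      rw [mem_conjBy] at hx
      rw [Subgroup.mem_centralizer_iff]
      intro y hy
      rw [Set.mem_singleton_iff] at hy
      rw [hy]
      have := h1 _ hx
      have e8 : b * (b⁻¹ * x * b) * b⁻¹ = x := by group
      rw [e8] at this
      exact this
  have hmem : b' ∈ D ⊔ conjBy D b := by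
    rw [hsup]; exact Subgroup.mem_sup_right hb'
  have := hle hmem
  rw [Subgroup.mem_centralizer_iff] at this
  exact this _ rfl

/-- The key lemma. -/
theorem star (hS : IsRootSubgroupSet S) {A B D E : Subgroup G} (hA : A ∈ S) (hB : B ∈ S)
    (hD : D ∈ S) (hE : E ∈ S) (hBD : IsRankOnePair B D)
    (hAB : ∀ a ∈ A, ∀ b ∈ B, a * b = b * a) (hEle : E ≤ A ⊔ B) (hEA : E ⊓ A = ⊥) :
    IsRankOnePair E D ∨ IsRankOnePair A D ∨ ∃ d ∈ D, IsRankOnePair A (conjBy B d) := by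
  by_cases hDE : IsRankOnePair D E
  · left; exact RankOnePair_symm hDE
  by_cases hDA : IsRankOnePair D A
  · right; left; exact RankOnePair_symm hDA
  right; right
  have hcenDA := central_of_not_rankOne hS hD hA hDA
  have hcenDE := central_of_not_rankOne hS hD hE hDE
  have hDab := hS.commutative D hD
  obtain ⟨e, heE, he1⟩ : ∃ e ∈ E, e ≠ 1 := by
    obtain ⟨e, he⟩ := (Subgroup.ne_bot_iff_exists_ne_one).mp (hS.ne_bot E hE)
    exact ⟨e, e.2, fun hh => he (Subtype.ext hh)⟩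
  obtain ⟨a, ha, b, hb, hab⟩ := exists_mul_of_mem_sup hAB (hEle heE)
  have hb1 : b ≠ 1 := by
    intro hh
    rw [hh, mul_one] at hab
    have : e ∈ E ⊓ A := ⟨heE, hab ▸ ha⟩
    rw [hEA, Subgroup.mem_bot] at this
    exact he1 this
  have heE' : a * b ∈ E := hab ▸ heE
  have key : ∀ d' ∈ D, ∀ b' ∈ B, (a⁻¹ * d' * a) * b' = b' * (a⁻¹ * d' * a) :=
    fun d' hd' b' hb' => conj_centralizes hDab hBD hcenDA hcenDE ha hb hb1 heE' hd' hb'
  obtain ⟨d₀, hd₀, hd₀1⟩ := RankOne.exists_ne_one_right hBD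
  obtain ⟨b₀, hb₀, hb₀1⟩ := RankOne.exists_ne_one_left hBD
  have hDB := RankOnePair_symm hBD
  rcases hS.pair D hD A hA with h0 | hr | hcc
  · exfalso
    have hcomm : a⁻¹ * d₀ * a = d₀ := by
      rw [Subgroup.commutator_eq_bot_iff_le_centralizer] at h0
      have := h0 hd₀
      rw [Subgroup.mem_centralizer_iff] at this
      have h1 := this a ha
      rw [mul_assoc, ← h1, ← mul_assoc, inv_mul_cancel, one_mul]
    have h1 := key d₀ hd₀ b₀ hb₀
    rw [hcomm] at h1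
    exact hd₀1 (RankOne.eq_one_of_commute hBD hb₀ hb₀1 hd₀ h1.symm)
  · exact absurd hr hDA
  · have hC := hcc.1
    -- `z' = a⁻¹ d' a d'⁻¹` acts on `B` as `d'⁻¹`
    have hzmem : ∀ d' ∈ D, a⁻¹ * d' * a * d'⁻¹ ∈ ⁅D, A⁆ := by
      intro d' hd'
      rw [Subgroup.commutator_comm]
      have := mem_comm_of_mem (A.inv_mem ha) hd'
      rwa [inv_inv] at this
    have hz : ∀ d' ∈ D, ∀ b' ∈ B,
        (a⁻¹ * d' * a * d'⁻¹) * b' * (a⁻¹ * d' * a * d'⁻¹)⁻¹ = d'⁻¹ * b' * d' := by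
      intro d' hd' b' hb'
      have c1 : Commute (a⁻¹ * d' * a) b' := key d' hd' b' hb'
      have c2 : Commute (a⁻¹ * d' * a) d' := conj_comm_left hDab hcenDA ha hd' hd'
      have c3 : Commute (a⁻¹ * d' * a) (d'⁻¹ * b' * d') :=
        (c2.inv_right.mul_right c1).mul_right c2
      have e1 : (a⁻¹ * d' * a * d'⁻¹) * b' * (a⁻¹ * d' * a * d'⁻¹)⁻¹ =
          (a⁻¹ * d' * a) * (d'⁻¹ * b' * d') * (a⁻¹ * d' * a)⁻¹ := by group
      rw [e1, c3.eq, mul_assoc, mul_inv_cancel, mul_one]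
    rcases hS.pair _ hC B hB with h0' | hr' | hcc'
    · -- `⁅C, B⁆ = ⊥`
      exfalso
      rw [Subgroup.commutator_eq_bot_iff_le_centralizer] at h0'
      have h1 := h0' (hzmem d₀ hd₀)
      rw [Subgroup.mem_centralizer_iff] at h1
      have h2 := h1 b₀ hb₀
      have h3 := hz d₀ hd₀ b₀ hb₀
      rw [← h2, mul_assoc, mul_inv_cancel, mul_one] at h3
      have h4 : d₀ * b₀ = b₀ * d₀ := by
        have := congrArg (fun t => d₀ * t) h3
        simpa [mul_assoc] using this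
      exact hd₀1 (RankOne.eq_one_of_commute hBD hb₀ hb₀1 hd₀ h4.symm)
    · -- `(C, B)` rank one: a direct path
      refine ⟨d₀⁻¹, D.inv_mem hd₀, ?_⟩
      obtain ⟨a₁, ha₁, ha₁1⟩ : ∃ a₁ ∈ A, a₁ ≠ 1 := by
        obtain ⟨x, hx⟩ := (Subgroup.ne_bot_iff_exists_ne_one).mp (hS.ne_bot A hA)
        exact ⟨x, x.2, fun hh => hx (Subtype.ext hh)⟩
      obtain ⟨c, hc⟩ : ∃ c, c = d₀ * a₁ * d₀⁻¹ * a₁⁻¹ := ⟨_, rfl⟩
      have hcm : c ∈ ⁅D, A⁆ := by rw [hc]; exact mem_comm_of_mem hd₀ ha₁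
      have hc1 : c ≠ 1 := by
        intro hh
        apply not_commute_of_commutatorCase hS hD hA hB hDB hcc hd₀ hd₀1 ha₁ ha₁1
        rw [hc] at hh
        have := congrArg (fun t => t * a₁ * d₀) hh
        simpa [mul_assoc] using this
      have hxm : c * a₁ ∈ conjBy A d₀ := by
        rw [mem_conjBy, hc]
        have : d₀⁻¹ * (d₀ * a₁ * d₀⁻¹ * a₁⁻¹ * a₁) * d₀ = a₁ := by group
        rw [this]; exact ha₁
      have hab₁ := hAB a₁ ha₁ b₀ hb₀
      have hpair : IsRankOnePair (conjBy A d₀) B := by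
        rcases hS.pair _ (hS.conj_mem A hA d₀) B hB with h0'' | hr'' | hcc''
        · exfalso
          rw [Subgroup.commutator_eq_bot_iff_le_centralizer] at h0''
          have h1 := h0'' hxm
          rw [Subgroup.mem_centralizer_iff] at h1
          have h2 := h1 b₀ hb₀
          -- b₀ * (c * a₁) = c * a₁ * b₀
          have h3 : c * b₀ = b₀ * c := by
            have e1 : c * a₁ * b₀ = c * b₀ * a₁ := by rw [mul_assoc, hab₁, ← mul_assoc]
            rw [e1, ← mul_assoc] at h2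
            exact (mul_right_cancel h2).symm
          exact hb₀1 (RankOne.eq_one_of_commute hr' hcm hc1 hb₀ h3)
        · exact hr''
        · exfalso
          have hw : (c * a₁) * b₀ * (c * a₁)⁻¹ * b₀⁻¹ ∈ ⁅conjBy A d₀, B⁆ := mem_comm_of_mem hxm hb₀
          have h1 := hcc''.2.1 _ hw b₀ (Subgroup.mem_sup_right hb₀)
          have e1 : (c * a₁) * b₀ * (c * a₁)⁻¹ * b₀⁻¹ = c * b₀ * c⁻¹ * b₀⁻¹ := by
            have : (c * a₁) * b₀ * (c * a₁)⁻¹ * b₀⁻¹ = c * (a₁ * b₀) * a₁⁻¹ * c⁻¹ * b₀⁻¹ := by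
              group
            rw [this, hab₁]; group
          rw [e1] at h1
          apply not_commute_conj hr' hcm hc1 hb₀ hb₀1 hb₀ hb₀1
          have := congrArg (fun t => t * b₀) h1
          simpa [mul_assoc] using this
      have := RankOne.isRankOnePair_conj hpair d₀⁻¹
      rwa [conjBy_conjBy, inv_mul_cancel, conjBy_one] at this
    · -- commutator case for `(C, B)`
      exfalso
      have hw : (a⁻¹ * d₀ * a * d₀⁻¹) * b₀ * (a⁻¹ * d₀ * a * d₀⁻¹)⁻¹ * b₀⁻¹ ∈ ⁅⁅D, A⁆, B⁆ :=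
        mem_comm_of_mem (hzmem d₀ hd₀) hb₀
      have h1 := hcc'.2.1 _ hw b₀ (Subgroup.mem_sup_right hb₀)
      rw [hz d₀ hd₀ b₀ hb₀] at h1
      have hd₀1' : d₀⁻¹ ≠ 1 := fun hh => hd₀1 (inv_eq_one.mp hh)
      apply not_commute_conj hDB (D.inv_mem hd₀) hd₀1' hb₀ hb₀1 hb₀ hb₀1
      rw [inv_inv]
      have := congrArg (fun t => t * b₀) h1
      simpa [mul_assoc] using this

end Cfsg.Agent.Lib.H6.FConn
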