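import Mathlib
import Cfsg.Prelude.Def_RootSubgroups
import Cfsg.Agent.Lib.H6.FConnStar

set_option autoImplicit false

/-! Line partners which both have rank one partners are joined in the graph of rank one pairs. -/

namespace Cfsg.Agent.Lib.H6.FConn

open Cfsg Cfsg.Agent.Lib.H25
open scoped commutatorElement

variable {G : Type*} [Group G] {S : Set (Subgroup G)}

theorem comm_of_commutator_eq_bot {A B : Subgroup G} (h : ⁅A, B⁆ = ⊥) :
    ∀ a ∈ A, ∀ b ∈ B, a * b = b * a := by
  intro a ha b hb
  rw [Subgroup.commutator_eq_bot_iff_le_centralizer] at h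
  have := h ha
  rw [Subgroup.mem_centralizer_iff] at this
  exact (this b hb).symm

/-- Line partners which both have rank one partners are joined by a path. -/
theorem line_conn (hS : IsRootSubgroupSet S) {A B A' D : Subgroup G} (hA : A ∈ S)
    (hAB : B ∈ linePartners S A) (hA' : A' ∈ S) (hAA' : IsRankOnePair A A') (hD : D ∈ S)
    (hBD : IsRankOnePair B D) : Relation.ReflTransGen (FAdj S) A B := by
  obtain ⟨⟨hB, hBA, hcomm⟩, hpart⟩ := hAB
  by_contra hcon
  have hc := comm_of_commutator_eq_bot hcomm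
  have hc' : ∀ b ∈ B, ∀ a ∈ A, b * a = a * b := fun b hb a ha => (hc a ha b hb).symm
  have hAm : A ∈ membersIn S (A ⊔ B) := ⟨hA, le_sup_left⟩
  have hBm : B ∈ membersIn S (A ⊔ B) := ⟨hB, le_sup_right⟩
  have hinf : A ⊓ B = ⊥ := hpart.2.2 A hAm B hBm hBA.symm
  obtain ⟨a, ha, ha1⟩ := RankOne.exists_ne_one_left hAA'
  obtain ⟨b, hb, hb1⟩ := RankOne.exists_ne_one_left hBD
  have hx1 : a * b ≠ 1 := by
    intro hh
    have h1 : a = b⁻¹ := mul_eq_one_iff_eq_inv.mp hh
    have : a ∈ A ⊓ B := ⟨ha, h1 ▸ B.inv_mem hb⟩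
    rw [hinf, Subgroup.mem_bot] at this
    exact ha1 this
  have hxm : a * b ∈ A ⊔ B := Subgroup.mul_mem _ (Subgroup.mem_sup_left ha) (Subgroup.mem_sup_right hb)
  obtain ⟨E, hEm, hxE⟩ := hpart.2.1 _ hxm hx1
  have hEA : E ≠ A := by
    intro hh
    rw [hh] at hxE
    have h1 : b ∈ A := by
      have := A.mul_mem (A.inv_mem ha) hxE
      rwa [← mul_assoc, inv_mul_cancel, one_mul] at this
    have : b ∈ A ⊓ B := ⟨h1, hb⟩
    rw [hinf, Subgroup.mem_bot] at this
    exact hb1 this
  have hEB : E ≠ B := by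
    intro hh
    rw [hh] at hxE
    have h1 : a ∈ B := by
      have := B.mul_mem hxE (B.inv_mem hb)
      rwa [mul_assoc, mul_inv_cancel, mul_one] at this
    have : a ∈ A ⊓ B := ⟨ha, h1⟩
    rw [hinf, Subgroup.mem_bot] at this
    exact ha1 this
  have hEinfA : E ⊓ A = ⊥ := hpart.2.2 E hEm A hAm hEA
  have hEinfB : E ⊓ B = ⊥ := hpart.2.2 E hEm B hBm hEB
  have hES := hEm.1
  have hEle := hEm.2
  have step : ∀ {P Q : Subgroup G}, P ∈ S → Q ∈ S → IsRankOnePair P Q →
      Relation.ReflTransGen (FAdj S) P Q := fun hP hQ h =>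
    Relation.ReflTransGen.single ⟨hP, hQ, h⟩
  -- first application
  have hED : IsRankOnePair E D := by
    rcases star hS hA hB hD hES hBD hc hEle hEinfA with h1 | h1 | ⟨d, hd, h1⟩
    · exact h1
    · exfalso
      exact hcon ((step hA hD h1).trans (step hD hB (RankOnePair_symm hBD)))
    · exfalso
      have hBd := hS.conj_mem B hB d
      have h2 : IsRankOnePair (conjBy B d) D := by
        have := RankOne.isRankOnePair_conj hBD d
        rwa [conjBy_of_mem hd] at this
      exact hcon (((step hA hBd h1).trans (step hBd hD h2)).trans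
        (step hD hB (RankOnePair_symm hBD)))
  have hEle' : E ≤ B ⊔ A := by rw [sup_comm]; exact hEle
  have hEA' : IsRankOnePair E A' := by
    rcases star hS hB hA hA' hES hAA' hc' hEle' hEinfB with h1 | h1 | ⟨d, hd, h1⟩
    · exact h1
    · exfalso
      exact hcon ((step hA hA' hAA').trans (step hA' hB (RankOnePair_symm h1)))
    · exfalso
      have hAd := hS.conj_mem A hA d
      have h2 : IsRankOnePair (conjBy A d) A' := by
        have := RankOne.isRankOnePair_conj hAA' d
        rwa [conjBy_of_mem hd] at this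
      exact hcon (((step hA hA' hAA').trans (step hA' hAd (RankOnePair_symm h2))).trans
        (step hAd hB (RankOnePair_symm h1)))
  exact hcon ((((step hA hA' hAA').trans (step hA' hES (RankOnePair_symm hEA'))).trans
    (step hES hD hED)).trans (step hD hB (RankOnePair_symm hBD)))

/-- A member with a proper path has a rank one partner. -/
theorem exists_partner_of_rtg {A A' : Subgroup G} (h : Relation.ReflTransGen (FAdj S) A A')
    (hne : A' ≠ A) : ∃ C ∈ S, IsRankOnePair A C := by
  rcases Relation.ReflTransGen.cases_head h with h1 | ⟨C, hC, -⟩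
  · exact absurd h1.symm hne
  · exact ⟨C, hC.2.1, hC.2.2⟩

theorem componentOf_eq_of_rtg {A B : Subgroup G} (h : Relation.ReflTransGen (FAdj S) A B) :
    componentOf (FAdj S) S A = componentOf (FAdj S) S B := by
  ext C
  constructor
  · rintro ⟨hC, h1⟩
    exact ⟨hC, (rtg_symm h).trans h1⟩
  · rintro ⟨hC, h1⟩
    exact ⟨hC, h.trans h1⟩

end Cfsg.Agent.Lib.H6.FConn
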