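import Mathlib
import Cfsg.Prelude.Def_RootSubgroups
import Cfsg.Agent.Lib.H6.FConnLine
import Cfsg.Agent.S5029

set_option autoImplicit false

/-! Connectivity of the graph of rank one pairs for a conjugacy class with a non-isolated member. -/

namespace Cfsg.Agent.Lib.H6.FConn

open Cfsg Cfsg.Agent.Lib.H25
open scoped commutatorElement

variable {G : Type*} [Group G] {S : Set (Subgroup G)}

theorem not_isolated_of_pair {A B : Subgroup G} (hA : A ∈ S) (hB : B ∈ S)
    (h : IsRankOnePair A B) : ¬ IsIsolatedIn (FAdj S) S A := by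
  intro hi
  exact (hi.2 B).1 ⟨hA, hB, h⟩

/-- Members in different components commute, when every member has a rank one partner. -/
theorem commute_of_not_rtg (hS : IsRootSubgroupSet S)
    (hall : ∀ A ∈ S, ∃ B ∈ S, IsRankOnePair A B) {T M : Subgroup G} (hT : T ∈ S) (hM : M ∈ S)
    (hn : ¬ Relation.ReflTransGen (FAdj S) T M) : ⁅T, M⁆ = ⊥ := by
  rcases hS.pair T hT M hM with h0 | hr | hcc
  · exact h0
  · exact absurd (Relation.ReflTransGen.single ⟨hT, hM, hr⟩) hn
  · exfalso
    have hC := hcc.1
    obtain ⟨T', hT', hTT'⟩ := hall T hT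
    obtain ⟨M', hM', hMM'⟩ := hall M hM
    obtain ⟨C', hC', hCC'⟩ := hall _ hC
    have h1 := (Cfsg.Agent.S5029.result hS (not_isolated_of_pair hT hT' hTT') hT hM hC).2.2.1
    have hC2 : ⁅M, T⁆ ∈ S := by rw [Subgroup.commutator_comm]; exact hC
    have h2 := (Cfsg.Agent.S5029.result hS (not_isolated_of_pair hM hM' hMM') hM hT hC2).2.2.1
    rw [Subgroup.commutator_comm] at h2
    have p1 := line_conn hS hC h1 hC' hCC' hT' hTT'
    have p2 := line_conn hS hC h2 hC' hCC' hM' hMM'
    exact hn ((rtg_symm p1).trans p2)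

/-- The component of `A` is invariant under conjugation. -/
theorem rtg_conj_self (hS : IsRootSubgroupSet S)
    (hall : ∀ A ∈ S, ∃ B ∈ S, IsRankOnePair A B) {A : Subgroup G} (hA : A ∈ S) (g : G) :
    Relation.ReflTransGen (FAdj S) A (conjBy A g) := by
  have hg : g ∈ (⨆ T ∈ S, T : Subgroup G) := by rw [hS.generates]; exact Subgroup.mem_top g
  -- property: for all members `M` joined to `A`, the conjugate of `M` is joined to `A`
  suffices h : ∀ M ∈ S, Relation.ReflTransGen (FAdj S) A M →
      Relation.ReflTransGen (FAdj S) A (conjBy M g) from h A hA Relation.ReflTransGen.refl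
  have hgen : ∀ T ∈ S, ∀ x ∈ T, ∀ M ∈ S, Relation.ReflTransGen (FAdj S) A M →
      Relation.ReflTransGen (FAdj S) A (conjBy M x) := by
    intro T hT x hx M hM hAM
    by_cases hTA : Relation.ReflTransGen (FAdj S) A T
    · -- `T` in the component: conjugate the path from `T` to `M`
      have h1 : Relation.ReflTransGen (FAdj S) T M := (rtg_symm hTA).trans hAM
      have h2 := rtg_conj hS h1 x
      rw [conjBy_of_mem hx] at h2
      exact hTA.trans h2
    · -- `T` outside: `T` commutes with `M`
      have hTM : ¬ Relation.ReflTransGen (FAdj S) T M := fun h =>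
        hTA (hAM.trans (rtg_symm h))
      have h0 := commute_of_not_rtg hS hall hT hM hTM
      have hc := comm_of_commutator_eq_bot h0
      have : conjBy M x = M := by
        rw [conjBy_eq_self_iff]
        apply Subgroup.centralizer_le_normalizer
        rw [Subgroup.mem_centralizer_iff]
        intro m hm
        exact (hc x hx m hm).symm
      rw [this]; exact hAM
  refine Subgroup.iSup_induction (fun T => (⨆ (_ : T ∈ S), T : Subgroup G))
    (C := fun g => ∀ M ∈ S, Relation.ReflTransGen (FAdj S) A M →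
      Relation.ReflTransGen (FAdj S) A (conjBy M g)) hg ?_ ?_ ?_
  · intro T x hx
    by_cases hT : T ∈ S
    · have hx' : x ∈ T := by simpa [hT] using hx
      exact hgen T hT x hx'
    · have hx' : x = 1 := by simpa [hT] using hx
      intro M _ hAM
      rw [hx', conjBy_one]; exact hAM
  · intro M _ hAM
    rw [conjBy_one]; exact hAM
  · intro x y ihx ihy M hM hAM
    rw [← conjBy_conjBy]
    exact ihx _ (hS.conj_mem M hM y) (ihy M hM hAM)

/-- Connectivity for a conjugacy class in which every member has a rank one partner. -/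
theorem connected_of_class (hS : IsRootSubgroupSet S) (hcl : IsConjClassOfSubgroups S)
    {A₀ B₀ : Subgroup G} (hA₀ : A₀ ∈ S) (hB₀ : B₀ ∈ S) (h₀ : IsRankOnePair A₀ B₀) :
    IsConnectedFamily (FAdj S) S := by
  have hall : ∀ A ∈ S, ∃ B ∈ S, IsRankOnePair A B := by
    intro A hA
    obtain ⟨g, rfl⟩ := hcl.2 A₀ hA₀ A hA
    exact ⟨conjBy B₀ g, hS.conj_mem B₀ hB₀ g, RankOne.isRankOnePair_conj h₀ g⟩
  intro A hA B hB
  obtain ⟨g, rfl⟩ := hcl.2 A hA B hB
  exact rtg_conj_self hS hall hA g

end Cfsg.Agent.Lib.H6.FConn
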