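import Mathlib
import Cfsg.Prelude.Def_RootSubgroups
import Cfsg.Agent.Lib.H25.RankOneGroup

set_option autoImplicit false

/-! Quadratic action of a rank one group on an abelian group (Timmesfeld I §3): the operators
`α_x = x - 1` in the endomorphism ring, congruences modulo the fixed points. -/

namespace Cfsg.Agent.Lib.H6.QuadAct

open Cfsg Cfsg.Agent.Lib.H25

variable {X : Type*} [Group X] (N : Type*) [AddCommGroup N] [DistribMulAction X N]

/-- The action as a homomorphism into the endomorphism ring. -/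
abbrev rho : X →* AddMonoid.End N := DistribMulAction.toAddMonoidEnd X N

/-- `α_x = ρ x - 1`. -/
def al (x : X) : AddMonoid.End N := rho N x - 1

theorem al_apply (x : X) (v : N) : al N x v = x • v - v := rfl

theorem rho_apply (x : X) (v : N) : rho N x v = x • v := rfl

theorem rho_eq (x : X) : rho N x = 1 + al N x := by unfold al; abel

theorem al_one : al N (1 : X) = 0 := by unfold al; rw [map_one, sub_self]

theorem al_mul (x y : X) : al N (x * y) = rho N x * al N y + al N x := by
  unfold al; rw [map_mul]; noncomm_ring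

theorem al_inv (x : X) : al N x⁻¹ = -(rho N x⁻¹ * al N x) := by
  have h1 : rho N x⁻¹ * rho N x = 1 := by rw [← map_mul, inv_mul_cancel, map_one]
  unfold al
  rw [mul_sub, h1, mul_one]; abel

theorem al_conj (g x : X) : al N (g * x * g⁻¹) = rho N g * al N x * rho N g⁻¹ := by
  have h1 : rho N g * rho N g⁻¹ = 1 := by rw [← map_mul, mul_inv_cancel, map_one]
  unfold al
  rw [map_mul, map_mul, mul_sub, sub_mul, mul_one, h1]

/-- Quadratic action of a subgroup. -/
def Quad (P : Subgroup X) : Prop := ∀ p ∈ P, ∀ p' ∈ P, al N p' * al N p = 0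

theorem quad_of {P : Subgroup X}
    (h : ∀ p ∈ P, ∀ p' ∈ P, ∀ n : N, p' • (p • n - n) = p • n - n) : Quad N P := by
  intro p hp p' hp'
  ext v
  show p' • (p • v - v) - (p • v - v) = 0
  rw [h p hp p' hp' v, sub_self]

variable {N}

theorem rho_inv {P : Subgroup X} (hq : Quad N P) {p : X} (hp : p ∈ P) :
    rho N p⁻¹ = 1 - al N p := by
  have h1 : rho N p⁻¹ * rho N p = 1 := by rw [← map_mul, inv_mul_cancel, map_one]
  have h2 : (1 + al N p) * (1 - al N p) = 1 := by
    have h3 := hq p hp p hp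
    have h4 : (1 + al N p) * (1 - al N p) = 1 - al N p * al N p := by noncomm_ring
    rw [h4, h3, sub_zero]
  calc rho N p⁻¹ = rho N p⁻¹ * ((1 + al N p) * (1 - al N p)) := by rw [h2, mul_one]
    _ = (rho N p⁻¹ * rho N p) * (1 - al N p) := by rw [rho_eq N p, mul_assoc]
    _ = 1 - al N p := by rw [h1, one_mul]

theorem quad_conj {P : Subgroup X} (hq : Quad N P) (g : X) : Quad N (conjBy P g) := by
  intro q hq1 q' hq1'
  rw [mem_conjBy] at hq1 hq1'
  have e1 : q = g * (g⁻¹ * q * g) * g⁻¹ := by group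
  have e2 : q' = g * (g⁻¹ * q' * g) * g⁻¹ := by group
  rw [e1, e2, al_conj, al_conj]
  have h1 : rho N g⁻¹ * rho N g = 1 := by rw [← map_mul, inv_mul_cancel, map_one]
  have h2 := hq _ hq1 _ hq1'
  calc rho N g * al N (g⁻¹ * q' * g) * rho N g⁻¹ * (rho N g * al N (g⁻¹ * q * g) * rho N g⁻¹)
      = rho N g * al N (g⁻¹ * q' * g) * (rho N g⁻¹ * rho N g) * al N (g⁻¹ * q * g) * rho N g⁻¹ := by
        noncomm_ring
    _ = rho N g * (al N (g⁻¹ * q' * g) * al N (g⁻¹ * q * g)) * rho N g⁻¹ := by
        rw [h1]; noncomm_ring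
    _ = 0 := by rw [h2, mul_zero, zero_mul]

theorem quad_right {A B : Subgroup X} (h : IsRankOnePair A B) (hq : Quad N A) : Quad N B := by
  obtain ⟨x, -, hB⟩ := RankOne.exists_conj_eq_right h
  rw [hB]; exact quad_conj hq x

variable (X N)

/-- The fixed points of `X`. -/
def fixC : AddSubgroup N where
  carrier := {n | ∀ x : X, x • n = n}
  zero_mem' := fun x => smul_zero x
  add_mem' := fun {a b} ha hb x => by rw [smul_add, ha x, hb x]
  neg_mem' := fun {a} ha x => by rw [smul_neg, ha x]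

variable {X N}

theorem mem_fixC {n : N} : n ∈ fixC X N ↔ ∀ x : X, x • n = n := Iff.rfl

variable (X)

/-- Endomorphisms with values in the fixed points. -/
def InC (f : AddMonoid.End N) : Prop := ∀ v, f v ∈ fixC X N

variable {X}

theorem InC.add {f g : AddMonoid.End N} (hf : InC X f) (hg : InC X g) : InC X (f + g) :=
  fun v => (fixC X N).add_mem (hf v) (hg v)

theorem InC.sub {f g : AddMonoid.End N} (hf : InC X f) (hg : InC X g) : InC X (f - g) :=
  fun v => (fixC X N).sub_mem (hf v) (hg v)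

theorem InC.neg {f : AddMonoid.End N} (hf : InC X f) : InC X (-f) :=
  fun v => (fixC X N).neg_mem (hf v)

theorem InC.mul_right {f : AddMonoid.End N} (hf : InC X f) (g : AddMonoid.End N) :
    InC X (f * g) := fun v => hf (g v)

theorem InC.rho_mul {f : AddMonoid.End N} (hf : InC X f) (x : X) : InC X (rho N x * f) := by
  intro v
  show x • f v ∈ fixC X N
  rw [hf v x]; exact hf v

theorem InC.al_mul {f : AddMonoid.End N} (hf : InC X f) (x : X) : al N x * f = 0 := by
  ext v
  show x • f v - f v = 0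
  rw [hf v x, sub_self]

theorem al_of_mem_fixC {c : N} (hc : c ∈ fixC X N) (x : X) : al N x c = 0 := by
  rw [al_apply, hc x, sub_self]

variable (N)

/-- The commutator group `[N, P]`. -/
def NP (P : Subgroup X) : AddSubgroup N :=
  AddSubgroup.closure {m | ∃ p ∈ P, ∃ n : N, m = al N p n}

variable {N}

theorem al_mem_NP {P : Subgroup X} {p : X} (hp : p ∈ P) (v : N) : al N p v ∈ NP N P :=
  AddSubgroup.subset_closure ⟨p, hp, v, rfl⟩

theorem al_NP {P : Subgroup X} (hq : Quad N P) {p : X} (hp : p ∈ P) {m : N} (hm : m ∈ NP N P) :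
    al N p m = 0 := by
  unfold NP at hm
  induction hm using AddSubgroup.closure_induction with
  | mem x hx =>
    obtain ⟨p', hp', n, rfl⟩ := hx
    have := hq p' hp' p hp
    exact congrArg (fun f : AddMonoid.End N => f n) this
  | zero => exact map_zero _
  | add x y _ _ hx hy => rw [map_add, hx, hy, add_zero]
  | neg x _ hx => rw [map_neg, hx, neg_zero]

theorem smul_NP {P : Subgroup X} (hq : Quad N P) {p : X} (hp : p ∈ P) {m : N}
    (hm : m ∈ NP N P) : p • m = m := by
  have := al_NP hq hp hm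
  rw [al_apply, sub_eq_zero] at this
  exact this

theorem mem_fixC_of_inf {A B : Subgroup X} (htop : A ⊔ B = ⊤) (hqA : Quad N A) (hqB : Quad N B)
    {m : N} (hA : m ∈ NP N A) (hB : m ∈ NP N B) : m ∈ fixC X N := by
  have hle : A ⊔ B ≤ MulAction.stabilizer X m := by
    apply sup_le
    · intro a ha
      exact smul_NP hqA ha hA
    · intro b hb
      exact smul_NP hqB hb hB
  intro x
  have : x ∈ MulAction.stabilizer X m := hle (by rw [htop]; trivial)
  exact this

/-- Transfer along `b⁻¹ A b = a⁻¹ B a`. -/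
theorem transfer {A B : Subgroup X} {a b : X} (hE : conjBy A b⁻¹ = conjBy B a⁻¹) {n : N}
    (hn : n ∈ NP N B) : ∃ m ∈ NP N A, a⁻¹ • n = b⁻¹ • m := by
  unfold NP at hn
  induction hn using AddSubgroup.closure_induction with
  | mem x hx =>
    obtain ⟨b', hb', v, rfl⟩ := hx
    have h1 : a⁻¹ * b' * a ∈ conjBy B a⁻¹ := by
      rw [mem_conjBy, inv_inv]
      have : a * (a⁻¹ * b' * a) * a⁻¹ = b' := by group
      rw [this]; exact hb'
    rw [← hE, mem_conjBy, inv_inv] at h1
    refine ⟨al N (b * (a⁻¹ * b' * a) * b⁻¹) (b • a⁻¹ • v), al_mem_NP h1 _, ?_⟩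
    rw [al_apply, al_apply, smul_sub, smul_sub]
    simp only [smul_smul]
    have e1 : b⁻¹ * (b * (a⁻¹ * b' * a) * b⁻¹ * (b * a⁻¹)) = a⁻¹ * b' := by group
    have e2 : b⁻¹ * (b * a⁻¹) = a⁻¹ := by group
    rw [e1, e2]
  | zero => exact ⟨0, (NP N A).zero_mem, by rw [smul_zero, smul_zero]⟩
  | add x y _ _ hx hy =>
    obtain ⟨m₁, hm₁, h1⟩ := hx
    obtain ⟨m₂, hm₂, h2⟩ := hy
    exact ⟨m₁ + m₂, (NP N A).add_mem hm₁ hm₂, by rw [smul_add, smul_add, h1, h2]⟩
  | neg x _ hx =>
    obtain ⟨m, hm, h1⟩ := hx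
    exact ⟨-m, (NP N A).neg_mem hm, by rw [smul_neg, smul_neg, h1]⟩

/-- The basic congruence `α β m ≡ m` modulo the fixed points, for `m ∈ [N, A]`. -/
theorem congr_A {A B : Subgroup X} (htop : A ⊔ B = ⊤) (hqA : Quad N A) (hqB : Quad N B)
    {a b : X} (ha : a ∈ A) (hb : b ∈ B) (hE : conjBy A b⁻¹ = conjBy B a⁻¹) {m : N}
    (hm : m ∈ NP N A) : al N a (al N b m) - m ∈ fixC X N := by
  obtain ⟨n, hn, h1⟩ := transfer (N := N) hE.symm hm
  -- `b⁻¹ m = a⁻¹ n`
  have e1 : b⁻¹ • m = m - al N b m := by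
    have := congrArg (fun f : AddMonoid.End N => f m) (rho_inv hqB hb)
    exact this
  have e2 : a⁻¹ • n = n - al N a n := by
    have := congrArg (fun f : AddMonoid.End N => f n) (rho_inv hqA ha)
    exact this
  rw [e1, e2] at h1
  -- `i = m + α n = n + β m`
  have hi : m + al N a n = n + al N b m := by
    have : m + al N a n - (n + al N b m) = (m - al N b m) - (n - al N a n) := by abel
    rw [← sub_eq_zero, this, h1, sub_self]
  have hiA : m + al N a n ∈ NP N A := (NP N A).add_mem hm (al_mem_NP ha n)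
  have hiB : m + al N a n ∈ NP N B := by
    rw [hi]; exact (NP N B).add_mem hn (al_mem_NP hb m)
  have hiC := mem_fixC_of_inf htop hqA hqB hiA hiB
  -- `α β m = α (i - n) = - α n = m - i`
  have e3 : al N b m = (m + al N a n) - n := by rw [hi]; abel
  have e4 : al N a (al N b m) = - al N a n := by
    rw [e3, map_sub, al_of_mem_fixC hiC, zero_sub]
  have e5 : al N a (al N b m) - m = -(m + al N a n) := by rw [e4]; abel
  rw [e5]
  exact (fixC X N).neg_mem hiC

theorem congr_B {A B : Subgroup X} (htop : A ⊔ B = ⊤) (hqA : Quad N A) (hqB : Quad N B)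
    {a b : X} (ha : a ∈ A) (hb : b ∈ B) (hE : conjBy A b⁻¹ = conjBy B a⁻¹) {n : N}
    (hn : n ∈ NP N B) : al N b (al N a n) - n ∈ fixC X N :=
  congr_A (by rw [sup_comm]; exact htop) hqB hqA hb ha hE.symm hn

variable (X N)

/-- The kernel of the action on `N / C_N(X)`. -/
def K0 : Subgroup X where
  carrier := {x | InC X (al N x)}
  one_mem' := by
    show InC X (al N (1 : X))
    rw [al_one]; intro v; exact (fixC X N).zero_mem
  mul_mem' := by
    intro x y hx hy
    show InC X (al N (x * y))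
    rw [al_mul]
    exact (InC.rho_mul hy x).add hx
  inv_mem' := by
    intro x hx
    show InC X (al N x⁻¹)
    rw [al_inv]
    exact (InC.rho_mul hx x⁻¹).neg

instance K0_normal : (K0 X N).Normal := by
  constructor
  intro x hx g
  show InC X (al N (g * x * g⁻¹))
  rw [al_conj]
  exact (InC.rho_mul hx g).mul_right _

variable {X N}

theorem mem_K0 {x : X} : x ∈ K0 X N ↔ InC X (al N x) := Iff.rfl

/-- `b⁻¹ a b (a⁻¹ b⁻¹ a)⁻¹` acts trivially modulo the fixed points. -/
theorem special_mem_K0 {A B : Subgroup X} (htop : A ⊔ B = ⊤) (hqA : Quad N A) (hqB : Quad N B)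
    {a b : X} (ha : a ∈ A) (hb : b ∈ B) (hE : conjBy A b⁻¹ = conjBy B a⁻¹) :
    (b⁻¹ * a * b) * (a⁻¹ * b⁻¹ * a)⁻¹ ∈ K0 X N := by
  rw [mem_K0]
  have hαα : al N a * al N a = 0 := hqA a ha a ha
  have hββ : al N b * al N b = 0 := hqB b hb b hb
  -- `ρ s - ρ t`
  have hdiff : rho N (b⁻¹ * a * b) - rho N (a⁻¹ * b⁻¹ * a) =
      (al N a - al N a * al N b * al N a) + (al N b - al N b * al N a * al N b) := by
    rw [map_mul, map_mul, map_mul, map_mul, rho_inv hqA ha, rho_inv hqB hb, rho_eq N a, rho_eq N b]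
    have : (1 - al N b) * (1 + al N a) * (1 + al N b) - (1 - al N a) * (1 - al N b) * (1 + al N a)
        = al N a + al N b - al N b * al N a * al N b - al N a * al N b * al N a
          + al N a * al N a - al N b * al N b := by noncomm_ring
    rw [this, hαα, hββ]; abel
  have h1 : InC X (al N a - al N a * al N b * al N a) := by
    intro v
    have := congr_A htop hqA hqB ha hb hE (al_mem_NP ha v)
    have e : (al N a - al N a * al N b * al N a) v =
        -(al N a (al N b (al N a v)) - al N a v) := by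
      show al N a v - al N a (al N b (al N a v)) = _
      abel
    rw [e]; exact (fixC X N).neg_mem this
  have h2 : InC X (al N b - al N b * al N a * al N b) := by
    intro v
    have := congr_B htop hqA hqB ha hb hE (al_mem_NP hb v)
    have e : (al N b - al N b * al N a * al N b) v =
        -(al N b (al N a (al N b v)) - al N b v) := by
      show al N b v - al N b (al N a (al N b v)) = _
      abel
    rw [e]; exact (fixC X N).neg_mem this
  have h3 : InC X (rho N (b⁻¹ * a * b) - rho N (a⁻¹ * b⁻¹ * a)) := by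
    rw [hdiff]; exact h1.add h2
  have e : al N ((b⁻¹ * a * b) * (a⁻¹ * b⁻¹ * a)⁻¹) =
      (rho N (b⁻¹ * a * b) - rho N (a⁻¹ * b⁻¹ * a)) * rho N (a⁻¹ * b⁻¹ * a)⁻¹ := by
    have h4 : rho N (a⁻¹ * b⁻¹ * a) * rho N (a⁻¹ * b⁻¹ * a)⁻¹ = 1 := by
      rw [← map_mul, mul_inv_cancel, map_one]
    unfold al
    rw [map_mul, sub_mul, h4]
  rw [e]
  exact h3.mul_right _

end Cfsg.Agent.Lib.H6.QuadAct
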