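import Mathlib
import Cfsg.Prelude.Def_RootSubgroups
import Cfsg.Agent.Lib.H6.QuadAct

set_option autoImplicit false

/-! Quadratic action of a rank one group, part 2: normal subgroups acting trivially. -/

namespace Cfsg.Agent.Lib.H6.QuadAct

open Cfsg Cfsg.Agent.Lib.H25

variable {X : Type*} [Group X] {N : Type*} [AddCommGroup N] [DistribMulAction X N]

theorem not_mem_center {A B : Subgroup X} (hp : IsRankOnePair A B) {a : X} (ha : a ∈ A)
    (ha1 : a ≠ 1) : a ∉ Subgroup.center X := by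
  intro hc
  apply ha1
  apply RankOne.eq_one_of_mem_normalizer hp ha
  apply Subgroup.centralizer_le_normalizer
  rw [Subgroup.mem_centralizer_iff]
  intro y _
  exact (Subgroup.mem_center_iff.1 hc y)

/-- If a normal subgroup `K` with `K A = X` acts trivially on `φ N` modulo fixed points (`φ` an
equivariant endomorphism), then `φ [N, A]` consists of fixed points. -/
theorem phi_mem_fixC {A B : Subgroup X} (h : IsRankOneGroup X A B) (hqA : Quad N A)
    (φ : N →+ N) (hφ : ∀ (x : X) (v : N), φ (x • v) = x • φ v)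
    (K : Subgroup X) [K.Normal] (hK : K ⊔ A = ⊤)
    (hKφ : ∀ k ∈ K, ∀ v : N, al N k (φ v) ∈ fixC X N) {m : N} (hm : m ∈ NP N A) :
    φ m ∈ fixC X N := by
  obtain ⟨htop, hp⟩ := h
  have hqB := quad_right hp hqA
  obtain ⟨a₀, ha₀, ha₀1⟩ := RankOne.exists_ne_one_left hp
  obtain ⟨b, hb, -, hE⟩ := hp.cond_left a₀ ha₀ ha₀1
  have hbK : b ∈ (↑(K ⊔ A) : Set X) := by rw [hK]; trivial
  rw [Subgroup.normal_mul] at hbK
  obtain ⟨k, hk, a', ha', hka⟩ := hbK
  -- `β (φ m) ∈ C`
  have h1 : al N b (φ m) ∈ fixC X N := by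
    have e : al N b (φ m) = al N k (φ m) := by
      rw [al_apply, al_apply, ← hka, mul_smul, ← hφ, smul_NP hqA ha' hm]
    rw [e]; exact hKφ k hk m
  have h2 := congr_A htop hqA hqB ha₀ hb hE hm
  have hφC : ∀ c ∈ fixC X N, φ c ∈ fixC X N := by
    intro c hc x
    rw [← hφ, hc x]
  have hφal : ∀ (x : X) (v : N), φ (al N x v) = al N x (φ v) := by
    intro x v
    rw [al_apply, al_apply, map_sub, hφ]
  have h3 := hφC _ h2
  rw [map_sub, hφal, hφal, al_of_mem_fixC h1, zero_sub] at h3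
  have := (fixC X N).neg_mem h3
  rwa [neg_neg] at this

/-- If `K0 A = X` then everything acts trivially modulo fixed points. -/
theorem K0_eq_top_of_sup {A B : Subgroup X} (h : IsRankOneGroup X A B) (hqA : Quad N A)
    (hK : K0 X N ⊔ A = ⊤) : K0 X N = ⊤ := by
  have hA : A ≤ K0 X N := by
    intro a ha
    rw [mem_K0]
    intro v
    have := phi_mem_fixC h hqA (AddMonoidHom.id N) (fun _ _ => rfl) (K0 X N) hK
      (fun k hk v => hk v) (al_mem_NP ha v)
    exact this
  rw [← hK]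
  exact (sup_eq_left.2 hA).symm

/-- Main step: under quadratic action of `A`, either everything acts trivially modulo fixed points,
or the pair is special. -/
theorem special_or_top {A B : Subgroup X} (h : IsRankOneGroup X A B) (hqA : Quad N A)
    (hne : K0 X N ≠ ⊤) {a b : X} (ha : a ∈ A) (hb : b ∈ B)
    (hE : conjBy A b⁻¹ = conjBy B a⁻¹) : b⁻¹ * a * b = a⁻¹ * b⁻¹ * a := by
  have hqB := quad_right h.2 hqA
  have hu := special_mem_K0 h.1 hqA hqB ha hb hE
  rcases rankOne_normal_dichotomy h (K0 X N) with hK | hK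
  · exact absurd (K0_eq_top_of_sup h hqA hK) hne
  · obtain ⟨u, hudef⟩ : ∃ u, u = (b⁻¹ * a * b) * (a⁻¹ * b⁻¹ * a)⁻¹ := ⟨_, rfl⟩
    rw [← hudef] at hu
    have huc := hK hu
    -- `u ∈ b⁻¹ A b`
    have hs : b⁻¹ * a * b ∈ conjBy A b⁻¹ := by
      rw [mem_conjBy, inv_inv]
      have : b * (b⁻¹ * a * b) * b⁻¹ = a := by group
      rw [this]; exact ha
    have ht : a⁻¹ * b⁻¹ * a ∈ conjBy A b⁻¹ := by
      rw [hE, mem_conjBy, inv_inv]
      have : a * (a⁻¹ * b⁻¹ * a) * a⁻¹ = b⁻¹ := by group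
      rw [this]; exact B.inv_mem hb
    have hu1 : u ∈ conjBy A b⁻¹ := by
      rw [hudef]; exact Subgroup.mul_mem _ hs (Subgroup.inv_mem _ ht)
    rw [mem_conjBy, inv_inv] at hu1
    have e : b * u * b⁻¹ = u := by
      have := Subgroup.mem_center_iff.1 huc b
      rw [this, mul_assoc, mul_inv_cancel, mul_one]
    rw [e] at hu1
    have hu2 : u = 1 := by
      by_contra hne1
      exact not_mem_center h.2 hu1 hne1 huc
    rw [hudef] at hu2
    exact mul_inv_eq_one.1 hu2

end Cfsg.Agent.Lib.H6.QuadAct
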