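import Mathlib
import Cfsg.Prelude.Def_RootSubgroups
import Cfsg.Agent.Lib.H6.RootSub
import Cfsg.Agent.S5019

set_option autoImplicit false

/-! A rank one group `X = ⟨A, B⟩ ≤ G` normalizing an abelian subgroup `N ≤ G` on which `A` acts
quadratically (by conjugation) while `X` does not: then `(A, B)` is special.  This is S5019
transported to the conjugation action on a subgroup. -/

namespace Cfsg.Agent.Lib.H6.ConjMod

open Cfsg Cfsg.Agent.Lib.H25 Cfsg.Agent.Lib.H6.RootSub

variable {G : Type*} [Group G]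

/-- Specialness passes up from a subgroup. -/
theorem special_of_subgroupOf (K : Subgroup G) {A B : Subgroup G} (hA : A ≤ K) (hB : B ≤ K)
    (hp : IsRankOnePair A B)
    (h : IsSpecialRankOnePair (A.subgroupOf K) (B.subgroupOf K)) : IsSpecialRankOnePair A B := by
  refine ⟨hp, ?_⟩
  intro a ha ha1 b hb hb1 hE
  have h1 := h.2 ⟨a, hA ha⟩ (Subgroup.mem_subgroupOf.mpr ha)
    (fun h0 => ha1 (congrArg Subtype.val h0)) ⟨b, hB hb⟩ (Subgroup.mem_subgroupOf.mpr hb)
    (fun h0 => hb1 (congrArg Subtype.val h0))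
    (by
      rw [conjBy_subgroupOf, conjBy_subgroupOf]
      show (conjBy A b⁻¹).subgroupOf K = (conjBy B a⁻¹).subgroupOf K
      rw [hE])
  exact congrArg Subtype.val h1

section Action

variable (X N : Subgroup G) (hXN : ∀ x ∈ X, ∀ n ∈ N, x * n * x⁻¹ ∈ N)
  (hc : ∀ x ∈ N, ∀ y ∈ N, x * y = y * x)

/-- `N` as a commutative group. -/
@[reducible] def commGroupOf : CommGroup ↥N :=
  { (inferInstance : Group ↥N) with mul_comm := fun a b => Subtype.ext (hc a a.2 b b.2) }

/-- The conjugation action of `X` on `Additive N`. -/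
@[reducible] def conjAction : DistribMulAction ↥X (Additive ↥N) :=
  { smul := fun x n => Additive.ofMul ⟨(x : G) * (Additive.toMul n : ↥N) * (x : G)⁻¹,
      hXN x x.2 _ (Additive.toMul n : ↥N).2⟩
    one_smul := by
      intro n
      apply Additive.toMul.injective
      apply Subtype.ext
      show ((1 : ↥X) : G) * (Additive.toMul n : ↥N) * ((1 : ↥X) : G)⁻¹ = (Additive.toMul n : ↥N)
      simp
    mul_smul := by
      intro x y n
      apply Additive.toMul.injective
      apply Subtype.ext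
      show ((x * y : ↥X) : G) * (Additive.toMul n : ↥N) * ((x * y : ↥X) : G)⁻¹ =
        (x : G) * ((y : G) * (Additive.toMul n : ↥N) * (y : G)⁻¹) * (x : G)⁻¹
      rw [Subgroup.coe_mul]; group
    smul_zero := by
      intro x
      apply Additive.toMul.injective
      apply Subtype.ext
      show (x : G) * ((1 : ↥N) : G) * (x : G)⁻¹ = ((1 : ↥N) : G)
      simp
    smul_add := by
      intro x m n
      apply Additive.toMul.injective
      apply Subtype.ext
      show (x : G) * ((Additive.toMul m * Additive.toMul n : ↥N) : G) * (x : G)⁻¹ =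
        (x : G) * (Additive.toMul m : ↥N) * (x : G)⁻¹ * ((x : G) * (Additive.toMul n : ↥N) * (x : G)⁻¹)
      rw [Subgroup.coe_mul]; group }

end Action

/-- **Conjugation version of S5019.**  `X = A ⊔ B` a rank one group with abelian unipotent
subgroups normalizing the abelian subgroup `N`; `A` acts quadratically on `N`, `X` does not. Then
`(A, B)` is special. -/
theorem special_of_quadratic {A B N : Subgroup G} (hp : IsRankOnePair A B)
    (hAab : IsMulCommutative A) (hBab : IsMulCommutative B)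
    (hXN : ∀ x ∈ A ⊔ B, ∀ n ∈ N, x * n * x⁻¹ ∈ N)
    (hc : ∀ x ∈ N, ∀ y ∈ N, x * y = y * x)
    (hq : ∀ a ∈ A, ∀ a' ∈ A, ∀ n ∈ N,
      a' * (a * n * a⁻¹ * n⁻¹) * a'⁻¹ = a * n * a⁻¹ * n⁻¹)
    (hnq : ∃ x ∈ A ⊔ B, ∃ y ∈ A ⊔ B, ∃ n ∈ N,
      y * (x * n * x⁻¹ * n⁻¹) * y⁻¹ ≠ x * n * x⁻¹ * n⁻¹) :
    IsSpecialRankOnePair A B := by
  letI := commGroupOf N hc
  letI := conjAction (A ⊔ B) N hXN
  have hA : A ≤ A ⊔ B := le_sup_left
  have hB : B ≤ A ⊔ B := le_sup_right
  apply special_of_subgroupOf (A ⊔ B) hA hB hp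
  have hsm : ∀ (x : ↥(A ⊔ B)) (n : Additive ↥N),
      ((Additive.toMul (x • n) : ↥N) : G) = (x : G) * (Additive.toMul n : ↥N) * (x : G)⁻¹ :=
    fun _ _ => rfl
  have hsub : ∀ (m n : Additive ↥N),
      ((Additive.toMul (m - n) : ↥N) : G) = ((Additive.toMul m : ↥N) : G) * ((Additive.toMul n : ↥N) : G)⁻¹ := by
    intro m n
    rw [toMul_sub, div_eq_mul_inv, Subgroup.coe_mul, Subgroup.coe_inv]
  refine Cfsg.Agent.S5019.result (X := ↥(A ⊔ B)) (N := Additive ↥N)
    ⟨by rw [← Subgroup.subgroupOf_sup hA hB, Subgroup.subgroupOf_self],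
      isRankOnePair_subgroupOf (A ⊔ B) hA hB hp⟩
    ⟨isMulCommutative_subgroupOf (A ⊔ B) hAab, isMulCommutative_subgroupOf (A ⊔ B) hBab⟩ ?_ ?_
  · intro a ha a' ha' n
    apply Additive.toMul.injective
    apply Subtype.ext
    rw [hsm, hsub, hsm]
    exact hq a (Subgroup.mem_subgroupOf.mp ha) a' (Subgroup.mem_subgroupOf.mp ha') _
      (Additive.toMul n : ↥N).2
  · obtain ⟨x, hx, y, hy, n, hn, hne⟩ := hnq
    refine ⟨⟨x, hx⟩, ⟨y, hy⟩, Additive.ofMul ⟨n, hn⟩, ?_⟩
    intro h0
    apply hne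
    have := congrArg (fun t : Additive ↥N => ((Additive.toMul t : ↥N) : G)) h0
    rw [hsm, hsub, hsm] at this
    exact this

end Cfsg.Agent.Lib.H6.ConjMod
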