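import Mathlib
import Cfsg.Prelude.Def_RootSubgroups
import Cfsg.Agent.Lib.H6.NatMod2

set_option autoImplicit false

/-! The natural-module configuration, part 3: the orbit of `A` under `X = ⟨B, D⟩`. -/

namespace Cfsg.Agent.Lib.H6.NatMod

open Cfsg Cfsg.Agent.Lib.H25 Cfsg.Agent.Lib.H6.FConn
open scoped commutatorElement

variable {G : Type*} [Group G] {S : Set (Subgroup G)} {A B C D : Subgroup G}

/-- `{A^b | b ∈ B} ∪ {C}`. -/
def Om2 (A B C : Subgroup G) : Set (Subgroup G) :=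
  (fun b : G => conjBy A b) '' (B : Set G) ∪ {C}

/-- `{C^d | d ∈ D} ∪ {A}`. -/
def Om1 (A C D : Subgroup G) : Set (Subgroup G) :=
  (fun d : G => conjBy C d) '' (D : Set G) ∪ {A}

namespace Cfg

theorem Om_eq (h : Cfg S A B C D) : Om1 A C D = Om2 A B C := by
  have hBD := h.rankOne_BD
  apply Set.Subset.antisymm
  · rintro E (⟨d, hd, rfl⟩ | hE)
    · by_cases hd1 : d = 1
      · right
        show conjBy C d = C
        rw [hd1, conjBy_one]
      · left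
        have hd1' : d⁻¹ ≠ 1 := fun hh => hd1 (inv_eq_one.mp hh)
        obtain ⟨b, hb, -, hE⟩ := hBD.cond_right d⁻¹ (D.inv_mem hd) hd1'
        have := h.partner_AC hb (D.inv_mem hd) hE.symm
        rw [inv_inv] at this
        exact ⟨b⁻¹, B.inv_mem hb, this.symm⟩
    · left
      rw [Set.mem_singleton_iff] at hE
      exact ⟨1, B.one_mem, by rw [hE]; exact conjBy_one A⟩
  · rintro E (⟨b, hb, rfl⟩ | hE)
    · by_cases hb1 : b = 1
      · right
        show conjBy A b = A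
        rw [hb1, conjBy_one]
      · left
        have hb1' : b⁻¹ ≠ 1 := fun hh => hb1 (inv_eq_one.mp hh)
        obtain ⟨d, hd, -, hE⟩ := hBD.cond_left b⁻¹ (B.inv_mem hb) hb1'
        have := h.partner_AC (B.inv_mem hb) hd hE
        rw [inv_inv] at this
        exact ⟨d⁻¹, D.inv_mem hd, this⟩
    · left
      rw [Set.mem_singleton_iff] at hE
      exact ⟨1, D.one_mem, by rw [hE]; exact conjBy_one C⟩

theorem Om2_conj_B (h : Cfg S A B C D) {E : Subgroup G} (hE : E ∈ Om2 A B C) {b : G}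
    (hb : b ∈ B) : conjBy E b ∈ Om2 A B C := by
  rcases hE with ⟨b', hb', rfl⟩ | hE
  · left
    exact ⟨b * b', B.mul_mem hb hb', (conjBy_conjBy A b' b).symm⟩
  · right
    rw [Set.mem_singleton_iff] at hE
    rw [hE]
    exact h.conjBy_C_B hb

theorem Om1_conj_D (h : Cfg S A B C D) {E : Subgroup G} (hE : E ∈ Om1 A C D) {d : G}
    (hd : d ∈ D) : conjBy E d ∈ Om1 A C D := by
  rcases hE with ⟨d', hd', rfl⟩ | hE
  · left
    exact ⟨d * d', D.mul_mem hd hd', (conjBy_conjBy C d' d).symm⟩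
  · right
    rw [Set.mem_singleton_iff] at hE
    rw [hE]
    exact h.conjBy_A_D hd

theorem Om2_conj_aux (h : Cfg S A B C D) {x : G} (hx : x ∈ B ⊔ D) :
    (∀ E ∈ Om2 A B C, conjBy E x ∈ Om2 A B C) ∧ (∀ E ∈ Om2 A B C, conjBy E x⁻¹ ∈ Om2 A B C) := by
  rw [Subgroup.sup_eq_closure] at hx
  induction hx using Subgroup.closure_induction with
  | mem y hy =>
    rcases hy with hy | hy
    · exact ⟨fun E hE => h.Om2_conj_B hE hy, fun E hE => h.Om2_conj_B hE (B.inv_mem hy)⟩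
    · refine ⟨fun E hE => ?_, fun E hE => ?_⟩
      · rw [← h.Om_eq] at hE ⊢
        exact h.Om1_conj_D hE hy
      · rw [← h.Om_eq] at hE ⊢
        exact h.Om1_conj_D hE (D.inv_mem hy)
  | one => simp [conjBy_one]
  | mul y z _ _ ihy ihz =>
    refine ⟨fun E hE => ?_, fun E hE => ?_⟩
    · rw [← conjBy_conjBy]
      exact ihy.1 _ (ihz.1 _ hE)
    · rw [mul_inv_rev, ← conjBy_conjBy]
      exact ihz.2 _ (ihy.2 _ hE)
  | inv y _ ihy =>
    refine ⟨ihy.2, ?_⟩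
    rw [inv_inv]
    exact ihy.1

/-- `C` is a conjugate of `A` under `X`. -/
theorem exists_conj_C (h : Cfg S A B C D) : ∃ x₀ ∈ B ⊔ D, C = conjBy A x₀ := by
  have hBD := h.rankOne_BD
  obtain ⟨b, hb, hb1⟩ := exists_ne_one_of_mem h.hS h.hB
  obtain ⟨d, hd, -, hE⟩ := hBD.cond_left b hb hb1
  have h1 := h.partner_AC hb hd hE
  have h2 := conjBy_eq_iff.1 h1
  rw [inv_inv, conjBy_conjBy] at h2
  exact ⟨d * b⁻¹, (B ⊔ D).mul_mem (Subgroup.mem_sup_right hd)
    (Subgroup.mem_sup_left (B.inv_mem hb)), h2⟩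

theorem orbit_eq (h : Cfg S A B C D) :
    {E | ∃ x ∈ B ⊔ D, E = conjBy A x} = Om2 A B C := by
  apply Set.Subset.antisymm
  · rintro E ⟨x, hx, rfl⟩
    exact (h.Om2_conj_aux hx).1 A (Or.inl ⟨1, B.one_mem, conjBy_one A⟩)
  · rintro E (⟨b, hb, rfl⟩ | hE)
    · exact ⟨b, Subgroup.mem_sup_left hb, rfl⟩
    · rw [Set.mem_singleton_iff] at hE
      obtain ⟨x₀, hx₀, hC⟩ := h.exists_conj_C
      exact ⟨x₀, hx₀, hE.trans hC⟩

theorem orbit_eq_C (h : Cfg S A B C D) :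
    {E | ∃ x ∈ B ⊔ D, E = conjBy A x} = {E | ∃ x ∈ B ⊔ D, E = conjBy C x} := by
  obtain ⟨x₀, hx₀, hC⟩ := h.exists_conj_C
  apply Set.Subset.antisymm
  · rintro E ⟨x, hx, rfl⟩
    refine ⟨x * x₀⁻¹, (B ⊔ D).mul_mem hx ((B ⊔ D).inv_mem hx₀), ?_⟩
    rw [hC, conjBy_conjBy, mul_assoc, inv_mul_cancel, mul_one]
  · rintro E ⟨x, hx, rfl⟩
    refine ⟨x * x₀, (B ⊔ D).mul_mem hx hx₀, ?_⟩
    rw [hC, conjBy_conjBy]

end Cfg

end Cfsg.Agent.Lib.H6.NatMod
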