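import Mathlib
import Cfsg.Prelude.Def_RootSubgroups
import Cfsg.Agent.Lib.H6.NatMod3

set_option autoImplicit false

/-! The natural-module configuration, part 4: the partition of `N = A C` and the centralizer of
`N` in `X`. -/

namespace Cfsg.Agent.Lib.H6.NatMod

open Cfsg Cfsg.Agent.Lib.H25 Cfsg.Agent.Lib.H6.FConn
open scoped commutatorElement

variable {G : Type*} [Group G] {S : Set (Subgroup G)} {A B C D : Subgroup G}

namespace Cfg

theorem inf_AC (h : Cfg S A B C D) {x : G} (hxA : x ∈ A) (hxC : x ∈ C) : x = 1 := by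
  by_contra hx1
  obtain ⟨b, hb, hb1⟩ := exists_ne_one_of_mem h.hS h.hB
  exact h.ndBA hb hb1 hxA hx1 (h.comm_CB hxC hb).symm

theorem partition (h : Cfg S A B C D) : IsSubgroupPartition (A ⊔ C) (Om2 A B C) := by
  refine ⟨?_, ?_, ?_⟩
  · rintro E (⟨b, hb, rfl⟩ | hE)
    · exact h.conjBy_A_le hb
    · rw [Set.mem_singleton_iff] at hE
      rw [hE]; exact le_sup_right
  · intro x hx hx1
    obtain ⟨a, ha, c, hc, rfl⟩ := h.exists_mul hx
    by_cases ha1 : a = 1
    · refine ⟨C, Or.inr rfl, ?_⟩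
      rw [ha1, one_mul]; exact hc
    · obtain ⟨b, hb, hbe⟩ := h.surjAB' ha ha1 hc
      refine ⟨conjBy A b⁻¹, Or.inl ⟨b⁻¹, B.inv_mem hb, rfl⟩, ?_⟩
      rw [mem_conjBy, ← hbe, inv_inv]
      have : b * (b⁻¹ * a * b) * b⁻¹ = a := by group
      rw [this]; exact ha
  · have key1 : ∀ b ∈ B, conjBy A b ⊓ C = ⊥ := by
      intro b hb
      rw [eq_bot_iff]
      rintro x ⟨hx1, hx2⟩
      rw [Subgroup.mem_bot]
      have hx1' : b⁻¹ * x * b ∈ A := mem_conjBy.1 hx1
      have e1 : b⁻¹ * x * b = x := conj_eq_of_comm' (h.comm_CB hx2 hb)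
      rw [e1] at hx1'
      exact h.inf_AC hx1' hx2
    rintro E₁ (⟨b₁, hb₁, rfl⟩ | hE₁) E₂ (⟨b₂, hb₂, rfl⟩ | hE₂) hne
    · rw [eq_bot_iff]
      rintro x ⟨hx1, hx2⟩
      rw [Subgroup.mem_bot]
      have hy₁ : b₁⁻¹ * x * b₁ ∈ A := mem_conjBy.1 hx1
      have hy₂ : b₂⁻¹ * x * b₂ ∈ A := mem_conjBy.1 hx2
      obtain ⟨y, hy⟩ : ∃ y, y = b₁⁻¹ * x * b₁ := ⟨_, rfl⟩
      obtain ⟨β, hβ⟩ : ∃ β, β = b₁⁻¹ * b₂ := ⟨_, rfl⟩
      have hβB : β ∈ B := by rw [hβ]; exact B.mul_mem (B.inv_mem hb₁) hb₂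
      rw [← hy] at hy₁
      have e1 : b₂⁻¹ * x * b₂ = β⁻¹ * y * β := by rw [hβ, hy]; group
      rw [e1, ← mul_kap] at hy₂
      have hk : kap y β ∈ A := by
        have := A.mul_mem (A.inv_mem hy₁) hy₂
        rwa [inv_mul_cancel_left] at this
      have hk' : kap y β ∈ C := by
        rw [← h.hAB]; exact kap_mem_commutator hy₁ hβB
      have hk1 := h.inf_AC hk hk'
      rw [kap_eq_one_iff] at hk1
      have hβ1 : β ≠ 1 := by
        intro hh
        apply hne
        rw [hβ] at hh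
        have : b₂ = b₁ := by
          have := congrArg (fun t => b₁ * t) hh
          simpa using this
        show conjBy A b₁ = conjBy A b₂
        rw [this]
      have hy1 : y = 1 := by
        by_contra hy1
        exact h.ndBA hβB hβ1 hy₁ hy1 hk1.symm
      rw [hy] at hy1
      have := congrArg (fun t => b₁ * t * b₁⁻¹) hy1
      simpa [mul_assoc] using this
    · rw [Set.mem_singleton_iff] at hE₂
      rw [hE₂]; exact key1 b₁ hb₁
    · rw [Set.mem_singleton_iff] at hE₁
      rw [hE₁, inf_comm]; exact key1 b₂ hb₂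
    · rw [Set.mem_singleton_iff] at hE₁ hE₂
      exact absurd (hE₁.trans hE₂.symm) hne

/-- The centralizer of `N` in `X` is central in `X`. -/
theorem central (h : Cfg S A B C D) {x : G} (hx : x ∈ B ⊔ D)
    (hxN : x ∈ Subgroup.centralizer ((A ⊔ C : Subgroup G) : Set G)) :
    ∀ y ∈ B ⊔ D, x * y = y * x := by
  have hBD := h.rankOne_BD
  have hDB := RankOnePair_symm hBD
  rw [Subgroup.mem_centralizer_iff] at hxN
  have hxA : ∀ a ∈ A, Commute x a := fun a ha => (hxN a (Subgroup.mem_sup_left ha)).symm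
  have hxC : ∀ c ∈ C, Commute x c := fun c hc => (hxN c (Subgroup.mem_sup_right hc)).symm
  obtain ⟨a₀, ha₀, ha₀1⟩ := exists_ne_one_of_mem h.hS h.hA
  obtain ⟨c₀, hc₀, hc₀1⟩ := exists_ne_one_of_mem h.hS h.hC
  obtain ⟨b₀, hb₀, hb₀1⟩ := exists_ne_one_of_mem h.hS h.hB
  obtain ⟨d₀, hd₀, hd₀1⟩ := exists_ne_one_of_mem h.hS h.hD
  -- `x` normalizes `B`
  have hNB : conjBy B x = B := by
    by_contra hne
    have hmem : conjBy B x ∈ unipotentSubgroups B D := ⟨x, hx, rfl⟩
    have hsup := RankOne.sup_eq_of_mem hBD (RankOne.left_mem_unipotentSubgroups B D) hmem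
      (fun hh => hne hh.symm)
    have hle : B ⊔ conjBy B x ≤ Subgroup.centralizer (C : Set G) := by
      apply sup_le
      · intro b hb
        rw [Subgroup.mem_centralizer_iff]
        intro c hc
        exact h.comm_CB hc hb
      · intro y hy
        rw [Subgroup.mem_centralizer_iff]
        intro c hc
        have hy' : x⁻¹ * y * x ∈ B := mem_conjBy.1 hy
        have h1 : Commute c (x⁻¹ * y * x) := h.comm_CB hc hy'
        have h2 : Commute c x := (hxC c hc).symm
        have h3 : Commute c (x * (x⁻¹ * y * x) * x⁻¹) := (h2.mul_right h1).mul_right h2.inv_right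
        have e1 : x * (x⁻¹ * y * x) * x⁻¹ = y := by group
        rw [e1] at h3
        exact h3.eq
    have hd : d₀ ∈ Subgroup.centralizer (C : Set G) := by
      apply hle
      rw [hsup]
      exact Subgroup.mem_sup_right hd₀
    rw [Subgroup.mem_centralizer_iff] at hd
    exact h.ndDC hd₀ hd₀1 hc₀ hc₀1 (hd c₀ hc₀).symm
  -- `x` normalizes `D`
  have hND : conjBy D x = D := by
    by_contra hne
    have hx' : x ∈ D ⊔ B := by rw [sup_comm]; exact hx
    have hmem : conjBy D x ∈ unipotentSubgroups D B := ⟨x, hx', rfl⟩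
    have hsup := RankOne.sup_eq_of_mem hDB (RankOne.left_mem_unipotentSubgroups D B) hmem
      (fun hh => hne hh.symm)
    have hle : D ⊔ conjBy D x ≤ Subgroup.centralizer (A : Set G) := by
      apply sup_le
      · intro d hd
        rw [Subgroup.mem_centralizer_iff]
        intro a ha
        exact h.comm_AD ha hd
      · intro y hy
        rw [Subgroup.mem_centralizer_iff]
        intro a ha
        have hy' : x⁻¹ * y * x ∈ D := mem_conjBy.1 hy
        have h1 : Commute a (x⁻¹ * y * x) := h.comm_AD ha hy'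
        have h2 : Commute a x := (hxA a ha).symm
        have h3 : Commute a (x * (x⁻¹ * y * x) * x⁻¹) := (h2.mul_right h1).mul_right h2.inv_right
        have e1 : x * (x⁻¹ * y * x) * x⁻¹ = y := by group
        rw [e1] at h3
        exact h3.eq
    have hb : b₀ ∈ Subgroup.centralizer (A : Set G) := by
      apply hle
      rw [hsup]
      exact Subgroup.mem_sup_right hb₀
    rw [Subgroup.mem_centralizer_iff] at hb
    exact h.ndBA hb₀ hb₀1 ha₀ ha₀1 (hb a₀ ha₀).symm
  -- `x` commutes with `B`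
  have hxB : ∀ b ∈ B, x * b = b * x := by
    intro b hb
    obtain ⟨w, hw⟩ : ∃ w, w = x * b * x⁻¹ * b⁻¹ := ⟨_, rfl⟩
    have hwB : w ∈ B := by
      have h1 : x * b * x⁻¹ ∈ conjBy B x := by
        rw [mem_conjBy]
        have : x⁻¹ * (x * b * x⁻¹) * x = b := by group
        rw [this]; exact hb
      rw [hNB] at h1
      rw [hw]; exact B.mul_mem h1 (B.inv_mem hb)
    have hwa : w * a₀ = a₀ * w := by
      have hn : b⁻¹ * a₀ * b ∈ A ⊔ C := by
        apply h.conjBy_A_le (B.inv_mem hb)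
        rw [mem_conjBy, inv_inv]
        have : b * (b⁻¹ * a₀ * b) * b⁻¹ = a₀ := by group
        rw [this]; exact ha₀
      have h1 : x⁻¹ * (b⁻¹ * a₀ * b) * x = b⁻¹ * a₀ * b := conj_eq_of_comm' (hxN _ hn)
      have h2 : x * a₀ * x⁻¹ = a₀ := conj_eq_of_comm (hxA a₀ ha₀).symm.eq
      have e1 : w * a₀ * w⁻¹ = x * (b * (x⁻¹ * (b⁻¹ * a₀ * b) * x) * b⁻¹) * x⁻¹ := by
        rw [hw]; group
      have e2 : b * (b⁻¹ * a₀ * b) * b⁻¹ = a₀ := by group
      rw [h1, e2, h2] at e1
      have := congrArg (fun t => t * w) e1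
      simpa [mul_assoc] using this
    have hw1 : w = 1 := by
      by_contra hw1
      exact h.ndBA hwB hw1 ha₀ ha₀1 hwa
    rw [hw] at hw1
    have := congrArg (fun t => t * b * x) hw1
    simpa [mul_assoc] using this
  -- `x` commutes with `D`
  have hxD : ∀ d ∈ D, x * d = d * x := by
    intro d hd
    obtain ⟨w, hw⟩ : ∃ w, w = x * d * x⁻¹ * d⁻¹ := ⟨_, rfl⟩
    have hwD : w ∈ D := by
      have h1 : x * d * x⁻¹ ∈ conjBy D x := by
        rw [mem_conjBy]
        have : x⁻¹ * (x * d * x⁻¹) * x = d := by group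
        rw [this]; exact hd
      rw [hND] at h1
      rw [hw]; exact D.mul_mem h1 (D.inv_mem hd)
    have hwc : w * c₀ = c₀ * w := by
      have hn : d⁻¹ * c₀ * d ∈ A ⊔ C := by
        apply h.conjBy_C_le (D.inv_mem hd)
        rw [mem_conjBy, inv_inv]
        have : d * (d⁻¹ * c₀ * d) * d⁻¹ = c₀ := by group
        rw [this]; exact hc₀
      have h1 : x⁻¹ * (d⁻¹ * c₀ * d) * x = d⁻¹ * c₀ * d := conj_eq_of_comm' (hxN _ hn)
      have h2 : x * c₀ * x⁻¹ = c₀ := conj_eq_of_comm (hxC c₀ hc₀).symm.eq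
      have e1 : w * c₀ * w⁻¹ = x * (d * (x⁻¹ * (d⁻¹ * c₀ * d) * x) * d⁻¹) * x⁻¹ := by
        rw [hw]; group
      have e2 : d * (d⁻¹ * c₀ * d) * d⁻¹ = c₀ := by group
      rw [h1, e2, h2] at e1
      have := congrArg (fun t => t * w) e1
      simpa [mul_assoc] using this
    have hw1 : w = 1 := by
      by_contra hw1
      exact h.ndDC hwD hw1 hc₀ hc₀1 hwc
    rw [hw] at hw1
    have := congrArg (fun t => t * d * x) hw1
    simpa [mul_assoc] using this
  -- conclusion
  have hle : B ⊔ D ≤ Subgroup.centralizer ({x} : Set G) := by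
    apply sup_le
    · intro b hb
      rw [Subgroup.mem_centralizer_iff]
      intro y hy
      rw [Set.mem_singleton_iff] at hy
      rw [hy]; exact hxB b hb
    · intro d hd
      rw [Subgroup.mem_centralizer_iff]
      intro y hy
      rw [Set.mem_singleton_iff] at hy
      rw [hy]; exact hxD d hd
  intro y hy
  have := hle hy
  rw [Subgroup.mem_centralizer_iff] at this
  exact this x rfl

end Cfg

end Cfsg.Agent.Lib.H6.NatMod
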