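import Mathlib
import Cfsg.Prelude.Def_RootSubgroups
import Cfsg.Agent.Lib.H6.NatMod4
import Cfsg.Agent.Lib.H6.ConjMod

set_option autoImplicit false

/-! The natural-module configuration `⁅A, B⁆ = C`, `⁅D, C⁆ = A`, part 5: the rank one pair
`(B, D)` is special (via the quadratic action on `A C`). -/

namespace Cfsg.Agent.Lib.H6.NatMod

open Cfsg Cfsg.Agent.Lib.H25 Cfsg.Agent.Lib.H6.FConn
open scoped commutatorElement

variable {G : Type*} [Group G] {S : Set (Subgroup G)} {A B C D : Subgroup G}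

namespace Cfg

theorem special_BD (h : Cfg S A B C D) : IsSpecialRankOnePair B D := by
  have hAab := h.hS.commutative A h.hA
  have hCab := h.hS.commutative C h.hC
  apply ConjMod.special_of_quadratic (N := A ⊔ C) h.rankOne_BD (h.hS.commutative B h.hB)
    (h.hS.commutative D h.hD)
  · intro x hx n hn
    have h1 := h.X_le_normalizer hx
    exact (Subgroup.mem_normalizer_iff.1 h1 n).1 hn
  · intro x hx y hy
    obtain ⟨a, ha, c, hc, rfl⟩ := h.exists_mul hx
    obtain ⟨a', ha', c', hc', rfl⟩ := h.exists_mul hy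
    have e1 := comm_of_isMulCommutative hAab ha ha'
    have e2 := comm_of_isMulCommutative hCab hc hc'
    have e3 := h.commAC a ha c' hc'
    have e4 := h.commAC a' ha' c hc
    calc a * c * (a' * c') = a * (c * a') * c' := by group
      _ = a * (a' * c) * c' := by rw [e4]
      _ = (a * a') * (c * c') := by group
      _ = (a' * a) * (c' * c) := by rw [e1, e2]
      _ = a' * (a * c') * c := by group
      _ = a' * (c' * a) * c := by rw [e3]
      _ = a' * c' * (a * c) := by group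
  · intro b hb b' hb' n hn
    obtain ⟨a, ha, c, hc, rfl⟩ := h.exists_mul hn
    have e1 : b * (a * c) * b⁻¹ * (a * c)⁻¹ = b * a * b⁻¹ * (b * c * b⁻¹ * c⁻¹) * a⁻¹ := by group
    have e2 : b * c * b⁻¹ * c⁻¹ = 1 := by
      rw [← h.comm_CB hc hb]; group
    rw [e1, e2, mul_one]
    have hk : b * a * b⁻¹ * a⁻¹ ∈ C := by
      have h3 : b * a * b⁻¹ * a⁻¹ ∈ ⁅B, A⁆ := mem_comm_of_mem hb ha
      rw [Subgroup.commutator_comm, h.hAB] at h3
      exact h3
    exact conj_eq_of_comm (h.comm_CB hk hb')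
  · obtain ⟨b, hb, hb1⟩ := RankOne.exists_ne_one_left h.rankOne_BD
    obtain ⟨d, hd, hd1⟩ := RankOne.exists_ne_one_right h.rankOne_BD
    obtain ⟨a, ha, ha1⟩ : ∃ a ∈ A, a ≠ 1 := by
      obtain ⟨x, hx⟩ := (Subgroup.ne_bot_iff_exists_ne_one).mp (h.hS.ne_bot A h.hA)
      exact ⟨x, x.2, fun hh => hx (Subtype.ext hh)⟩
    refine ⟨b, Subgroup.mem_sup_left hb, d, Subgroup.mem_sup_right hd, a,
      Subgroup.mem_sup_left ha, ?_⟩
    have hk : b * a * b⁻¹ * a⁻¹ ∈ C := by
      have h3 : b * a * b⁻¹ * a⁻¹ ∈ ⁅B, A⁆ := mem_comm_of_mem hb ha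
      rw [Subgroup.commutator_comm, h.hAB] at h3
      exact h3
    have hk1 : b * a * b⁻¹ * a⁻¹ ≠ 1 := by
      intro h0
      apply h.ndBA hb hb1 ha ha1
      have := congrArg (fun t => t * a * b) h0
      simpa [mul_assoc] using this
    intro h0
    apply h.ndDC hd hd1 hk hk1
    have := congrArg (fun t => t * d) h0
    simpa [mul_assoc] using this

end Cfg

end Cfsg.Agent.Lib.H6.NatMod
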