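import Mathlib

/-!
Generator-level criteria for commutators to lie in a normalized subgroup, and a nilpotency
criterion for a subgroup `R` of a group from a chain of generating sets (helper6).
-/

set_option autoImplicit false

namespace Cfsg.Agent.Lib.H6.NilpChain

open scoped commutatorElement

variable {G : Type*} [Group G]

theorem comm_mul_right (t g g' : G) : ⁅t, g * g'⁆ = ⁅t, g⁆ * (g * ⁅t, g'⁆ * g⁻¹) := by
  simp only [commutatorElement_def]; group

theorem comm_inv_right (t g : G) : ⁅t, g⁻¹⁆ = g⁻¹ * ⁅t, g⁆⁻¹ * g⁻¹⁻¹ := by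
  simp only [commutatorElement_def]; group

theorem comm_mul_left (x x' g : G) : ⁅x * x', g⁆ = x * ⁅x', g⁆ * x⁻¹ * ⁅x, g⁆ := by
  simp only [commutatorElement_def]; group

theorem comm_inv_left (x g : G) : ⁅x⁻¹, g⁆ = x⁻¹ * ⁅x, g⁆⁻¹ * x⁻¹⁻¹ := by
  simp only [commutatorElement_def]; group

/-- If `L` is normalized by `R`, and the commutators of the generators lie in `L`, so do all
commutators. -/
theorem comm_mem_of_gens {L R : Subgroup G} (hLR : ∀ r ∈ R, ∀ l ∈ L, r * l * r⁻¹ ∈ L)
    {T U : Set G} (hT : T ⊆ R) (hU : U ⊆ R) (h : ∀ t ∈ T, ∀ u ∈ U, ⁅t, u⁆ ∈ L) :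
    ∀ x ∈ Subgroup.closure T, ∀ g ∈ Subgroup.closure U, ⁅x, g⁆ ∈ L := by
  have hTR : Subgroup.closure T ≤ R := (Subgroup.closure_le R).mpr hT
  have hUR : Subgroup.closure U ≤ R := (Subgroup.closure_le R).mpr hU
  have stepA : ∀ t ∈ T, ∀ g ∈ Subgroup.closure U, ⁅t, g⁆ ∈ L := by
    intro t ht g hg
    induction hg using Subgroup.closure_induction with
    | mem u hu => exact h t ht u hu
    | one => simp
    | mul g g' hg _ ihg ihg' =>
      rw [comm_mul_right]
      exact L.mul_mem ihg (hLR g (hUR hg) _ ihg')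
    | inv g hg ihg =>
      rw [comm_inv_right]
      exact hLR g⁻¹ (R.inv_mem (hUR hg)) _ (L.inv_mem ihg)
  intro x hx g hg
  induction hx using Subgroup.closure_induction with
  | mem t ht => exact stepA t ht g hg
  | one => simp
  | mul x x' hx _ ihx ihx' =>
    rw [comm_mul_left]
    exact L.mul_mem (hLR x (hTR hx) _ ihx') ihx
  | inv x hx ihx =>
    rw [comm_inv_left]
    exact hLR x⁻¹ (R.inv_mem (hTR hx)) _ (L.inv_mem ihx)

/-- Nilpotency of `R = closure U` from a descending chain of generating sets `T i`. -/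
theorem isNilpotent_of_chain {R : Subgroup G} {U : Set G} (hU : Subgroup.closure U = R) (n : ℕ)
    (T : ℕ → Set G) (hT0 : R ≤ Subgroup.closure (T 0)) (hTn : Subgroup.closure (T n) = ⊥)
    (hTR : ∀ i, T i ⊆ R)
    (hmono : ∀ i, Subgroup.closure (T (i + 1)) ≤ Subgroup.closure (T i))
    (h : ∀ i, ∀ t ∈ T i, ∀ u ∈ U, ⁅t, u⁆ ∈ Subgroup.closure (T (i + 1))) :
    Group.IsNilpotent ↥R := by
  have hUR : U ⊆ R := by rw [← hU]; exact Subgroup.subset_closure
  -- closures vanish from `n` on
  have hbot : ∀ d, Subgroup.closure (T (n + d)) = ⊥ := by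
    intro d
    induction d with
    | zero => simpa using hTn
    | succ d ih =>
      rw [eq_bot_iff, ← ih]
      exact hmono (n + d)
  -- `N i`: closure (T i) is normalized by `R`; `P i`: commutators fall to the next term
  have PN : ∀ i, (∀ r ∈ R, ∀ l ∈ Subgroup.closure (T (i + 1)),
        r * l * r⁻¹ ∈ Subgroup.closure (T (i + 1))) →
      (∀ x ∈ Subgroup.closure (T i), ∀ g ∈ R, ⁅x, g⁆ ∈ Subgroup.closure (T (i + 1))) := by
    intro i hN x hx g hg
    rw [← hU] at hg
    exact comm_mem_of_gens hN (hTR i) hUR (h i) x hx g hg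
  have NP : ∀ i, (∀ x ∈ Subgroup.closure (T i), ∀ g ∈ R, ⁅x, g⁆ ∈ Subgroup.closure (T (i + 1))) →
      (∀ r ∈ R, ∀ l ∈ Subgroup.closure (T i), r * l * r⁻¹ ∈ Subgroup.closure (T i)) := by
    intro i hP r hr l hl
    have h1 : r * l * r⁻¹ = (⁅l, r⁆)⁻¹ * l := by simp only [commutatorElement_def]; group
    rw [h1]
    exact (Subgroup.closure (T i)).mul_mem
      ((Subgroup.closure (T i)).inv_mem (hmono i (hP l hl r hr))) hl
  have Nall : ∀ d i, i + d = n → (∀ r ∈ R, ∀ l ∈ Subgroup.closure (T i),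
      r * l * r⁻¹ ∈ Subgroup.closure (T i)) := by
    intro d
    induction d with
    | zero =>
      intro i hi r _ l hl
      have : i = n := by omega
      subst this
      rw [hTn] at hl ⊢
      rw [Subgroup.mem_bot] at hl ⊢
      rw [hl]; group
    | succ d ih =>
      intro i hi
      exact NP i (PN i (ih (i + 1) (by omega)))
  have Nall' : ∀ i, (∀ r ∈ R, ∀ l ∈ Subgroup.closure (T i),
      r * l * r⁻¹ ∈ Subgroup.closure (T i)) := by
    intro i
    by_cases hi : i ≤ n
    · exact Nall (n - i) i (by omega)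
    · intro r _ l hl
      have : i = n + (i - n) := by omega
      rw [this, hbot] at hl ⊢
      rw [Subgroup.mem_bot] at hl ⊢
      rw [hl]; group
  have Pall : ∀ i, ∀ x ∈ Subgroup.closure (T i), ∀ g ∈ R,
      ⁅x, g⁆ ∈ Subgroup.closure (T (i + 1)) := fun i => PN i (Nall' (i + 1))
  have hlcs : ∀ i, R.lowerCentralSeries i ≤ Subgroup.closure (T i) := by
    intro i
    induction i with
    | zero => simpa using hT0
    | succ i ih =>
      rw [Subgroup.lowerCentralSeries_succ]
      refine le_trans (Subgroup.commutator_mono ih le_rfl) ?_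
      rw [Subgroup.commutator_le]
      exact Pall i
  apply Subgroup.isNilpotent_of_lowerCentralSeries_eq_bot (n := n)
  rw [eq_bot_iff, ← hTn]
  exact hlcs n

end Cfsg.Agent.Lib.H6.NilpChain
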