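import Cfsg.Agent.Lib.H25.CommutatorCase
import Cfsg.Agent.Lib.H6.NatMod2
import Cfsg.Agent.Lib.H6.NilpChain

/-!
Timmesfeld II (2.11): three abstract root subgroups `A, B, C` with `⁅A, B⁆, ⁅B, C⁆ ∈ S`
and `⁅A, C⁆ = 1` (helper6).
-/

set_option autoImplicit false

namespace Cfsg.Agent.Lib.H6.Tim211

open Cfsg Cfsg.Agent.Lib.H25 Cfsg.Agent.Lib.H25.RankOne Cfsg.Agent.Lib.H6.NilpChain
open scoped commutatorElement

variable {G : Type*} [Group G]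

/-- `H` and `K` commute elementwise. -/
def Cm (H K : Subgroup G) : Prop := ∀ x ∈ H, ∀ y ∈ K, x * y = y * x

theorem Cm.symm {H K : Subgroup G} (h : Cm H K) : Cm K H := fun x hx y hy => (h y hy x hx).symm

theorem Cm_iff_le_centralizer {H K : Subgroup G} :
    Cm H K ↔ H ≤ Subgroup.centralizer (K : Set G) := by
  constructor
  · intro h x hx
    rw [Subgroup.mem_centralizer_iff]
    intro y hy
    exact (h x hx y hy).symm
  · intro h x hx y hy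
    have := h hx
    rw [Subgroup.mem_centralizer_iff] at this
    exact (this y hy).symm

theorem Cm_iff_commutator {H K : Subgroup G} : Cm H K ↔ ⁅H, K⁆ = ⊥ := by
  rw [Subgroup.commutator_eq_bot_iff_le_centralizer, Cm_iff_le_centralizer]

theorem Cm.mono {H K H' K' : Subgroup G} (h : Cm H K) (h1 : H' ≤ H) (h2 : K' ≤ K) : Cm H' K' :=
  fun x hx y hy => h x (h1 hx) y (h2 hy)

theorem Cm.sup_left {H K L : Subgroup G} (h1 : Cm H L) (h2 : Cm K L) : Cm (H ⊔ K) L := by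
  rw [Cm_iff_le_centralizer] at *
  exact sup_le h1 h2

theorem Cm.sup_right {H K L : Subgroup G} (h1 : Cm L H) (h2 : Cm L K) : Cm L (H ⊔ K) :=
  (Cm.sup_left h1.symm h2.symm).symm

theorem Cm.commutator_left {H K L : Subgroup G} (h1 : Cm H L) (h2 : Cm K L) : Cm ⁅H, K⁆ L := by
  rw [Cm_iff_le_centralizer] at *
  rw [Subgroup.commutator_le]
  intro x hx y hy
  exact (Subgroup.centralizer (L : Set G)).mul_mem
    ((Subgroup.centralizer (L : Set G)).mul_mem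
      ((Subgroup.centralizer (L : Set G)).mul_mem (h1 hx) (h2 hy))
      ((Subgroup.centralizer (L : Set G)).inv_mem (h1 hx)))
    ((Subgroup.centralizer (L : Set G)).inv_mem (h2 hy))

theorem Cm.conj {H K : Subgroup G} (h : Cm H K) (g : G) : Cm (conjBy H g) (conjBy K g) := by
  intro x hx y hy
  rw [mem_conjBy] at hx hy
  have := h _ hx _ hy
  have e1 : x * y = g * ((g⁻¹ * x * g) * (g⁻¹ * y * g)) * g⁻¹ := by group
  have e2 : y * x = g * ((g⁻¹ * y * g) * (g⁻¹ * x * g)) * g⁻¹ := by group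
  rw [e1, e2, this]

theorem Cm_bot_left (K : Subgroup G) : Cm ⊥ K := by
  intro x hx y _
  rw [Subgroup.mem_bot] at hx
  rw [hx]; simp

theorem isMulCommutative_sup {H K : Subgroup G} (hH : Cm H H) (hK : Cm K K) (hHK : Cm H K) :
    IsMulCommutative ↥(H ⊔ K) := by
  have h : Cm (H ⊔ K) (H ⊔ K) :=
    Cm.sup_left (Cm.sup_right hH hHK) (Cm.sup_right hHK.symm hK)
  refine ⟨⟨fun x y => ?_⟩⟩
  apply Subtype.ext
  exact h x.1 x.2 y.1 y.2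

theorem Cm_of_isMulCommutative_sup {H K : Subgroup G} (h : IsMulCommutative ↥(H ⊔ K)) :
    Cm H K := fun _ hx _ hy =>
  comm_of_isMulCommutative h (Subgroup.mem_sup_left hx) (Subgroup.mem_sup_right hy)

theorem comm_eq_one {x y : G} (h : x * y = y * x) : ⁅x, y⁆ = 1 :=
  commutatorElement_eq_one_iff_mul_comm.mpr h

/-- The configuration: two commutator cases `(A, B)`, `(B, C)` and `⁅A, C⁆ = 1`. -/
structure Cfg (S : Set (Subgroup G)) (A B C : Subgroup G) : Prop where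
  hS : IsRootSubgroupSet S
  hA : A ∈ S
  hB : B ∈ S
  hC : C ∈ S
  cAB : RootCommutatorCase S A B
  cBC : RootCommutatorCase S B C
  hAC : Cm A C

namespace Cfg

variable {S : Set (Subgroup G)} {A B C : Subgroup G}

theorem AA (h : Cfg S A B C) : Cm A A := fun _ hx _ hy =>
  comm_of_isMulCommutative (h.hS.commutative A h.hA) hx hy
theorem BB (h : Cfg S A B C) : Cm B B := fun _ hx _ hy =>
  comm_of_isMulCommutative (h.hS.commutative B h.hB) hx hy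
theorem CC (h : Cfg S A B C) : Cm C C := fun _ hx _ hy =>
  comm_of_isMulCommutative (h.hS.commutative C h.hC) hx hy

theorem A₁S (h : Cfg S A B C) : ⁅A, B⁆ ∈ S := h.cAB.1
theorem C₁S (h : Cfg S A B C) : ⁅B, C⁆ ∈ S := h.cBC.1

theorem A₁A (h : Cfg S A B C) : Cm ⁅A, B⁆ A := fun x hx y hy =>
  h.cAB.2.1 x hx y (Subgroup.mem_sup_left hy)
theorem A₁B (h : Cfg S A B C) : Cm ⁅A, B⁆ B := fun x hx y hy =>
  h.cAB.2.1 x hx y (Subgroup.mem_sup_right hy)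
theorem C₁B (h : Cfg S A B C) : Cm ⁅B, C⁆ B := fun x hx y hy =>
  h.cBC.2.1 x hx y (Subgroup.mem_sup_left hy)
theorem C₁C (h : Cfg S A B C) : Cm ⁅B, C⁆ C := fun x hx y hy =>
  h.cBC.2.1 x hx y (Subgroup.mem_sup_right hy)
theorem A₁A₁ (h : Cfg S A B C) : Cm ⁅A, B⁆ ⁅A, B⁆ := fun _ hx _ hy =>
  comm_of_isMulCommutative (h.hS.commutative _ h.A₁S) hx hy
theorem C₁C₁ (h : Cfg S A B C) : Cm ⁅B, C⁆ ⁅B, C⁆ := fun _ hx _ hy =>
  comm_of_isMulCommutative (h.hS.commutative _ h.C₁S) hx hy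

/-- `b⁻¹ a b = a * κ a b` with `κ a b ∈ ⁅A, B⁆`. -/
theorem conj_A (_h : Cfg S A B C) {a b : G} (ha : a ∈ A) (hb : b ∈ B) :
    b⁻¹ * a * b = a * kap a b ∧ kap a b ∈ ⁅A, B⁆ :=
  ⟨(mul_kap a b).symm, kap_mem_commutator ha hb⟩

theorem conj_C (_h : Cfg S A B C) {c b : G} (hc : c ∈ C) (hb : b ∈ B) :
    b⁻¹ * c * b = c * kap c b ∧ kap c b ∈ ⁅B, C⁆ := by
  refine ⟨(mul_kap c b).symm, ?_⟩
  rw [Subgroup.commutator_comm]
  exact kap_mem_commutator hc hb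

theorem conjBy_A_le (h : Cfg S A B C) {b : G} (hb : b ∈ B) : conjBy A b ≤ A ⊔ ⁅A, B⁆ := by
  intro x hx
  rw [mem_conjBy] at hx
  obtain ⟨e, hk⟩ := h.conj_A hx (B.inv_mem hb)
  have e2 : x = (b⁻¹ * x * b) * kap (b⁻¹ * x * b) b⁻¹ := by
    rw [← e]; group
  rw [e2]
  exact Subgroup.mul_mem _ (Subgroup.mem_sup_left hx) (Subgroup.mem_sup_right hk)

theorem conjBy_C_le (h : Cfg S A B C) {b : G} (hb : b ∈ B) : conjBy C b ≤ C ⊔ ⁅B, C⁆ := by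
  intro x hx
  rw [mem_conjBy] at hx
  obtain ⟨e, hk⟩ := h.conj_C hx (B.inv_mem hb)
  have e2 : x = (b⁻¹ * x * b) * kap (b⁻¹ * x * b) b⁻¹ := by
    rw [← e]; group
  rw [e2]
  exact Subgroup.mul_mem _ (Subgroup.mem_sup_left hx) (Subgroup.mem_sup_right hk)

theorem conjBy_A₁ (h : Cfg S A B C) {b : G} (hb : b ∈ B) : conjBy ⁅A, B⁆ b = ⁅A, B⁆ := by
  rw [conjBy_eq_self_iff]
  apply Subgroup.centralizer_le_normalizer
  rw [Subgroup.mem_centralizer_iff]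
  intro y hy
  exact h.A₁B y hy b hb

theorem conjBy_C₁ (h : Cfg S A B C) {b : G} (hb : b ∈ B) : conjBy ⁅B, C⁆ b = ⁅B, C⁆ := by
  rw [conjBy_eq_self_iff]
  apply Subgroup.centralizer_le_normalizer
  rw [Subgroup.mem_centralizer_iff]
  intro y hy
  exact h.C₁B y hy b hb

/-- Every element of `⁅A, B⁆` is `κ a b` for the fixed `b ≠ 1`. -/
theorem surj_A₁ (h : Cfg S A B C) {b : G} (hb : b ∈ B) (hb1 : b ≠ 1) {z : G} (hz : z ∈ ⁅A, B⁆) :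
    ∃ a ∈ A, kap a b = z :=
  exists_kap_left_of_closure h.cAB.2.1 hb (h.cAB.2.2.2 b hb hb1) hz

/-- Every element of `⁅B, C⁆` is `κ b c` for the fixed `b ≠ 1`. -/
theorem surj_C₁ (h : Cfg S A B C) {b : G} (hb : b ∈ B) (hb1 : b ≠ 1) {z : G} (hz : z ∈ ⁅B, C⁆) :
    ∃ c ∈ C, kap b c = z :=
  exists_kap_right_of_closure h.cBC.2.1 hb (h.cBC.2.2.1 b hb hb1) hz

section XY

variable (A B C) in
/-- `X = ⟨A, b⁻¹ C b⟩`. -/
abbrev XX (b : G) : Subgroup G := A ⊔ conjBy C b⁻¹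

variable (A B C) in
/-- `Y = ⟨b⁻¹ A b, C⟩`. -/
abbrev YY (b : G) : Subgroup G := conjBy A b⁻¹ ⊔ C

theorem A_conjA (h : Cfg S A B C) {b : G} (hb : b ∈ B) : Cm A (conjBy A b⁻¹) :=
  (Cm.sup_right h.AA h.A₁A.symm).mono le_rfl (h.conjBy_A_le (B.inv_mem hb))

theorem conjC_C (h : Cfg S A B C) {b : G} (hb : b ∈ B) : Cm (conjBy C b⁻¹) C :=
  (Cm.sup_left h.CC h.C₁C).mono (h.conjBy_C_le (B.inv_mem hb)) le_rfl

/-- `X` and `Y` commute elementwise. -/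
theorem XY_comm (h : Cfg S A B C) {b : G} (hb : b ∈ B) : Cm (A ⊔ conjBy C b⁻¹) (conjBy A b⁻¹ ⊔ C) :=
  Cm.sup_left (Cm.sup_right (h.A_conjA hb) h.hAC)
    (Cm.sup_right (h.hAC.symm.conj b⁻¹) (h.conjC_C hb))

/-- `X` is abelian iff `A` and `⁅B, C⁆` commute. -/
theorem X_comm_iff (h : Cfg S A B C) {b : G} (hb : b ∈ B) (hb1 : b ≠ 1) :
    IsMulCommutative ↥(A ⊔ conjBy C b⁻¹) ↔ Cm A ⁅B, C⁆ := by
  constructor
  · intro hX
    have h1 : Cm A (conjBy C b⁻¹) := Cm_of_isMulCommutative_sup hX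
    intro a ha z hz
    obtain ⟨c, hc, rfl⟩ := h.surj_C₁ hb hb1 hz
    have e : kap b c = (b⁻¹ * c⁻¹ * b) * c := by unfold kap; group
    have hm : b⁻¹ * c⁻¹ * b ∈ conjBy C b⁻¹ := by
      rw [mem_conjBy]
      have : b⁻¹⁻¹ * (b⁻¹ * c⁻¹ * b) * b⁻¹ = c⁻¹ := by group
      rw [this]; exact C.inv_mem hc
    calc a * kap b c = (a * (b⁻¹ * c⁻¹ * b)) * c := by rw [e]; group
      _ = ((b⁻¹ * c⁻¹ * b) * a) * c := by rw [h1 a ha _ hm]
      _ = (b⁻¹ * c⁻¹ * b) * (a * c) := by group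
      _ = (b⁻¹ * c⁻¹ * b) * (c * a) := by rw [h.hAC a ha c hc]
      _ = kap b c * a := by rw [e]; group
  · intro hD
    have h1 : Cm A (conjBy C b⁻¹) :=
      (Cm.sup_right h.hAC hD).mono le_rfl (h.conjBy_C_le (B.inv_mem hb))
    exact isMulCommutative_sup h.AA (h.CC.conj b⁻¹) h1

/-- `Y` is abelian iff `⁅A, B⁆` and `C` commute. -/
theorem Y_comm_iff (h : Cfg S A B C) {b : G} (hb : b ∈ B) (hb1 : b ≠ 1) :
    IsMulCommutative ↥(conjBy A b⁻¹ ⊔ C) ↔ Cm ⁅A, B⁆ C := by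
  constructor
  · intro hY
    have h1 : Cm (conjBy A b⁻¹) C := Cm_of_isMulCommutative_sup hY
    intro z hz c hc
    obtain ⟨a, ha, rfl⟩ := h.surj_A₁ hb hb1 hz
    have e : kap a b = a⁻¹ * (b⁻¹ * a * b) := by unfold kap; group
    have hm : b⁻¹ * a * b ∈ conjBy A b⁻¹ := by
      rw [mem_conjBy]
      have : b⁻¹⁻¹ * (b⁻¹ * a * b) * b⁻¹ = a := by group
      rw [this]; exact ha
    calc kap a b * c = a⁻¹ * ((b⁻¹ * a * b) * c) := by rw [e]; group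
      _ = a⁻¹ * (c * (b⁻¹ * a * b)) := by rw [h1 _ hm c hc]
      _ = (a⁻¹ * c) * (b⁻¹ * a * b) := by group
      _ = (c * a⁻¹) * (b⁻¹ * a * b) := by rw [h.hAC _ (A.inv_mem ha) c hc]
      _ = c * kap a b := by rw [e]; group
  · intro hD
    have h1 : Cm (conjBy A b⁻¹) C :=
      (Cm.sup_left h.hAC hD).mono (h.conjBy_A_le (B.inv_mem hb)) le_rfl
    exact isMulCommutative_sup (h.AA.conj b⁻¹) h.CC h1

/-- Three subgroups lemma: `A` commutes with `⁅B, C⁆` iff `⁅A, B⁆` commutes with `C`. -/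
theorem three (h : Cfg S A B C) : Cm A ⁅B, C⁆ ↔ Cm ⁅A, B⁆ C := by
  have hCA : ⁅⁅C, A⁆, B⁆ = ⊥ := by
    rw [Cm_iff_commutator.mp h.hAC.symm]
    exact Cm_iff_commutator.mp (Cm_bot_left B)
  constructor
  · intro h1
    rw [Cm_iff_commutator]
    have h2 : ⁅⁅B, C⁆, A⁆ = ⊥ := Cm_iff_commutator.mp h1.symm
    exact Subgroup.commutator_commutator_eq_bot_of_rotate h2 hCA
  · intro h1
    have h2 : ⁅⁅A, B⁆, C⁆ = ⊥ := Cm_iff_commutator.mp h1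
    have := Subgroup.commutator_commutator_eq_bot_of_rotate hCA h2
    exact (Cm_iff_commutator.mpr this).symm

end XY


theorem commutator_le_sup (H K : Subgroup G) : ⁅H, K⁆ ≤ H ⊔ K := by
  rw [Subgroup.commutator_le]
  intro x hx y hy
  exact Subgroup.mul_mem _ (Subgroup.mul_mem _ (Subgroup.mul_mem _ (Subgroup.mem_sup_left hx)
    (Subgroup.mem_sup_right hy)) (Subgroup.inv_mem _ (Subgroup.mem_sup_left hx)))
    (Subgroup.inv_mem _ (Subgroup.mem_sup_right hy))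

section CommCases

/-- `(A, ⁅B, C⁆)` is a commutator case unless the two commute. -/
theorem ccAC₁ (h : Cfg S A B C) (hn : ¬ Cm A ⁅B, C⁆) : RootCommutatorCase S A ⁅B, C⁆ := by
  rcases h.hS.pair A h.hA ⁅B, C⁆ h.C₁S with h0 | hr | hc
  · exact absurd (Cm_iff_commutator.mpr h0) hn
  · exfalso
    obtain ⟨⟨c, hc⟩, hc1'⟩ := (Subgroup.ne_bot_iff_exists_ne_one).mp (h.hS.ne_bot C h.hC)
    have hc1 : c ≠ 1 := fun e => hc1' (Subtype.ext e)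
    have hz : c ∈ Subgroup.centralizer ((⁅B, C⁆ ⊔ A : Subgroup G) : Set G) := by
      rw [Subgroup.mem_centralizer_iff]
      intro y hy
      exact (Cm.sup_left h.C₁C h.hAC) y hy c hc
    have key := Cfsg.Agent.S5025.result h.hS (A := ⁅B, C⁆) (B := A) h.C₁S
      ⟨h.hA, RankOnePair_symm hr⟩ hz hc1
    have hex : ∃ b' ∈ B, c * b' ≠ b' * c := by
      by_contra hcon
      push Not at hcon
      have h1 := h.cBC.2.2.2 c hc hc1
      have h2 : (fun a : G => a * c * a⁻¹ * c⁻¹) '' (B : Set G) ⊆ {1} := by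
        rintro _ ⟨b', hb', rfl⟩
        simp only [Set.mem_singleton_iff]
        rw [← hcon b' hb']; group
      have h3 : ⁅B, C⁆ ≤ ⊥ := by
        rw [← h1, Subgroup.closure_le]
        intro x hx
        have := h2 hx
        simp only [Set.mem_singleton_iff] at this
        rw [this]; exact Subgroup.one_mem _
      exact h.hS.ne_bot _ h.C₁S (eq_bot_iff.mpr h3)
    obtain ⟨b', hb', hne⟩ := hex
    obtain ⟨e, hk⟩ := h.conj_C hc hb'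
    have hk1 : kap c b' ≠ 1 := fun e' => hne (kap_eq_one_iff.mp e')
    apply key _ hk hk1
    refine ⟨?_, conjBy C b'⁻¹, h.hS.conj_mem C h.hC _, ?_⟩
    · rw [← e]
      intro e'
      apply hc1
      have := congrArg (fun t => b' * t * b'⁻¹) e'
      simpa [mul_assoc] using this
    · rw [← e, mem_conjBy]
      have : b'⁻¹⁻¹ * (b'⁻¹ * c * b') * b'⁻¹ = c := by group
      rw [this]; exact hc
  · exact hc

/-- `(⁅A, B⁆, C)` is a commutator case unless the two commute. -/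
theorem ccA₁C (h : Cfg S A B C) (hn : ¬ Cm ⁅A, B⁆ C) : RootCommutatorCase S ⁅A, B⁆ C := by
  rcases h.hS.pair ⁅A, B⁆ h.A₁S C h.hC with h0 | hr | hc
  · exact absurd (Cm_iff_commutator.mpr h0) hn
  · exfalso
    obtain ⟨⟨a, ha⟩, ha1'⟩ := (Subgroup.ne_bot_iff_exists_ne_one).mp (h.hS.ne_bot A h.hA)
    have ha1 : a ≠ 1 := fun e => ha1' (Subtype.ext e)
    have hz : a ∈ Subgroup.centralizer ((⁅A, B⁆ ⊔ C : Subgroup G) : Set G) := by
      rw [Subgroup.mem_centralizer_iff]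
      intro y hy
      exact (Cm.sup_left h.A₁A h.hAC.symm) y hy a ha
    have key := Cfsg.Agent.S5025.result h.hS (A := ⁅A, B⁆) (B := C) h.A₁S
      ⟨h.hC, hr⟩ hz ha1
    have hex : ∃ b' ∈ B, a * b' ≠ b' * a := by
      by_contra hcon
      push Not at hcon
      have h1 := h.cAB.2.2.1 a ha ha1
      have h3 : ⁅A, B⁆ ≤ ⊥ := by
        rw [← h1, Subgroup.closure_le]
        rintro _ ⟨b', hb', rfl⟩
        have : a * b' * a⁻¹ * b'⁻¹ = 1 := by rw [hcon b' hb']; group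
        show a * b' * a⁻¹ * b'⁻¹ ∈ _
        rw [this]; exact Subgroup.one_mem _
      exact h.hS.ne_bot _ h.A₁S (eq_bot_iff.mpr h3)
    obtain ⟨b', hb', hne⟩ := hex
    obtain ⟨e, hk⟩ := h.conj_A ha hb'
    have hk1 : kap a b' ≠ 1 := fun e' => hne (kap_eq_one_iff.mp e')
    apply key _ hk hk1
    refine ⟨?_, conjBy A b'⁻¹, h.hS.conj_mem A h.hA _, ?_⟩
    · rw [← e]
      intro e'
      apply ha1
      have := congrArg (fun t => b' * t * b'⁻¹) e'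
      simpa [mul_assoc] using this
    · rw [← e, mem_conjBy]
      have : b'⁻¹⁻¹ * (b'⁻¹ * a * b') * b'⁻¹ = a := by group
      rw [this]; exact ha
  · exact hc

/-- `D = ⁅A, ⁅B, C⁆⁆` is central in `⟨A, ⁅B, C⁆⟩`. -/
theorem D_cen (h : Cfg S A B C) : Cm ⁅A, ⁅B, C⁆⁆ (A ⊔ ⁅B, C⁆) := by
  by_cases hc : Cm A ⁅B, C⁆
  · rw [Cm_iff_commutator.mp hc]; exact Cm_bot_left _
  · exact (h.ccAC₁ hc).2.1

/-- `D' = ⁅⁅A, B⁆, C⁆` is central in `⟨⁅A, B⁆, C⟩`. -/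
theorem D'_cen (h : Cfg S A B C) : Cm ⁅⁅A, B⁆, C⁆ (⁅A, B⁆ ⊔ C) := by
  by_cases hc : Cm ⁅A, B⁆ C
  · rw [Cm_iff_commutator.mp hc]; exact Cm_bot_left _
  · exact (h.ccA₁C hc).2.1

theorem D_C (h : Cfg S A B C) : Cm ⁅A, ⁅B, C⁆⁆ C := Cm.commutator_left h.hAC h.C₁C
theorem D'_A (h : Cfg S A B C) : Cm ⁅⁅A, B⁆, C⁆ A := Cm.commutator_left h.A₁A h.hAC.symm

end CommCases

end Cfg

/-- Three pairwise "almost commuting" abelian subgroups generate a group of class at most two. -/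
theorem class2_of_three {H K L N : Subgroup G} (hHH : Cm H H) (hKK : Cm K K) (hLL : Cm L L)
    (hHK : Cm H K) (hKL : Cm K L) (hN : ⁅H, L⁆ ≤ N) (hNc : Cm N (H ⊔ K ⊔ L)) :
    ⁅H ⊔ K ⊔ L, H ⊔ K ⊔ L⁆ ≤ N := by
  have hcl : Subgroup.closure ((H : Set G) ∪ K ∪ L) = H ⊔ K ⊔ L := by
    rw [Subgroup.closure_union, Subgroup.closure_union, Subgroup.closure_eq, Subgroup.closure_eq,
      Subgroup.closure_eq]
  have hT : ((H : Set G) ∪ K ∪ L) ⊆ ((H ⊔ K ⊔ L : Subgroup G) : Set G) := by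
    rw [← hcl]; exact Subgroup.subset_closure
  have hLR : ∀ r ∈ H ⊔ K ⊔ L, ∀ l ∈ N, r * l * r⁻¹ ∈ N := by
    intro r hr l hl
    have := hNc l hl r hr
    have e : r * l * r⁻¹ = l := by rw [← this]; group
    rw [e]; exact hl
  have key := comm_mem_of_gens hLR hT hT (L := N) (by
    intro t ht u hu
    have hHL : ∀ x ∈ H, ∀ y ∈ L, ⁅x, y⁆ ∈ N := fun x hx y hy =>
      hN (Subgroup.commutator_mem_commutator hx hy)
    rcases ht with (ht | ht) | ht <;> rcases hu with (hu | hu) | hu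
    · rw [comm_eq_one (hHH t ht u hu)]; exact N.one_mem
    · rw [comm_eq_one (hHK t ht u hu)]; exact N.one_mem
    · exact hHL t ht u hu
    · rw [comm_eq_one (hHK.symm t ht u hu)]; exact N.one_mem
    · rw [comm_eq_one (hKK t ht u hu)]; exact N.one_mem
    · rw [comm_eq_one (hKL t ht u hu)]; exact N.one_mem
    · rw [← commutatorElement_inv]; exact N.inv_mem (hHL u hu t ht)
    · rw [comm_eq_one (hKL.symm t ht u hu)]; exact N.one_mem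
    · rw [comm_eq_one (hLL t ht u hu)]; exact N.one_mem)
  rw [Subgroup.commutator_le]
  intro x hx y hy
  rw [← hcl] at hx hy
  exact key x hx y hy

theorem class2_bot {H K L N : Subgroup G} (h1 : ⁅H ⊔ K ⊔ L, H ⊔ K ⊔ L⁆ ≤ N)
    (hNc : Cm N (H ⊔ K ⊔ L)) {X : Subgroup G} (hX : X ≤ H ⊔ K ⊔ L) : ⁅⁅X, X⁆, X⁆ = ⊥ := by
  rw [eq_bot_iff]
  calc ⁅⁅X, X⁆, X⁆ ≤ ⁅⁅H ⊔ K ⊔ L, H ⊔ K ⊔ L⁆, H ⊔ K ⊔ L⁆ :=
        Subgroup.commutator_mono (Subgroup.commutator_mono hX hX) hX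
    _ ≤ ⁅N, H ⊔ K ⊔ L⁆ := Subgroup.commutator_mono h1 le_rfl
    _ = ⊥ := Cm_iff_commutator.mp hNc

namespace Cfg

variable {S : Set (Subgroup G)} {A B C : Subgroup G}

theorem X_le (h : Cfg S A B C) {b : G} (hb : b ∈ B) : A ⊔ conjBy C b⁻¹ ≤ A ⊔ C ⊔ ⁅B, C⁆ := by
  refine sup_le (le_sup_of_le_left le_sup_left) ?_
  refine le_trans (h.conjBy_C_le (B.inv_mem hb)) ?_
  exact sup_le (le_sup_of_le_left le_sup_right) le_sup_right

theorem Y_le (h : Cfg S A B C) {b : G} (hb : b ∈ B) : conjBy A b⁻¹ ⊔ C ≤ C ⊔ A ⊔ ⁅A, B⁆ := by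
  refine sup_le ?_ (le_sup_of_le_left le_sup_left)
  refine le_trans (h.conjBy_A_le (B.inv_mem hb)) ?_
  exact sup_le (le_sup_of_le_left le_sup_right) le_sup_right

theorem Xhat (h : Cfg S A B C) :
    ⁅A ⊔ C ⊔ ⁅B, C⁆, A ⊔ C ⊔ ⁅B, C⁆⁆ ≤ ⁅A, ⁅B, C⁆⁆ ∧ Cm ⁅A, ⁅B, C⁆⁆ (A ⊔ C ⊔ ⁅B, C⁆) := by
  have hc : Cm ⁅A, ⁅B, C⁆⁆ (A ⊔ C ⊔ ⁅B, C⁆) :=
    Cm.sup_right (Cm.sup_right (h.D_cen.mono le_rfl le_sup_left) h.D_C)
      (h.D_cen.mono le_rfl le_sup_right)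
  exact ⟨class2_of_three h.AA h.CC h.C₁C₁ h.hAC h.C₁C.symm le_rfl hc, hc⟩

theorem Yhat (h : Cfg S A B C) :
    ⁅C ⊔ A ⊔ ⁅A, B⁆, C ⊔ A ⊔ ⁅A, B⁆⁆ ≤ ⁅⁅A, B⁆, C⁆ ∧ Cm ⁅⁅A, B⁆, C⁆ (C ⊔ A ⊔ ⁅A, B⁆) := by
  have hc : Cm ⁅⁅A, B⁆, C⁆ (C ⊔ A ⊔ ⁅A, B⁆) :=
    Cm.sup_right (Cm.sup_right (h.D'_cen.mono le_rfl le_sup_right) h.D'_A)
      (h.D'_cen.mono le_rfl le_sup_left)
  refine ⟨class2_of_three h.CC h.AA h.A₁A₁ h.hAC.symm h.A₁A.symm ?_ hc, hc⟩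
  rw [Subgroup.commutator_comm]

theorem X_class2 (h : Cfg S A B C) {b : G} (hb : b ∈ B) :
    ⁅⁅A ⊔ conjBy C b⁻¹, A ⊔ conjBy C b⁻¹⁆, A ⊔ conjBy C b⁻¹⁆ = ⊥ :=
  class2_bot h.Xhat.1 h.Xhat.2 (h.X_le hb)

theorem Y_class2 (h : Cfg S A B C) {b : G} (hb : b ∈ B) :
    ⁅⁅conjBy A b⁻¹ ⊔ C, conjBy A b⁻¹ ⊔ C⁆, conjBy A b⁻¹ ⊔ C⁆ = ⊥ :=
  class2_bot h.Yhat.1 h.Yhat.2 (h.Y_le hb)

/-- `X ⊔ Y = ⟨A, ⁅A, B⁆, C, ⁅B, C⁆⟩`. -/
theorem M_eq (h : Cfg S A B C) {b : G} (hb : b ∈ B) (hb1 : b ≠ 1) :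
    (A ⊔ conjBy C b⁻¹) ⊔ (conjBy A b⁻¹ ⊔ C) = (A ⊔ ⁅A, B⁆) ⊔ (C ⊔ ⁅B, C⁆) := by
  apply le_antisymm
  · refine sup_le (sup_le (le_sup_of_le_left le_sup_left) ?_) (sup_le ?_ (le_sup_of_le_right le_sup_left))
    · exact le_trans (h.conjBy_C_le (B.inv_mem hb)) le_sup_right
    · exact le_trans (h.conjBy_A_le (B.inv_mem hb)) le_sup_left
  · have hA : A ≤ (A ⊔ conjBy C b⁻¹) ⊔ (conjBy A b⁻¹ ⊔ C) := le_sup_of_le_left le_sup_left
    have hC : C ≤ (A ⊔ conjBy C b⁻¹) ⊔ (conjBy A b⁻¹ ⊔ C) := le_sup_of_le_right le_sup_right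
    have hAb : conjBy A b⁻¹ ≤ (A ⊔ conjBy C b⁻¹) ⊔ (conjBy A b⁻¹ ⊔ C) :=
      le_sup_of_le_right le_sup_left
    have hCb : conjBy C b⁻¹ ≤ (A ⊔ conjBy C b⁻¹) ⊔ (conjBy A b⁻¹ ⊔ C) :=
      le_sup_of_le_left le_sup_right
    refine sup_le (sup_le hA ?_) (sup_le hC ?_)
    · intro z hz
      obtain ⟨a, ha, rfl⟩ := h.surj_A₁ hb hb1 hz
      have e : kap a b = a⁻¹ * (b⁻¹ * a * b) := by unfold kap; group
      have hm : b⁻¹ * a * b ∈ conjBy A b⁻¹ := by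
        rw [mem_conjBy]
        have : b⁻¹⁻¹ * (b⁻¹ * a * b) * b⁻¹ = a := by group
        rw [this]; exact ha
      rw [e]
      exact Subgroup.mul_mem _ (hA (A.inv_mem ha)) (hAb hm)
    · intro z hz
      obtain ⟨c, hc, rfl⟩ := h.surj_C₁ hb hb1 hz
      have e : kap b c = (b⁻¹ * c⁻¹ * b) * c := by unfold kap; group
      have hm : b⁻¹ * c⁻¹ * b ∈ conjBy C b⁻¹ := by
        rw [mem_conjBy]
        have : b⁻¹⁻¹ * (b⁻¹ * c⁻¹ * b) * b⁻¹ = c⁻¹ := by group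
        rw [this]; exact C.inv_mem hc
      rw [e]
      exact Subgroup.mul_mem _ (hCb hm) (hC hc)

/-- `⟨A, ⁅A, B⁆, C, ⁅B, C⁆⟩` is normalized by `⟨A, B, C⟩`. -/
theorem M_norm (h : Cfg S A B C) :
    A ⊔ B ⊔ C ≤ Subgroup.normalizer (((A ⊔ ⁅A, B⁆) ⊔ (C ⊔ ⁅B, C⁆) : Subgroup G) : Set G) := by
  refine sup_le (sup_le ?_ ?_) ?_
  · exact le_trans (le_sup_of_le_left le_sup_left) Subgroup.le_normalizer
  · apply Cfsg.Agent.Lib.H6.NatMod.le_normalizer_of_conjBy_le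
    intro b' hb'
    rw [conjBy_sup, conjBy_sup, conjBy_sup, h.conjBy_A₁ hb', h.conjBy_C₁ hb']
    refine sup_le (sup_le ?_ (le_sup_of_le_left le_sup_right)) (sup_le ?_ (le_sup_of_le_right le_sup_right))
    · exact le_trans (h.conjBy_A_le hb') le_sup_left
    · exact le_trans (h.conjBy_C_le hb') le_sup_right
  · exact le_trans (le_sup_of_le_right le_sup_left) Subgroup.le_normalizer

theorem M_sup_B (h : Cfg S A B C) :
    ((A ⊔ ⁅A, B⁆) ⊔ (C ⊔ ⁅B, C⁆)) ⊔ B = A ⊔ B ⊔ C := by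
  apply le_antisymm
  · refine sup_le (sup_le (sup_le (le_sup_of_le_left le_sup_left) ?_) (sup_le le_sup_right ?_))
      (le_sup_of_le_left le_sup_right)
    · exact le_trans (commutator_le_sup A B) le_sup_left
    · refine le_trans (commutator_le_sup B C) ?_
      exact sup_le (le_sup_of_le_left le_sup_right) le_sup_right
  · refine sup_le (sup_le ?_ le_sup_right) ?_
    · exact le_sup_of_le_left (le_sup_of_le_left le_sup_left)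
    · exact le_sup_of_le_left (le_sup_of_le_right le_sup_left)


section Nilp

theorem conj_mem_A (_h : Cfg S A B C) {a b : G} (ha : a ∈ A) : b⁻¹ * a * b ∈ conjBy A b⁻¹ := by
  rw [mem_conjBy]
  have : b⁻¹⁻¹ * (b⁻¹ * a * b) * b⁻¹ = a := by group
  rw [this]; exact ha

theorem conj_mem_C (_h : Cfg S A B C) {c b : G} (hc : c ∈ C) : b⁻¹ * c * b ∈ conjBy C b⁻¹ := by
  rw [mem_conjBy]
  have : b⁻¹⁻¹ * (b⁻¹ * c * b) * b⁻¹ = c := by group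
  rw [this]; exact hc

theorem A₁_le (h : Cfg S A B C) {b : G} (hb : b ∈ B) (hb1 : b ≠ 1) :
    ⁅A, B⁆ ≤ A ⊔ conjBy A b⁻¹ := by
  intro z hz
  obtain ⟨a, ha, rfl⟩ := h.surj_A₁ hb hb1 hz
  have e : kap a b = a⁻¹ * (b⁻¹ * a * b) := by unfold kap; group
  rw [e]
  exact Subgroup.mul_mem _ (Subgroup.mem_sup_left (A.inv_mem ha))
    (Subgroup.mem_sup_right (h.conj_mem_A ha))

theorem C₁_le (h : Cfg S A B C) {b : G} (hb : b ∈ B) (hb1 : b ≠ 1) :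
    ⁅B, C⁆ ≤ conjBy C b⁻¹ ⊔ C := by
  intro z hz
  obtain ⟨c, hc, rfl⟩ := h.surj_C₁ hb hb1 hz
  have e : kap b c = (b⁻¹ * c⁻¹ * b) * c := by unfold kap; group
  rw [e]
  exact Subgroup.mul_mem _ (Subgroup.mem_sup_left (h.conj_mem_C (C.inv_mem hc)))
    (Subgroup.mem_sup_right hc)

theorem D_le (h : Cfg S A B C) {b : G} (hb : b ∈ B) (hb1 : b ≠ 1) :
    ⁅A, ⁅B, C⁆⁆ ≤ ⁅A, conjBy C b⁻¹⁆ := by
  rw [Subgroup.commutator_le]
  intro a ha z hz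
  obtain ⟨c, hc, rfl⟩ := h.surj_C₁ hb hb1 hz
  have e : kap b c = (b⁻¹ * c⁻¹ * b) * c := by unfold kap; group
  have hac : Commute a c := h.hAC a ha c hc
  have e2 : ⁅a, (b⁻¹ * c⁻¹ * b) * c⁆ = ⁅a, b⁻¹ * c⁻¹ * b⁆ := by
    rw [comm_mul_right, comm_eq_one hac]
    simp
  rw [e, e2]
  exact Subgroup.commutator_mem_commutator ha (h.conj_mem_C (C.inv_mem hc))

theorem D'_le (h : Cfg S A B C) {b : G} (hb : b ∈ B) (hb1 : b ≠ 1) :
    ⁅⁅A, B⁆, C⁆ ≤ ⁅conjBy A b⁻¹, C⁆ := by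
  rw [Subgroup.commutator_le]
  intro z hz c hc
  obtain ⟨a, ha, rfl⟩ := h.surj_A₁ hb hb1 hz
  have e : kap a b = a⁻¹ * (b⁻¹ * a * b) := by unfold kap; group
  have hm := h.conj_mem_A (b := b) ha
  have hac : Commute a⁻¹ c := h.hAC a⁻¹ (A.inv_mem ha) c hc
  have hay : Commute a⁻¹ (b⁻¹ * a * b) := h.A_conjA hb a⁻¹ (A.inv_mem ha) _ hm
  have hmem : ⁅b⁻¹ * a * b, c⁆ ∈ ⁅conjBy A b⁻¹, C⁆ := Subgroup.commutator_mem_commutator hm hc
  have hcomm : Commute a⁻¹ ⁅b⁻¹ * a * b, c⁆ := by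
    rw [commutatorElement_def]
    exact ((hay.mul_right hac).mul_right hay.inv_right).mul_right hac.inv_right
  have e2 : ⁅a⁻¹ * (b⁻¹ * a * b), c⁆ = ⁅b⁻¹ * a * b, c⁆ := by
    rw [comm_mul_left, comm_eq_one hac, mul_one]
    have := hcomm.eq
    rw [this]; group
  rw [e, e2]
  exact hmem

theorem D_A₁ (h : Cfg S A B C) : Cm ⁅A, ⁅B, C⁆⁆ ⁅A, B⁆ := by
  obtain ⟨⟨b, hb⟩, hb1'⟩ := (Subgroup.ne_bot_iff_exists_ne_one).mp (h.hS.ne_bot B h.hB)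
  have hb1 : b ≠ 1 := fun e => hb1' (Subtype.ext e)
  have h1 : Cm ⁅A, ⁅B, C⁆⁆ (conjBy A b⁻¹) :=
    (Cm.commutator_left (h.A_conjA hb) (h.hAC.symm.conj b⁻¹)).mono (h.D_le hb hb1) le_rfl
  exact (Cm.sup_right (h.D_cen.mono le_rfl le_sup_left) h1).mono le_rfl (h.A₁_le hb hb1)

theorem D'_C₁ (h : Cfg S A B C) : Cm ⁅⁅A, B⁆, C⁆ ⁅B, C⁆ := by
  obtain ⟨⟨b, hb⟩, hb1'⟩ := (Subgroup.ne_bot_iff_exists_ne_one).mp (h.hS.ne_bot B h.hB)
  have hb1 : b ≠ 1 := fun e => hb1' (Subtype.ext e)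
  have h1 : Cm ⁅⁅A, B⁆, C⁆ (conjBy C b⁻¹) :=
    (Cm.commutator_left (h.hAC.conj b⁻¹) (h.conjC_C hb).symm).mono (h.D'_le hb hb1) le_rfl
  exact (Cm.sup_right h1 (h.D'_cen.mono le_rfl le_sup_right)).mono le_rfl (h.C₁_le hb hb1)

theorem E_A (h : Cfg S A B C) : Cm ⁅⁅A, B⁆, ⁅B, C⁆⁆ A := by
  rw [Cm_iff_commutator]
  apply Subgroup.commutator_commutator_eq_bot_of_rotate
  · rw [Subgroup.commutator_comm ⁅B, C⁆ A]
    exact Cm_iff_commutator.mp h.D_A₁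
  · rw [Cm_iff_commutator.mp h.A₁A.symm]
    exact Cm_iff_commutator.mp (Cm_bot_left _)

theorem E_C (h : Cfg S A B C) : Cm ⁅⁅A, B⁆, ⁅B, C⁆⁆ C := by
  rw [Cm_iff_commutator]
  apply Subgroup.commutator_commutator_eq_bot_of_rotate
  · rw [Cm_iff_commutator.mp h.C₁C]
    exact Cm_iff_commutator.mp (Cm_bot_left _)
  · rw [Subgroup.commutator_comm C ⁅A, B⁆]
    exact Cm_iff_commutator.mp h.D'_C₁

theorem E_B (h : Cfg S A B C) : Cm ⁅⁅A, B⁆, ⁅B, C⁆⁆ B := Cm.commutator_left h.A₁B h.C₁B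

theorem E_R (h : Cfg S A B C) : Cm ⁅⁅A, B⁆, ⁅B, C⁆⁆ (A ⊔ B ⊔ C) :=
  Cm.sup_right (Cm.sup_right h.E_A h.E_B) h.E_C

end Nilp


section Chain

variable (A B C) in
/-- Generators of `E = ⁅⁅A, B⁆, ⁅B, C⁆⁆`. -/
def T3 : Set G := {x | ∃ y ∈ ⁅A, B⁆, ∃ z ∈ ⁅B, C⁆, ⁅y, z⁆ = x}

variable (A B C) in
/-- Generators of `D D' E`. -/
def T2 : Set G := {x | ∃ a ∈ A, ∃ z ∈ ⁅B, C⁆, ⁅a, z⁆ = x} ∪ {x | ∃ y ∈ ⁅A, B⁆, ∃ c ∈ C, ⁅y, c⁆ = x} ∪
  T3 A B C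

variable (A B C) in
def T1 : Set G := ((⁅A, B⁆ : Subgroup G) : Set G) ∪ ((⁅B, C⁆ : Subgroup G) : Set G) ∪ T2 A B C

variable (A B C) in
def T0 : Set G := (A : Set G) ∪ B ∪ C

variable (A B C) in
def TT : ℕ → Set G
  | 0 => T0 A B C
  | 1 => T1 A B C
  | 2 => T2 A B C
  | 3 => T3 A B C
  | _ => ∅

theorem closure_T0 : Subgroup.closure (T0 A B C) = A ⊔ B ⊔ C := by
  unfold T0
  rw [Subgroup.closure_union, Subgroup.closure_union, Subgroup.closure_eq, Subgroup.closure_eq,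
    Subgroup.closure_eq]

theorem A₁_le_R : ⁅A, B⁆ ≤ A ⊔ B ⊔ C := le_trans (commutator_le_sup A B) le_sup_left
theorem C₁_le_R : ⁅B, C⁆ ≤ A ⊔ B ⊔ C :=
  le_trans (commutator_le_sup B C) (sup_le (le_sup_of_le_left le_sup_right) le_sup_right)

theorem T0_sub : T0 A B C ⊆ ((A ⊔ B ⊔ C : Subgroup G) : Set G) := by
  rw [← closure_T0]; exact Subgroup.subset_closure

theorem comm_mem_R {x y : G} (hx : x ∈ A ⊔ B ⊔ C) (hy : y ∈ A ⊔ B ⊔ C) : ⁅x, y⁆ ∈ A ⊔ B ⊔ C := by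
  rw [commutatorElement_def]
  exact Subgroup.mul_mem _ (Subgroup.mul_mem _ (Subgroup.mul_mem _ hx hy) (Subgroup.inv_mem _ hx))
    (Subgroup.inv_mem _ hy)

theorem T3_sub : T3 A B C ⊆ ((A ⊔ B ⊔ C : Subgroup G) : Set G) := by
  rintro x ⟨y, hy, z, hz, rfl⟩
  exact comm_mem_R (A₁_le_R hy) (C₁_le_R hz)

theorem T2_sub : T2 A B C ⊆ ((A ⊔ B ⊔ C : Subgroup G) : Set G) := by
  rintro x ((⟨a, ha, z, hz, rfl⟩ | ⟨y, hy, c, hc, rfl⟩) | hx)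
  · exact comm_mem_R ((le_sup_of_le_left le_sup_left : A ≤ A ⊔ B ⊔ C) ha) (C₁_le_R hz)
  · exact comm_mem_R (A₁_le_R hy) (le_sup_right (a := A ⊔ B) hc)
  · exact T3_sub hx

theorem T1_sub : T1 A B C ⊆ ((A ⊔ B ⊔ C : Subgroup G) : Set G) := by
  rintro x ((hx | hx) | hx)
  · exact A₁_le_R hx
  · exact C₁_le_R hx
  · exact T2_sub hx

theorem TT_sub (i : ℕ) : TT A B C i ⊆ ((A ⊔ B ⊔ C : Subgroup G) : Set G) := by
  match i with
  | 0 => exact T0_sub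
  | 1 => exact T1_sub
  | 2 => exact T2_sub
  | 3 => exact T3_sub
  | (n + 4) => intro x hx; exact absurd hx (by simp [TT])

theorem TT_mono (i : ℕ) :
    Subgroup.closure (TT A B C (i + 1)) ≤ Subgroup.closure (TT A B C i) := by
  match i with
  | 0 =>
    show Subgroup.closure (T1 A B C) ≤ Subgroup.closure (T0 A B C)
    rw [closure_T0, Subgroup.closure_le]; exact T1_sub
  | 1 => exact Subgroup.closure_mono (fun x hx => Or.inr hx)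
  | 2 => exact Subgroup.closure_mono (fun x hx => Or.inr hx)
  | 3 => show Subgroup.closure ∅ ≤ _; rw [Subgroup.closure_empty]; exact bot_le
  | (n + 4) => show Subgroup.closure ∅ ≤ _; rw [Subgroup.closure_empty]; exact bot_le

theorem T3_comm (h : Cfg S A B C) {t u : G} (ht : t ∈ T3 A B C) (hu : u ∈ A ⊔ B ⊔ C) :
    ⁅t, u⁆ = 1 := by
  obtain ⟨y, hy, z, hz, rfl⟩ := ht
  exact comm_eq_one (h.E_R _ (Subgroup.commutator_mem_commutator hy hz) u hu)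

/-- For `t = ⁅a, z⁆` and `b' ∈ B`: `⁅t, b'⁆` is the inverse of a generator of `E`. -/
theorem T2a_B (h : Cfg S A B C) {a z b' : G} (ha : a ∈ A) (hz : z ∈ ⁅B, C⁆) (hb' : b' ∈ B) :
    ⁅⁅a, z⁆, b'⁆ ∈ Subgroup.closure (T3 A B C) := by
  obtain ⟨e1, hk⟩ := h.conj_A ha (B.inv_mem hb')
  set y := kap a b'⁻¹ with hy
  have hzb : b' * z * b'⁻¹ = z := by
    have := h.C₁B z hz b' hb'
    rw [← this]; group
  have hE : ⁅y, z⁆ ∈ ⁅⁅A, B⁆, ⁅B, C⁆⁆ := Subgroup.commutator_mem_commutator hk hz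
  have hae : a * ⁅y, z⁆ * a⁻¹ = ⁅y, z⁆ := by
    have := h.E_A _ hE a ha
    rw [← this]; group
  have e2 : b' * ⁅a, z⁆ * b'⁻¹ = ⁅y, z⁆ * ⁅a, z⁆ := by
    have e3 : b' * ⁅a, z⁆ * b'⁻¹ = ⁅b' * a * b'⁻¹, b' * z * b'⁻¹⁆ := by
      simp only [commutatorElement_def]; group
    have e4 : b' * a * b'⁻¹ = a * y := by
      rw [← e1]; group
    rw [e3, hzb, e4, comm_mul_left, hae]
  have e5 : ⁅⁅a, z⁆, b'⁆ = (⁅y, z⁆)⁻¹ := by
    have : ⁅⁅a, z⁆, b'⁆ = ⁅a, z⁆ * (b' * ⁅a, z⁆ * b'⁻¹)⁻¹ := by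
      simp only [commutatorElement_def]; group
    rw [this, e2]; group
  rw [e5]
  exact Subgroup.inv_mem _ (Subgroup.subset_closure ⟨y, hk, z, hz, rfl⟩)

theorem T2b_B (h : Cfg S A B C) {y c b' : G} (hy : y ∈ ⁅A, B⁆) (hc : c ∈ C) (hb' : b' ∈ B) :
    ⁅⁅y, c⁆, b'⁆ ∈ Subgroup.closure (T3 A B C) := by
  obtain ⟨e1, hk⟩ := h.conj_C hc (B.inv_mem hb')
  set z := kap c b'⁻¹ with hz
  have hyb : b' * y * b'⁻¹ = y := by
    have := h.A₁B y hy b' hb'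
    rw [← this]; group
  have hE : ⁅y, z⁆ ∈ ⁅⁅A, B⁆, ⁅B, C⁆⁆ := Subgroup.commutator_mem_commutator hy hk
  have hce : c * ⁅y, z⁆ * c⁻¹ = ⁅y, z⁆ := by
    have := h.E_C _ hE c hc
    rw [← this]; group
  have e2 : b' * ⁅y, c⁆ * b'⁻¹ = ⁅y, c⁆ * ⁅y, z⁆ := by
    have e3 : b' * ⁅y, c⁆ * b'⁻¹ = ⁅b' * y * b'⁻¹, b' * c * b'⁻¹⁆ := by
      simp only [commutatorElement_def]; group
    have e4 : b' * c * b'⁻¹ = c * z := by
      rw [← e1]; group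
    rw [e3, hyb, e4, comm_mul_right, hce]
  have hyc : ⁅y, c⁆ ∈ A ⊔ B ⊔ C := comm_mem_R (A₁_le_R hy) (le_sup_right (a := A ⊔ B) hc)
  have htE : ⁅y, c⁆ * (⁅y, z⁆)⁻¹ * (⁅y, c⁆)⁻¹ = (⁅y, z⁆)⁻¹ := by
    have := h.E_R _ (Subgroup.inv_mem _ hE) _ hyc
    rw [← this]; group
  have e5 : ⁅⁅y, c⁆, b'⁆ = (⁅y, z⁆)⁻¹ := by
    have : ⁅⁅y, c⁆, b'⁆ = ⁅y, c⁆ * (b' * ⁅y, c⁆ * b'⁻¹)⁻¹ := by
      simp only [commutatorElement_def]; group
    rw [this, e2, ← htE]; group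
  rw [e5]
  exact Subgroup.inv_mem _ (Subgroup.subset_closure ⟨y, hy, z, hk, rfl⟩)

theorem T2_step (h : Cfg S A B C) {t u : G} (ht : t ∈ T2 A B C) (hu : u ∈ T0 A B C) :
    ⁅t, u⁆ ∈ Subgroup.closure (T3 A B C) := by
  rcases ht with (⟨a, ha, z, hz, rfl⟩ | ⟨y, hy, c, hc, rfl⟩) | ht
  · have hD : ⁅a, z⁆ ∈ ⁅A, ⁅B, C⁆⁆ := Subgroup.commutator_mem_commutator ha hz
    rcases hu with (hu | hu) | hu
    · rw [comm_eq_one (h.D_cen _ hD u (Subgroup.mem_sup_left hu))]; exact Subgroup.one_mem _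
    · exact h.T2a_B ha hz hu
    · rw [comm_eq_one (h.D_C _ hD u hu)]; exact Subgroup.one_mem _
  · have hD : ⁅y, c⁆ ∈ ⁅⁅A, B⁆, C⁆ := Subgroup.commutator_mem_commutator hy hc
    rcases hu with (hu | hu) | hu
    · rw [comm_eq_one (h.D'_A _ hD u hu)]; exact Subgroup.one_mem _
    · exact h.T2b_B hy hc hu
    · rw [comm_eq_one (h.D'_cen _ hD u (Subgroup.mem_sup_right hu))]; exact Subgroup.one_mem _
  · rw [h.T3_comm ht (T0_sub hu)]; exact Subgroup.one_mem _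

theorem T1_step (h : Cfg S A B C) {t u : G} (ht : t ∈ T1 A B C) (hu : u ∈ T0 A B C) :
    ⁅t, u⁆ ∈ Subgroup.closure (T2 A B C) := by
  rcases ht with (ht | ht) | ht
  · rcases hu with (hu | hu) | hu
    · rw [comm_eq_one (h.A₁A t ht u hu)]; exact Subgroup.one_mem _
    · rw [comm_eq_one (h.A₁B t ht u hu)]; exact Subgroup.one_mem _
    · exact Subgroup.subset_closure (Or.inl (Or.inr ⟨t, ht, u, hu, rfl⟩))
  · rcases hu with (hu | hu) | hu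
    · rw [← commutatorElement_inv]
      exact Subgroup.inv_mem _ (Subgroup.subset_closure (Or.inl (Or.inl ⟨u, hu, t, ht, rfl⟩)))
    · rw [comm_eq_one (h.C₁B t ht u hu)]; exact Subgroup.one_mem _
    · rw [comm_eq_one (h.C₁C t ht u hu)]; exact Subgroup.one_mem _
  · exact Subgroup.closure_mono (fun x hx => Or.inr hx) (h.T2_step ht hu)

theorem T0_step (h : Cfg S A B C) {t u : G} (ht : t ∈ T0 A B C) (hu : u ∈ T0 A B C) :
    ⁅t, u⁆ ∈ Subgroup.closure (T1 A B C) := by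
  have hA₁ : ∀ x ∈ A, ∀ y ∈ B, ⁅x, y⁆ ∈ Subgroup.closure (T1 A B C) := fun x hx y hy =>
    Subgroup.subset_closure (Or.inl (Or.inl (Subgroup.commutator_mem_commutator hx hy)))
  have hC₁ : ∀ x ∈ B, ∀ y ∈ C, ⁅x, y⁆ ∈ Subgroup.closure (T1 A B C) := fun x hx y hy =>
    Subgroup.subset_closure (Or.inl (Or.inr (Subgroup.commutator_mem_commutator hx hy)))
  rcases ht with (ht | ht) | ht <;> rcases hu with (hu | hu) | hu
  · rw [comm_eq_one (h.AA t ht u hu)]; exact Subgroup.one_mem _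
  · exact hA₁ t ht u hu
  · rw [comm_eq_one (h.hAC t ht u hu)]; exact Subgroup.one_mem _
  · rw [← commutatorElement_inv]; exact Subgroup.inv_mem _ (hA₁ u hu t ht)
  · rw [comm_eq_one (h.BB t ht u hu)]; exact Subgroup.one_mem _
  · exact hC₁ t ht u hu
  · rw [comm_eq_one (h.hAC.symm t ht u hu)]; exact Subgroup.one_mem _
  · rw [← commutatorElement_inv]; exact Subgroup.inv_mem _ (hC₁ u hu t ht)
  · rw [comm_eq_one (h.CC t ht u hu)]; exact Subgroup.one_mem _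

/-- `⟨A, B, C⟩` is nilpotent. -/
theorem nilpotent (h : Cfg S A B C) : Group.IsNilpotent ↥(A ⊔ B ⊔ C) := by
  apply isNilpotent_of_chain (U := T0 A B C) closure_T0 4 (TT A B C)
  · show A ⊔ B ⊔ C ≤ Subgroup.closure (T0 A B C)
    rw [closure_T0]
  · show Subgroup.closure (∅ : Set G) = ⊥
    exact Subgroup.closure_empty
  · exact TT_sub
  · exact TT_mono
  · intro i t ht u hu
    match i with
    | 0 => exact h.T0_step ht hu
    | 1 => exact h.T1_step ht hu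
    | 2 => exact h.T2_step ht hu
    | 3 => rw [h.T3_comm ht (T0_sub hu)]; exact Subgroup.one_mem _
    | (n + 4) => exact absurd ht (by simp [TT])

end Chain

end Cfg

end Cfsg.Agent.Lib.H6.Tim211
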