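import Mathlib
import Cfsg.Prelude.Def_RootSubgroups
import Cfsg.Agent.S5025
import Cfsg.Agent.S5028
import Cfsg.Agent.S5029
import Cfsg.Agent.Lib.H25.CommutatorCase
import Cfsg.Agent.Lib.H6.Tim211
import Cfsg.Agent.Lib.H6.FConnClass
import Cfsg.Agent.Lib.H6.NatMod5

set_option autoImplicit false

/-! Timmesfeld II §2: lines.  `N` is a *line* if it is commutative and partitioned by the members
of `S` it contains.  For a rank one pair `(A, B)` with `A` on the line `N`: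
* `exists_comm_member` : some member `C ≠ A` of the line is in the commutator case with `B`;
* `comm_back` : then `⁅A, ⁅C, B⁆⁆ = C`;
* `key` : consequently `N = A C` (when `N` is generated by `A` and another member), the members of
  the line are the conjugates of `A` under `⁅C, B⁆` together with `C`. -/

namespace Cfsg.Agent.Lib.H6.Tim2L

open Cfsg Cfsg.Agent.Lib.H25 Cfsg.Agent.Lib.H6.FConn Cfsg.Agent.Lib.H6.Tim211
  Cfsg.Agent.Lib.H6.NatMod
open scoped commutatorElement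

variable {G : Type*} [Group G] {S : Set (Subgroup G)}

/-- A line. -/
structure Line (S : Set (Subgroup G)) (N : Subgroup G) : Prop where
  part : IsSubgroupPartition N (membersIn S N)
  comm : Cm N N

namespace Line

variable {N : Subgroup G}

theorem mem_root (hN : Line S N) {x : G} (hx : x ∈ N) (hx1 : x ≠ 1) : x ∈ rootElements S := by
  obtain ⟨C, hC, hxC⟩ := hN.part.2.1 x hx hx1
  exact ⟨hx1, C, hC.1, hxC⟩

theorem eq_of_mem (hN : Line S N) {P Q : Subgroup G} (hP : P ∈ membersIn S N)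
    (hQ : Q ∈ membersIn S N) {x : G} (hxP : x ∈ P) (hxQ : x ∈ Q) (hx1 : x ≠ 1) : P = Q := by
  by_contra hne
  have h := hN.part.2.2 P hP Q hQ hne
  have hx : x ∈ P ⊓ Q := ⟨hxP, hxQ⟩
  rw [h, Subgroup.mem_bot] at hx
  exact hx1 hx

theorem cm (hN : Line S N) {P Q : Subgroup G} (hP : P ∈ membersIn S N)
    (hQ : Q ∈ membersIn S N) : Cm P Q := hN.comm.mono hP.2 hQ.2

end Line

theorem rankOne_not_cm {A B : Subgroup G} (hp : IsRankOnePair A B) : ¬ Cm A B := by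
  intro h
  obtain ⟨a, ha, ha1⟩ := RankOne.exists_ne_one_left hp
  obtain ⟨b, hb, hb1⟩ := RankOne.exists_ne_one_right hp
  exact hb1 (RankOne.eq_one_of_commute hp ha ha1 hb (h a ha b hb))

theorem mem_centralizer_sup {A B : Subgroup G} {z : G} (hA : ∀ a ∈ A, z * a = a * z)
    (hB : ∀ b ∈ B, z * b = b * z) : z ∈ Subgroup.centralizer ((A ⊔ B : Subgroup G) : Set G) := by
  have h : A ⊔ B ≤ Subgroup.centralizer ({z} : Set G) := by
    apply sup_le
    · intro a ha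
      rw [Subgroup.mem_centralizer_iff]
      intro y hy
      rw [Set.mem_singleton_iff] at hy
      subst hy
      exact hA a ha
    · intro b hb
      rw [Subgroup.mem_centralizer_iff]
      intro y hy
      rw [Set.mem_singleton_iff] at hy
      subst hy
      exact hB b hb
  rw [Subgroup.mem_centralizer_iff]
  intro x hx
  have := h hx
  rw [Subgroup.mem_centralizer_iff] at this
  exact (this z rfl).symm

/-- Conjugation transport of the commutator case. -/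
theorem commutatorCase_conj (hS : IsRootSubgroupSet S) {A B : Subgroup G} (hA : A ∈ S)
    (hB : B ∈ S) (h : RootCommutatorCase S A B) (g : G) :
    RootCommutatorCase S (conjBy A g) (conjBy B g) := by
  apply commutatorCase_of_mem hS (hS.conj_mem A hA g) (hS.conj_mem B hB g)
  have : ⁅conjBy A g, conjBy B g⁆ = conjBy ⁅A, B⁆ g := (Subgroup.map_commutator A B _).symm
  rw [this]
  exact hS.conj_mem _ h.1 g

/-- **L1.** For a rank one pair `(A, B)` with `A` on a line `N` having another member `D`, some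
member `C ≠ A` of `N` is in the commutator case with `B`; moreover `A C` meets `D`. -/
theorem exists_comm_member (hS : IsRootSubgroupSet S) {N A D B : Subgroup G} (hN : Line S N)
    (hA : A ∈ membersIn S N) (hD : D ∈ membersIn S N) (hAD : A ≠ D) (hBS : B ∈ S)
    (hAB : IsRankOnePair A B) :
    ∃ C ∈ membersIn S N, C ≠ A ∧ RootCommutatorCase S C B ∧ ∃ d ∈ D, d ≠ 1 ∧ d ∈ A ⊔ C := by
  have hAS := hA.1
  have hDS := hD.1
  have hinf : ∀ x, x ∈ A → x ∈ D → x = 1 := by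
    intro x hxA hxD
    by_contra hx1
    exact hAD (Cfsg.Agent.S5028.core hS hAS hBS hDS hAB hxA hxD hx1)
  have hcmAD : Cm A D := hN.cm hA hD
  obtain ⟨a, ha, ha1⟩ := RankOne.exists_ne_one_left hAB
  obtain ⟨d₀, hd₀, hd₀1⟩ := exists_ne_one_of_mem hS hDS
  rcases hS.pair D hDS B hBS with h0 | hr | hcc
  · exfalso
    have hcmDB : Cm D B := Cm_iff_commutator.2 h0
    have hz : d₀ ∈ Subgroup.centralizer ((A ⊔ B : Subgroup G) : Set G) :=
      mem_centralizer_sup (fun x hx => (hcmAD x hx d₀ hd₀).symm) (fun y hy => hcmDB d₀ hd₀ y hy)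
    apply Cfsg.Agent.S5025.result hS hAS ⟨hBS, hAB⟩ hz hd₀1 a ha ha1
    apply hN.mem_root (N.mul_mem (hD.2 hd₀) (hA.2 ha))
    intro h1
    apply hd₀1
    apply hinf d₀ _ hd₀
    have : d₀ = a⁻¹ := eq_inv_of_mul_eq_one_left h1
    rw [this]
    exact A.inv_mem ha
  · -- `(D, B)` is a rank one pair
    obtain ⟨b, hb, hb1, hE⟩ := hAB.cond_left a ha ha1
    obtain ⟨d, hd, hd1, hE2⟩ := hr.cond_right b hb hb1
    obtain ⟨e, hedef⟩ : ∃ e, e = a * d⁻¹ := ⟨_, rfl⟩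
    -- `e⁻¹ B e` commutes with `B`
    have hcmB : ∀ x ∈ B, ∀ y ∈ B, (e⁻¹ * x * e) * y = y * (e⁻¹ * x * e) := by
      intro x hx y hy
      have h1 : a⁻¹ * x * a ∈ conjBy A b⁻¹ := by
        rw [hE, mem_conjBy, inv_inv]
        have : a * (a⁻¹ * x * a) * a⁻¹ = x := by group
        rw [this]; exact hx
      have h2 : d⁻¹ * y * d ∈ conjBy D b⁻¹ := by
        rw [← hE2, mem_conjBy, inv_inv]
        have : d * (d⁻¹ * y * d) * d⁻¹ = y := by group
        rw [this]; exact hy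
      rw [mem_conjBy, inv_inv] at h1 h2
      have h3 := hcmAD _ h1 _ h2
      have h4 : (a⁻¹ * x * a) * (d⁻¹ * y * d) = (d⁻¹ * y * d) * (a⁻¹ * x * a) := by
        have e1 : (a⁻¹ * x * a) * (d⁻¹ * y * d) =
            b⁻¹ * ((b * (a⁻¹ * x * a) * b⁻¹) * (b * (d⁻¹ * y * d) * b⁻¹)) * b := by group
        have e2 : (d⁻¹ * y * d) * (a⁻¹ * x * a) =
            b⁻¹ * ((b * (d⁻¹ * y * d) * b⁻¹) * (b * (a⁻¹ * x * a) * b⁻¹)) * b := by group
        rw [e1, e2, h3]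
      have e3 : e⁻¹ * x * e * y = d * ((a⁻¹ * x * a) * (d⁻¹ * y * d)) * d⁻¹ := by
        rw [hedef]; group
      have e4 : y * (e⁻¹ * x * e) = d * ((d⁻¹ * y * d) * (a⁻¹ * x * a)) * d⁻¹ := by
        rw [hedef]; group
      rw [e3, e4, h4]
    have heN : e ∈ N := by
      rw [hedef]; exact N.mul_mem (hA.2 ha) (N.inv_mem (hD.2 hd))
    have he1 : e ≠ 1 := by
      intro h1
      apply ha1
      apply hinf a ha
      rw [hedef] at h1
      have : a = d := by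
        have := mul_inv_eq_one.1 h1
        exact this
      rw [this]; exact hd
    obtain ⟨E, hE', heE⟩ := hN.part.2.1 e heN he1
    have hES := hE'.1
    have hEA : E ≠ A := by
      intro h1
      apply hd1
      apply hinf d _ hd
      have h2 : d = e⁻¹ * a := by rw [hedef]; group
      rw [h2]
      exact A.mul_mem (A.inv_mem (h1 ▸ heE)) ha
    have hdAE : d ∈ A ⊔ E := by
      have h2 : d = e⁻¹ * a := by rw [hedef]; group
      rw [h2]
      exact Subgroup.mul_mem _ (Subgroup.mem_sup_right (E.inv_mem heE)) (Subgroup.mem_sup_left ha)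
    rcases hS.pair E hES B hBS with h0 | hr2 | hcc
    · exfalso
      have hcmEB : Cm E B := Cm_iff_commutator.2 h0
      have hz : e ∈ Subgroup.centralizer ((A ⊔ B : Subgroup G) : Set G) :=
        mem_centralizer_sup (fun x hx => hN.comm e heN x (hA.2 hx))
          (fun y hy => hcmEB e heE y hy)
      apply Cfsg.Agent.S5025.result hS hAS ⟨hBS, hAB⟩ hz he1 a⁻¹ (A.inv_mem ha)
        (fun h => ha1 (inv_eq_one.1 h))
      have h3 : e * a⁻¹ = d⁻¹ := by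
        rw [hedef, mul_assoc, hcmAD.symm d⁻¹ (D.inv_mem hd) a⁻¹ (A.inv_mem ha), ← mul_assoc,
          mul_inv_cancel, one_mul]
      rw [h3]
      exact ⟨fun h => hd1 (inv_eq_one.1 h), D, hDS, D.inv_mem hd⟩
    · exfalso
      obtain ⟨b₁, hb₁, hb₁1, hE3⟩ := hr2.cond_left e heE he1
      -- `b₁⁻¹ e b₁ ∈ e⁻¹ B e`, so it commutes with `B`; hence `e` commutes with `B`
      have h1 : b₁⁻¹ * e * b₁ ∈ conjBy B e⁻¹ := by
        rw [← hE3, mem_conjBy, inv_inv]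
        have : b₁ * (b₁⁻¹ * e * b₁) * b₁⁻¹ = e := by group
        rw [this]; exact heE
      rw [mem_conjBy, inv_inv] at h1
      have h2 := hcmB _ h1 b hb
      have e1 : e⁻¹ * (e * (b₁⁻¹ * e * b₁) * e⁻¹) * e = b₁⁻¹ * e * b₁ := by group
      rw [e1] at h2
      have hBab := hS.commutative B hBS
      have h3 : e * b = b * e := by
        have c1 := comm_of_isMulCommutative hBab hb₁ hb
        have e2 : e * b = b₁ * ((b₁⁻¹ * e * b₁) * b) * b₁⁻¹ * (b₁ * b⁻¹ * b₁⁻¹ * b) := by group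
        have e3 : b₁ * b⁻¹ * b₁⁻¹ * b = 1 := by
          have : b₁ * b⁻¹ = b⁻¹ * b₁ := comm_of_isMulCommutative hBab hb₁ (B.inv_mem hb)
          rw [this]; group
        rw [e2, e3, mul_one, h2]
        have e4 : b₁ * (b * (b₁⁻¹ * e * b₁)) * b₁⁻¹ = (b₁ * b * b₁⁻¹) * e := by group
        rw [e4, c1]; group
      exact hb1 (RankOne.eq_one_of_commute hr2 heE he1 hb h3)
    · exact ⟨E, hE', hEA, hcc, d, hd, hd1, hdAE⟩
  · exact ⟨D, hD, hAD.symm, hcc, d₀, hd₀, hd₀1, Subgroup.mem_sup_right hd₀⟩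

theorem commute_conj_iff {x y g : G} (h : (g * x * g⁻¹) * y = y * (g * x * g⁻¹)) :
    x * (g⁻¹ * y * g) = (g⁻¹ * y * g) * x := by
  have e1 : x * (g⁻¹ * y * g) = g⁻¹ * ((g * x * g⁻¹) * y) * g := by group
  have e2 : (g⁻¹ * y * g) * x = g⁻¹ * (y * (g * x * g⁻¹)) * g := by group
  rw [e1, e2, h]

/-- **L2.** For a rank one pair `(A, B)` with `A` on a line `N`, a member `C ≠ A` of `N` in the
commutator case with `B` (and `C` having a rank one partner): `⁅A, ⁅C, B⁆⁆ = C`. -/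
theorem comm_back (hS : IsRootSubgroupSet S) {N A B C E : Subgroup G} (hN : Line S N)
    (hA : A ∈ membersIn S N) (hC : C ∈ membersIn S N) (hCA : C ≠ A) (hBS : B ∈ S)
    (hAB : IsRankOnePair A B) (hcc : RootCommutatorCase S C B) (hES : E ∈ S)
    (hCE : IsRankOnePair C E) :
    RootCommutatorCase S A ⁅C, B⁆ ∧ ⁅A, ⁅C, B⁆⁆ = C := by
  have hAS := hA.1
  have hCS := hC.1
  have hFS : ⁅C, B⁆ ∈ S := hcc.1
  have hAab := hS.commutative A hAS
  have hBab := hS.commutative B hBS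
  have hcmAC : Cm A C := hN.cm hA hC
  have hFC : ∀ f ∈ ⁅C, B⁆, ∀ c ∈ C, f * c = c * f := fun f hf c hc =>
    hcc.2.1 f hf c (Subgroup.mem_sup_left hc)
  have hFB : ∀ f ∈ ⁅C, B⁆, ∀ y ∈ B, f * y = y * f := fun f hf y hy =>
    hcc.2.1 f hf y (Subgroup.mem_sup_right hy)
  obtain ⟨a, ha, ha1⟩ := RankOne.exists_ne_one_left hAB
  obtain ⟨b, hb, hb1, hE⟩ := hAB.cond_left a ha ha1
  -- (f4) `a (b⁻¹ c b) a⁻¹` commutes with `B`
  have hf4 : ∀ c ∈ C, ∀ y ∈ B, (a * (b⁻¹ * c * b) * a⁻¹) * y = y * (a * (b⁻¹ * c * b) * a⁻¹) := by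
    intro c hc y hy
    have h1 : a⁻¹ * y * a ∈ conjBy A b⁻¹ := by
      rw [hE, mem_conjBy, inv_inv]
      have : a * (a⁻¹ * y * a) * a⁻¹ = y := by group
      rw [this]; exact hy
    rw [mem_conjBy, inv_inv] at h1
    have h2 := hcmAC _ h1 c hc
    have e1 : a * (b⁻¹ * c * b) * a⁻¹ * y =
        a * b⁻¹ * (c * (b * (a⁻¹ * y * a) * b⁻¹)) * b * a⁻¹ := by group
    have e2 : y * (a * (b⁻¹ * c * b) * a⁻¹) =
        a * b⁻¹ * ((b * (a⁻¹ * y * a) * b⁻¹) * c) * b * a⁻¹ := by group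
    rw [e1, e2, h2]
  -- (f5)
  have hf5 : ∀ c ∈ C, a * (b⁻¹ * c * b) * a⁻¹ = c * (a * kap c b * a⁻¹) := by
    intro c hc
    rw [← mul_kap]
    have h1 := hcmAC a ha c hc
    have e1 : a * (c * kap c b) * a⁻¹ = (a * c) * kap c b * a⁻¹ := by group
    rw [e1, h1]; group
  have hkapF : ∀ c ∈ C, kap c b ∈ ⁅C, B⁆ := fun c hc => kap_mem_commutator hc hb
  have hsurj : ∀ f ∈ ⁅C, B⁆, ∃ c ∈ C, kap c b = f := fun f hf =>
    exists_kap_left_of_closure hcc.2.1 hb (hcc.2.2.2 b hb hb1) hf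
  obtain ⟨c₀, hc₀, hc₀1⟩ := RankOne.exists_ne_one_left hCE
  rcases hS.pair A hAS ⁅C, B⁆ hFS with h0 | hr | hcc3
  · -- `A` centralizes `F`
    exfalso
    have hcmAF : Cm A ⁅C, B⁆ := Cm_iff_commutator.2 h0
    apply not_commute_of_commutatorCase hS hCS hBS hES hCE hcc hc₀ hc₀1 hb hb1
    have h1 := hf4 c₀ hc₀ b hb
    rw [hf5 c₀ hc₀] at h1
    have h2 : a * kap c₀ b * a⁻¹ = kap c₀ b := conj_eq_of_comm (hcmAF a ha _ (hkapF c₀ hc₀)).symm
    rw [h2, mul_kap] at h1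
    have e1 : c₀ * b = b * ((b⁻¹ * c₀ * b) * b) * b⁻¹ := by group
    rw [e1, h1]; group
  · -- `(A, F)` a rank one pair
    exfalso
    obtain ⟨u, hudef⟩ : ∃ u, u = a * b⁻¹ := ⟨_, rfl⟩
    have hC₂S : conjBy C u ∈ S := hS.conj_mem C hCS u
    have hmemC₂ : ∀ c ∈ C, a * (b⁻¹ * c * b) * a⁻¹ ∈ conjBy C u := by
      intro c hc
      rw [mem_conjBy, hudef]
      have : (a * b⁻¹)⁻¹ * (a * (b⁻¹ * c * b) * a⁻¹) * (a * b⁻¹) = c := by group
      rw [this]; exact hc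
    have hC₂B : ∀ x ∈ conjBy C u, ∀ y ∈ B, x * y = y * x := by
      intro x hx y hy
      rw [mem_conjBy] at hx
      have := hf4 _ hx y hy
      have e : a * (b⁻¹ * (u⁻¹ * x * u) * b) * a⁻¹ = x := by rw [hudef]; group
      rwa [e] at this
    have ha1' : a⁻¹ ≠ 1 := fun h => ha1 (inv_eq_one.1 h)
    obtain ⟨b₂, hb₂, hb₂1, hE2⟩ := hAB.cond_left a⁻¹ (A.inv_mem ha) ha1'
    rw [inv_inv] at hE2
    have hBu : conjBy B u = conjBy B a := by
      rw [hudef, ← conjBy_conjBy, conjBy_of_mem (B.inv_mem hb)]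
    have h1 : RootCommutatorCase S (conjBy C u) (conjBy B a) := by
      rw [← hBu]; exact commutatorCase_conj hS hCS hBS hcc u
    rw [← hE2] at h1
    have h2 := commutatorCase_conj hS hC₂S (hS.conj_mem A hAS b₂⁻¹) h1 b₂
    rw [conjBy_conjBy A, mul_inv_cancel, conjBy_one] at h2
    have h3 : conjBy (conjBy C u) b₂ = conjBy C u := by
      rw [conjBy_eq_self_iff]
      apply Subgroup.centralizer_le_normalizer
      rw [Subgroup.mem_centralizer_iff]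
      intro x hx
      exact hC₂B x hx b₂ hb₂
    rw [h3] at h2
    -- `h2 : RootCommutatorCase S (conjBy C u) A`
    have hG₀A : ∀ k ∈ ⁅conjBy C u, A⁆, ∀ x ∈ A, k * x = x * k := fun k hk x hx =>
      h2.2.1 k hk x (Subgroup.mem_sup_right hx)
    have hclaim : ∀ a' ∈ A, ∀ f ∈ ⁅C, B⁆, a' * f * a'⁻¹ * f⁻¹ ∈ ⁅conjBy C u, A⁆ := by
      intro a' ha' f hf
      obtain ⟨c, hc, hcf⟩ := hsurj f hf
      obtain ⟨c₂, hc₂def⟩ : ∃ c₂, c₂ = a * (b⁻¹ * c * b) * a⁻¹ := ⟨_, rfl⟩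
      have hc₂ : c₂ ∈ conjBy C u := hc₂def ▸ hmemC₂ c hc
      have hc₂' : c₂ = c * (a * f * a⁻¹) := by rw [hc₂def, hf5 c hc, hcf]
      have hk : a' * c₂ * a'⁻¹ * c₂⁻¹ ∈ ⁅conjBy C u, A⁆ := by
        rw [Subgroup.commutator_comm]
        exact mem_comm_of_mem ha' hc₂
      have c1 : Commute c a' := (hcmAC a' ha' c hc).symm
      have c2 : Commute c a := (hcmAC a ha c hc).symm
      have c3 : Commute c f := (hFC f hf c hc).symm
      have c4 : Commute a' a := comm_of_isMulCommutative hAab ha' ha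
      have hck : Commute c (a' * c₂ * a'⁻¹ * c₂⁻¹) := by
        have c5 : Commute c c₂ := by
          rw [hc₂']
          exact (Commute.refl c).mul_right ((c2.mul_right c3).mul_right c2.inv_right)
        exact ((c1.mul_right c5).mul_right c1.inv_right).mul_right c5.inv_right
      have hak : Commute a (a' * c₂ * a'⁻¹ * c₂⁻¹) := (hG₀A _ hk a ha).symm
      have e1 : a' * c₂ * a'⁻¹ * c₂⁻¹ = (c * a) * (a' * f * a'⁻¹ * f⁻¹) * (c * a)⁻¹ := by
        rw [hc₂']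
        have e2 : a' * (c * (a * f * a⁻¹)) * a'⁻¹ * (c * (a * f * a⁻¹))⁻¹ =
            (a' * c) * (a * f * a⁻¹) * a'⁻¹ * ((a * f⁻¹ * a⁻¹) * c⁻¹) := by group
        rw [e2, ← c1.eq]
        have e3 : c * a' * (a * f * a⁻¹) * a'⁻¹ * (a * f⁻¹ * a⁻¹ * c⁻¹) =
            c * ((a' * a) * f * (a⁻¹ * a'⁻¹) * a) * f⁻¹ * a⁻¹ * c⁻¹ := by group
        rw [e3, c4.eq]
        have e4 : a⁻¹ * a'⁻¹ = a'⁻¹ * a⁻¹ := by
          rw [← mul_inv_rev, ← mul_inv_rev, c4.eq]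
        rw [e4]; group
      have e5 : a' * f * a'⁻¹ * f⁻¹ = (c * a)⁻¹ * (a' * c₂ * a'⁻¹ * c₂⁻¹) * (c * a) := by
        rw [e1]; group
      have hcak : Commute (c * a) (a' * c₂ * a'⁻¹ * c₂⁻¹) := hck.mul_left hak
      rw [e5, mul_assoc, ← hcak.eq, ← mul_assoc, inv_mul_cancel, one_mul]
      exact hk
    -- contradiction with the rank one pair `(A, F)`
    obtain ⟨f', hf', hf'1, hE3⟩ := hr.cond_left a ha ha1
    apply rankOne_not_cm hr
    intro x hx f hf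
    have h4 : a⁻¹ * f * a ∈ conjBy A f'⁻¹ := by
      rw [hE3, mem_conjBy, inv_inv]
      have : a * (a⁻¹ * f * a) * a⁻¹ = f := by group
      rw [this]; exact hf
    rw [mem_conjBy, inv_inv] at h4
    obtain ⟨a'', ha''def⟩ : ∃ a'', a'' = f' * (a⁻¹ * f * a) * f'⁻¹ := ⟨_, rfl⟩
    rw [← ha''def] at h4
    have h5 : a⁻¹ * f * a = a'' * (a''⁻¹ * f'⁻¹ * a''⁻¹⁻¹ * f'⁻¹⁻¹) := by
      rw [ha''def]; group
    have h6 := hclaim a''⁻¹ (A.inv_mem h4) f'⁻¹ (Subgroup.inv_mem _ hf')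
    have h7 : Commute x (a⁻¹ * f * a) := by
      rw [h5]
      have h9 : Commute x a'' := comm_of_isMulCommutative hAab hx h4
      have h10 : Commute x (a''⁻¹ * f'⁻¹ * a''⁻¹⁻¹ * f'⁻¹⁻¹) := (hG₀A _ h6 x hx).symm
      exact h9.mul_right h10
    have h8 : Commute x a := comm_of_isMulCommutative hAab hx ha
    have e6 : f = a * (a⁻¹ * f * a) * a⁻¹ := by group
    rw [e6]
    exact ((h8.mul_right h7).mul_right h8.inv_right).eq
  · -- commutator case for `(A, F)`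
    refine ⟨hcc3, ?_⟩
    have hGS : ⁅A, ⁅C, B⁆⁆ ∈ S := hcc3.1
    obtain ⟨f, hfdef⟩ : ∃ f, f = kap c₀ b := ⟨_, rfl⟩
    have hf : f ∈ ⁅C, B⁆ := hfdef ▸ hkapF c₀ hc₀
    obtain ⟨g, hgdef⟩ : ∃ g, g = a * f * a⁻¹ * f⁻¹ := ⟨_, rfl⟩
    have hg : g ∈ ⁅A, ⁅C, B⁆⁆ := hgdef ▸ mem_comm_of_mem ha hf
    have hga : Commute g a := hcc3.2.1 g hg a (Subgroup.mem_sup_left ha)
    have hgf : Commute g f := hcc3.2.1 g hg f (Subgroup.mem_sup_right hf)
    have hgA : ∀ x ∈ A, g * x = x * g := fun x hx => hcc3.2.1 g hg x (Subgroup.mem_sup_left hx)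
    have c2 : Commute c₀ a := (hcmAC a ha c₀ hc₀).symm
    have c3 : Commute c₀ f := (hFC f hf c₀ hc₀).symm
    have hcg : Commute c₀ g := by
      rw [hgdef]
      exact ((c2.mul_right c3).mul_right c2.inv_right).mul_right c3.inv_right
    -- `c₂ = c₀ g f`
    have hc₂ : a * (b⁻¹ * c₀ * b) * a⁻¹ = c₀ * g * f := by
      rw [hf5 c₀ hc₀, ← hfdef, hgdef]; group
    -- `z = c₀ g` centralizes `A ⊔ B`
    have hzB : ∀ y ∈ B, (c₀ * g) * y = y * (c₀ * g) := by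
      intro y hy
      have h1 : Commute (c₀ * g * f) y := by
        rw [← hc₂]; exact hf4 c₀ hc₀ y hy
      have h2 : Commute f y := hFB f hf y hy
      have e : c₀ * g = (c₀ * g * f) * f⁻¹ := by group
      rw [e]
      exact (h1.mul_left h2.inv_left).eq
    have hzA : ∀ x ∈ A, (c₀ * g) * x = x * (c₀ * g) := by
      intro x hx
      have h1 : Commute c₀ x := (hcmAC x hx c₀ hc₀).symm
      have h2 : Commute g x := hgA x hx
      exact (h1.mul_left h2).eq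
    have hz : c₀ * g ∈ Subgroup.centralizer ((A ⊔ B : Subgroup G) : Set G) :=
      mem_centralizer_sup hzA hzB
    -- `z a = f⁻¹ (a c₀) f` is a root element
    have hac : a * c₀ ∈ N := N.mul_mem (hA.2 ha) (hC.2 hc₀)
    have hac1 : a * c₀ ≠ 1 := by
      intro h1
      apply hCA
      have : a = c₀⁻¹ := eq_inv_of_mul_eq_one_left h1
      have h2 : c₀⁻¹ ∈ A := this ▸ ha
      exact Cfsg.Agent.S5028.core hS hCS hES hAS hCE (C.inv_mem hc₀) h2
        (fun h => hc₀1 (inv_eq_one.1 h))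
    obtain ⟨E₁, hE₁, hacE₁⟩ := hN.part.2.1 _ hac hac1
    have hza : c₀ * g * a = f⁻¹ * (a * c₀) * f := by
      have e1 : f⁻¹ * a * f = g * a := by
        have e2 : f⁻¹ * a * f = f⁻¹ * (a * f * a⁻¹ * f⁻¹) * f * a := by group
        rw [e2, ← hgdef, mul_assoc f⁻¹ g f, hgf.eq, ← mul_assoc, inv_mul_cancel, one_mul]
      have e3 : f⁻¹ * (a * c₀) * f = (f⁻¹ * a * f) * (f⁻¹ * c₀ * f) := by group
      have e4 : f⁻¹ * c₀ * f = c₀ := by
        rw [mul_assoc, c3.eq, ← mul_assoc, inv_mul_cancel, one_mul]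
      rw [e3, e1, e4, mul_assoc]
      exact (hcg.mul_right c2).eq
    have hzroot : c₀ * g * a ∈ rootElements S := by
      refine ⟨?_, conjBy E₁ f⁻¹, hS.conj_mem E₁ hE₁.1 f⁻¹, ?_⟩
      · rw [hza]
        intro h1
        apply hac1
        have := congrArg (fun t => f * t * f⁻¹) h1
        simpa [mul_assoc] using this
      · rw [mem_conjBy, inv_inv, hza]
        have : f * (f⁻¹ * (a * c₀) * f) * f⁻¹ = a * c₀ := by group
        rw [this]; exact hacE₁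
    have hz1 : c₀ * g = 1 := by
      by_contra hne
      exact Cfsg.Agent.S5025.result hS hAS ⟨hBS, hAB⟩ hz hne a ha ha1 hzroot
    have hgC : g ∈ C := by
      have : g = c₀⁻¹ := eq_inv_of_mul_eq_one_right hz1
      rw [this]; exact C.inv_mem hc₀
    have hg1 : g ≠ 1 := by
      intro h1
      rw [h1, mul_one] at hz1
      exact hc₀1 hz1
    exact (Cfsg.Agent.S5028.core hS hCS hES hGS hCE hgC hg hg1).symm

/-- **Key lemma.** -/
theorem key (hS : IsRootSubgroupSet S) {N A D B : Subgroup G} (hN : Line S N)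
    (hA : A ∈ membersIn S N) (hD : D ∈ membersIn S N) (hAD : A ≠ D) (hBS : B ∈ S)
    (hAB : IsRankOnePair A B)
    (hall : ∀ P ∈ membersIn S N, ∃ E ∈ S, IsRankOnePair P E) :
    ∃ C ∈ membersIn S N, C ≠ A ∧ RootCommutatorCase S C B ∧ RootCommutatorCase S A ⁅C, B⁆ ∧
      ⁅A, ⁅C, B⁆⁆ = C ∧ D ≤ A ⊔ C ∧ IsSubgroupPartition (A ⊔ C) (membersIn S (A ⊔ C)) ∧
      membersIn S (A ⊔ C) = (fun f : G => conjBy A f) '' ((⁅C, B⁆ : Subgroup G) : Set G) ∪ {C} := by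
  obtain ⟨C, hC, hCA, hcc, d, hd, hd1, hdAC⟩ := exists_comm_member hS hN hA hD hAD hBS hAB
  obtain ⟨E, hES, hCE⟩ := hall C hC
  obtain ⟨hcc3, hAF⟩ := comm_back hS hN hA hC hCA hBS hAB hcc hES hCE
  have hni : ¬ IsIsolatedIn (FAdj S) S A := not_isolated_of_pair hA.1 hBS hAB
  obtain ⟨h1, h2, -, -⟩ := Cfsg.Agent.S5029.result hS hni hA.1 hcc.1 hcc3.1
  rw [hAF] at h1 h2
  refine ⟨C, hC, hCA, hcc, hcc3, hAF, ?_, h2, h1⟩
  -- `D ≤ A ⊔ C`
  obtain ⟨Q, hQ, hdQ⟩ := h2.2.1 d hdAC hd1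
  have hACN : A ⊔ C ≤ N := sup_le hA.2 hC.2
  have hQN : Q ∈ membersIn S N := ⟨hQ.1, hQ.2.trans hACN⟩
  have := hN.eq_of_mem hQN hD hdQ hd hd1
  rw [← this]
  exact hQ.2

/-- A pivot of the line `N`: a member `Q` and a normalizing member `F` fixing `Q` and transitive
on the other members. -/
structure Pivot (S : Set (Subgroup G)) (N Q F : Subgroup G) : Prop where
  memQ : Q ∈ membersIn S N
  memF : F ∈ normalizingMembers S N
  fix : ∀ f ∈ F, conjBy Q f = Q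
  trans : ∀ Q₁ ∈ membersIn S N, ∀ Q₂ ∈ membersIn S N, Q₁ ≠ Q → Q₂ ≠ Q → ∃ f ∈ F, conjBy Q₁ f = Q₂
  two : ∃ Q₁ ∈ membersIn S N, ∃ Q₂ ∈ membersIn S N, Q₁ ≠ Q ∧ Q₂ ≠ Q ∧ Q₁ ≠ Q₂

/-- The key lemma produces a pivot `C ≠ A` when `N = A ⊔ D`. -/
theorem exists_pivot (hS : IsRootSubgroupSet S) {N A D B : Subgroup G} (hN : Line S N)
    (hA : A ∈ membersIn S N) (hD : D ∈ membersIn S N) (hAD : A ≠ D) (hNAD : N = A ⊔ D)
    (hBS : B ∈ S) (hAB : IsRankOnePair A B)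
    (hall : ∀ P ∈ membersIn S N, ∃ E ∈ S, IsRankOnePair P E) :
    ∃ C, C ≠ A ∧ N = A ⊔ C ∧ RootCommutatorCase S C B ∧ Pivot S N C ⁅C, B⁆ := by
  obtain ⟨C, hC, hCA, hcc, hcc3, hAF, hDAC, hpart, hmem⟩ := key hS hN hA hD hAD hBS hAB hall
  have hNAC : N = A ⊔ C := by
    apply le_antisymm
    · rw [hNAD]; exact sup_le le_sup_left hDAC
    · exact sup_le hA.2 hC.2
  rw [← hNAC] at hmem
  have hFS : ⁅C, B⁆ ∈ S := hcc.1
  have hfix : ∀ f ∈ ⁅C, B⁆, conjBy C f = C := by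
    intro f hf
    rw [conjBy_eq_self_iff]
    apply Subgroup.centralizer_le_normalizer
    rw [Subgroup.mem_centralizer_iff]
    intro c hc
    exact (hcc.2.1 f hf c (Subgroup.mem_sup_left hc)).symm
  have hAfN : ∀ f ∈ ⁅C, B⁆, conjBy A f ∈ membersIn S N := by
    intro f hf
    rw [hmem]
    exact Or.inl ⟨f, hf, rfl⟩
  have hnorm : ⁅C, B⁆ ≤ Subgroup.normalizer (N : Set G) := by
    apply le_normalizer_of_conjBy_le
    intro f hf
    rw [hNAC, conjBy_sup, hfix f hf]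
    exact sup_le ((hAfN f hf).2.trans hNAC.le) le_sup_right
  obtain ⟨f₀, hf₀, hf₀1⟩ := exists_ne_one_of_mem hS hFS
  obtain ⟨E, hES, hAE⟩ := hall A hA
  refine ⟨C, hCA, hNAC, hcc, hC, ⟨hFS, hnorm⟩, hfix, ?_, ?_⟩
  · intro Q₁ hQ₁ Q₂ hQ₂ h1 h2
    rw [hmem] at hQ₁ hQ₂
    rcases hQ₁ with ⟨f₁, hf₁, rfl⟩ | hQ₁
    · rcases hQ₂ with ⟨f₂, hf₂, rfl⟩ | hQ₂
      · refine ⟨f₂ * f₁⁻¹, Subgroup.mul_mem _ hf₂ (Subgroup.inv_mem _ hf₁), ?_⟩
        show conjBy (conjBy A f₁) (f₂ * f₁⁻¹) = conjBy A f₂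
        rw [conjBy_conjBy, mul_assoc, inv_mul_cancel, mul_one]
      · exact absurd hQ₂ h2
    · exact absurd hQ₁ h1
  · refine ⟨A, hA, conjBy A f₀, hAfN f₀ hf₀, hCA.symm, ?_, ?_⟩
    · intro h1
      apply hCA
      have h2 : A = conjBy C f₀⁻¹ := conjBy_eq_iff.1 h1
      rw [h2, hfix f₀⁻¹ (Subgroup.inv_mem _ hf₀)]
    · intro h1
      -- `f₀` normalizes `A`: then it centralizes `A`, contradiction
      have hinf : ∀ x, x ∈ A → x ∈ C → x = 1 := by
        intro x hxA hxC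
        by_contra hx1
        exact hCA (Cfsg.Agent.S5028.core hS hA.1 hES hC.1 hAE hxA hxC hx1).symm
      obtain ⟨a, ha, ha1⟩ := RankOne.exists_ne_one_left hAE
      apply not_commute_of_commutatorCase hS hA.1 hFS hES hAE hcc3 ha ha1 hf₀ hf₀1
      have h2 : f₀ * a * f₀⁻¹ ∈ A := by
        have : f₀ * a * f₀⁻¹ ∈ conjBy A f₀ := by
          rw [mem_conjBy]
          have : f₀⁻¹ * (f₀ * a * f₀⁻¹) * f₀ = a := by group
          rw [this]; exact ha
        rwa [← h1] at this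
      have h3 : f₀ * a * f₀⁻¹ * a⁻¹ ∈ C := by
        have : f₀ * a * f₀⁻¹ * a⁻¹ ∈ ⁅⁅C, B⁆, A⁆ := mem_comm_of_mem hf₀ ha
        rwa [Subgroup.commutator_comm, hAF] at this
      have h4 := hinf _ (A.mul_mem h2 (A.inv_mem ha)) h3
      have := congrArg (fun t => t * a * f₀) h4
      simp only [one_mul] at this
      rw [← this]; group

/-- Two pivots at different members make the normalizing members doubly transitive on the
line. -/
theorem two_transitive (hS : IsRootSubgroupSet S) {N P' F' P'' F'' : Subgroup G}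
    (h1 : Pivot S N P' F') (h2 : Pivot S N P'' F'') (hne : P' ≠ P'') :
    ∀ C₁ ∈ membersIn S N, ∀ C₂ ∈ membersIn S N, ∀ D₁ ∈ membersIn S N, ∀ D₂ ∈ membersIn S N,
      C₁ ≠ C₂ → D₁ ≠ D₂ →
        ∃ x ∈ ⨆ E ∈ normalizingMembers S N, E, conjBy C₁ x = D₁ ∧ conjBy C₂ x = D₂ := by
  obtain ⟨R, hRdef⟩ : ∃ R, R = ⨆ E ∈ normalizingMembers S N, E := ⟨_, rfl⟩
  rw [← hRdef]
  have hRnorm : R ≤ Subgroup.normalizer (N : Set G) := by
    rw [hRdef]; exact iSup₂_le (fun E hE => hE.2)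
  have hF'R : F' ≤ R := by
    rw [hRdef]; exact le_iSup₂ (f := fun E (_ : E ∈ normalizingMembers S N) => E) F' h1.memF
  have hF''R : F'' ≤ R := by
    rw [hRdef]; exact le_iSup₂ (f := fun E (_ : E ∈ normalizingMembers S N) => E) F'' h2.memF
  have hmem : ∀ x ∈ R, ∀ Q ∈ membersIn S N, conjBy Q x ∈ membersIn S N := by
    intro x hx Q hQ
    refine ⟨hS.conj_mem Q hQ.1 x, ?_⟩
    have := conjBy_mono x hQ.2
    rwa [conjBy_eq_self_iff.2 (hRnorm hx)] at this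
  have toP' : ∀ Q ∈ membersIn S N, ∃ x ∈ R, conjBy Q x = P' := by
    intro Q hQ
    by_cases hQ1 : Q = P'
    · exact ⟨1, R.one_mem, by rw [conjBy_one, hQ1]⟩
    · by_cases hQ2 : Q = P''
      · obtain ⟨Q₁, hQ₁, Q₂, hQ₂, n1, n2, n12⟩ := h1.two
        obtain ⟨Q₃, hQ₃, n3, n3'⟩ : ∃ Q₃ ∈ membersIn S N, Q₃ ≠ P' ∧ Q₃ ≠ P'' := by
          by_cases hh : Q₁ = P''
          · exact ⟨Q₂, hQ₂, n2, fun h => n12 (hh.trans h.symm)⟩
          · exact ⟨Q₁, hQ₁, n1, hh⟩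
        obtain ⟨f₁, hf₁, e1⟩ := h1.trans Q hQ Q₃ hQ₃ hQ1 n3
        obtain ⟨f₂, hf₂, e2⟩ := h2.trans Q₃ hQ₃ P' h1.memQ n3' hne
        refine ⟨f₂ * f₁, R.mul_mem (hF''R hf₂) (hF'R hf₁), ?_⟩
        rw [← conjBy_conjBy, e1, e2]
      · obtain ⟨f₂, hf₂, e2⟩ := h2.trans Q hQ P' h1.memQ hQ2 hne
        exact ⟨f₂, hF''R hf₂, e2⟩
  intro C₁ hC₁ C₂ hC₂ D₁ hD₁ D₂ hD₂ hC hD
  obtain ⟨x₁, hx₁, e1⟩ := toP' C₁ hC₁
  obtain ⟨x₂, hx₂, e2⟩ := toP' D₁ hD₁
  have hC₂' : conjBy C₂ x₁ ≠ P' := by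
    intro h
    apply hC
    apply conjBy_injective x₁
    show conjBy C₁ x₁ = conjBy C₂ x₁
    rw [e1, h]
  have hD₂' : conjBy D₂ x₂ ≠ P' := by
    intro h
    apply hD
    apply conjBy_injective x₂
    show conjBy D₁ x₂ = conjBy D₂ x₂
    rw [e2, h]
  obtain ⟨f, hf, e3⟩ := h1.trans _ (hmem x₁ hx₁ C₂ hC₂) _ (hmem x₂ hx₂ D₂ hD₂) hC₂' hD₂'
  refine ⟨x₂⁻¹ * (f * x₁), R.mul_mem (R.inv_mem hx₂) (R.mul_mem (hF'R hf) hx₁), ?_, ?_⟩
  · rw [← conjBy_conjBy, ← conjBy_conjBy, e1, h1.fix f hf]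
    exact (conjBy_eq_iff.1 e2).symm
  · rw [← conjBy_conjBy, ← conjBy_conjBy, e3, conjBy_conjBy, inv_mul_cancel, conjBy_one]

end Cfsg.Agent.Lib.H6.Tim2L
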