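import Mathlib
import Cfsg.Prelude.Def_RootSubgroups
import Cfsg.Agent.Lib.H6.Tim2L

set_option autoImplicit false

/-! Timmesfeld II §2 for a non-degenerate class: basic existence statements and the connectivity
of the graphs `𝓔(Σ)` and `𝓓(Σ)`. -/

namespace Cfsg.Agent.Lib.H6.Tim2N

open Cfsg Cfsg.Agent.Lib.H25 Cfsg.Agent.Lib.H6.FConn Cfsg.Agent.Lib.H6.Tim211
  Cfsg.Agent.Lib.H6.NatMod Cfsg.Agent.Lib.H6.Tim2L
open scoped commutatorElement

variable {G : Type*} [Group G] {S : Set (Subgroup G)}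

/-- A non-degenerate class: the data we use. -/
structure NDClass (S : Set (Subgroup G)) : Prop where
  hS : IsRootSubgroupSet S
  hcl : IsConjClassOfSubgroups S
  hnd : IsNondegenerateRootSet S

namespace NDClass

theorem of (hS : IsRootSubgroupClass S) (hnd : IsNondegenerateRootSet S) : NDClass S :=
  ⟨hS.1, hS.2, hnd⟩

theorem exists_partner (h : NDClass S) : ∀ P ∈ S, ∃ E ∈ S, IsRankOnePair P E := by
  obtain ⟨A₀, hA₀, B₀, hB₀, h₀⟩ := h.hnd.2.1
  intro P hP
  obtain ⟨g, rfl⟩ := h.hcl.2 A₀ hA₀ P hP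
  exact ⟨conjBy B₀ g, h.hS.conj_mem B₀ hB₀ g, RankOne.isRankOnePair_conj h₀ g⟩

theorem not_isolated (h : NDClass S) {A : Subgroup G} (hA : A ∈ S) :
    ¬ IsIsolatedIn (FAdj S) S A := by
  obtain ⟨E, hE, hAE⟩ := h.exists_partner A hA
  exact not_isolated_of_pair hA hE hAE

theorem fconn (h : NDClass S) : IsConnectedFamily (FAdj S) S := by
  obtain ⟨A₀, hA₀, B₀, hB₀, h₀⟩ := h.hnd.2.1
  exact connected_of_class h.hS h.hcl hA₀ hB₀ h₀

theorem cm_self (h : NDClass S) {A : Subgroup G} (hA : A ∈ S) : Cm A A :=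
  fun _ hx _ hy => comm_of_isMulCommutative (h.hS.commutative A hA) hx hy

/-- In the commutator case `(C, B)`: `⁅C, B⁆` is a line partner of `C`. -/
theorem comm_linePartner (h : NDClass S) {C B : Subgroup G} (hC : C ∈ S) (hB : B ∈ S)
    (hcc : RootCommutatorCase S C B) : ⁅C, B⁆ ∈ linePartners S C := by
  obtain ⟨-, hpart, -, -⟩ := Cfsg.Agent.S5029.result h.hS (h.not_isolated hC) hC hB hcc.1
  refine ⟨⟨hcc.1, (ne_commutator_of_commutatorCase h.hS hcc).symm, ?_⟩, hpart⟩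
  apply Cm_iff_commutator.1
  intro c hc f hf
  exact (hcc.2.1 f hf c (Subgroup.mem_sup_left hc)).symm

theorem linePartners_symm {A B : Subgroup G} (hA : A ∈ S) (hB : B ∈ linePartners S A) :
    A ∈ linePartners S B := by
  obtain ⟨⟨hBS, hBA, hcom⟩, hpart⟩ := hB
  refine ⟨⟨hA, hBA.symm, ?_⟩, ?_⟩
  · rw [Subgroup.commutator_comm]; exact hcom
  · rw [sup_comm]; exact hpart

theorem line_of_linePartner (h : NDClass S) {A D : Subgroup G} (hA : A ∈ S)
    (hD : D ∈ linePartners S A) : Line S (A ⊔ D) := by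
  obtain ⟨⟨hDS, hDA, hcom⟩, hpart⟩ := hD
  have hcmAD : Cm A D := Cm_iff_commutator.2 hcom
  exact ⟨hpart, Cm.sup_left (Cm.sup_right (h.cm_self hA) hcmAD)
    (Cm.sup_right hcmAD.symm (h.cm_self hDS))⟩

/-- Every member has a line partner. -/
theorem exists_linePartner (h : NDClass S) {A : Subgroup G} (hA : A ∈ S) :
    ∃ D, D ∈ linePartners S A := by
  obtain ⟨A₁, hA₁, B₁, hB₁, hcc₁⟩ := h.hnd.2.2
  obtain ⟨g, hg⟩ := h.hcl.2 A₁ hA₁ A hA
  have hcc' := commutatorCase_conj h.hS hA₁ hB₁ hcc₁ g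
  rw [← hg] at hcc'
  exact ⟨_, h.comm_linePartner hA (h.hS.conj_mem B₁ hB₁ g) hcc'⟩

/-- For a rank one pair `(A, B)`: some line partner `C` of `A` is in the commutator case with `B`,
and `⁅A, ⁅C, B⁆⁆ = C`. -/
theorem exists_C (h : NDClass S) {A B : Subgroup G} (hA : A ∈ S) (hB : B ∈ S)
    (hAB : IsRankOnePair A B) :
    ∃ C, C ∈ linePartners S A ∧ RootCommutatorCase S C B ∧ RootCommutatorCase S A ⁅C, B⁆ ∧
      ⁅A, ⁅C, B⁆⁆ = C := by
  obtain ⟨D, hD⟩ := h.exists_linePartner hA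
  have hN := h.line_of_linePartner hA hD
  obtain ⟨C, hC, hCA, hcc, hcc3, hAF, -, hpart, -⟩ :=
    key h.hS hN ⟨hA, le_sup_left⟩ ⟨hD.1.1, le_sup_right⟩ hD.1.2.1.symm hB hAB
      (fun P hP => h.exists_partner P hP.1)
  have hcmAC : Cm A C := hN.cm ⟨hA, le_sup_left⟩ hC
  exact ⟨C, ⟨⟨hC.1, hCA, Cm_iff_commutator.1 hcmAC⟩, hpart⟩, hcc, hcc3, hAF⟩

/-- A rank one pair is joined by a path of length three in `𝓔(Σ)`. -/
theorem epath (h : NDClass S) {A B : Subgroup G} (hA : A ∈ S) (hB : B ∈ S)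
    (hAB : IsRankOnePair A B) : Relation.ReflTransGen (EAdj S S) A B := by
  obtain ⟨C, hC, hcc, -, -⟩ := h.exists_C hA hB hAB
  have hCS := hC.1.1
  have hFS : ⁅C, B⁆ ∈ S := hcc.1
  have h1 : EAdj S S A C := ⟨hA, hCS, hC⟩
  have h2 : EAdj S S C ⁅C, B⁆ := ⟨hCS, hFS, h.comm_linePartner hCS hB hcc⟩
  have hccBC : RootCommutatorCase S B C :=
    commutatorCase_of_mem h.hS hB hCS (by rw [Subgroup.commutator_comm]; exact hFS)
  have h3 : EAdj S S ⁅C, B⁆ B := by
    refine ⟨hFS, hB, ?_⟩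
    have := h.comm_linePartner hB hCS hccBC
    rw [Subgroup.commutator_comm] at this
    exact linePartners_symm hB this
  exact ((Relation.ReflTransGen.single h1).tail h2).tail h3

theorem econn (h : NDClass S) : IsConnectedFamily (EAdj S S) S := by
  intro A hA B hB
  have := h.fconn A hA B hB
  clear hB
  induction this with
  | refl => exact Relation.ReflTransGen.refl
  | tail _ hbc ih => exact ih.trans (h.epath hbc.1 hbc.2.1 hbc.2.2)

theorem dconn (h : NDClass S) : IsConnectedFamily (DAdj S) S := by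
  intro A hA B hB
  have h1 := h.econn A hA B hB
  clear hB
  induction h1 with
  | refl => exact Relation.ReflTransGen.refl
  | tail _ hPQ ih =>
    exact ih.tail ⟨hPQ.1, hPQ.2.1, hPQ.2.2.1.2.1.symm, hPQ.2.2.1.2.2⟩

end NDClass

end Cfsg.Agent.Lib.H6.Tim2N
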