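import Mathlib
import Cfsg.Prelude.Def_RootSubgroups
import Cfsg.Agent.Lib.H6.Tim2N

set_option autoImplicit false

/-! Timmesfeld II §2: conjugation transport for lines and pivots; any two members of a line
generate it; `G = ⟨Λ_A, B⟩` for a non-degenerate class. -/

open Cfsg Cfsg.Agent.Lib.H25 Cfsg.Agent.Lib.H6.FConn Cfsg.Agent.Lib.H6.Tim211
  Cfsg.Agent.Lib.H6.NatMod Cfsg.Agent.Lib.H6.Tim2L Cfsg.Agent.Lib.H6.Tim2N
open scoped commutatorElement

variable {G : Type*} [Group G] {S : Set (Subgroup G)}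

namespace Cfsg.Agent.Lib.H6.Tim2G

theorem conjBy_inv_conjBy (A : Subgroup G) (g : G) : conjBy (conjBy A g) g⁻¹ = A := by
  rw [conjBy_conjBy, inv_mul_cancel, conjBy_one]

theorem conjBy_conjBy_inv (A : Subgroup G) (g : G) : conjBy (conjBy A g⁻¹) g = A := by
  rw [conjBy_conjBy, mul_inv_cancel, conjBy_one]

theorem membersIn_conj (hS : IsRootSubgroupSet S) {N P : Subgroup G} (hP : P ∈ membersIn S N)
    (g : G) : conjBy P g ∈ membersIn S (conjBy N g) :=
  ⟨hS.conj_mem P hP.1 g, conjBy_mono g hP.2⟩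

theorem partition_conj (hS : IsRootSubgroupSet S) {N : Subgroup G}
    (h : IsSubgroupPartition N (membersIn S N)) (g : G) :
    IsSubgroupPartition (conjBy N g) (membersIn S (conjBy N g)) := by
  refine ⟨fun C hC => hC.2, ?_, ?_⟩
  · intro x hx hx1
    rw [mem_conjBy] at hx
    have hx1' : g⁻¹ * x * g ≠ 1 := by
      intro hh
      apply hx1
      have := congrArg (fun t => g * t * g⁻¹) hh
      simpa [mul_assoc] using this
    obtain ⟨C, hC, hxC⟩ := h.2.1 _ hx hx1'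
    exact ⟨conjBy C g, membersIn_conj hS hC g, by rw [mem_conjBy]; exact hxC⟩
  · intro C hC D hD hCD
    have hC' : conjBy C g⁻¹ ∈ membersIn S N := by
      have := membersIn_conj hS hC g⁻¹
      rwa [conjBy_inv_conjBy] at this
    have hD' : conjBy D g⁻¹ ∈ membersIn S N := by
      have := membersIn_conj hS hD g⁻¹
      rwa [conjBy_inv_conjBy] at this
    have hne : conjBy C g⁻¹ ≠ conjBy D g⁻¹ := fun hh => hCD (conjBy_injective g⁻¹ hh)
    have h0 := h.2.2 _ hC' _ hD' hne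
    rw [eq_bot_iff]
    intro x hx
    rw [Subgroup.mem_bot]
    have hx' := Subgroup.mem_inf.1 hx
    have hy : g⁻¹ * x * g ∈ conjBy C g⁻¹ ⊓ conjBy D g⁻¹ := by
      rw [Subgroup.mem_inf]
      constructor
      · rw [mem_conjBy, inv_inv]
        have : g * (g⁻¹ * x * g) * g⁻¹ = x := by group
        rw [this]; exact hx'.1
      · rw [mem_conjBy, inv_inv]
        have : g * (g⁻¹ * x * g) * g⁻¹ = x := by group
        rw [this]; exact hx'.2
    rw [h0, Subgroup.mem_bot] at hy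
    have := congrArg (fun t => g * t * g⁻¹) hy
    simpa [mul_assoc] using this

theorem linePartners_conj (hS : IsRootSubgroupSet S) {A B : Subgroup G}
    (hB : B ∈ linePartners S A) (g : G) : conjBy B g ∈ linePartners S (conjBy A g) := by
  obtain ⟨⟨hBS, hBA, hcom⟩, hpart⟩ := hB
  refine ⟨⟨hS.conj_mem B hBS g, fun hh => hBA (conjBy_injective g hh), ?_⟩, ?_⟩
  · exact Cm_iff_commutator.1 ((Cm_iff_commutator.2 hcom).conj g)
  · rw [← conjBy_sup]
    exact partition_conj hS hpart g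

end Cfsg.Agent.Lib.H6.Tim2G

open Cfsg.Agent.Lib.H6.Tim2G

/-- Conjugating a pivot by an element normalizing the line. -/
theorem Cfsg.Agent.Lib.H6.Tim2L.Pivot.conj (hS : IsRootSubgroupSet S) {N Q F : Subgroup G} (h : Pivot S N Q F) {x : G}
    (hx : x ∈ Subgroup.normalizer (N : Set G)) : Pivot S N (conjBy Q x) (conjBy F x) := by
  have hN : conjBy N x = N := conjBy_eq_self_iff.2 hx
  have hN' : conjBy N x⁻¹ = N := conjBy_eq_self_iff.2 (Subgroup.inv_mem _ hx)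
  have hmem : ∀ P ∈ membersIn S N, conjBy P x ∈ membersIn S N := by
    intro P hP
    have := membersIn_conj hS hP x
    rwa [hN] at this
  have hmem' : ∀ P ∈ membersIn S N, conjBy P x⁻¹ ∈ membersIn S N := by
    intro P hP
    have := membersIn_conj hS hP x⁻¹
    rwa [hN'] at this
  have hconjF : ∀ f ∈ conjBy F x, x⁻¹ * f * x ∈ F := fun f hf => mem_conjBy.1 hf
  refine ⟨hmem Q h.memQ, ⟨hS.conj_mem F h.memF.1 x, ?_⟩, ?_, ?_, ?_⟩
  · have h1 := conjBy_mono x h.memF.2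
    have h2 : conjBy (Subgroup.normalizer (N : Set G)) x = Subgroup.normalizer (N : Set G) := by
      apply conjBy_eq_self_iff.2
      exact Subgroup.le_normalizer hx
    rwa [h2] at h1
  · intro f hf
    have h1 := h.fix _ (hconjF f hf)
    have e : f * x = x * (x⁻¹ * f * x) := by group
    rw [conjBy_conjBy, e, ← conjBy_conjBy, h1]
  · intro Q₁ hQ₁ Q₂ hQ₂ n1 n2
    have n1' : conjBy Q₁ x⁻¹ ≠ Q := by
      intro hh
      apply n1
      rw [← hh, conjBy_conjBy_inv]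
    have n2' : conjBy Q₂ x⁻¹ ≠ Q := by
      intro hh
      apply n2
      rw [← hh, conjBy_conjBy_inv]
    obtain ⟨f, hf, hfe⟩ := h.trans _ (hmem' Q₁ hQ₁) _ (hmem' Q₂ hQ₂) n1' n2'
    refine ⟨x * f * x⁻¹, ?_, ?_⟩
    · rw [mem_conjBy]
      have : x⁻¹ * (x * f * x⁻¹) * x = f := by group
      rw [this]; exact hf
    · have e : x * f * x⁻¹ = x * (f * x⁻¹) := by group
      rw [e, ← conjBy_conjBy, ← conjBy_conjBy, hfe, conjBy_conjBy_inv]
  · obtain ⟨Q₁, hQ₁, Q₂, hQ₂, n1, n2, n12⟩ := h.two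
    exact ⟨conjBy Q₁ x, hmem Q₁ hQ₁, conjBy Q₂ x, hmem Q₂ hQ₂,
      fun hh => n1 (conjBy_injective x hh), fun hh => n2 (conjBy_injective x hh),
      fun hh => n12 (conjBy_injective x hh)⟩

namespace Cfsg.Agent.Lib.H6.Tim2N.NDClass

/-- Two pivots on a line through `A`. -/
theorem two_pivots (h : NDClass S) {A D : Subgroup G} (hA : A ∈ S) (hD : D ∈ linePartners S A) :
    ∃ P' F' P'' F'', P' ≠ A ∧ A ⊔ D = A ⊔ P' ∧ P' ≠ P'' ∧ Pivot S (A ⊔ D) P' F' ∧
      Pivot S (A ⊔ D) P'' F'' := by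
  have hN := h.line_of_linePartner hA hD
  have hAm : A ∈ membersIn S (A ⊔ D) := ⟨hA, le_sup_left⟩
  have hDm : D ∈ membersIn S (A ⊔ D) := ⟨hD.1.1, le_sup_right⟩
  have hall' : ∀ P ∈ membersIn S (A ⊔ D), ∃ E ∈ S, IsRankOnePair P E :=
    fun P hP => h.exists_partner P hP.1
  obtain ⟨E₁, hE₁S, hAE₁⟩ := h.exists_partner A hA
  obtain ⟨P', hP'A, hN1, -, hpiv1⟩ :=
    exists_pivot h.hS hN hAm hDm hD.1.2.1.symm rfl hE₁S hAE₁ hall'
  obtain ⟨E₂, hE₂S, hPE₂⟩ := h.exists_partner P' hpiv1.memQ.1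
  have hN2 : A ⊔ D = P' ⊔ A := by rw [hN1, sup_comm]
  obtain ⟨P'', hP''P', -, -, hpiv2⟩ :=
    exists_pivot h.hS hN hpiv1.memQ hAm hP'A hN2 hE₂S hPE₂ hall'
  exact ⟨P', _, P'', _, hP'A, hN1, hP''P'.symm, hpiv1, hpiv2⟩

/-- The normalizing members are doubly transitive on a line through `A`. -/
theorem line_two_transitive (h : NDClass S) {A D : Subgroup G} (hA : A ∈ S)
    (hD : D ∈ linePartners S A) :
    ∀ C₁ ∈ membersIn S (A ⊔ D), ∀ C₂ ∈ membersIn S (A ⊔ D), ∀ D₁ ∈ membersIn S (A ⊔ D),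
      ∀ D₂ ∈ membersIn S (A ⊔ D), C₁ ≠ C₂ → D₁ ≠ D₂ →
        ∃ x ∈ ⨆ E ∈ normalizingMembers S (A ⊔ D), E, conjBy C₁ x = D₁ ∧ conjBy C₂ x = D₂ := by
  obtain ⟨P', F', P'', F'', -, -, hne, hpiv1, hpiv2⟩ := h.two_pivots hA hD
  exact two_transitive h.hS hpiv1 hpiv2 hne

theorem iSup_normalizing_le {N : Subgroup G} :
    (⨆ E ∈ normalizingMembers S N, E) ≤ Subgroup.normalizer (N : Set G) :=
  iSup₂_le (fun _ hE => hE.2)

/-- Any two different members of a line through `A` generate the line. -/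
theorem sup_eq_of_ne (h : NDClass S) {A D : Subgroup G} (hA : A ∈ S) (hD : D ∈ linePartners S A)
    {P Q : Subgroup G} (hP : P ∈ membersIn S (A ⊔ D)) (hQ : Q ∈ membersIn S (A ⊔ D))
    (hPQ : P ≠ Q) : P ⊔ Q = A ⊔ D := by
  obtain ⟨x, hx, e1, e2⟩ := h.line_two_transitive hA hD A ⟨hA, le_sup_left⟩ D
    ⟨hD.1.1, le_sup_right⟩ P hP Q hQ hD.1.2.1.symm hPQ
  rw [← e1, ← e2, ← conjBy_sup]
  exact conjBy_eq_self_iff.2 (iSup_normalizing_le hx)

/-- Every member `≠ A` of a line through `A` is a line partner of `A`. -/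
theorem mem_linePartners (h : NDClass S) {A D : Subgroup G} (hA : A ∈ S)
    (hD : D ∈ linePartners S A) {Q : Subgroup G} (hQ : Q ∈ membersIn S (A ⊔ D)) (hQA : Q ≠ A) :
    Q ∈ linePartners S A := by
  have hN := h.line_of_linePartner hA hD
  have hcm : Cm A Q := hN.cm ⟨hA, le_sup_left⟩ hQ
  refine ⟨⟨hQ.1, hQA, Cm_iff_commutator.1 hcm⟩, ?_⟩
  rw [h.sup_eq_of_ne hA hD ⟨hA, le_sup_left⟩ hQ hQA.symm]
  exact hD.2

/-- `A ≤ ⟨Λ_A⟩`. -/
theorem le_iSup_linePartners (h : NDClass S) {A : Subgroup G} (hA : A ∈ S) :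
    A ≤ ⨆ C ∈ linePartners S A, C := by
  obtain ⟨D, hD⟩ := h.exists_linePartner hA
  have hN := h.line_of_linePartner hA hD
  obtain ⟨d, hd, hd1⟩ := exists_ne_one_of_mem h.hS hD.1.1
  have hDM : D ≤ ⨆ C ∈ linePartners S A, C :=
    le_iSup₂ (f := fun C (_ : C ∈ linePartners S A) => C) D hD
  obtain ⟨E, hES, hAE⟩ := h.exists_partner A hA
  intro a ha
  by_cases ha1 : a = 1
  · rw [ha1]; exact Subgroup.one_mem _
  have had : a * d ∈ A ⊔ D :=
    Subgroup.mul_mem _ (Subgroup.mem_sup_left ha) (Subgroup.mem_sup_right hd)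
  have had1 : a * d ≠ 1 := by
    intro h1
    apply hD.1.2.1
    have h2 : a = d⁻¹ := eq_inv_of_mul_eq_one_left h1
    have h3 : d⁻¹ ∈ A := h2 ▸ ha
    exact (Cfsg.Agent.S5028.core h.hS hA hES hD.1.1 hAE h3 (D.inv_mem hd)
      (fun hh => hd1 (inv_eq_one.1 hh))).symm
  obtain ⟨Q, hQ, hadQ⟩ := hN.part.2.1 _ had had1
  have hQA : Q ≠ A := by
    intro h1
    apply hD.1.2.1
    have h3 : d ∈ A := by
      have : d = a⁻¹ * (a * d) := by group
      rw [this]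
      exact A.mul_mem (A.inv_mem ha) (h1 ▸ hadQ)
    exact (Cfsg.Agent.S5028.core h.hS hA hES hD.1.1 hAE h3 hd hd1).symm
  have hQM : Q ≤ ⨆ C ∈ linePartners S A, C :=
    le_iSup₂ (f := fun C (_ : C ∈ linePartners S A) => C) Q (h.mem_linePartners hA hD hQ hQA)
  have : a = (a * d) * d⁻¹ := by group
  rw [this]
  exact Subgroup.mul_mem _ (hQM hadQ) (Subgroup.inv_mem _ (hDM hd))

/-- **`G = ⟨Λ_A, B⟩`.** -/
theorem generation (h : NDClass S) {A B : Subgroup G} (hA : A ∈ S) (hB : B ∈ S)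
    (hAB : IsRankOnePair A B) : (⨆ C ∈ linePartners S A, C) ⊔ B = ⊤ := by
  obtain ⟨R, hRdef⟩ : ∃ R, R = (⨆ C ∈ linePartners S A, C) ⊔ B := ⟨_, rfl⟩
  rw [← hRdef]
  have hΛR : ∀ C ∈ linePartners S A, C ≤ R := by
    intro C hC
    rw [hRdef]
    exact le_sup_of_le_left (le_iSup₂ (f := fun C (_ : C ∈ linePartners S A) => C) C hC)
  have hBR : B ≤ R := by rw [hRdef]; exact le_sup_right
  have hAR : A ≤ R := by
    rw [hRdef]; exact le_sup_of_le_left (h.le_iSup_linePartners hA)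
  -- Step 4: line partners of `A` are `R`-conjugates of `A`
  have step4 : ∀ D ∈ linePartners S A, ∃ r ∈ R, D = conjBy A r := by
    intro D hD
    have hN := h.line_of_linePartner hA hD
    have hAm : A ∈ membersIn S (A ⊔ D) := ⟨hA, le_sup_left⟩
    have hDm : D ∈ membersIn S (A ⊔ D) := ⟨hD.1.1, le_sup_right⟩
    have hall' : ∀ P ∈ membersIn S (A ⊔ D), ∃ E ∈ S, IsRankOnePair P E :=
      fun P hP => h.exists_partner P hP.1
    obtain ⟨C', hC'A, hN1, hcc, hpiv1⟩ :=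
      exists_pivot h.hS hN hAm hDm hD.1.2.1.symm rfl hB hAB hall'
    have hC'R : C' ≤ R := hΛR C' (h.mem_linePartners hA hD hpiv1.memQ hC'A)
    have hF'R : ⁅C', B⁆ ≤ R := by
      rw [Subgroup.commutator_le]
      intro c hc b hb
      rw [commutatorElement_def]
      exact R.mul_mem (R.mul_mem (R.mul_mem (hC'R hc) (hBR hb)) (R.inv_mem (hC'R hc)))
        (R.inv_mem (hBR hb))
    by_cases hDC : D = C'
    · obtain ⟨E₂, hE₂S, hPE₂⟩ := h.exists_partner C' hpiv1.memQ.1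
      have hN2 : A ⊔ D = C' ⊔ A := by rw [hN1, sup_comm]
      obtain ⟨C₂, hC₂C', -, hcc₂, hpiv2⟩ :=
        exists_pivot h.hS hN hpiv1.memQ hAm hC'A hN2 hE₂S hPE₂ hall'
      obtain ⟨x, hx, e1, -⟩ := two_transitive h.hS hpiv1 hpiv2 hC₂C'.symm C₂ hpiv2.memQ C'
        hpiv1.memQ A hAm C' hpiv1.memQ hC₂C' hC'A.symm
      have hxn : x ∈ Subgroup.normalizer ((A ⊔ D : Subgroup G) : Set G) := iSup_normalizing_le hx
      have hpivA := hpiv2.conj h.hS hxn
      rw [e1] at hpivA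
      have hFA : conjBy ⁅C₂, E₂⁆ x ∈ linePartners S A := by
        have := linePartners_conj h.hS (h.comm_linePartner hpiv2.memQ.1 hE₂S hcc₂) x
        rwa [e1] at this
      have hFAR := hΛR _ hFA
      obtain ⟨Q₁, hQ₁, Q₂, hQ₂, n1, n2, n12⟩ := hpivA.two
      obtain ⟨Q, hQ, nQA, nQC⟩ : ∃ Q ∈ membersIn S (A ⊔ D), Q ≠ A ∧ Q ≠ C' := by
        by_cases hh : Q₁ = C'
        · exact ⟨Q₂, hQ₂, n2, fun h' => n12 (hh.trans h'.symm)⟩
        · exact ⟨Q₁, hQ₁, n1, hh⟩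
      obtain ⟨fA, hfA, efA⟩ := hpivA.trans C' hpiv1.memQ Q hQ hC'A nQA
      have hfAn : fA ∈ Subgroup.normalizer ((A ⊔ D : Subgroup G) : Set G) := hpivA.memF.2 hfA
      have hpivQ := hpiv1.conj h.hS hfAn
      rw [efA] at hpivQ
      obtain ⟨f, hf, ef⟩ := hpivQ.trans A hAm D hDm nQA.symm (by rw [hDC]; exact nQC.symm)
      exact ⟨f, conjBy_le_of_le hF'R (hFAR hfA) hf, ef.symm⟩
    · obtain ⟨f, hf, ef⟩ := hpiv1.trans A hAm D hDm hC'A.symm hDC
      exact ⟨f, hF'R hf, ef.symm⟩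
  -- Step 5: everything 𝓔-connected to `A` is an `R`-conjugate of `A`
  have step5 : ∀ P, Relation.ReflTransGen (EAdj S S) A P → ∃ r ∈ R, P = conjBy A r := by
    intro P hP
    induction hP with
    | refl => exact ⟨1, R.one_mem, (conjBy_one A).symm⟩
    | tail _ hPQ ih =>
      obtain ⟨r, hr, rfl⟩ := ih
      have h1 := linePartners_conj h.hS hPQ.2.2 r⁻¹
      rw [conjBy_inv_conjBy] at h1
      obtain ⟨r', hr', e⟩ := step4 _ h1
      refine ⟨r * r', R.mul_mem hr hr', ?_⟩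
      rw [← conjBy_conjBy, ← e, conjBy_conjBy_inv]
  rw [eq_top_iff, ← h.hS.generates]
  apply iSup₂_le
  intro P hP
  obtain ⟨r, hr, rfl⟩ := step5 P (h.econn A hA P hP)
  exact conjBy_le_of_le hAR hr

end Cfsg.Agent.Lib.H6.Tim2N.NDClass
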