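import Mathlib
import Cfsg.Prelude.Def_RootSubgroups
import Cfsg.Agent.Lib.H6.Tim2G

set_option autoImplicit false

/-! Timmesfeld II §2: weak TI-subsets of a non-degenerate class of abstract root subgroups are
abelian. -/

open Cfsg Cfsg.Agent.Lib.H25 Cfsg.Agent.Lib.H6.FConn Cfsg.Agent.Lib.H6.Tim211
  Cfsg.Agent.Lib.H6.NatMod Cfsg.Agent.Lib.H6.Tim2L Cfsg.Agent.Lib.H6.Tim2N
  Cfsg.Agent.Lib.H6.Tim2G
open scoped commutatorElement

namespace Cfsg.Agent.Lib.H6.Tim2W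

variable {G : Type*} [Group G] {S Δ : Set (Subgroup G)}

/-- The stabilizer of a family of subgroups under conjugation. -/
def stab (Δ : Set (Subgroup G)) : Subgroup G where
  carrier := {g | ∀ A ∈ Δ, conjBy A g ∈ Δ ∧ conjBy A g⁻¹ ∈ Δ}
  one_mem' := by
    intro A hA
    rw [inv_one, conjBy_one]
    exact ⟨hA, hA⟩
  mul_mem' := by
    intro g k hg hk A hA
    constructor
    · rw [← conjBy_conjBy]
      exact (hg _ (hk A hA).1).1
    · rw [mul_inv_rev, ← conjBy_conjBy]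
      exact (hk _ (hg A hA).2).2
  inv_mem' := by
    intro g hg A hA
    rw [inv_inv]
    exact ⟨(hg A hA).2, (hg A hA).1⟩

theorem mem_stab {g : G} : g ∈ stab Δ ↔ ∀ A ∈ Δ, conjBy A g ∈ Δ ∧ conjBy A g⁻¹ ∈ Δ := Iff.rfl

theorem conjBy_mem_of_mem_stab {g : G} (hg : g ∈ stab Δ) {A : Subgroup G} (hA : A ∈ Δ) :
    conjBy A g ∈ Δ := (hg A hA).1

/-- A root element moving one member of a weak TI-subset into it stabilizes it. -/
theorem mem_stab_of_fix (hΔ : IsWeakTISubset S Δ) {d : G} (hd : d ∈ rootElements S)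
    {A : Subgroup G} (hA : A ∈ Δ) (hAd : conjBy A d ∈ Δ) : d ∈ stab Δ := by
  rcases hΔ.2.2.2 d hd with h | h
  · intro P hP
    constructor
    · rw [← h]
      exact ⟨P, hP, rfl⟩
    · have hP' : P ∈ (fun A => conjBy A d) '' Δ := by rw [h]; exact hP
      obtain ⟨Q, hQ, rfl⟩ := hP'
      show conjBy (conjBy Q d) d⁻¹ ∈ Δ
      rw [conjBy_inv_conjBy]
      exact hQ
  · exact absurd hAd (Set.disjoint_left.1 h ⟨A, hA, rfl⟩)

/-- A member of `S` commuting with a member of a weak TI-subset lies in its stabilizer. -/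
theorem le_stab_of_cm (hΔ : IsWeakTISubset S Δ) {E A : Subgroup G} (hE : E ∈ S) (hA : A ∈ Δ)
    (hcm : Cm A E) : E ≤ stab Δ := by
  intro e he
  by_cases he1 : e = 1
  · rw [he1]; exact Subgroup.one_mem _
  have hfix : conjBy A e = A := by
    rw [conjBy_eq_self_iff]
    apply Subgroup.centralizer_le_normalizer
    rw [Subgroup.mem_centralizer_iff]
    intro a ha
    exact hcm a ha e he
  apply mem_stab_of_fix hΔ ⟨he1, E, hE, he⟩ hA
  rw [hfix]
  exact hA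

/-- Case I: a weak TI-subset contains no rank one pair. -/
theorem no_rankOne (h : NDClass S) (hΔ : IsWeakTISubset S Δ) {A B : Subgroup G} (hA : A ∈ Δ)
    (hB : B ∈ Δ) (hAB : IsRankOnePair A B) : False := by
  have hAS := hΔ.1 hA
  have hBS := hΔ.1 hB
  have htop : stab Δ = ⊤ := by
    rw [eq_top_iff, ← h.generation hAS hBS hAB]
    apply sup_le
    · apply iSup₂_le
      intro C hC
      exact le_stab_of_cm hΔ hC.1.1 hA (Cm_iff_commutator.2 hC.1.2.2)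
    · exact le_stab_of_cm hΔ hBS hB (h.cm_self hBS)
  apply hΔ.2.2.1
  apply Set.Subset.antisymm hΔ.1
  intro P hP
  obtain ⟨g, rfl⟩ := h.hcl.2 A hAS P hP
  have hg : g ∈ stab Δ := by rw [htop]; exact Subgroup.mem_top g
  exact conjBy_mem_of_mem_stab hg hA

/-- Case II: a weak TI-subset contains no pair in the commutator case. -/
theorem no_commutatorCase (h : NDClass S) (hΔ : IsWeakTISubset S Δ) {A B : Subgroup G}
    (hA : A ∈ Δ) (hB : B ∈ Δ) (hcc : RootCommutatorCase S A B) : False := by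
  have hAS := hΔ.1 hA
  have hBS := hΔ.1 hB
  have hC₀S : ⁅A, B⁆ ∈ S := hcc.1
  have hni : ¬ IsIsolatedIn (FAdj S) S A := h.not_isolated hAS
  obtain ⟨hmem, -, hAlp, -⟩ := Cfsg.Agent.S5029.result h.hS hni hAS hBS hcc.1
  have hN : Line S (⁅A, B⁆ ⊔ A) := h.line_of_linePartner hC₀S hAlp
  obtain ⟨E, hES, hC₀E⟩ := h.exists_partner _ hC₀S
  have hall : ∀ P ∈ membersIn S (⁅A, B⁆ ⊔ A), ∃ E ∈ S, IsRankOnePair P E :=
    fun P hP => h.exists_partner P hP.1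
  obtain ⟨P, hP, hPC₀, hccPE, -, hback, -, -, -⟩ :=
    key h.hS hN ⟨hC₀S, le_sup_left⟩ ⟨hAS, le_sup_right⟩ hAlp.1.2.1.symm hES hC₀E hall
  have hP' : P ∈ membersIn S (A ⊔ ⁅A, B⁆) := by rw [sup_comm]; exact hP
  rw [hmem] at hP'
  rcases hP' with ⟨b, hb, rfl⟩ | hP'
  swap
  · exact hPC₀ hP'
  have hFS : ⁅conjBy A b, E⁆ ∈ S := hccPE.1
  have hD'S : conjBy ⁅conjBy A b, E⁆ b⁻¹ ∈ S := h.hS.conj_mem _ hFS _
  have hC₀b : conjBy ⁅A, B⁆ b⁻¹ = ⁅A, B⁆ := by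
    rw [conjBy_eq_self_iff]
    apply Subgroup.centralizer_le_normalizer
    apply Subgroup.inv_mem
    rw [Subgroup.mem_centralizer_iff]
    intro c hc
    exact hcc.2.1 c hc b (Subgroup.mem_sup_right hb)
  have hcomm : ⁅⁅A, B⁆, conjBy ⁅conjBy A b, E⁆ b⁻¹⁆ = A := by
    have e : ⁅conjBy ⁅A, B⁆ b⁻¹, conjBy ⁅conjBy A b, E⁆ b⁻¹⁆
        = conjBy ⁅⁅A, B⁆, ⁅conjBy A b, E⁆⁆ b⁻¹ := (Subgroup.map_commutator _ _ _).symm
    rw [hC₀b, hback, conjBy_inv_conjBy] at e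
    exact e
  have hcfg : Cfg S A B ⁅A, B⁆ (conjBy ⁅conjBy A b, E⁆ b⁻¹) :=
    ⟨h.hS, hAS, hBS, hC₀S, hD'S, rfl, by rw [Subgroup.commutator_comm]; exact hcomm⟩
  have hBD' := hcfg.rankOne_BD
  have hD'st : conjBy ⁅conjBy A b, E⁆ b⁻¹ ≤ stab Δ :=
    le_stab_of_cm hΔ hD'S hA (fun a ha d hd => hcfg.comm_AD ha hd)
  have hBst : B ≤ stab Δ := le_stab_of_cm hΔ hBS hB (h.cm_self hBS)
  obtain ⟨x, hx, hxe⟩ := RankOne.exists_conj_eq_right hBD'
  have hxst : x ∈ stab Δ := (sup_le hBst hD'st) hx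
  have hD'Δ : conjBy ⁅conjBy A b, E⁆ b⁻¹ ∈ Δ := by
    rw [hxe]
    exact conjBy_mem_of_mem_stab hxst hB
  exact no_rankOne h hΔ hB hD'Δ hBD'

/-- **A weak TI-subset of a non-degenerate class of abstract root subgroups is abelian.** -/
theorem abelian (h : NDClass S) (hΔ : IsWeakTISubset S Δ) : IsAbelianFamily Δ := by
  intro A hA B hB a ha b hb
  rcases h.hS.pair A (hΔ.1 hA) B (hΔ.1 hB) with h0 | h1 | h2
  · exact (Cm_iff_commutator.2 h0) a ha b hb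
  · exact (no_rankOne h hΔ hA hB h1).elim
  · exact (no_commutatorCase h hΔ hA hB h2).elim

end Cfsg.Agent.Lib.H6.Tim2W
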