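import Mathlib
import Cfsg.Prelude.Def_RootSubgroups
import Cfsg.Agent.Lib.H6.Tim2W

set_option autoImplicit false

/-! Timmesfeld II §2: the preorder `C_Σ(A) ⊆ C_Σ(C)` on a class of abstract root subgroups is
symmetric; `Ω_A ⊆ Ω_C` forces `[A, C] = 1` and `Ω_A = Ω_C`. -/

open Cfsg Cfsg.Agent.Lib.H25 Cfsg.Agent.Lib.H6.FConn Cfsg.Agent.Lib.H6.Tim211
  Cfsg.Agent.Lib.H6.NatMod Cfsg.Agent.Lib.H6.Tim2L Cfsg.Agent.Lib.H6.Tim2N
  Cfsg.Agent.Lib.H6.Tim2G
open scoped commutatorElement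

namespace Cfsg.Agent.Lib.H6.Tim2P

variable {G : Type*} [Group G] {S : Set (Subgroup G)}

/-- In a non-degenerate class, a commutator case pair `(A, B)` extends to a natural module
configuration: some `D'` has `⁅D', ⁅A, B⁆⁆ = A`. -/
theorem exists_cfg (h : NDClass S) {A B : Subgroup G} (hAS : A ∈ S) (hBS : B ∈ S)
    (hcc : RootCommutatorCase S A B) : ∃ D', Cfg S A B ⁅A, B⁆ D' := by
  have hC₀S : ⁅A, B⁆ ∈ S := hcc.1
  have hni : ¬ IsIsolatedIn (FAdj S) S A := h.not_isolated hAS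
  obtain ⟨hmem, -, hAlp, -⟩ := Cfsg.Agent.S5029.result h.hS hni hAS hBS hcc.1
  have hN : Line S (⁅A, B⁆ ⊔ A) := h.line_of_linePartner hC₀S hAlp
  obtain ⟨E, hES, hC₀E⟩ := h.exists_partner _ hC₀S
  have hall : ∀ P ∈ membersIn S (⁅A, B⁆ ⊔ A), ∃ E ∈ S, IsRankOnePair P E :=
    fun P hP => h.exists_partner P hP.1
  obtain ⟨P, hP, hPC₀, hccPE, -, hback, -, -, -⟩ :=
    key h.hS hN ⟨hC₀S, le_sup_left⟩ ⟨hAS, le_sup_right⟩ hAlp.1.2.1.symm hES hC₀E hall
  have hP' : P ∈ membersIn S (A ⊔ ⁅A, B⁆) := by rw [sup_comm]; exact hP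
  rw [hmem] at hP'
  rcases hP' with ⟨b, hb, rfl⟩ | hP'
  swap
  · exact absurd hP' hPC₀
  have hFS : ⁅conjBy A b, E⁆ ∈ S := hccPE.1
  have hD'S : conjBy ⁅conjBy A b, E⁆ b⁻¹ ∈ S := h.hS.conj_mem _ hFS _
  have hC₀b : conjBy ⁅A, B⁆ b⁻¹ = ⁅A, B⁆ := by
    rw [conjBy_eq_self_iff]
    apply Subgroup.centralizer_le_normalizer
    apply Subgroup.inv_mem
    rw [Subgroup.mem_centralizer_iff]
    intro c hc
    exact hcc.2.1 c hc b (Subgroup.mem_sup_right hb)
  have hcomm : ⁅⁅A, B⁆, conjBy ⁅conjBy A b, E⁆ b⁻¹⁆ = A := by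
    have e : ⁅conjBy ⁅A, B⁆ b⁻¹, conjBy ⁅conjBy A b, E⁆ b⁻¹⁆
        = conjBy ⁅⁅A, B⁆, ⁅conjBy A b, E⁆⁆ b⁻¹ := (Subgroup.map_commutator _ _ _).symm
    rw [hC₀b, hback, conjBy_inv_conjBy] at e
    exact e
  exact ⟨_, ⟨h.hS, hAS, hBS, hC₀S, hD'S, rfl, by rw [Subgroup.commutator_comm]; exact hcomm⟩⟩

/-- The preorder: every member of `S` commuting with `A` commutes with `C`. -/
def Le (S : Set (Subgroup G)) (A C : Subgroup G) : Prop := ∀ K ∈ S, Cm K A → Cm K C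

theorem mem_centralizingMembers {K A : Subgroup G} :
    K ∈ centralizingMembers S A ↔ K ∈ S ∧ Cm K A := by
  unfold centralizingMembers
  rw [Set.mem_setOf_eq, Cm_iff_le_centralizer]

theorem le_iff {A C : Subgroup G} :
    Le S A C ↔ centralizingMembers S A ⊆ centralizingMembers S C := by
  constructor
  · intro h K hK
    rw [mem_centralizingMembers] at hK ⊢
    exact ⟨hK.1, h K hK.1 hK.2⟩
  · intro h K hK hKA
    exact (mem_centralizingMembers.1 (h (mem_centralizingMembers.2 ⟨hK, hKA⟩))).2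

theorem Le.trans {A B C : Subgroup G} (h1 : Le S A B) (h2 : Le S B C) : Le S A C :=
  fun K hK hKA => h2 K hK (h1 K hK hKA)

theorem Le.conj (hS : IsRootSubgroupSet S) {A C : Subgroup G} (h : Le S A C) (g : G) :
    Le S (conjBy A g) (conjBy C g) := by
  intro K hK hKA
  have h1 : Cm (conjBy K g⁻¹) A := by
    have := hKA.conj g⁻¹
    rwa [conjBy_inv_conjBy] at this
  have h2 := (h _ (hS.conj_mem K hK g⁻¹) h1).conj g
  rwa [conjBy_conjBy_inv] at h2

theorem cm_self (hS : IsRootSubgroupSet S) {A : Subgroup G} (hA : A ∈ S) : Cm A A :=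
  fun x hx y hy => comm_of_isMulCommutative (hS.commutative A hA) hx hy

theorem Le.cm (hS : IsRootSubgroupSet S) {A C : Subgroup G} (h : Le S A C) (hA : A ∈ S) :
    Cm A C := h A hA (cm_self hS hA)

/-- The natural module contradiction: `(P, D)` in the commutator case, `C` a rank one partner
of `D` centralizing `P` and `⁅P, D⁆`. -/
theorem nm_false (hS : IsRootSubgroupSet S) {P D C : Subgroup G}
    (hcc : RootCommutatorCase S P D) (hCD : IsRankOnePair C D) (hCP : Cm C P)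
    (hCQ : Cm C ⁅P, D⁆) : False := by
  obtain ⟨c, hc, hc1⟩ := RankOne.exists_ne_one_left hCD
  obtain ⟨d, hd, -, e⟩ := hCD.cond_left c hc hc1
  -- `e : conjBy C d⁻¹ = conjBy D c⁻¹`
  have h1 : Cm (conjBy D c⁻¹) (conjBy P d⁻¹) := by
    have := hCP.conj d⁻¹
    rwa [e] at this
  have h2 : Cm D (conjBy (conjBy P d⁻¹) c) := by
    have := h1.conj c
    rwa [conjBy_conjBy_inv] at this
  apply hS.ne_bot _ hcc.1
  rw [← Cm_iff_commutator]
  intro p hp d₁ hd₁
  have hq : p⁻¹ * d⁻¹ * p * d ∈ ⁅P, D⁆ := by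
    have := Subgroup.commutator_mem_commutator (P.inv_mem hp) (D.inv_mem hd)
    rwa [commutatorElement_def, inv_inv, inv_inv] at this
  have hx : d⁻¹ * p * d ∈ conjBy (conjBy P d⁻¹) c := by
    rw [mem_conjBy, mem_conjBy, inv_inv]
    have hcp : c * p = p * c := hCP c hc p hp
    have hcq : c * (p⁻¹ * d⁻¹ * p * d) = (p⁻¹ * d⁻¹ * p * d) * c := hCQ c hc _ hq
    have hcx : c * (d⁻¹ * p * d) = (d⁻¹ * p * d) * c := by
      have e1 : d⁻¹ * p * d = p * (p⁻¹ * d⁻¹ * p * d) := by group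
      rw [e1, ← mul_assoc, hcp, mul_assoc, hcq, ← mul_assoc]
    have e2 : d * (c⁻¹ * (d⁻¹ * p * d) * c) * d⁻¹ = p := by
      have : c⁻¹ * (d⁻¹ * p * d) * c = d⁻¹ * p * d := by
        rw [mul_assoc, ← hcx, ← mul_assoc, inv_mul_cancel, one_mul]
      rw [this]; group
    rw [e2]; exact hp
  have h3 : d₁ * (d⁻¹ * p * d) = (d⁻¹ * p * d) * d₁ := h2 d₁ hd₁ _ hx
  have h4 : d₁ * (p⁻¹ * d⁻¹ * p * d) = (p⁻¹ * d⁻¹ * p * d) * d₁ :=
    (hcc.2.1 _ hq d₁ (Subgroup.mem_sup_right hd₁)).symm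
  have e3 : p = (d⁻¹ * p * d) * (p⁻¹ * d⁻¹ * p * d)⁻¹ := by group
  have h5 : d₁ * (p⁻¹ * d⁻¹ * p * d)⁻¹ = (p⁻¹ * d⁻¹ * p * d)⁻¹ * d₁ :=
    (Commute.inv_right (show Commute d₁ (p⁻¹ * d⁻¹ * p * d) from h4)).eq
  calc p * d₁ = (d⁻¹ * p * d) * (p⁻¹ * d⁻¹ * p * d)⁻¹ * d₁ := by rw [← e3]
    _ = (d⁻¹ * p * d) * (d₁ * (p⁻¹ * d⁻¹ * p * d)⁻¹) := by rw [h5, mul_assoc]
    _ = d₁ * ((d⁻¹ * p * d) * (p⁻¹ * d⁻¹ * p * d)⁻¹) := by
        rw [← mul_assoc, ← h3, mul_assoc]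
    _ = d₁ * p := by rw [← e3]

/-- **Symmetry of the preorder**, given a rank one partner `D` of `C`. -/
theorem le_symm_of_partner (hS : IsRootSubgroupSet S) {A C D : Subgroup G} (hA : A ∈ S)
    (hC : C ∈ S) (hD : D ∈ S) (hle : Le S A C) (hCD : IsRankOnePair C D) : Le S C A := by
  have hcmAC : Cm A C := hle.cm hS hA
  -- `(A, D)` is a rank one pair
  have hAD : IsRankOnePair A D := by
    rcases hS.pair A hA D hD with h0 | h1 | h2
    · exact absurd (hle D hD (Cm_iff_commutator.2 h0).symm).symm (rankOne_not_cm hCD)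
    · exact h1
    · exfalso
      have hF : Cm ⁅A, D⁆ A := fun f hf a ha => h2.2.1 f hf a (Subgroup.mem_sup_left ha)
      exact nm_false hS h2 hCD hcmAC.symm (hle _ h2.1 hF).symm
  obtain ⟨a, ha, ha1⟩ := exists_ne_one_of_mem hS hA
  obtain ⟨d, hd, hd1, e1⟩ := hAD.cond_left a ha ha1
  obtain ⟨c, hc, hc1, e2⟩ := hCD.cond_right d hd hd1
  have hI : Le S (conjBy D a⁻¹) (conjBy D c⁻¹) := by
    rw [← e1, e2]; exact hle.conj hS d⁻¹
  have ha1' : a⁻¹ ≠ 1 := fun hh => ha1 (inv_eq_one.1 hh)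
  obtain ⟨d', hd', hd'1, e3⟩ := hAD.cond_left a⁻¹ (A.inv_mem ha) ha1'
  rw [inv_inv] at e3
  obtain ⟨c', hc', hc'1, e4⟩ := hCD.cond_right d' hd' hd'1
  have hII : Le S (conjBy D a) (conjBy D c'⁻¹) := by
    rw [← e3, e4]; exact hle.conj hS d'⁻¹
  have hac : a * c = c * a := hcmAC a ha c hc
  have hI' : Le S (conjBy D c) (conjBy D a) := by
    have := hI.conj hS (a * c)
    rw [conjBy_conjBy, conjBy_conjBy] at this
    have e5 : a * c * a⁻¹ = c := by rw [hac, mul_assoc, mul_inv_cancel, mul_one]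
    have e6 : a * c * c⁻¹ = a := by rw [mul_assoc, mul_inv_cancel, mul_one]
    rwa [e5, e6] at this
  have hIII : Le S (conjBy D c) (conjBy D c'⁻¹) := hI'.trans hII
  have hcm : Cm (conjBy D c) (conjBy D c'⁻¹) := hIII.cm hS (hS.conj_mem D hD c)
  have hcc' : c' * c = 1 := by
    by_contra hne
    obtain ⟨d'', hd'', -, e7⟩ := hCD.cond_left (c' * c) (C.mul_mem hc' hc) hne
    have h1 : Cm D (conjBy D (c' * c)⁻¹) := by
      have := hcm.conj c⁻¹
      rw [conjBy_inv_conjBy, conjBy_conjBy, ← mul_inv_rev] at this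
      exact this
    rw [← e7] at h1
    have h2 := RankOne.isRankOnePair_conj hCD d''⁻¹
    rw [conjBy_of_mem (D.inv_mem hd'')] at h2
    exact rankOne_not_cm h2 h1.symm
  have hc'c : c'⁻¹ = c := inv_eq_of_mul_eq_one_right hcc'
  rw [hc'c] at e4
  have hfin : Le S (conjBy C d'⁻¹) (conjBy A d'⁻¹) := by
    rw [← e4, e3]; exact hI'
  have := hfin.conj hS d'
  rwa [conjBy_conjBy_inv, conjBy_conjBy_inv] at this

/-- **Symmetry of the preorder** on a class which is degenerate or non-degenerate. -/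
theorem le_symm (hS : IsRootSubgroupClass S)
    (hdn : IsDegenerateRootSet S ∨ IsNondegenerateRootSet S) {A C : Subgroup G} (hA : A ∈ S)
    (hC : C ∈ S) (hle : Le S A C) : Le S C A := by
  by_cases hex : ∃ D ∈ S, IsRankOnePair C D
  · obtain ⟨D, hD, hCD⟩ := hex
    exact le_symm_of_partner hS.1 hA hC hD hle hCD
  · -- no rank one pairs at all
    have hno : ∀ P ∈ S, ∀ Q ∈ S, ¬ IsRankOnePair P Q := by
      intro P hP Q hQ hPQ
      obtain ⟨g, hg⟩ := hS.2.2 P hP C hC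
      apply hex
      refine ⟨conjBy Q g, hS.1.conj_mem Q hQ g, ?_⟩
      rw [hg]
      exact RankOne.isRankOnePair_conj hPQ g
    rcases hdn with hdeg | hnd
    · intro K hK _
      rcases hS.1.pair K hK A hA with h0 | h1 | h2
      · exact Cm_iff_commutator.2 h0
      · exact absurd h1 (hno K hK A hA)
      · exact absurd h2 (hdeg K hK A hA)
    · obtain ⟨P, hP, Q, hQ, hPQ⟩ := hnd.2.1
      exact absurd hPQ (hno P hP Q hQ)

/-- S5037 (1). -/
theorem centralizingMembers_eq (hS : IsRootSubgroupClass S)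
    (hdn : IsDegenerateRootSet S ∨ IsNondegenerateRootSet S) {A C : Subgroup G} (hA : A ∈ S)
    (hC : C ∈ S) (h : centralizingMembers S A ⊆ centralizingMembers S C) :
    centralizingMembers S A = centralizingMembers S C :=
  Set.Subset.antisymm h (le_iff.1 (le_symm hS hdn hA hC (le_iff.2 h)))

/-- S5037 (2). -/
theorem rankOnePartners_eq (hS : IsRootSubgroupClass S)
    (hdn : IsDegenerateRootSet S ∨ IsNondegenerateRootSet S) {A C : Subgroup G} (hA : A ∈ S)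
    (hC : C ∈ S) (h : rankOnePartners S A ⊆ rankOnePartners S C) :
    ⁅A, C⁆ = ⊥ ∧ rankOnePartners S A = rankOnePartners S C := by
  have hnd_of : ∀ {P Q : Subgroup G}, P ∈ S → Q ∈ S → RootCommutatorCase S P Q → NDClass S := by
    intro P Q hP hQ hcc
    rcases hdn with hdeg | hnd
    · exact absurd hcc (hdeg P hP Q hQ)
    · exact NDClass.of hS hnd
  -- (2a)
  have hcmAC : Cm A C := by
    rcases hS.1.pair A hA C hC with h0 | h1 | h2
    · exact Cm_iff_commutator.2 h0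
    · exact absurd rfl (h ⟨hC, h1⟩).2.ne
    · exfalso
      have hN := hnd_of hA hC h2
      have hcc' : RootCommutatorCase S C A :=
        commutatorCase_of_mem hS.1 hC hA (by rw [Subgroup.commutator_comm]; exact h2.1)
      obtain ⟨D', hcfg⟩ := exists_cfg hN hC hA hcc'
      have h3 : IsRankOnePair C D' := (h ⟨hcfg.hD, hcfg.rankOne_BD⟩).2
      exact rankOne_not_cm h3 (fun c hc d hd => hcfg.comm_AD hc hd)
  -- (2b)
  have hleCA : Le S C A := by
    intro K hK hKC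
    rcases hS.1.pair A hA K hK with h0 | h1 | h2
    · exact (Cm_iff_commutator.2 h0).symm
    · exact absurd hKC.symm (rankOne_not_cm (h ⟨hK, h1⟩).2)
    · exfalso
      have hN := hnd_of hA hK h2
      have hcc' : RootCommutatorCase S K A :=
        commutatorCase_of_mem hS.1 hK hA (by rw [Subgroup.commutator_comm]; exact h2.1)
      obtain ⟨D', hcfg⟩ := exists_cfg hN hK hA hcc'
      have h3 : IsRankOnePair C D' := (h ⟨hcfg.hD, hcfg.rankOne_BD⟩).2
      have hcc'' : RootCommutatorCase S ⁅K, A⁆ D' :=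
        commutatorCase_of_mem hS.1 hcfg.hC hcfg.hD
          (by rw [Subgroup.commutator_comm, hcfg.hDC]; exact hK)
      have hCF : Cm C ⁅K, A⁆ := (Cm.commutator_left hKC hcmAC).symm
      have hCQ : Cm C ⁅⁅K, A⁆, D'⁆ := by
        rw [Subgroup.commutator_comm, hcfg.hDC]; exact hKC.symm
      exact nm_false hS.1 hcc'' h3 hCF hCQ
  -- (2c)
  have hleAC : Le S A C := le_symm hS hdn hC hA hleCA
  refine ⟨Cm_iff_commutator.1 hcmAC, Set.Subset.antisymm h ?_⟩
  -- (2d)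
  rintro B ⟨hB, hCB⟩
  refine ⟨hB, ?_⟩
  rcases hS.1.pair A hA B hB with h0 | h1 | h2
  · exact absurd (hleAC B hB (Cm_iff_commutator.2 h0).symm).symm (rankOne_not_cm hCB)
  · exact h1
  · exfalso
    have hF : Cm ⁅A, B⁆ A := fun f hf a ha => h2.2.1 f hf a (Subgroup.mem_sup_left ha)
    exact nm_false hS.1 h2 hCB hcmAC.symm (hleAC _ h2.1 hF).symm

end Cfsg.Agent.Lib.H6.Tim2P
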