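import Mathlib
import Cfsg.Prelude.Def_RootSubgroups
import Cfsg.Agent.Lib.H25.RootSubgroups

set_option autoImplicit false

/-! Special rank one groups with abelian unipotent subgroups (Timmesfeld I §2, §5):
the pairing `a ↦ b(a)`, the elements `μ_a = a b(a)⁻¹ a`, and `b(a^n)^n = b(a)`. -/

open Cfsg Cfsg.Agent.Lib.H25

namespace Cfsg.Agent.Lib.H6.SpR1

variable {G : Type*} [Group G]

/-- Right action of `g` on subgroups: `P^g = g⁻¹ P g`. -/
def act (P : Subgroup G) (g : G) : Subgroup G := conjBy P g⁻¹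

theorem act_def (P : Subgroup G) (g : G) : act P g = conjBy P g⁻¹ := rfl

theorem act_mul (P : Subgroup G) (g h : G) : act (act P g) h = act P (g * h) := by
  unfold act
  rw [conjBy_conjBy, mul_inv_rev]

theorem act_one (P : Subgroup G) : act P 1 = P := by
  unfold act
  rw [inv_one, conjBy_one]

theorem act_of_mem {P : Subgroup G} {g : G} (hg : g ∈ P) : act P g = P :=
  conjBy_of_mem (P.inv_mem hg)

theorem act_inj {P Q : Subgroup G} {g : G} (h : act P g = act Q g) : P = Q :=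
  conjBy_injective g⁻¹ h

theorem act_eq_iff {P Q : Subgroup G} {g : G} : act P g = Q ↔ P = act Q g⁻¹ := by
  constructor
  · intro h
    rw [← h, act_mul, mul_inv_cancel, act_one]
  · intro h
    rw [h, act_mul, inv_mul_cancel, act_one]

theorem mem_act {P : Subgroup G} {g x : G} : x ∈ act P g ↔ g * x * g⁻¹ ∈ P := by
  unfold act
  rw [mem_conjBy, inv_inv]

/-- The pairing relation `A^b = B^a` between non-identity elements. -/
structure Rel (A B : Subgroup G) (a b : G) : Prop where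
  ha : a ∈ A
  ha1 : a ≠ 1
  hb : b ∈ B
  hb1 : b ≠ 1
  eq : act A b = act B a

/-- A special rank one pair with abelian unipotent subgroups. -/
structure SpAb (A B : Subgroup G) : Prop where
  rk : IsRankOnePair A B
  sp : ∀ a b, Rel A B a b → b⁻¹ * a * b = a⁻¹ * b⁻¹ * a
  cA : ∀ x ∈ A, ∀ y ∈ A, x * y = y * x
  cB : ∀ x ∈ B, ∀ y ∈ B, x * y = y * x

theorem SpAb.of {A B : Subgroup G} (hs : IsSpecialRankOnePair A B)
    (hab : HasAbelianUnipotents A B) : SpAb A B :=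
  ⟨hs.1, fun a b h => hs.2 a h.ha h.ha1 b h.hb h.hb1 h.eq,
    fun _ hx _ hy => comm_of_isMulCommutative hab.1 hx hy,
    fun _ hx _ hy => comm_of_isMulCommutative hab.2 hx hy⟩

variable {A B : Subgroup G}

theorem Rel.swap {a b : G} (h : Rel A B a b) : Rel B A b a :=
  ⟨h.hb, h.hb1, h.ha, h.ha1, h.eq.symm⟩

theorem Rel.exists_right (hr : IsRankOnePair A B) {a : G} (ha : a ∈ A) (ha1 : a ≠ 1) :
    ∃ b, Rel A B a b := by
  obtain ⟨b, hb, hb1, hE⟩ := hr.cond_left a ha ha1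
  exact ⟨b, ha, ha1, hb, hb1, hE⟩

theorem Rel.exists_left (hr : IsRankOnePair A B) {b : G} (hb : b ∈ B) (hb1 : b ≠ 1) :
    ∃ a, Rel A B a b := by
  obtain ⟨a, ha, ha1, hE⟩ := RankOne.exists_left hr hb hb1
  exact ⟨a, ha, ha1, hb, hb1, hE⟩

theorem Rel.right_unique (hr : IsRankOnePair A B) {a b b' : G} (h : Rel A B a b)
    (h' : Rel A B a b') : b = b' :=
  RankOne.partner_unique hr h.hb h'.hb h.eq h'.eq

theorem Rel.left_unique (hr : IsRankOnePair A B) {a a' b : G} (h : Rel A B a b)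
    (h' : Rel A B a' b) : a = a' :=
  RankOne.left_unique hr h.ha h'.ha h.eq.symm h'.eq.symm

/-- `A^b = B^a` with `a ∈ A`, `b ∈ B` forces both to be non-identity. -/
theorem Rel.of_eq (hr : IsRankOnePair A B) {a b : G} (ha : a ∈ A) (hb : b ∈ B)
    (h : act A b = act B a) : Rel A B a b := by
  refine ⟨ha, ?_, hb, ?_, h⟩
  · rintro rfl
    rw [act_one] at h
    apply hr.ne
    rw [act_eq_iff] at h
    rw [h, act_of_mem (B.inv_mem hb)]
  · rintro rfl
    rw [act_one] at h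
    apply hr.ne
    have h2 := act_eq_iff.1 h.symm
    rw [act_of_mem (A.inv_mem ha)] at h2
    exact h2.symm

namespace SpAb

/-- The braid relation. -/
theorem braid (h : SpAb A B) {a b : G} (hr : Rel A B a b) : a * b⁻¹ * a = b⁻¹ * a * b⁻¹ := by
  have := h.sp a b hr
  have e : a * b⁻¹ * a = a * (b⁻¹ * a * b) * b⁻¹ := by group
  rw [e, this]; group

/-- The symmetric special relation. -/
theorem sp' (h : SpAb A B) {a b : G} (hr : Rel A B a b) : a⁻¹ * b * a = b⁻¹ * a⁻¹ * b := by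
  have h1 := h.braid hr
  have h2 : a⁻¹ * b * a⁻¹ = b * a⁻¹ * b := by
    have := congrArg (fun t => t⁻¹) h1
    simp only [mul_inv_rev, inv_inv] at this
    rw [← mul_assoc, ← mul_assoc] at this
    exact this
  have e : a⁻¹ * b * a = b⁻¹ * (b * a⁻¹ * b) * a := by group
  rw [e, ← h2]; group

theorem symm (h : SpAb A B) : SpAb B A :=
  ⟨RankOnePair_symm h.rk, fun _ _ hr => h.sp' hr.swap, h.cB, h.cA⟩

/-- Distinct unipotent subgroups meet trivially. -/
theorem eq_of_mem_unipotent (h : SpAb A B) {C₁ C₂ : Subgroup G}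
    (h1 : C₁ ∈ unipotentSubgroups A B) (h2 : C₂ ∈ unipotentSubgroups A B) {x : G}
    (hx1 : x ∈ C₁) (hx2 : x ∈ C₂) (hx : x ≠ 1) : C₁ = C₂ := by
  by_contra hne
  have hp := RankOne.isRankOnePair_of_mem h.rk h1 h2 hne
  exact hx (RankOne.eq_one_of_mem_normalizer hp hx1 (Subgroup.le_normalizer hx2))

/-- `b(a⁻¹) = b(a)⁻¹`. -/
theorem rel_inv (h : SpAb A B) {a b : G} (hr : Rel A B a b) : Rel A B a⁻¹ b⁻¹ := by
  refine ⟨A.inv_mem hr.ha, fun hh => hr.ha1 (inv_eq_one.1 hh), B.inv_mem hr.hb,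
    fun hh => hr.hb1 (inv_eq_one.1 hh), ?_⟩
  have hbr := h.braid hr
  have e : b * a * b⁻¹ = a * b⁻¹ * a⁻¹ := by
    have : b * a * b⁻¹ = b * (a * b⁻¹ * a) * a⁻¹ := by group
    rw [this, hbr]; group
  have hx1 : b * a * b⁻¹ ∈ act A b⁻¹ := by
    rw [mem_act, inv_inv]
    have : b⁻¹ * (b * a * b⁻¹) * b = a := by group
    rw [this]; exact hr.ha
  have hx2 : b * a * b⁻¹ ∈ act B a⁻¹ := by
    rw [e, mem_act, inv_inv]
    have : a⁻¹ * (a * b⁻¹ * a⁻¹) * a = b⁻¹ := by group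
    rw [this]; exact B.inv_mem hr.hb
  have hne : b * a * b⁻¹ ≠ 1 := by
    intro hh
    apply hr.ha1
    have := congrArg (fun t => b⁻¹ * t * b) hh
    simpa [mul_assoc] using this
  have hu1 : act A b⁻¹ ∈ unipotentSubgroups A B :=
    ⟨b, Subgroup.mem_sup_right hr.hb, by rw [act_def, inv_inv]⟩
  have hu2 : act B a⁻¹ ∈ unipotentSubgroups A B := by
    have := RankOne.unipotentSubgroups_conj (RankOne.right_mem_unipotentSubgroups h.rk)
      (Subgroup.mem_sup_left hr.ha : a ∈ A ⊔ B)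
    rwa [act_def, inv_inv]
  exact h.eq_of_mem_unipotent hu1 hu2 hx1 hx2 hne

/-- `μ_a = a b(a)⁻¹ a`. -/
def mu (a b : G) : G := a * b⁻¹ * a

theorem mu_eq (h : SpAb A B) {a b : G} (hr : Rel A B a b) : mu a b = b⁻¹ * a * b⁻¹ := h.braid hr

theorem act_B_mu (_h : SpAb A B) {a b : G} (hr : Rel A B a b) : act B (mu a b) = A := by
  unfold mu
  rw [← act_mul B (a * b⁻¹) a, ← act_mul B a b⁻¹, ← hr.eq, act_mul A b b⁻¹, mul_inv_cancel,
    act_one, act_of_mem hr.ha]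

theorem act_A_mu (h : SpAb A B) {a b : G} (hr : Rel A B a b) : act A (mu a b) = B := by
  rw [h.mu_eq hr, ← act_mul A (b⁻¹ * a) b⁻¹, ← act_mul A b⁻¹ a, (h.rel_inv hr).eq,
    act_mul B a⁻¹ a, inv_mul_cancel, act_one, act_of_mem (B.inv_mem hr.hb)]

theorem mu_conj_a (h : SpAb A B) {a b : G} (hr : Rel A B a b) :
    (mu a b)⁻¹ * a * mu a b = b⁻¹ := by
  calc (mu a b)⁻¹ * a * mu a b = (a * b⁻¹ * a)⁻¹ * a * mu a b := rfl
    _ = (a * b⁻¹ * a)⁻¹ * a * (b⁻¹ * a * b⁻¹) := by rw [h.mu_eq hr]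
    _ = b⁻¹ := by group

theorem mu_conj_b (h : SpAb A B) {a b : G} (hr : Rel A B a b) :
    (mu a b)⁻¹ * b * mu a b = a⁻¹ := by
  calc (mu a b)⁻¹ * b * mu a b = (a * b⁻¹ * a)⁻¹ * b * mu a b := rfl
    _ = (a * b⁻¹ * a)⁻¹ * b * (b⁻¹ * a * b⁻¹) := by rw [h.mu_eq hr]
    _ = a⁻¹ := by group

theorem mu_conj_pow (h : SpAb A B) {a b : G} (hr : Rel A B a b) (k : ℕ) :
    (mu a b)⁻¹ * a ^ k * mu a b = (b⁻¹) ^ k := by
  have := conj_pow (a := (mu a b)⁻¹) (b := a) (i := k)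
  rw [inv_inv] at this
  rw [← this, h.mu_conj_a hr]

theorem pow_eq_one_iff (h : SpAb A B) {a b : G} (hr : Rel A B a b) (k : ℕ) :
    a ^ k = 1 ↔ b ^ k = 1 := by
  have h1 := h.mu_conj_pow hr k
  constructor
  · intro hh
    rw [hh, mul_one, inv_mul_cancel, inv_pow] at h1
    exact inv_eq_one.1 h1.symm
  · intro hh
    rw [inv_pow, hh, inv_one] at h1
    have := congrArg (fun t => mu a b * t * (mu a b)⁻¹) h1
    simpa [mul_assoc] using this

theorem orderOf_eq (h : SpAb A B) {a b : G} (hr : Rel A B a b) : orderOf a = orderOf b :=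
  orderOf_eq_orderOf_iff.2 (fun k => h.pow_eq_one_iff hr k)

/-- The key identity. -/
theorem key_identity (h : SpAb A B) {a b : G} (hr : Rel A B a b) (k : ℕ) :
    act B (a ^ (k + 1) * b⁻¹) = act A ((b⁻¹) ^ k * a⁻¹) := by
  have e : a ^ (k + 1) * b⁻¹ = mu a b * ((b⁻¹) ^ k * a⁻¹) := by
    rw [← h.mu_conj_pow hr k]
    unfold mu
    rw [pow_succ]
    group
  rw [e, ← act_mul, h.act_B_mu hr]

/-- `a` is `n`-good. -/
def Good (n : ℕ) (a : G) : Prop :=
  ∀ j : ℕ, 0 < j → (∀ p : ℕ, p.Prime → p ∣ j → p < n) → a ^ (n * j) ≠ 1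

theorem good_of_not_isOfFinOrder {a : G} (ha : ¬ IsOfFinOrder a) {n : ℕ} (hn : 0 < n) :
    Good n a := by
  intro j hj _ hh
  exact ha (isOfFinOrder_iff_pow_eq_one.2 ⟨n * j, Nat.mul_pos hn hj, hh⟩)

/-- **`b(a^n)^n = b(a)`.** -/
theorem pow_rel : ∀ n : ℕ, 0 < n → ∀ {A B : Subgroup G}, SpAb A B → ∀ {a b c : G},
    Rel A B a b → Rel A B (a ^ n) c → Good n a → c ^ n = b := by
  intro n hn
  induction n, hn using Nat.le_induction with
  | base =>
    intro A B h a b c hr hc _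
    rw [pow_one] at hc ⊢
    exact Rel.right_unique h.rk hc hr
  | succ k hk IH =>
    intro A B h a b γ hr hγ hg
    have hk0 : 0 < k := hk
    have hak : a ^ k ≠ 1 := by
      intro hh
      apply hg k hk0 (fun p _ hpk => Nat.lt_succ_of_le (Nat.le_of_dvd hk0 hpk))
      rw [mul_comm, pow_mul, hh, one_pow]
    have hbk : (b⁻¹) ^ k ≠ 1 := by
      intro hh
      apply hak
      rw [h.pow_eq_one_iff hr]
      rw [inv_pow] at hh
      exact inv_eq_one.1 hh
    obtain ⟨y, hy⟩ := Rel.exists_left h.rk (B.pow_mem (B.inv_mem hr.hb) k) hbk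
    have hgood_b : Good k b⁻¹ := by
      intro j hj hsm hh
      rw [inv_pow] at hh
      have h1 : b ^ (k * j) = 1 := inv_eq_one.1 hh
      have h2 : a ^ (k * j) = 1 := (h.pow_eq_one_iff hr _).2 h1
      apply hg (k * j) (Nat.mul_pos hk0 hj)
      · intro p hp hpd
        rcases (Nat.Prime.dvd_mul hp).1 hpd with h3 | h3
        · exact Nat.lt_succ_of_le (Nat.le_of_dvd hk0 h3)
        · exact Nat.lt_succ_of_lt (hsm p hp h3)
      · rw [mul_comm, pow_mul, h2, one_pow]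
    have hyk : y ^ k = a⁻¹ := IH h.symm (h.rel_inv hr).swap hy.swap hgood_b
    have h5 := h.key_identity hr k
    rw [← act_mul B (a ^ (k + 1)) b⁻¹, ← hγ.eq, act_mul A γ b⁻¹, ← act_mul A ((b⁻¹) ^ k) a⁻¹,
      hy.eq, act_mul B y a⁻¹, ← hyk, ← pow_succ'] at h5
    have hw : Rel A B (y ^ (k + 1)) (γ * b⁻¹) :=
      Rel.of_eq h.rk (A.pow_mem hy.ha _) (B.mul_mem hγ.hb (B.inv_mem hr.hb)) h5
    have hwk : (y ^ (k + 1)) ^ k = (a ^ (k + 1))⁻¹ := by
      rw [← pow_mul, mul_comm, pow_mul, hyk, inv_pow]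
    have hr2 : Rel A B ((y ^ (k + 1)) ^ k) γ⁻¹ := by
      rw [hwk]; exact h.rel_inv hγ
    have hgw : Good k (y ^ (k + 1)) := by
      intro j hj hsm hh
      rw [pow_mul, hwk, inv_pow, ← pow_mul] at hh
      exact hg j hj (fun p hp hpj => Nat.lt_succ_of_lt (hsm p hp hpj)) (inv_eq_one.1 hh)
    have h6 : (γ⁻¹) ^ k = γ * b⁻¹ := IH h hw hr2 hgw
    rw [inv_pow] at h6
    rw [pow_succ]
    have h7 : γ ^ k = b * γ⁻¹ := by
      have := congrArg (fun t => t⁻¹) h6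
      simpa using this
    rw [h7, inv_mul_cancel_right]

end SpAb

end Cfsg.Agent.Lib.H6.SpR1
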