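import Mathlib
import Cfsg.Prelude.Def_RootSubgroups
import Cfsg.Agent.Lib.H6.SpR1

set_option autoImplicit false

/-! Special rank one groups with abelian unipotent subgroups: `A` is elementary abelian or
torsion-free and divisible. -/

open Cfsg Cfsg.Agent.Lib.H25

namespace Cfsg.Agent.Lib.H6.SpR1

variable {G : Type*} [Group G] {A B : Subgroup G}

namespace SpAb

/-- A non-identity element of finite order has prime order. -/
theorem prime_orderOf (h : SpAb A B) {a : G} (ha : a ∈ A) (ha1 : a ≠ 1) (hfo : IsOfFinOrder a) :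
    (orderOf a).Prime := by
  by_contra hnp
  obtain ⟨m, hm⟩ : ∃ m, m = orderOf a := ⟨_, rfl⟩
  rw [← hm] at hnp
  have hm0 : 0 < m := hm ▸ hfo.orderOf_pos
  have hm1 : m ≠ 1 := by
    intro h1
    apply ha1
    rw [← orderOf_eq_one_iff, ← hm, h1]
  obtain ⟨q, hq⟩ : ∃ q, q = m.minFac := ⟨_, rfl⟩
  have hqp : q.Prime := hq ▸ Nat.minFac_prime hm1
  have hqm : q ∣ m := hq ▸ Nat.minFac_dvd m
  obtain ⟨k, hk⟩ := hqm
  have hk0 : 0 < k := by
    rcases Nat.eq_zero_or_pos k with h0 | h0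
    · rw [h0, mul_zero] at hk; omega
    · exact h0
  have hk1 : k ≠ 1 := by
    intro h1
    apply hnp
    rw [hk, h1, mul_one]; exact hqp
  have hkm : k < m := by
    rw [hk]
    have := hqp.two_le
    nlinarith
  have hgood : Good q a := by
    intro j hj hsm hh
    have h1 : m ∣ q * j := hm ▸ orderOf_dvd_of_pow_eq_one hh
    rw [hk] at h1
    have h2 : k ∣ j := Nat.dvd_of_mul_dvd_mul_left hqp.pos h1
    obtain ⟨p, hp, hpk⟩ := Nat.exists_prime_and_dvd hk1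
    have h3 : p < q := hsm p hp (hpk.trans h2)
    have h4 : q ≤ p := by
      rw [hq]
      exact Nat.minFac_le_of_dvd hp.two_le (hpk.trans ⟨q, by rw [hk, mul_comm]⟩)
    omega
  have haq : a ^ q ≠ 1 := by
    intro hh
    have h1 : m ∣ q := hm ▸ orderOf_dvd_of_pow_eq_one hh
    have h2 : m = q := by
      rcases (Nat.dvd_prime hqp).1 h1 with h3 | h3
      · exact absurd h3 hm1
      · exact h3
    exact hnp (h2 ▸ hqp)
  obtain ⟨b, hr⟩ := Rel.exists_right h.rk ha ha1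
  obtain ⟨c, hc⟩ := Rel.exists_right h.rk (A.pow_mem ha q) haq
  have h1 : c ^ q = b := pow_rel q hqp.pos h hr hc hgood
  have h2 : (a ^ q) ^ k = 1 := by
    rw [← pow_mul, ← hk, hm, pow_orderOf_eq_one]
  have h3 : c ^ k = 1 := (h.pow_eq_one_iff hc k).1 h2
  have h4 : b ^ k = 1 := by
    rw [← h1, ← pow_mul, mul_comm, pow_mul, h3, one_pow]
  have h5 : a ^ k = 1 := (h.pow_eq_one_iff hr k).2 h4
  have h6 : m ∣ k := hm ▸ orderOf_dvd_of_pow_eq_one h5
  exact absurd (Nat.le_of_dvd hk0 h6) (by omega)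

/-- If some non-identity element has finite order `p`, every element has `p`-th power `1`. -/
theorem pow_eq_one_of_exists (h : SpAb A B) {a₀ : G} (ha₀ : a₀ ∈ A) (ha₀1 : a₀ ≠ 1)
    (hfo : IsOfFinOrder a₀) : ∀ a ∈ A, a ^ orderOf a₀ = 1 := by
  have hp := h.prime_orderOf ha₀ ha₀1 hfo
  intro a ha
  by_cases ha1 : a = 1
  · rw [ha1, one_pow]
  have hcomm : Commute a₀ a := h.cA a₀ ha₀ a ha
  by_cases hfa : IsOfFinOrder a
  · have hq := h.prime_orderOf ha ha1 hfa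
    by_cases hpq : orderOf a₀ = orderOf a
    · rw [hpq, pow_orderOf_eq_one]
    · exfalso
      have hcop : Nat.Coprime (orderOf a₀) (orderOf a) := (Nat.coprime_primes hp hq).2 hpq
      have hord := hcomm.orderOf_mul_eq_mul_orderOf_of_coprime hcop
      have hne : a₀ * a ≠ 1 := by
        intro hh
        have h1 : orderOf (a₀ * a) = 1 := by rw [hh, orderOf_one]
        rw [hord] at h1
        have := hp.two_le
        have := hq.two_le
        nlinarith
      have hfm : IsOfFinOrder (a₀ * a) := hcomm.isOfFinOrder_mul hfo hfa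
      have := h.prime_orderOf (A.mul_mem ha₀ ha) hne hfm
      rw [hord] at this
      exact Nat.not_prime_mul hp.ne_one hq.ne_one this
  · exfalso
    obtain ⟨p, hpdef⟩ : ∃ p, p = orderOf a₀ := ⟨_, rfl⟩
    rw [← hpdef] at hp
    have hfm : ¬ IsOfFinOrder (a₀ * a) := by
      intro hh
      apply hfa
      have : a = a₀⁻¹ * (a₀ * a) := by group
      rw [this]
      exact ((Commute.refl a₀).mul_right hcomm).inv_left.isOfFinOrder_mul hfo.inv hh
    have hpow : (a₀ * a) ^ p = a ^ p := by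
      rw [hcomm.mul_pow, hpdef, pow_orderOf_eq_one, one_mul]
    have hap : a ^ p ≠ 1 := fun hh => hfa (isOfFinOrder_iff_pow_eq_one.2 ⟨p, hp.pos, hh⟩)
    have hne : a₀ * a ≠ 1 := fun hh =>
      hfm (isOfFinOrder_iff_pow_eq_one.2 ⟨1, one_pos, by rw [pow_one]; exact hh⟩)
    obtain ⟨b₁, hr₁⟩ := Rel.exists_right h.rk (A.mul_mem ha₀ ha) hne
    obtain ⟨b₂, hr₂⟩ := Rel.exists_right h.rk ha ha1
    obtain ⟨c, hc⟩ := Rel.exists_right h.rk (A.pow_mem ha p) hap
    have h1 : c ^ p = b₂ := pow_rel p hp.pos h hr₂ hc (good_of_not_isOfFinOrder hfa hp.pos)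
    have hc' : Rel A B ((a₀ * a) ^ p) c := by rw [hpow]; exact hc
    have h2 : c ^ p = b₁ := pow_rel p hp.pos h hr₁ hc' (good_of_not_isOfFinOrder hfm hp.pos)
    have h3 : b₁ = b₂ := h2.symm.trans h1
    rw [h3] at hr₁
    have h4 := Rel.left_unique h.rk hr₁ hr₂
    apply ha₀1
    have := congrArg (fun t => t * a⁻¹) h4
    simpa using this

/-- In the torsion-free case `A` is divisible. -/
theorem exists_root (h : SpAb A B) (htf : ∀ a ∈ A, a ≠ 1 → ¬ IsOfFinOrder a) {a : G} (ha : a ∈ A)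
    {n : ℕ} (hn : 0 < n) : ∃ c ∈ A, c ^ n = a := by
  by_cases ha1 : a = 1
  · exact ⟨1, A.one_mem, by rw [ha1, one_pow]⟩
  obtain ⟨b, hr⟩ := Rel.exists_right h.rk ha ha1
  have hfa := htf a ha ha1
  have hfb : ¬ IsOfFinOrder b := by
    intro hh
    apply hfa
    rw [← orderOf_pos_iff] at hh ⊢
    rw [h.orderOf_eq hr]; exact hh
  have hbn : b ^ n ≠ 1 := fun hh => hfb (isOfFinOrder_iff_pow_eq_one.2 ⟨n, hn, hh⟩)
  obtain ⟨c, hc⟩ := Rel.exists_right h.symm.rk (B.pow_mem hr.hb n) hbn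
  exact ⟨c, hc.hb, pow_rel n hn h.symm hr.swap hc (good_of_not_isOfFinOrder hfb hn)⟩

/-- **Structure of `A`.** -/
theorem structure_thm (h : SpAb A B) :
    (∃ p : ℕ, p.Prime ∧ ∀ a ∈ A, a ^ p = 1) ∨
    ((∀ a ∈ A, a ≠ 1 → ¬ IsOfFinOrder a) ∧ ∀ a ∈ A, ∀ n : ℕ, 0 < n → ∃ c ∈ A, c ^ n = a) := by
  by_cases hex : ∃ a ∈ A, a ≠ 1 ∧ IsOfFinOrder a
  · obtain ⟨a₀, ha₀, ha₀1, hfo⟩ := hex
    exact Or.inl ⟨orderOf a₀, h.prime_orderOf ha₀ ha₀1 hfo, h.pow_eq_one_of_exists ha₀ ha₀1 hfo⟩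
  · have htf : ∀ a ∈ A, a ≠ 1 → ¬ IsOfFinOrder a := fun a ha ha1 hfo => hex ⟨a, ha, ha1, hfo⟩
    exact Or.inr ⟨htf, fun a ha n hn => h.exists_root htf ha hn⟩

end SpAb

end Cfsg.Agent.Lib.H6.SpR1
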