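import Mathlib
import Cfsg.Prelude.Def_RootSubgroups
import Cfsg.Agent.Lib.H6.SpR2

set_option autoImplicit false

/-! Special rank one groups with abelian unipotent subgroups of exponent `p`: exponents in
`ZMod p`, `b(a^t) = b(a)^(1/t)`, and the Steinberg relations for `⟨a, b(a)⟩`. -/

open Cfsg Cfsg.Agent.Lib.H25

namespace Cfsg.Agent.Lib.H6.SpR1

variable {G : Type*} [Group G] {A B : Subgroup G} {p : ℕ} [Fact p.Prime]

/-- `x^t` for `t : ZMod p`. -/
def zp (x : G) (t : ZMod p) : G := x ^ t.val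

theorem zp_zero (x : G) : zp x (0 : ZMod p) = 1 := by
  unfold zp; rw [ZMod.val_zero, pow_zero]

theorem zp_one (x : G) : zp x (1 : ZMod p) = x := by
  unfold zp; rw [ZMod.val_one, pow_one]

theorem zp_add {x : G} (hx : x ^ p = 1) (t u : ZMod p) : zp x (t + u) = zp x t * zp x u := by
  unfold zp
  rw [← pow_add, ZMod.val_add, ← pow_eq_pow_mod _ hx]

theorem zp_mul {x : G} (hx : x ^ p = 1) (t u : ZMod p) : zp x (t * u) = (zp x t) ^ u.val := by
  unfold zp
  rw [← pow_mul, ZMod.val_mul, ← pow_eq_pow_mod _ hx]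

theorem zp_neg {x : G} (hx : x ^ p = 1) (t : ZMod p) : zp x (-t) = (zp x t)⁻¹ := by
  apply eq_inv_of_mul_eq_one_left
  rw [← zp_add hx, neg_add_cancel, zp_zero]

theorem zp_mem {P : Subgroup G} {x : G} (hx : x ∈ P) (t : ZMod p) : zp x t ∈ P :=
  P.pow_mem hx _

theorem zp_pow_p {x : G} (hx : x ^ p = 1) (t : ZMod p) : (zp x t) ^ p = 1 := by
  unfold zp
  rw [← pow_mul, mul_comm, pow_mul, hx, one_pow]

theorem zp_zp {x : G} (hx : x ^ p = 1) (t u : ZMod p) : zp (zp x t) u = zp x (t * u) := by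
  rw [zp_mul hx]; rfl

theorem zp_eq_one_iff {x : G} (hx : x ^ p = 1) (hx1 : x ≠ 1) {t : ZMod p} :
    zp x t = 1 ↔ t = 0 := by
  constructor
  · intro h
    unfold zp at h
    have hord : orderOf x = p := by
      have h1 := orderOf_dvd_of_pow_eq_one hx
      rcases (Nat.dvd_prime (Fact.out : p.Prime)).1 h1 with h2 | h2
      · exact absurd (orderOf_eq_one_iff.1 h2) hx1
      · exact h2
    have h3 : orderOf x ∣ t.val := orderOf_dvd_of_pow_eq_one h
    rw [hord] at h3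
    have h4 : t.val = 0 := Nat.eq_zero_of_dvd_of_lt h3 (ZMod.val_lt t)
    exact (ZMod.val_eq_zero t).1 h4
  · rintro rfl
    exact zp_zero x

theorem zp_injective {x : G} (hx : x ^ p = 1) (hx1 : x ≠ 1) {t u : ZMod p}
    (h : zp x t = zp x u) : t = u := by
  have h1 : zp x (t - u) = 1 := by
    rw [sub_eq_add_neg, zp_add hx, zp_neg hx, h, mul_inv_cancel]
  exact sub_eq_zero.1 ((zp_eq_one_iff hx hx1).1 h1)

namespace SpAb

omit [Fact p.Prime] in
theorem right_pow_p (h : SpAb A B) {a b : G} (hr : Rel A B a b) (ha : a ^ p = 1) : b ^ p = 1 :=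
  (h.pow_eq_one_iff hr p).1 ha

/-- `b(a^t) = b(a)^(1/t)`. -/
theorem rel_zp (h : SpAb A B) {a b : G} (hr : Rel A B a b) (ha : a ^ p = 1) {t : ZMod p}
    (ht : t ≠ 0) : Rel A B (zp a t) (zp b t⁻¹) := by
  have hp : p.Prime := Fact.out
  have hn0 : 0 < t.val := Nat.pos_of_ne_zero (fun hh => ht ((ZMod.val_eq_zero t).1 hh))
  have hnp : t.val < p := ZMod.val_lt t
  have hord : orderOf a = p := by
    have h1 := orderOf_dvd_of_pow_eq_one ha
    rcases (Nat.dvd_prime hp).1 h1 with h2 | h2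
    · exact absurd (orderOf_eq_one_iff.1 h2) hr.ha1
    · exact h2
  have han : zp a t ≠ 1 := fun hh => ht ((zp_eq_one_iff ha hr.ha1).1 hh)
  obtain ⟨c, hc⟩ := Rel.exists_right h.rk (zp_mem hr.ha t) han
  have hgood : Good t.val a := by
    intro j hj hsm hh
    have h1 : orderOf a ∣ t.val * j := orderOf_dvd_of_pow_eq_one hh
    rw [hord] at h1
    rcases (Nat.Prime.dvd_mul hp).1 h1 with h2 | h2
    · exact absurd (Nat.le_of_dvd hn0 h2) (by omega)
    · have := hsm p hp h2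
      omega
  have hcn : c ^ t.val = b := pow_rel t.val hn0 h hr hc hgood
  have hcp : c ^ p = 1 := (h.pow_eq_one_iff hc p).1 (zp_pow_p ha t)
  have hceq : zp b t⁻¹ = c := by
    unfold zp
    rw [← hcn, ← pow_mul, pow_eq_pow_mod _ hcp, ← ZMod.val_mul, mul_inv_cancel₀ ht, ZMod.val_one,
      pow_one]
  rw [hceq]
  exact hc

/-- The Steinberg conjugation relation. -/
theorem st_rel (h : SpAb A B) {a b : G} (hr : Rel A B a b) (ha : a ^ p = 1) {t : ZMod p}
    (ht : t ≠ 0) (u : ZMod p) :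
    (zp a t * zp b (-t⁻¹) * zp a t) * zp a u * (zp a t * zp b (-t⁻¹) * zp a t)⁻¹ =
      zp b (-(t⁻¹ ^ 2 * u)) := by
  have hb := h.right_pow_p hr ha
  have hrt := h.rel_zp hr ha ht
  have hri := h.rel_inv hrt
  have h1 := h.mu_conj_pow hri (-(t⁻¹ * u)).val
  rw [inv_inv] at h1
  have e1 : (zp a t)⁻¹ ^ (-(t⁻¹ * u)).val = zp a u := by
    rw [← zp_neg ha, ← zp_mul ha]
    congr 1
    field_simp
  have e2 : (zp b t⁻¹) ^ (-(t⁻¹ * u)).val = zp b (-(t⁻¹ ^ 2 * u)) := by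
    rw [← zp_mul hb]
    congr 1
    ring
  have e3 : mu (zp a t)⁻¹ (zp b t⁻¹)⁻¹ = (zp a t * zp b (-t⁻¹) * zp a t)⁻¹ := by
    unfold mu
    rw [zp_neg hb]
    group
  rw [e1, e2, e3, inv_inv] at h1
  exact h1

end SpAb

end Cfsg.Agent.Lib.H6.SpR1
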