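import Mathlib
import Cfsg.Prelude.Def_RootSubgroups
import Cfsg.Agent.Lib.H6.SpR3
import Cfsg.Agent.Lib.H12.SL2Steinberg

set_option autoImplicit false

/-! Special rank one groups with abelian unipotent subgroups of exponent `p`:
`⟨a, b(a)⟩` is `SL₂(p)` or `PSL₂(p)`. -/

open Cfsg Cfsg.Agent.Lib.H25 Cfsg.Agent.Lib.H12

namespace Cfsg.Agent.Lib.H6.SpR1

variable {G : Type*} [Group G] {A B : Subgroup G} {p : ℕ} [Fact p.Prime]

/-- The images of the Steinberg generators. -/
def stGen (a b : G) (q : Bool × ZMod p) : G := if q.1 then zp a q.2 else zp b q.2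

theorem stGen_true (a b : G) (t : ZMod p) : stGen a b (true, t) = zp a t := rfl

theorem stGen_false (a b : G) (t : ZMod p) : stGen a b (false, t) = zp b t := rfl

namespace SpAb

theorem stGen_rels (h : SpAb A B) {a b : G} (hr : Rel A B a b) (ha : a ^ p = 1) :
    ∀ r ∈ StPres.stRels (ZMod p), FreeGroup.lift (stGen (p := p) a b) r = 1 := by
  have hb := h.right_pow_p hr ha
  rintro r (⟨c, t, u, rfl⟩ | ⟨c, t, u, ht, rfl⟩)
  · simp only [map_mul, map_inv, FreeGroup.lift_apply_of]
    cases c
    · rw [stGen_false, stGen_false, stGen_false, zp_add hb, mul_inv_cancel]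
    · rw [stGen_true, stGen_true, stGen_true, zp_add ha, mul_inv_cancel]
  · simp only [map_mul, map_inv, FreeGroup.lift_apply_of]
    cases c
    · simp only [Bool.not_false, stGen_false, stGen_true]
      rw [h.symm.st_rel hr.swap hb ht u, mul_inv_cancel]
    · simp only [Bool.not_true, stGen_false, stGen_true]
      rw [h.st_rel hr ha ht u, mul_inv_cancel]

/-- The homomorphism from the Steinberg group. -/
noncomputable def phi (h : SpAb A B) {a b : G} (hr : Rel A B a b) (ha : a ^ p = 1) :
    StPres.St (ZMod p) →* G := PresentedGroup.toGroup (h.stGen_rels hr ha)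

theorem phi_x (h : SpAb A B) {a b : G} (hr : Rel A B a b) (ha : a ^ p = 1) (t : ZMod p) :
    h.phi hr ha (StPres.X true t) = zp a t := PresentedGroup.toGroup.of (h.stGen_rels hr ha)

theorem phi_y (h : SpAb A B) {a b : G} (hr : Rel A B a b) (ha : a ^ p = 1) (t : ZMod p) :
    h.phi hr ha (StPres.X false t) = zp b t := PresentedGroup.toGroup.of (h.stGen_rels hr ha)

theorem phi_w (h : SpAb A B) {a b : G} (hr : Rel A B a b) (ha : a ^ p = 1) (t : ZMod p) :
    h.phi hr ha (StPres.W true t) = mu (zp a t) (zp b t⁻¹) := by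
  unfold StPres.W mu
  rw [map_mul, map_mul, phi_x, Bool.not_true, phi_y, zp_neg (h.right_pow_p hr ha)]

theorem act_A_phi_w (h : SpAb A B) {a b : G} (hr : Rel A B a b) (ha : a ^ p = 1) {t : ZMod p}
    (ht : t ≠ 0) : act A (h.phi hr ha (StPres.W true t)) = B := by
  rw [phi_w]; exact h.act_A_mu (h.rel_zp hr ha ht)

theorem act_B_phi_w (h : SpAb A B) {a b : G} (hr : Rel A B a b) (ha : a ^ p = 1) {t : ZMod p}
    (ht : t ≠ 0) : act B (h.phi hr ha (StPres.W true t)) = A := by
  rw [phi_w]; exact h.act_B_mu (h.rel_zp hr ha ht)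

theorem act_A_phi_h (h : SpAb A B) {a b : G} (hr : Rel A B a b) (ha : a ^ p = 1) {t : ZMod p}
    (ht : t ≠ 0) : act A (h.phi hr ha (StPres.h t)) = A := by
  unfold StPres.h
  rw [map_mul, ← act_mul, h.act_A_phi_w hr ha ht,
    h.act_B_phi_w hr ha (neg_ne_zero.2 one_ne_zero)]

theorem act_B_phi_h (h : SpAb A B) {a b : G} (hr : Rel A B a b) (ha : a ^ p = 1) {t : ZMod p}
    (ht : t ≠ 0) : act B (h.phi hr ha (StPres.h t)) = B := by
  unfold StPres.h
  rw [map_mul, ← act_mul, h.act_B_phi_w hr ha ht,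
    h.act_A_phi_w hr ha (neg_ne_zero.2 one_ne_zero)]

theorem mem_normalizer_of_act {P : Subgroup G} {g : G} (hg : act P g = P) :
    g ∈ Subgroup.normalizer (P : Set G) := by
  have h1 : g⁻¹ ∈ Subgroup.normalizer (P : Set G) := conjBy_eq_self_iff.1 hg
  have := Subgroup.inv_mem _ h1
  rwa [inv_inv] at this

/-- The kernel of `phi` is contained in `{1, h(-1)}`. -/
theorem ker_phi (h : SpAb A B) {a b : G} (hr : Rel A B a b) (ha : a ^ p = 1)
    {g : StPres.St (ZMod p)} (hg : h.phi hr ha g = 1) : g = 1 ∨ g = StPres.h (-1) := by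
  have hgc : g ∈ StPres.cells (ZMod p) := by rw [StPres.cells_eq_univ]; trivial
  rcases hgc with ⟨⟨s, t⟩, rfl⟩ | ⟨⟨s, t, s'⟩, rfl⟩
  · -- small cell
    unfold StPres.cellB at hg ⊢
    simp only at hg ⊢
    rw [map_mul, phi_x] at hg
    have ht0 : (t : ZMod p) ≠ 0 := t.ne_zero
    have h1 : h.phi hr ha (StPres.h (t : ZMod p)) = (zp a s)⁻¹ := eq_inv_of_mul_eq_one_right hg
    have h2 : h.phi hr ha (StPres.h (t : ZMod p)) ∈ A := by
      rw [h1]; exact A.inv_mem (zp_mem hr.ha s)
    have h3 := RankOne.eq_one_of_mem_normalizer h.rk h2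
      (mem_normalizer_of_act (h.act_B_phi_h hr ha ht0))
    rw [h3, mul_one] at hg
    have hs : s = 0 := (zp_eq_one_iff ha hr.ha1).1 hg
    have h4 := congrArg (h.phi hr ha) (StPres.h_conj_x ht0 (1 : ZMod p))
    rw [map_mul, map_mul, map_inv, h3, one_mul, inv_one, mul_one, phi_x, phi_x] at h4
    have h5 : (1 : ZMod p) = (t : ZMod p) ^ 2 * 1 := zp_injective ha hr.ha1 h4
    rw [mul_one] at h5
    have h6 : (t : ZMod p) = 1 ∨ (t : ZMod p) = -1 := sq_eq_one_iff.1 h5.symm
    rw [hs, StPres.X_zero, one_mul]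
    rcases h6 with h6 | h6
    · left; rw [h6, StPres.h_one]
    · right; rw [h6]
  · -- big cell
    exfalso
    unfold StPres.cellW at hg
    simp only at hg
    have ht0 : (t : ZMod p) ≠ 0 := t.ne_zero
    have h1 : act A (h.phi hr ha (StPres.X true s * StPres.h (t : ZMod p) * StPres.W true 1 *
        StPres.X true s')) = act B (zp a s') := by
      rw [map_mul, map_mul, map_mul, ← act_mul, ← act_mul, ← act_mul, phi_x, phi_x,
        act_of_mem (zp_mem hr.ha s), h.act_A_phi_h hr ha ht0, h.act_A_phi_w hr ha one_ne_zero]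
    rw [hg, act_one] at h1
    apply h.rk.ne
    have h2 := act_eq_iff.1 h1.symm
    rw [act_of_mem (A.inv_mem (zp_mem hr.ha s'))] at h2
    exact h2.symm

theorem range_phi (h : SpAb A B) {a b : G} (hr : Rel A B a b) (ha : a ^ p = 1) :
    (h.phi hr ha).range = Subgroup.closure ({a, b} : Set G) := by
  apply le_antisymm
  · rintro _ ⟨g, rfl⟩
    have hgen : ∀ j : Bool × ZMod p, (PresentedGroup.of j : StPres.St (ZMod p)) ∈
        (Subgroup.closure ({a, b} : Set G)).comap (h.phi hr ha) := by
      rintro ⟨c, t⟩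
      rw [Subgroup.mem_comap]
      cases c
      · have : h.phi hr ha (PresentedGroup.of (false, t)) = zp b t := h.phi_y hr ha t
        rw [this]
        exact zp_mem (Subgroup.subset_closure (by simp)) t
      · have : h.phi hr ha (PresentedGroup.of (true, t)) = zp a t := h.phi_x hr ha t
        rw [this]
        exact zp_mem (Subgroup.subset_closure (by simp)) t
    exact PresentedGroup.generated_by (StPres.stRels (ZMod p)) _ hgen g
  · rw [Subgroup.closure_le]
    rintro x (rfl | rfl)
    · exact ⟨StPres.X true 1, by rw [phi_x, zp_one]⟩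
    · exact ⟨StPres.X false 1, by rw [phi_y, zp_one]⟩

theorem toSL_h_neg_one :
    StPres.toSL (StPres.h (-1 : ZMod p)) = StPres.dgM (-1 : (ZMod p)ˣ) := by
  have := (StPres.tor_h (-1 : (ZMod p)ˣ)).img
  rwa [Units.val_neg, Units.val_one] at this

theorem mem_center_SL2_iff (M : Matrix.SpecialLinearGroup (Fin 2) (ZMod p)) :
    M ∈ Subgroup.center (Matrix.SpecialLinearGroup (Fin 2) (ZMod p)) ↔
      M = 1 ∨ M = StPres.dgM (-1 : (ZMod p)ˣ) := by
  rw [Matrix.SpecialLinearGroup.mem_center_iff]
  constructor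
  · rintro ⟨r, hr, hM⟩
    rw [Fintype.card_fin] at hr
    rcases sq_eq_one_iff.1 hr with rfl | rfl
    · left
      apply Subtype.ext
      rw [← hM]
      simp
    · right
      apply StPres.sl2_ext <;> rw [← hM] <;> simp [Matrix.scalar_apply]
  · rintro (rfl | rfl)
    · exact ⟨1, by simp, by simp⟩
    · refine ⟨-1, by simp, ?_⟩
      ext i j
      fin_cases i <;> fin_cases j <;> simp [Matrix.scalar_apply]

/-- **`⟨a, b(a)⟩ ≅ SL₂(p)` or `PSL₂(p)`.** -/
theorem closure_iso (h : SpAb A B) {a b : G} (hr : Rel A B a b) (ha : a ^ p = 1) :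
    Nonempty (↥(Subgroup.closure ({a, b} : Set G)) ≃* Matrix.SpecialLinearGroup (Fin 2) (ZMod p)) ∨
    Nonempty (↥(Subgroup.closure ({a, b} : Set G)) ≃*
      Matrix.ProjectiveSpecialLinearGroup (Fin 2) (ZMod p)) := by
  let e : StPres.St (ZMod p) ≃* Matrix.SpecialLinearGroup (Fin 2) (ZMod p) :=
    MulEquiv.ofBijective StPres.toSL StPres.toSL_bijective
  by_cases hcase : h.phi hr ha (StPres.h (-1)) = 1 ∧ StPres.h (-1 : ZMod p) ≠ 1
  · right
    let ψ : Matrix.SpecialLinearGroup (Fin 2) (ZMod p) →* G :=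
      (h.phi hr ha).comp e.symm.toMonoidHom
    have hrange : ψ.range = Subgroup.closure ({a, b} : Set G) := by
      rw [← h.range_phi hr ha]
      apply le_antisymm
      · rintro _ ⟨M, rfl⟩
        exact ⟨e.symm M, rfl⟩
      · rintro _ ⟨g, rfl⟩
        exact ⟨e g, by simp [ψ]⟩
    have hker : ψ.ker = Subgroup.center (Matrix.SpecialLinearGroup (Fin 2) (ZMod p)) := by
      ext M
      rw [MonoidHom.mem_ker, mem_center_SL2_iff]
      have he : e (StPres.h (-1)) = StPres.dgM (-1 : (ZMod p)ˣ) := toSL_h_neg_one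
      constructor
      · intro hM
        have hM' : h.phi hr ha (e.symm M) = 1 := hM
        rcases h.ker_phi hr ha hM' with h1 | h1
        · left
          have := congrArg e h1
          simpa using this
        · right
          have := congrArg e h1
          rw [he] at this
          simpa using this
      · rintro (rfl | rfl)
        · exact map_one ψ
        · show h.phi hr ha (e.symm (StPres.dgM (-1 : (ZMod p)ˣ))) = 1
          rw [← he, MulEquiv.symm_apply_apply]
          exact hcase.1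
    have e1 : Matrix.SpecialLinearGroup (Fin 2) (ZMod p) ⧸ ψ.ker ≃* ψ.range :=
      QuotientGroup.quotientKerEquivRange ψ
    have e2 : Matrix.SpecialLinearGroup (Fin 2) (ZMod p) ⧸ ψ.ker ≃*
        Matrix.ProjectiveSpecialLinearGroup (Fin 2) (ZMod p) :=
      QuotientGroup.quotientMulEquivOfEq hker
    exact ⟨(MulEquiv.subgroupCongr hrange).symm.trans (e1.symm.trans e2)⟩
  · left
    have hinj : Function.Injective (h.phi hr ha) := by
      rw [injective_iff_map_eq_one]
      intro g hg
      rcases h.ker_phi hr ha hg with h1 | h1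
      · exact h1
      · by_contra hne
        apply hcase
        rw [h1] at hg hne
        exact ⟨hg, hne⟩
    have e1 : StPres.St (ZMod p) ≃* (h.phi hr ha).range := MonoidHom.ofInjective hinj
    exact ⟨(MulEquiv.subgroupCongr (h.range_phi hr ha)).symm.trans (e1.symm.trans e)⟩

end SpAb

end Cfsg.Agent.Lib.H6.SpR1
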