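import Mathlib
import Cfsg.Prelude.Def_RootSubgroups
import Cfsg.Agent.Lib.H6.SpR4

set_option autoImplicit false

/-! Special rank one groups with abelian unipotent subgroups: conjugation transport,
sub-pairs cut out by normalized subgroups, and the diagonal subgroup. -/

open Cfsg Cfsg.Agent.Lib.H25

namespace Cfsg.Agent.Lib.H6.SpR1

variable {G : Type*} [Group G] {A B : Subgroup G}

theorem mem_diag_iff {g : G} :
    g ∈ rankOneDiagonal A B ↔ g ∈ A ⊔ B ∧ act A g = A ∧ act B g = B := by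
  unfold rankOneDiagonal
  rw [Subgroup.mem_inf, Subgroup.mem_inf, act_def, act_def, conjBy_inv_eq_self_iff,
    conjBy_inv_eq_self_iff, and_assoc]

theorem act_inf_of_normalizes {P N : Subgroup G} {g : G} (h1 : ∀ n ∈ N, g * n * g⁻¹ ∈ N)
    (h2 : ∀ n ∈ N, g⁻¹ * n * g ∈ N) : act (P ⊓ N) g = act P g ⊓ N := by
  ext x
  rw [mem_act, Subgroup.mem_inf, Subgroup.mem_inf, mem_act]
  constructor
  · rintro ⟨hx1, hx2⟩
    refine ⟨hx1, ?_⟩
    have := h2 _ hx2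
    simpa [mul_assoc] using this
  · rintro ⟨hx1, hx2⟩
    exact ⟨hx1, h1 _ hx2⟩

theorem act_mono {P Q : Subgroup G} (h : P ≤ Q) (g : G) : act P g ≤ act Q g :=
  conjBy_mono g⁻¹ h

theorem point_inj (hr : IsRankOnePair A B) {a a' : G} (ha : a ∈ A) (ha' : a' ∈ A)
    (h : act B a = act B a') : a = a' := by
  have := RankOne.left_unique hr ha ha' (C := act B a) rfl h.symm
  exact this

theorem point_ne_left (hr : IsRankOnePair A B) {a : G} (ha : a ∈ A) : act B a ≠ A :=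
  RankOne.conjBy_right_ne_left hr (A.inv_mem ha)

/-- Conjugating by an element of the diagonal subgroup preserves the pairing relation. -/
theorem Rel.conj_diag {a b g : G} (hr : Rel A B a b) (hg : g ∈ rankOneDiagonal A B) :
    Rel A B (g⁻¹ * a * g) (g⁻¹ * b * g) := by
  obtain ⟨-, hgA, hgB⟩ := mem_diag_iff.1 hg
  have hgA' : act A g⁻¹ = A := by
    rw [act_eq_iff, inv_inv]; exact hgA.symm
  have hgB' : act B g⁻¹ = B := by
    rw [act_eq_iff, inv_inv]; exact hgB.symm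
  refine ⟨?_, ?_, ?_, ?_, ?_⟩
  · have : g⁻¹ * a * g ∈ act A g := by
      rw [mem_act]; simpa [mul_assoc] using hr.ha
    rwa [hgA] at this
  · intro hh
    apply hr.ha1
    have := congrArg (fun t => g * t * g⁻¹) hh
    simpa [mul_assoc] using this
  · have : g⁻¹ * b * g ∈ act B g := by
      rw [mem_act]; simpa [mul_assoc] using hr.hb
    rwa [hgB] at this
  · intro hh
    apply hr.hb1
    have := congrArg (fun t => g * t * g⁻¹) hh
    simpa [mul_assoc] using this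
  · calc act A (g⁻¹ * b * g) = act (act (act A g⁻¹) b) g := by rw [act_mul, act_mul, mul_assoc]
      _ = act (act B a) g := by rw [hgA', hr.eq]
      _ = act (act (act B g⁻¹) a) g := by rw [hgB']
      _ = act B (g⁻¹ * a * g) := by rw [act_mul, act_mul, mul_assoc]

namespace SpAb

/-- Conjugation transport. -/
theorem conj (h : SpAb A B) (g : G) : SpAb (act A g) (act B g) := by
  have hrel : ∀ {a b : G}, Rel (act A g) (act B g) a b → Rel A B (g * a * g⁻¹) (g * b * g⁻¹) := by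
    intro a b hr
    refine ⟨mem_act.1 hr.ha, ?_, mem_act.1 hr.hb, ?_, ?_⟩
    · intro hh
      apply hr.ha1
      have := congrArg (fun t => g⁻¹ * t * g) hh
      simpa [mul_assoc] using this
    · intro hh
      apply hr.hb1
      have := congrArg (fun t => g⁻¹ * t * g) hh
      simpa [mul_assoc] using this
    · have e := hr.eq
      rw [← act_mul, ← act_mul, e, act_mul, act_mul, mul_assoc]
  refine ⟨RankOne.isRankOnePair_conj h.rk g⁻¹, ?_, ?_, ?_⟩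
  · intro a b hr
    have := h.sp _ _ (hrel hr)
    have e : g⁻¹ * ((g * b * g⁻¹)⁻¹ * (g * a * g⁻¹) * (g * b * g⁻¹)) * g =
        g⁻¹ * ((g * a * g⁻¹)⁻¹ * (g * b * g⁻¹)⁻¹ * (g * a * g⁻¹)) * g := by rw [this]
    have e1 : g⁻¹ * ((g * b * g⁻¹)⁻¹ * (g * a * g⁻¹) * (g * b * g⁻¹)) * g = b⁻¹ * a * b := by group
    have e2 : g⁻¹ * ((g * a * g⁻¹)⁻¹ * (g * b * g⁻¹)⁻¹ * (g * a * g⁻¹)) * g = a⁻¹ * b⁻¹ * a := by
      group
    rw [e1, e2] at e
    exact e
  · intro x hx y hy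
    have := h.cA _ (mem_act.1 hx) _ (mem_act.1 hy)
    have e : g⁻¹ * (g * x * g⁻¹ * (g * y * g⁻¹)) * g = g⁻¹ * (g * y * g⁻¹ * (g * x * g⁻¹)) * g := by
      rw [this]
    have e1 : g⁻¹ * (g * x * g⁻¹ * (g * y * g⁻¹)) * g = x * y := by group
    have e2 : g⁻¹ * (g * y * g⁻¹ * (g * x * g⁻¹)) * g = y * x := by group
    rw [e1, e2] at e
    exact e
  · intro x hx y hy
    have := h.cB _ (mem_act.1 hx) _ (mem_act.1 hy)
    have e : g⁻¹ * (g * x * g⁻¹ * (g * y * g⁻¹)) * g = g⁻¹ * (g * y * g⁻¹ * (g * x * g⁻¹)) * g := by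
      rw [this]
    have e1 : g⁻¹ * (g * x * g⁻¹ * (g * y * g⁻¹)) * g = x * y := by group
    have e2 : g⁻¹ * (g * y * g⁻¹ * (g * x * g⁻¹)) * g = y * x := by group
    rw [e1, e2] at e
    exact e

theorem mu_mem_sup {a b : G} (hr : Rel A B a b) : mu a b ∈ A ⊔ B :=
  (A ⊔ B).mul_mem ((A ⊔ B).mul_mem (Subgroup.mem_sup_left hr.ha)
    ((A ⊔ B).inv_mem (Subgroup.mem_sup_right hr.hb))) (Subgroup.mem_sup_left hr.ha)

theorem right_mem_of_normalized (h : SpAb A B) {N : Subgroup G}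
    (hN : ∀ g ∈ A ⊔ B, ∀ n ∈ N, g * n * g⁻¹ ∈ N) {a b : G} (hr : Rel A B a b) (ha : a ∈ N) :
    b ∈ N := by
  have h1 := hN _ ((A ⊔ B).inv_mem (mu_mem_sup hr)) a ha
  rw [inv_inv, h.mu_conj_a hr] at h1
  simpa using N.inv_mem h1

theorem left_mem_of_normalized (h : SpAb A B) {N : Subgroup G}
    (hN : ∀ g ∈ A ⊔ B, ∀ n ∈ N, g * n * g⁻¹ ∈ N) {a b : G} (hr : Rel A B a b) (hb : b ∈ N) :
    a ∈ N := by
  have h1 := hN _ ((A ⊔ B).inv_mem (mu_mem_sup hr)) b hb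
  rw [inv_inv, h.mu_conj_b hr] at h1
  simpa using N.inv_mem h1

theorem rel_inf (h : SpAb A B) {N : Subgroup G}
    (hN : ∀ g ∈ A ⊔ B, ∀ n ∈ N, g * n * g⁻¹ ∈ N) {a b : G} (hr : Rel A B a b) (ha : a ∈ N) :
    Rel (A ⊓ N) (B ⊓ N) a b := by
  have hb := h.right_mem_of_normalized hN hr ha
  have hnorm : ∀ g ∈ A ⊔ B, act (A ⊓ N) g = act A g ⊓ N ∧ act (B ⊓ N) g = act B g ⊓ N := by
    intro g hg
    have h1 : ∀ n ∈ N, g * n * g⁻¹ ∈ N := hN g hg
    have h2 : ∀ n ∈ N, g⁻¹ * n * g ∈ N := by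
      intro n hn
      have := hN g⁻¹ ((A ⊔ B).inv_mem hg) n hn
      rwa [inv_inv] at this
    exact ⟨act_inf_of_normalizes h1 h2, act_inf_of_normalizes h1 h2⟩
  refine ⟨⟨hr.ha, ha⟩, hr.ha1, ⟨hr.hb, hb⟩, hr.hb1, ?_⟩
  rw [(hnorm b (Subgroup.mem_sup_right hr.hb)).1, (hnorm a (Subgroup.mem_sup_left hr.ha)).2, hr.eq]

theorem inf_ne_bot_right (h : SpAb A B) {N : Subgroup G}
    (hN : ∀ g ∈ A ⊔ B, ∀ n ∈ N, g * n * g⁻¹ ∈ N) (hne : A ⊓ N ≠ ⊥) : B ⊓ N ≠ ⊥ := by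
  obtain ⟨x, hx1⟩ := (Subgroup.ne_bot_iff_exists_ne_one).1 hne
  have hx1' : (x : G) ≠ 1 := fun hh => hx1 (Subtype.ext hh)
  obtain ⟨b, hb⟩ := Rel.exists_right h.rk x.2.1 hx1'
  have := h.right_mem_of_normalized hN hb x.2.2
  intro hbot
  have hmem : b ∈ B ⊓ N := ⟨hb.hb, this⟩
  rw [hbot, Subgroup.mem_bot] at hmem
  exact hb.hb1 hmem

/-- **Sub-pair cut out by a normalized subgroup.** -/
theorem inf (h : SpAb A B) {N : Subgroup G} (hN : ∀ g ∈ A ⊔ B, ∀ n ∈ N, g * n * g⁻¹ ∈ N)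
    (hne : A ⊓ N ≠ ⊥) : SpAb (A ⊓ N) (B ⊓ N) := by
  have hcA : ∀ x ∈ A ⊓ N, ∀ y ∈ A ⊓ N, x * y = y * x := fun x hx y hy => h.cA x hx.1 y hy.1
  have hcB : ∀ x ∈ B ⊓ N, ∀ y ∈ B ⊓ N, x * y = y * x := fun x hx y hy => h.cB x hx.1 y hy.1
  have hnilA : Group.IsNilpotent ↥(A ⊓ N) := by
    have := h.rk.nilpotent_left
    exact (Group.isNilpotent_congr (Subgroup.subgroupOfEquivOfLe (inf_le_left : A ⊓ N ≤ A))).1
      inferInstance
  have hnilB : Group.IsNilpotent ↥(B ⊓ N) := by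
    have := h.rk.nilpotent_right
    exact (Group.isNilpotent_congr (Subgroup.subgroupOfEquivOfLe (inf_le_left : B ⊓ N ≤ B))).1
      inferInstance
  have hrk : IsRankOnePair (A ⊓ N) (B ⊓ N) := by
    refine ⟨?_, hnilA, hnilB, ?_, ?_⟩
    · intro hE
      obtain ⟨x, hx1⟩ := (Subgroup.ne_bot_iff_exists_ne_one).1 hne
      apply hx1
      apply Subtype.ext
      have hxB : (x : G) ∈ B := by
        have : (x : G) ∈ B ⊓ N := hE ▸ x.2
        exact this.1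
      exact RankOne.eq_one_of_mem_normalizer h.rk x.2.1 (Subgroup.le_normalizer hxB)
    · intro a ha ha1
      obtain ⟨b, hb⟩ := Rel.exists_right h.rk ha.1 ha1
      have hr := h.rel_inf hN hb ha.2
      exact ⟨b, hr.hb, hr.hb1, hr.eq⟩
    · intro b hb hb1
      obtain ⟨a, ha⟩ := Rel.exists_left h.rk hb.1 hb1
      have haN := h.left_mem_of_normalized hN ha hb.2
      have hr := h.rel_inf hN ha haN
      exact ⟨a, hr.ha, hr.ha1, hr.eq.symm⟩
  refine ⟨hrk, ?_, hcA, hcB⟩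
  intro a b hr
  obtain ⟨b', hb'⟩ := Rel.exists_right h.rk hr.ha.1 hr.ha1
  have hr' := h.rel_inf hN hb' hr.ha.2
  have hbb : b = b' := Rel.right_unique hrk hr hr'
  rw [hbb]
  exact h.sp _ _ hb'

/-- A pairing relation of the sub-pair is one of the big pair. -/
theorem rel_of_rel_inf (h : SpAb A B) {N : Subgroup G}
    (hN : ∀ g ∈ A ⊔ B, ∀ n ∈ N, g * n * g⁻¹ ∈ N) (hne : A ⊓ N ≠ ⊥) {a b : G}
    (hr : Rel (A ⊓ N) (B ⊓ N) a b) : Rel A B a b := by
  obtain ⟨b', hb'⟩ := Rel.exists_right h.rk hr.ha.1 hr.ha1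
  have hr' := h.rel_inf hN hb' hr.ha.2
  have hbb : b = b' := Rel.right_unique (h.inf hN hne).rk hr hr'
  rw [hbb]
  exact hb'

end SpAb

end Cfsg.Agent.Lib.H6.SpR1
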