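import Mathlib
import Cfsg.Prelude.Def_RootSubgroups
import Cfsg.Agent.Lib.H6.SpR5

set_option autoImplicit false

/-! Special rank one groups with abelian unipotent subgroups: elements of the diagonal
subgroup, and `a³ ∈ [A, H]`. -/

open Cfsg Cfsg.Agent.Lib.H25
open scoped commutatorElement

namespace Cfsg.Agent.Lib.H6.SpR1

variable {G : Type*} [Group G] {A B : Subgroup G}

namespace SpAb

theorem mu_conj_a' (h : SpAb A B) {a b : G} (hr : Rel A B a b) :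
    mu a b * a * (mu a b)⁻¹ = b⁻¹ := by
  calc mu a b * a * (mu a b)⁻¹ = (b⁻¹ * a * b⁻¹) * a * (a * b⁻¹ * a)⁻¹ := by
        rw [← h.mu_eq hr]; rfl
    _ = b⁻¹ := by group

theorem mu_conj_b' (h : SpAb A B) {a b : G} (hr : Rel A B a b) :
    mu a b * b * (mu a b)⁻¹ = a⁻¹ := by
  calc mu a b * b * (mu a b)⁻¹ = (b⁻¹ * a * b⁻¹) * b * (a * b⁻¹ * a)⁻¹ := by
        rw [← h.mu_eq hr]; rfl
    _ = a⁻¹ := by group

theorem act_A_mu_inv (h : SpAb A B) {a b : G} (hr : Rel A B a b) : act A (mu a b)⁻¹ = B := by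
  have := h.act_B_mu hr
  rw [act_eq_iff] at this
  exact this.symm

theorem act_B_mu_inv (h : SpAb A B) {a b : G} (hr : Rel A B a b) : act B (mu a b)⁻¹ = A := by
  have := h.act_A_mu hr
  rw [act_eq_iff] at this
  exact this.symm

theorem mu_inv_mul_mu_mem (h : SpAb A B) {a b t c : G} (hr : Rel A B a b) (hr' : Rel A B t c) :
    (mu a b)⁻¹ * mu t c ∈ rankOneDiagonal A B := by
  rw [mem_diag_iff]
  refine ⟨(A ⊔ B).mul_mem ((A ⊔ B).inv_mem (mu_mem_sup hr)) (mu_mem_sup hr'), ?_, ?_⟩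
  · rw [← act_mul, h.act_A_mu_inv hr, h.act_B_mu hr']
  · rw [← act_mul, h.act_B_mu_inv hr, h.act_A_mu hr']

theorem mu_conj_diag (h : SpAb A B) {a b g : G} (hr : Rel A B a b)
    (hg : g ∈ rankOneDiagonal A B) : mu a b * g * (mu a b)⁻¹ ∈ rankOneDiagonal A B := by
  obtain ⟨hg1, hgA, hgB⟩ := mem_diag_iff.1 hg
  rw [mem_diag_iff]
  refine ⟨(A ⊔ B).mul_mem ((A ⊔ B).mul_mem (mu_mem_sup hr) hg1) ((A ⊔ B).inv_mem (mu_mem_sup hr)),
    ?_, ?_⟩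
  · rw [← act_mul, ← act_mul, h.act_A_mu hr, hgB, h.act_B_mu_inv hr]
  · rw [← act_mul, ← act_mul, h.act_B_mu hr, hgA, h.act_A_mu_inv hr]

theorem good_two {a : G} (ha : a ^ 2 ≠ 1) : Good 2 a := by
  intro j hj hsm hh
  have hj1 : j = 1 := by
    by_contra hne
    obtain ⟨q, hq, hqj⟩ := Nat.exists_prime_and_dvd hne
    have := hsm q hq hqj
    have := hq.two_le
    omega
  rw [hj1, mul_one] at hh
  exact ha hh

/-- There is an element of the diagonal subgroup raising `a` to its fourth power. -/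
theorem exists_diag_pow_four (h : SpAb A B) {a b : G} (hr : Rel A B a b) (ha2 : a ^ 2 ≠ 1) :
    ∃ g ∈ rankOneDiagonal A B, g⁻¹ * a * g = a ^ 4 := by
  obtain ⟨c, hc⟩ := Rel.exists_right h.rk (A.pow_mem hr.ha 2) ha2
  have hc2 : c ^ 2 = b := pow_rel 2 (by norm_num) h hr hc (good_two ha2)
  refine ⟨(mu a b)⁻¹ * mu (a ^ 2) c, h.mu_inv_mul_mu_mem hr hc, ?_⟩
  have e1 : mu a b * a * (mu a b)⁻¹ = b⁻¹ := h.mu_conj_a' hr
  have e2 : (mu (a ^ 2) c)⁻¹ * c * mu (a ^ 2) c = (a ^ 2)⁻¹ := h.mu_conj_b hc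
  have e3 : (mu (a ^ 2) c)⁻¹ * b⁻¹ * mu (a ^ 2) c = a ^ 4 := by
    rw [← hc2]
    have : (mu (a ^ 2) c)⁻¹ * (c ^ 2)⁻¹ * mu (a ^ 2) c
        = ((mu (a ^ 2) c)⁻¹ * c * mu (a ^ 2) c)⁻¹ * ((mu (a ^ 2) c)⁻¹ * c * mu (a ^ 2) c)⁻¹ := by
      group
    rw [this, e2, inv_inv, ← pow_add]
  calc ((mu a b)⁻¹ * mu (a ^ 2) c)⁻¹ * a * ((mu a b)⁻¹ * mu (a ^ 2) c)
      = (mu (a ^ 2) c)⁻¹ * (mu a b * a * (mu a b)⁻¹) * mu (a ^ 2) c := by group
    _ = a ^ 4 := by rw [e1, e3]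

/-- `a³ ∈ [A, H]` whenever `a² ≠ 1`. -/
theorem cube_mem_commutator (h : SpAb A B) {a : G} (ha : a ∈ A) (ha2 : a ^ 2 ≠ 1) :
    a ^ 3 ∈ ⁅A, rankOneDiagonal A B⁆ := by
  have ha1 : a ≠ 1 := by
    rintro rfl
    exact ha2 (one_pow 2)
  obtain ⟨b, hr⟩ := Rel.exists_right h.rk ha ha1
  obtain ⟨g, hg, hga⟩ := h.exists_diag_pow_four hr ha2
  have h1 : ⁅g⁻¹, a⁆ ∈ ⁅rankOneDiagonal A B, A⁆ :=
    Subgroup.commutator_mem_commutator (Subgroup.inv_mem _ hg) ha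
  rw [Subgroup.commutator_comm] at h1
  have h2 : ⁅g⁻¹, a⁆ = a ^ 3 := by
    rw [commutatorElement_def, inv_inv, hga]
    rw [show (4 : ℕ) = 3 + 1 from rfl, pow_succ, mul_assoc, mul_inv_cancel, mul_one]
  rwa [h2] at h1

end SpAb

end Cfsg.Agent.Lib.H6.SpR1
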