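import Mathlib
import Cfsg.Prelude.Def_RootSubgroups
import Cfsg.Agent.Lib.H6.SpR6

set_option autoImplicit false

/-! Special rank one groups with abelian unipotent subgroups: the configuration in which
`[A, H]` lies in a cyclic subgroup `⟨a₀⟩`. -/

open Cfsg Cfsg.Agent.Lib.H25
open scoped commutatorElement

namespace Cfsg.Agent.Lib.H6.SpR1

variable {G : Type*} [Group G] {A B : Subgroup G}

/-- No non-identity element of `B` fixes a point `B^y` with `y ∈ A#`. -/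
theorem eq_one_of_fix_point (hr : IsRankOnePair A B) {b y : G} (hb : b ∈ B) (hy : y ∈ A)
    (hy1 : y ≠ 1) (hfix : act B (y * b) = act B y) : b = 1 := by
  have hr' := RankOnePair_symm hr
  have hC : act B y⁻¹ ∈ unipotentSubgroups B A := by
    refine ⟨y, Subgroup.mem_sup_right hy, ?_⟩
    rw [act_def, inv_inv]
  have hne : act B y⁻¹ ≠ B := by
    intro hE
    apply hy1
    have : y ∈ Subgroup.normalizer (B : Set G) := by
      rw [act_def, inv_inv] at hE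
      exact conjBy_eq_self_iff.1 hE
    exact RankOne.eq_one_of_mem_normalizer hr hy this
  have hmem : y * b * y⁻¹ ∈ act B y⁻¹ := by
    rw [mem_act]
    simpa [mul_assoc] using hb
  have hnorm : y * b * y⁻¹ ∈ Subgroup.normalizer (B : Set G) := by
    apply SpAb.mem_normalizer_of_act
    rw [← act_mul, hfix, act_mul, mul_inv_cancel, act_one]
  have := RankOne.eq_one_of_mem_of_mem_normalizer hr' hC hne hmem hnorm
  have e := congrArg (fun t => y⁻¹ * t * y) this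
  simpa [mul_assoc] using e

/-- Hypotheses of the small-commutator configuration. -/
structure Small (A B : Subgroup G) (a₀ b₀ : G) : Prop where
  sp : SpAb A B
  rel : Rel A B a₀ b₀
  small : ∀ a ∈ A, ∀ g ∈ rankOneDiagonal A B, ⁅a, g⁆ ∈ Subgroup.zpowers a₀

namespace Small

open SpAb

variable {a₀ b₀ : G}

theorem mu_conj_zpow_a (hS : Small A B a₀ b₀) (k : ℤ) :
    (mu a₀ b₀)⁻¹ * a₀ ^ k * mu a₀ b₀ = (b₀⁻¹) ^ k := by
  have := conj_zpow (a := (mu a₀ b₀)⁻¹) (b := a₀) (i := k)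
  rw [inv_inv] at this
  rw [← this, hS.sp.mu_conj_a hS.rel]

theorem mu_conj_zpow_b (hS : Small A B a₀ b₀) (k : ℤ) :
    mu a₀ b₀ * b₀ ^ k * (mu a₀ b₀)⁻¹ = (a₀⁻¹) ^ k := by
  have := conj_zpow (a := mu a₀ b₀) (b := b₀) (i := k)
  rw [← this, hS.sp.mu_conj_b' hS.rel]

theorem conj_mem_V (hS : Small A B a₀ b₀) {w : G} (hw : w ∈ Subgroup.zpowers b₀) :
    mu a₀ b₀ * w * (mu a₀ b₀)⁻¹ ∈ Subgroup.zpowers a₀ := by
  obtain ⟨k, rfl⟩ := hw
  rw [hS.mu_conj_zpow_b k]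
  exact Subgroup.zpow_mem _ (Subgroup.inv_mem _ (Subgroup.mem_zpowers a₀)) k

theorem conj_mem_W (hS : Small A B a₀ b₀) {v : G} (hv : v ∈ Subgroup.zpowers a₀) :
    (mu a₀ b₀)⁻¹ * v * mu a₀ b₀ ∈ Subgroup.zpowers b₀ := by
  obtain ⟨k, rfl⟩ := hv
  rw [hS.mu_conj_zpow_a k]
  exact Subgroup.zpow_mem _ (Subgroup.inv_mem _ (Subgroup.mem_zpowers b₀)) k

theorem zpowers_a_le (hS : Small A B a₀ b₀) : Subgroup.zpowers a₀ ≤ A := by
  rw [Subgroup.zpowers_le]; exact hS.rel.ha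

theorem zpowers_b_le (hS : Small A B a₀ b₀) : Subgroup.zpowers b₀ ≤ B := by
  rw [Subgroup.zpowers_le]; exact hS.rel.hb

/-- `[B, H] ≤ ⟨b₀⟩`. -/
theorem small_B (hS : Small A B a₀ b₀) {b g : G} (hb : b ∈ B) (hg : g ∈ rankOneDiagonal A B) :
    ⁅b, g⁆ ∈ Subgroup.zpowers b₀ := by
  set μ := mu a₀ b₀ with hμ
  have ha' : μ * b * μ⁻¹ ∈ A := by
    have : b ∈ act A μ := by rw [hS.sp.act_A_mu hS.rel]; exact hb
    exact mem_act.1 this
  have hg' := hS.sp.mu_conj_diag hS.rel hg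
  have h1 := hS.small _ ha' _ hg'
  have h2 := hS.conj_mem_W h1
  have e : μ⁻¹ * ⁅μ * b * μ⁻¹, μ * g * μ⁻¹⁆ * μ = ⁅b, g⁆ := by
    rw [commutatorElement_def, commutatorElement_def]; group
  rwa [← hμ, e] at h2

/-- The partner of `t` lies in the coset `μ₀⁻¹ t⁻¹ μ₀ ⟨b₀⟩`. -/
theorem partner_coset (hS : Small A B a₀ b₀) {t c : G} (hr : Rel A B t c) :
    ∃ w ∈ Subgroup.zpowers b₀, c = (mu a₀ b₀)⁻¹ * t⁻¹ * mu a₀ b₀ * w := by
  set μ := mu a₀ b₀ with hμ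
  set g := μ⁻¹ * mu t c with hg
  have hgH : g ∈ rankOneDiagonal A B := hS.sp.mu_inv_mul_mu_mem hS.rel hr
  have hy : μ⁻¹ * t * μ ∈ B := by
    have : μ⁻¹ * t * μ ∈ act A μ := by
      rw [mem_act]; simpa [mul_assoc] using hr.ha
    rwa [hS.sp.act_A_mu hS.rel] at this
  have hw := hS.small_B hy (Subgroup.inv_mem _ hgH)
  refine ⟨_, hw, ?_⟩
  have e1 : (mu t c)⁻¹ * t * mu t c = c⁻¹ := hS.sp.mu_conj_a hr
  have e2 : mu t c = μ * g := by rw [hg]; group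
  rw [e2] at e1
  have e3 : c = ((μ * g)⁻¹ * t * (μ * g))⁻¹ := by rw [e1, inv_inv]
  rw [e3, commutatorElement_def]
  group

/-- `⟨b₀⟩`-orbits of points outside the small set are `⟨a₀⟩`-orbits. -/
theorem orb (hS : Small A B a₀ b₀) {t w : G} (ht : t ∈ A) (htV : t ∉ Subgroup.zpowers a₀)
    (hw : w ∈ Subgroup.zpowers b₀) :
    ∃ v ∈ Subgroup.zpowers a₀, act B (t * w) = act B (t * v) := by
  set μ := mu a₀ b₀ with hμ
  have ht1 : t ≠ 1 := by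
    rintro rfl
    exact htV (Subgroup.one_mem _)
  obtain ⟨c, hc⟩ := Rel.exists_right hS.sp.rk ht ht1
  obtain ⟨w₁, hw₁, hcw₁⟩ := hS.partner_coset hc
  rw [← hμ] at hcw₁
  by_cases hcw : c * w = 1
  · exfalso
    apply htV
    have h1 : μ⁻¹ * t⁻¹ * μ ∈ Subgroup.zpowers b₀ := by
      have : μ⁻¹ * t⁻¹ * μ = c * w₁⁻¹ := by rw [hcw₁]; group
      rw [this]
      have hc' : c = w⁻¹ := eq_inv_of_mul_eq_one_left hcw
      rw [hc']
      exact Subgroup.mul_mem _ (Subgroup.inv_mem _ hw) (Subgroup.inv_mem _ hw₁)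
    have h2 := hS.conj_mem_V h1
    have e : μ * (μ⁻¹ * t⁻¹ * μ) * μ⁻¹ = t⁻¹ := by group
    rw [← hμ, e] at h2
    simpa using Subgroup.inv_mem _ h2
  · have hcwB : c * w ∈ B := B.mul_mem hc.hb (hS.zpowers_b_le hw)
    obtain ⟨t', ht'⟩ := Rel.exists_left hS.sp.rk hcwB hcw
    obtain ⟨w₂, hw₂, hcw₂⟩ := hS.partner_coset ht'
    rw [← hμ] at hcw₂
    have h1 : μ⁻¹ * (t * t'⁻¹) * μ ∈ Subgroup.zpowers b₀ := by
      have : μ⁻¹ * (t * t'⁻¹) * μ = w₁ * w * w₂⁻¹ := by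
        have e1 : μ⁻¹ * (t * t'⁻¹) * μ = (μ⁻¹ * t⁻¹ * μ)⁻¹ * (μ⁻¹ * t'⁻¹ * μ) := by group
        have e2 : μ⁻¹ * t'⁻¹ * μ = c * w * w₂⁻¹ := by rw [hcw₂]; group
        have e3 : (μ⁻¹ * t⁻¹ * μ)⁻¹ = w₁ * c⁻¹ := by
          have : μ⁻¹ * t⁻¹ * μ = c * w₁⁻¹ := by rw [hcw₁]; group
          rw [this]; group
        rw [e1, e2, e3]; group
      rw [this]
      exact Subgroup.mul_mem _ (Subgroup.mul_mem _ hw₁ hw) (Subgroup.inv_mem _ hw₂)
    have h2 := hS.conj_mem_V h1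
    have e : μ * (μ⁻¹ * (t * t'⁻¹) * μ) * μ⁻¹ = t * t'⁻¹ := by group
    rw [← hμ, e] at h2
    refine ⟨(t * t'⁻¹)⁻¹, Subgroup.inv_mem _ h2, ?_⟩
    have e4 : t * (t * t'⁻¹)⁻¹ = t' := by
      rw [mul_inv_rev, inv_inv, hS.sp.cA t' ht'.ha t⁻¹ (A.inv_mem ht), ← mul_assoc,
        mul_inv_cancel, one_mul]
    rw [e4, ← act_mul, ← hc.eq, act_mul, ht'.eq]

/-- `b₀` moves each outside point within its `⟨a₀⟩`-orbit, without fixing it. -/
theorem step (hS : Small A B a₀ b₀) {z : G} (hz : z ∈ A) (hzV : z ∉ Subgroup.zpowers a₀) :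
    ∃ v ∈ Subgroup.zpowers a₀, v ≠ 1 ∧ act B (z * b₀) = act B (z * v) := by
  obtain ⟨v, hv, hE⟩ := hS.orb hz hzV (Subgroup.mem_zpowers b₀)
  refine ⟨v, hv, ?_, hE⟩
  rintro rfl
  rw [mul_one] at hE
  have hz1 : z ≠ 1 := by
    rintro rfl
    exact hzV (Subgroup.one_mem _)
  exact hS.rel.hb1 (eq_one_of_fix_point hS.sp.rk hS.rel.hb hz hz1 hE)

end Small

end Cfsg.Agent.Lib.H6.SpR1
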