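import Mathlib
import Cfsg.Prelude.Def_RootSubgroups
import Cfsg.Agent.Lib.H6.SpR7

set_option autoImplicit false

/-! Special rank one groups with abelian unipotent subgroups: the commutator of `a₀` and `b₀`
fixes every point outside the small set. -/

open Cfsg Cfsg.Agent.Lib.H25
open scoped commutatorElement

namespace Cfsg.Agent.Lib.H6.SpR1

variable {G : Type*} [Group G] {A B : Subgroup G}

theorem mem_zpowers_cases {a v : G} (h23 : a ^ 2 = 1 ∨ a ^ 3 = 1)
    (hv : v ∈ Subgroup.zpowers a) : v = 1 ∨ v = a ∨ v = a⁻¹ := by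
  obtain ⟨k, hk⟩ := Subgroup.mem_zpowers_iff.1 hv
  subst hk
  rcases h23 with h2 | h3
  · have h2' : a ^ (2 : ℤ) = 1 := by
      rw [show (2 : ℤ) = ((2 : ℕ) : ℤ) from rfl, zpow_natCast]; exact h2
    rw [zpow_eq_zpow_emod k h2']
    rcases Int.emod_two_eq_zero_or_one k with h | h
    · left; rw [h, zpow_zero]
    · right; left; rw [h, zpow_one]
  · have h3' : a ^ (3 : ℤ) = 1 := by
      rw [show (3 : ℤ) = ((3 : ℕ) : ℤ) from rfl, zpow_natCast]; exact h3
    rw [zpow_eq_zpow_emod k h3']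
    have hk : k % 3 = 0 ∨ k % 3 = 1 ∨ k % 3 = 2 := by omega
    rcases hk with h | h | h
    · left; rw [h, zpow_zero]
    · right; left; rw [h, zpow_one]
    · right; right
      rw [h]
      apply eq_inv_of_mul_eq_one_left
      rw [show (2 : ℤ) = ((2 : ℕ) : ℤ) from rfl, zpow_natCast, ← pow_succ]
      exact h3

namespace Small

open SpAb

variable {a₀ b₀ : G}

theorem mul_not_mem (_hS : Small A B a₀ b₀) {z v : G} (hzV : z ∉ Subgroup.zpowers a₀)
    (hv : v ∈ Subgroup.zpowers a₀) : z * v ∉ Subgroup.zpowers a₀ := by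
  intro hh
  apply hzV
  have := Subgroup.mul_mem _ hh (Subgroup.inv_mem _ hv)
  simpa [mul_assoc] using this

theorem comm_step (hS : Small A B a₀ b₀) (h23 : a₀ ^ 2 = 1 ∨ a₀ ^ 3 = 1) {z u : G} (hz : z ∈ A)
    (hzV : z ∉ Subgroup.zpowers a₀) (hu : u ∈ Subgroup.zpowers a₀) (hu1 : u ≠ 1)
    (hE : act B (z * b₀) = act B (z * u)) : act B (z * a₀ * b₀) = act B (z * a₀ * u) := by
  have hza : z * a₀ ∈ A := A.mul_mem hz hS.rel.ha
  have hzaV : z * a₀ ∉ Subgroup.zpowers a₀ := hS.mul_not_mem hzV (Subgroup.mem_zpowers a₀)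
  have hz1 : z ≠ 1 := by
    rintro rfl
    exact hzV (Subgroup.one_mem _)
  obtain ⟨u', hu', hu'1, hE'⟩ := hS.step hza hzaV
  by_cases huu : u' = u
  · rw [← huu]; exact hE'
  exfalso
  have cu : u = a₀ ∨ u = a₀⁻¹ := by
    rcases mem_zpowers_cases h23 hu with h | h | h
    · exact absurd h hu1
    · exact Or.inl h
    · exact Or.inr h
  have cu' : u' = a₀ ∨ u' = a₀⁻¹ := by
    rcases mem_zpowers_cases h23 hu' with h | h | h
    · exact absurd h hu'1
    · exact Or.inl h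
    · exact Or.inr h
  rcases cu with hu0 | hu0 <;> rcases cu' with hu0' | hu0'
  · exact huu (hu0'.trans hu0.symm)
  · -- `u = a₀`, `u' = a₀⁻¹`
    rw [hu0] at hE
    rw [hu0'] at hE'
    have h1 : act B (z * (b₀ * b₀)) = act B z := by
      rw [← mul_assoc, ← act_mul, hE, act_mul, hE', mul_assoc, mul_inv_cancel, mul_one]
    have h2 := eq_one_of_fix_point hS.sp.rk (B.mul_mem hS.rel.hb hS.rel.hb) hz hz1 h1
    have h3 : b₀ ^ 2 = 1 := by rw [pow_two]; exact h2
    have h4 : a₀ ^ 2 = 1 := (hS.sp.pow_eq_one_iff hS.rel 2).2 h3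
    apply huu
    rw [pow_two] at h4
    rw [hu0, hu0']
    exact (eq_inv_of_mul_eq_one_left h4).symm
  · -- `u = a₀⁻¹`, `u' = a₀`
    rw [hu0] at hE
    rw [hu0'] at hE'
    have hne : a₀ ^ 2 ≠ 1 := by
      intro h4
      apply huu
      rw [pow_two] at h4
      rw [hu0, hu0']
      exact eq_inv_of_mul_eq_one_left h4
    have h3 : a₀ ^ 3 = 1 := h23.resolve_left hne
    have h5 : a₀ * a₀ = a₀⁻¹ := by
      apply eq_inv_of_mul_eq_one_left
      rw [← pow_two, ← pow_succ]; exact h3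
    have h6 : act B (z * a₀ * b₀) = act B (z * b₀) := by
      rw [hE', hE, mul_assoc, h5]
    have h7 : act B (z * a₀) = act B z := by
      rw [← act_mul, ← act_mul B z b₀] at h6
      exact act_inj h6
    have h8 := point_inj hS.sp.rk hza hz h7
    apply hS.rel.ha1
    have := congrArg (fun t => z⁻¹ * t) h8
    simpa using this
  · exact huu (hu0'.trans hu0.symm)

/-- The commutator `a₀ b₀ a₀⁻¹ b₀⁻¹` fixes every point outside the small set. -/
theorem fix_outside (hS : Small A B a₀ b₀) (h23 : a₀ ^ 2 = 1 ∨ a₀ ^ 3 = 1) {y : G} (hy : y ∈ A)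
    (hyV : y ∉ Subgroup.zpowers a₀) : act B (y * (a₀ * b₀ * a₀⁻¹ * b₀⁻¹)) = act B y := by
  obtain ⟨u, hu, hu1, hE⟩ := hS.step hy hyV
  have hc := hS.comm_step h23 hy hyV hu hu1 hE
  have huA : u ∈ A := hS.zpowers_a_le hu
  calc act B (y * (a₀ * b₀ * a₀⁻¹ * b₀⁻¹))
      = act (act B (y * a₀ * b₀)) (a₀⁻¹ * b₀⁻¹) := by
        rw [act_mul]; congr 1; group
    _ = act (act B (y * a₀ * u)) (a₀⁻¹ * b₀⁻¹) := by rw [hc]
    _ = act B (y * u * b₀⁻¹) := by
        rw [act_mul]; congr 1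
        have : a₀ * u = u * a₀ := hS.sp.cA _ hS.rel.ha _ huA
        calc y * a₀ * u * (a₀⁻¹ * b₀⁻¹) = y * (a₀ * u) * a₀⁻¹ * b₀⁻¹ := by group
          _ = y * (u * a₀) * a₀⁻¹ * b₀⁻¹ := by rw [this]
          _ = y * u * b₀⁻¹ := by group
    _ = act (act B (y * b₀)) b₀⁻¹ := by rw [← act_mul, hE]
    _ = act B y := by rw [act_mul, mul_assoc, mul_inv_cancel, mul_one]

theorem move_inf (hS : Small A B a₀ b₀) : act A (a₀ * b₀ * a₀⁻¹ * b₀⁻¹) = B := by
  rw [← act_mul, ← act_mul, ← act_mul, act_of_mem hS.rel.ha, hS.rel.eq, act_mul B a₀ a₀⁻¹,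
    mul_inv_cancel, act_one, act_of_mem (B.inv_mem hS.rel.hb)]

end Small

end Cfsg.Agent.Lib.H6.SpR1
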