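import Mathlib
import Cfsg.Prelude.Def_RootSubgroups
import Cfsg.Agent.Lib.H6.SpR8

set_option autoImplicit false

/-! Special rank one groups with abelian unipotent subgroups: the small-commutator
configuration is contradictory in characteristics two and three. -/

open Cfsg Cfsg.Agent.Lib.H25 Cfsg.Agent.Lib.H12
open scoped commutatorElement

namespace Cfsg.Agent.Lib.H6.SpR1

variable {G : Type*} [Group G] {A B : Subgroup G}

theorem sl2_three_comm_pow :
    ((StPres.upM (1 : ZMod 3) * StPres.loM 1 * (StPres.upM 1)⁻¹ * (StPres.loM 1)⁻¹) ^ 4 :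
      Matrix.SpecialLinearGroup (Fin 2) (ZMod 3)) = 1 := by
  decide

namespace SpAb

theorem comm_pow_two (h : SpAb A B) {a b : G} (hr : Rel A B a b) (ha : a ^ 2 = 1) :
    (a * b * a⁻¹ * b⁻¹) ^ 3 = 1 := by
  have hb : b ^ 2 = 1 := (h.pow_eq_one_iff hr 2).1 ha
  have ha' : a⁻¹ = a := by
    rw [pow_two] at ha; exact (eq_inv_of_mul_eq_one_left ha).symm
  have hb' : b⁻¹ = b := by
    rw [pow_two] at hb; exact (eq_inv_of_mul_eq_one_left hb).symm
  have hbr := h.braid hr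
  rw [hb'] at hbr
  rw [ha', hb']
  have haa : a * a = 1 := by rw [← pow_two]; exact ha
  have hbb : b * b = 1 := by rw [← pow_two]; exact hb
  have h3 : a * b * a * b * a * b = 1 := by
    calc a * b * a * b * a * b = (a * b * a) * (b * a * b) := by group
      _ = (a * b * a) * (a * b * a) := by rw [hbr]
      _ = a * b * (a * a) * b * a := by group
      _ = a * (b * b) * a := by rw [haa]; group
      _ = 1 := by rw [hbb, mul_one, haa]
  calc (a * b * a * b) ^ 3 = (a * b * a * b * a * b) * (a * b * a * b * a * b) := by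
        rw [pow_succ, pow_two]; simp only [mul_assoc]
    _ = 1 := by rw [h3, mul_one]

theorem comm_pow_three (h : SpAb A B) {a b : G} (hr : Rel A B a b) (ha : a ^ 3 = 1) :
    (a * b * a⁻¹ * b⁻¹) ^ 4 = 1 := by
  have : Fact (Nat.Prime 3) := ⟨Nat.prime_three⟩
  have e1 : h.phi (p := 3) hr ha (StPres.X true 1) = a := by rw [h.phi_x hr ha, zp_one]
  have e2 : h.phi (p := 3) hr ha (StPres.X false 1) = b := by rw [h.phi_y hr ha, zp_one]
  have key : (StPres.X true (1 : ZMod 3) * StPres.X false 1 * (StPres.X true 1)⁻¹ *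
      (StPres.X false 1)⁻¹) ^ 4 = 1 := by
    apply StPres.toSL_bijective.1
    rw [map_pow, map_mul, map_mul, map_mul, map_inv, map_inv, StPres.toSL_x, StPres.toSL_y,
      map_one]
    exact sl2_three_comm_pow
  have := congrArg (h.phi (p := 3) hr ha) key
  rw [map_pow, map_mul, map_mul, map_mul, map_inv, map_inv, e1, e2, map_one] at this
  exact this

end SpAb

namespace Small

open SpAb

variable {a₀ b₀ : G}

theorem conj_eq_mul (hS : Small A B a₀ b₀) {a g : G} (ha : a ∈ A)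
    (hg : g ∈ rankOneDiagonal A B) : ∃ v ∈ Subgroup.zpowers a₀, g⁻¹ * a * g = a * v := by
  refine ⟨⁅a⁻¹, g⁻¹⁆, hS.small _ (A.inv_mem ha) _ (Subgroup.inv_mem _ hg), ?_⟩
  rw [commutatorElement_def]; group

/-- **The small-commutator configuration is contradictory.** -/
theorem absurd (hS : Small A B a₀ b₀) {p : ℕ} (hp : p = 2 ∨ p = 3) (hA : ∀ a ∈ A, a ^ p = 1)
    {x : G} (hx : x ∈ A) (hxV : x ∉ Subgroup.zpowers a₀) : False := by
  have h := hS.sp
  have hr := hS.rel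
  have h23 : a₀ ^ 2 = 1 ∨ a₀ ^ 3 = 1 := by
    rcases hp with rfl | rfl
    · exact Or.inl (hA _ hr.ha)
    · exact Or.inr (hA _ hr.ha)
  obtain ⟨k, hk⟩ : ∃ k, k = a₀ * b₀ * a₀⁻¹ * b₀⁻¹ := ⟨_, rfl⟩
  have hkpow : k ^ (p + 1) = 1 := by
    rw [hk]
    rcases hp with rfl | rfl
    · exact h.comm_pow_two hr (hA _ hr.ha)
    · exact h.comm_pow_three hr (hA _ hr.ha)
  have hfix : ∀ y ∈ A, y ∉ Subgroup.zpowers a₀ → act B (y * k) = act B y := by
    intro y hy hyV
    rw [hk]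
    exact hS.fix_outside h23 hy hyV
  have hmove : act A k = B := by rw [hk]; exact hS.move_inf
  obtain ⟨y, hy⟩ : ∃ y, y = x⁻¹ * b₀⁻¹ := ⟨_, rfl⟩
  obtain ⟨g, hg⟩ : ∃ g, g = y⁻¹ * k * y := ⟨_, rfl⟩
  have hg' : g = b₀ * x * k * (x⁻¹ * b₀⁻¹) := by rw [hg, hy]; group
  have hxa : x * a₀ ∈ A := A.mul_mem hx hr.ha
  have hxaV : x * a₀ ∉ Subgroup.zpowers a₀ := hS.mul_not_mem hxV (Subgroup.mem_zpowers a₀)
  have hysup : y ∈ A ⊔ B := by
    rw [hy]
    exact (A ⊔ B).mul_mem (Subgroup.mem_sup_left (A.inv_mem hx))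
      (Subgroup.mem_sup_right (B.inv_mem hr.hb))
  have hksup : k ∈ A ⊔ B := by
    rw [hk]
    exact (A ⊔ B).mul_mem ((A ⊔ B).mul_mem ((A ⊔ B).mul_mem (Subgroup.mem_sup_left hr.ha)
      (Subgroup.mem_sup_right hr.hb)) (Subgroup.mem_sup_left (A.inv_mem hr.ha)))
      (Subgroup.mem_sup_right (B.inv_mem hr.hb))
  -- `g` lies in the diagonal subgroup
  have hgA : act A g = A := by
    have e1 : act A (b₀ * x) = act B (x * a₀) := by
      rw [← act_mul A b₀ x, hr.eq, act_mul B a₀ x, h.cA _ hr.ha _ hx]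
    have e2 : act (act B (x * a₀)) k = act B (x * a₀) := by
      rw [act_mul B (x * a₀) k]; exact hfix _ hxa hxaV
    have e3 : act (act B (x * a₀)) (x⁻¹ * b₀⁻¹) = A := by
      have e : x * a₀ * (x⁻¹ * b₀⁻¹) = a₀ * b₀⁻¹ := by
        rw [h.cA _ hx _ hr.ha]; group
      rw [act_mul B (x * a₀) (x⁻¹ * b₀⁻¹), e, ← act_mul B a₀ b₀⁻¹, ← hr.eq, act_mul A b₀ b₀⁻¹,
        mul_inv_cancel, act_one]
    rw [hg', ← act_mul A (b₀ * x * k) (x⁻¹ * b₀⁻¹), ← act_mul A (b₀ * x) k, e1, e2, e3]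
  have hgB : act B g = B := by
    have e1 : act B (b₀ * x) = act B x := by
      rw [← act_mul B b₀ x, act_of_mem hr.hb]
    have e2 : act (act B x) k = act B x := by
      rw [act_mul B x k]; exact hfix _ hx hxV
    have e3 : act (act B x) (x⁻¹ * b₀⁻¹) = B := by
      have e : x * (x⁻¹ * b₀⁻¹) = b₀⁻¹ := by group
      rw [act_mul B x (x⁻¹ * b₀⁻¹), e, act_of_mem (B.inv_mem hr.hb)]
    rw [hg', ← act_mul B (b₀ * x * k) (x⁻¹ * b₀⁻¹), ← act_mul B (b₀ * x) k, e1, e2, e3]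
  have hgH : g ∈ rankOneDiagonal A B := by
    rw [mem_diag_iff]
    refine ⟨?_, hgA, hgB⟩
    rw [hg]
    exact (A ⊔ B).mul_mem ((A ⊔ B).mul_mem ((A ⊔ B).inv_mem hysup) hksup) hysup
  -- `g` centralizes `a₀`
  have hga₀ : g⁻¹ * a₀ * g = a₀ := by
    rcases hp with rfl | rfl
    · obtain ⟨v, hv, hE⟩ := hS.conj_eq_mul hr.ha hgH
      have hmem : g⁻¹ * a₀ * g ∈ Subgroup.zpowers a₀ := by
        rw [hE]; exact Subgroup.mul_mem _ (Subgroup.mem_zpowers a₀) hv
      rcases mem_zpowers_cases h23 hmem with h1 | h1 | h1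
      · exfalso
        apply hr.ha1
        have := congrArg (fun t => g * t * g⁻¹) h1
        simpa [mul_assoc] using this
      · exact h1
      · rw [h1]
        have ha2 : a₀ ^ 2 = 1 := hA _ hr.ha
        rw [pow_two] at ha2
        exact (eq_inv_of_mul_eq_one_left ha2).symm
    · have ha3 : a₀ ^ 3 = 1 := hA _ hr.ha
      have hb3 : b₀ ^ 3 = 1 := (h.pow_eq_one_iff hr 3).1 ha3
      have hbb : b₀ * b₀ = b₀⁻¹ := by
        apply eq_inv_of_mul_eq_one_left
        rw [← pow_two, ← pow_succ]; exact hb3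
      have hbb' : b₀⁻¹ * b₀⁻¹ = b₀ := by
        rw [← mul_inv_rev, hbb, inv_inv]
      have hri := h.rel_inv hr
      have hxa' : x * a₀⁻¹ ∈ A := A.mul_mem hx (A.inv_mem hr.ha)
      have hxaV' : x * a₀⁻¹ ∉ Subgroup.zpowers a₀ :=
        hS.mul_not_mem hxV (Subgroup.inv_mem _ (Subgroup.mem_zpowers a₀))
      have h1 : act B (a₀ * g) = act B a₀ := by
        have f1 : act B (a₀ * b₀ * x) = act B (x * a₀⁻¹) := by
          rw [← act_mul B (a₀ * b₀) x, ← act_mul B a₀ b₀, ← hr.eq, act_mul A b₀ b₀, hbb, hri.eq,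
            act_mul B a₀⁻¹ x, h.cA _ (A.inv_mem hr.ha) _ hx]
        have f2 : act (act B (x * a₀⁻¹)) k = act B (x * a₀⁻¹) := by
          rw [act_mul B (x * a₀⁻¹) k]; exact hfix _ hxa' hxaV'
        have f3 : act (act B (x * a₀⁻¹)) (x⁻¹ * b₀⁻¹) = act B a₀ := by
          have e : x * a₀⁻¹ * (x⁻¹ * b₀⁻¹) = a₀⁻¹ * b₀⁻¹ := by
            rw [h.cA _ hx _ (A.inv_mem hr.ha)]; group
          rw [act_mul B (x * a₀⁻¹) (x⁻¹ * b₀⁻¹), e, ← act_mul B a₀⁻¹ b₀⁻¹, ← hri.eq,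
            act_mul A b₀⁻¹ b₀⁻¹, hbb', hr.eq]
        have e0 : a₀ * g = a₀ * b₀ * x * k * (x⁻¹ * b₀⁻¹) := by rw [hg']; group
        rw [e0, ← act_mul B (a₀ * b₀ * x * k) (x⁻¹ * b₀⁻¹), ← act_mul B (a₀ * b₀ * x) k, f1, f2, f3]
      have h2 : act B (a₀ * g) = act B (g⁻¹ * a₀ * g) := by
        have : a₀ * g = g * (g⁻¹ * a₀ * g) := by group
        rw [this, ← act_mul B g (g⁻¹ * a₀ * g), hgB]
      have hmemA : g⁻¹ * a₀ * g ∈ A := by
        have : g⁻¹ * a₀ * g ∈ act A g := by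
          rw [mem_act]; simpa [mul_assoc] using hr.ha
        rwa [hgA] at this
      exact point_inj h.rk hmemA hr.ha (h2.symm.trans h1)
  have hgV : ∀ v ∈ Subgroup.zpowers a₀, g⁻¹ * v * g = v := by
    intro v hv
    obtain ⟨j, hj⟩ := Subgroup.mem_zpowers_iff.1 hv
    subst hj
    have := conj_zpow (a := g⁻¹) (b := a₀) (i := j)
    rw [inv_inv] at this
    rw [← this, hga₀]
  have hgpow : g ^ (p + 1) = 1 := by
    have e : g = y⁻¹ * k * (y⁻¹)⁻¹ := by rw [inv_inv]; exact hg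
    rw [e, conj_pow, hkpow, mul_one, mul_inv_cancel]
  -- `g` centralizes `A`
  have hgAc : ∀ a ∈ A, g⁻¹ * a * g = a := by
    intro a ha
    obtain ⟨v, hv, hE⟩ := hS.conj_eq_mul ha hgH
    have hind : ∀ n : ℕ, (g ^ n)⁻¹ * a * g ^ n = a * v ^ n := by
      intro n
      induction n with
      | zero => simp
      | succ n ih =>
        calc (g ^ (n + 1))⁻¹ * a * g ^ (n + 1) = g⁻¹ * ((g ^ n)⁻¹ * a * g ^ n) * g := by
              rw [pow_succ]; group
          _ = g⁻¹ * (a * v ^ n) * g := by rw [ih]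
          _ = (g⁻¹ * a * g) * (g⁻¹ * v ^ n * g) := by group
          _ = a * v * v ^ n := by
              rw [hE, hgV _ (Subgroup.pow_mem _ hv n)]
          _ = a * v ^ (n + 1) := by rw [pow_succ', mul_assoc]
    have hvp : v ^ p = 1 := hA _ (hS.zpowers_a_le hv)
    have h1 := hind p
    rw [hvp, mul_one] at h1
    have h2 : g ^ p = g⁻¹ := by
      apply eq_inv_of_mul_eq_one_left
      rw [← pow_succ]; exact hgpow
    rw [h2, inv_inv] at h1
    have h3 : g⁻¹ * (g * a * g⁻¹) * g = g⁻¹ * a * g := by rw [h1]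
    rw [← h3]
    group
  -- `g` centralizes `B`
  have hgBc : ∀ b ∈ B, g⁻¹ * b * g = b := by
    intro b hb
    by_cases hb1 : b = 1
    · rw [hb1]; group
    obtain ⟨a, ha⟩ := Rel.exists_left h.rk hb hb1
    have h1 := ha.conj_diag hgH
    rw [hgAc a ha.ha] at h1
    exact Rel.right_unique h.rk h1 ha
  -- `g` commutes with `y`, so `k = g`
  have hcx : g⁻¹ * x⁻¹ * g = x⁻¹ := hgAc _ (A.inv_mem hx)
  have hcb : g⁻¹ * b₀⁻¹ * g = b₀⁻¹ := hgBc _ (B.inv_mem hr.hb)
  have hcy : g⁻¹ * y * g = y := by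
    calc g⁻¹ * y * g = (g⁻¹ * x⁻¹ * g) * (g⁻¹ * b₀⁻¹ * g) := by rw [hy]; group
      _ = y := by rw [hcx, hcb, hy]
  have hkg : k = g := by
    have e1 : k = y * g * y⁻¹ := by rw [hg]; group
    have e2 : y * g = g * y := by
      have : g * (g⁻¹ * y * g) = g * y := by rw [hcy]
      rw [← this]; group
    rw [e1, e2]; group
  rw [hkg, hgA] at hmove
  exact h.rk.ne hmove

end Small

end Cfsg.Agent.Lib.H6.SpR1
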