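import Mathlib
import Cfsg.Prelude.Def_RootSubgroups
import Cfsg.Agent.Lib.H6.SpR9

set_option autoImplicit false

/-! Special rank one groups with abelian unipotent subgroups: `[A, H]` has more than three
elements as soon as `A` has. -/

open Cfsg Cfsg.Agent.Lib.H25
open scoped commutatorElement

namespace Cfsg.Agent.Lib.H6.SpR1

variable {G : Type*} [Group G] {A B : Subgroup G}

theorem enat_card_le_of_le {P Q : Subgroup G} (h : P ≤ Q) : ENat.card P ≤ ENat.card Q :=
  ENat.card_le_card_of_injective (Subgroup.inclusion_injective h)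

theorem finite_of_enat_card_le {α : Type*} {n : ℕ} (h : ENat.card α ≤ n) : Finite α := by
  rw [← ENat.card_lt_top]
  exact lt_of_le_of_lt h (ENat.coe_lt_top n)

theorem natCard_le_of_enat_card_le {α : Type*} {n : ℕ} (h : ENat.card α ≤ n) : Nat.card α ≤ n := by
  have := finite_of_enat_card_le h
  rw [ENat.card_eq_coe_natCard] at h
  exact_mod_cast h

namespace SpAb

theorem commutator_diag_le (_h : SpAb A B) : ⁅A, rankOneDiagonal A B⁆ ≤ A := by
  rw [Subgroup.commutator_le]
  intro a ha g hg
  obtain ⟨-, hgA, -⟩ := mem_diag_iff.1 hg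
  rw [commutatorElement_def]
  have h1 : g * a⁻¹ * g⁻¹ ∈ A := by
    have : a⁻¹ ∈ act A g := by rw [hgA]; exact A.inv_mem ha
    exact mem_act.1 this
  have : a * g * a⁻¹ * g⁻¹ = a * (g * a⁻¹ * g⁻¹) := by group
  rw [this]
  exact A.mul_mem ha h1

/-- In the torsion-free case and in characteristic `≥ 5`, `A = [A, H]`. -/
theorem le_commutator_diag_of_cube (h : SpAb A B)
    (hcube : ∀ a ∈ A, ∃ c ∈ A, (c = 1 ∨ c ^ 2 ≠ 1) ∧ ∃ n : ℕ, (c ^ 3) ^ n = a) :
    A ≤ ⁅A, rankOneDiagonal A B⁆ := by
  intro a ha
  obtain ⟨c, hc, hc2, n, rfl⟩ := hcube a ha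
  apply Subgroup.pow_mem
  rcases hc2 with rfl | hc2
  · rw [one_pow]; exact Subgroup.one_mem _
  · exact h.cube_mem_commutator hc hc2

/-- **`[A, H]` has more than three elements.** -/
theorem card_commutator_diag (h : SpAb A B) (hA : 3 < ENat.card A) :
    3 < ENat.card ↥(⁅A, rankOneDiagonal A B⁆ : Subgroup G) := by
  have hVA := h.commutator_diag_le
  rcases h.structure_thm with ⟨p, hp, hAp⟩ | ⟨htf, hdiv⟩
  · by_cases hp23 : p = 2 ∨ p = 3
    · by_contra hcard
      rw [not_lt] at hcard
      have hcard' : ENat.card ↥(⁅A, rankOneDiagonal A B⁆ : Subgroup G) ≤ ((3 : ℕ) : ℕ∞) := hcard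
      have hfin : Finite ↥(⁅A, rankOneDiagonal A B⁆ : Subgroup G) := finite_of_enat_card_le hcard'
      have hncard : Nat.card ↥(⁅A, rankOneDiagonal A B⁆ : Subgroup G) ≤ 3 :=
        natCard_le_of_enat_card_le hcard'
      -- choose `a₀`
      have hex : ∃ a₀ ∈ A, a₀ ≠ 1 ∧ ⁅A, rankOneDiagonal A B⁆ ≤ Subgroup.zpowers a₀ := by
        by_cases hbot : ⁅A, rankOneDiagonal A B⁆ = ⊥
        · obtain ⟨a₀, ha₀, ha₀1⟩ := RankOne.exists_ne_one_left h.rk
          exact ⟨a₀, ha₀, ha₀1, by rw [hbot]; exact bot_le⟩
        · obtain ⟨v, hv1⟩ := (Subgroup.ne_bot_iff_exists_ne_one).1 hbot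
          have hv1' : (v : G) ≠ 1 := fun hh => hv1 (Subtype.ext hh)
          have hvA : (v : G) ∈ A := hVA v.2
          refine ⟨v, hvA, hv1', ?_⟩
          have hle : Subgroup.zpowers (v : G) ≤ ⁅A, rankOneDiagonal A B⁆ := by
            rw [Subgroup.zpowers_le]; exact v.2
          have hord : orderOf (v : G) = p := by
            have hd : orderOf (v : G) ∣ p := orderOf_dvd_of_pow_eq_one (hAp _ hvA)
            rcases (Nat.dvd_prime hp).1 hd with h1 | h1
            · exact absurd (orderOf_eq_one_iff.1 h1) hv1'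
            · exact h1
          have hcz : Nat.card (Subgroup.zpowers (v : G)) = p := by
            rw [Nat.card_zpowers, hord]
          have hdvd : p ∣ Nat.card ↥(⁅A, rankOneDiagonal A B⁆ : Subgroup G) := by
            rw [← hcz]; exact Subgroup.card_dvd_of_le hle
          have hpos : 0 < Nat.card ↥(⁅A, rankOneDiagonal A B⁆ : Subgroup G) := Nat.card_pos
          have hge : Nat.card ↥(⁅A, rankOneDiagonal A B⁆ : Subgroup G) ≤
              Nat.card (Subgroup.zpowers (v : G)) := by
            rw [hcz]
            obtain ⟨m, hm⟩ := hdvd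
            rcases hp23 with rfl | rfl
            · have : m = 1 := by omega
              rw [hm, this]
            · have : m = 1 := by omega
              rw [hm, this]
          exact (Subgroup.eq_of_le_of_card_ge hle hge).ge
      obtain ⟨a₀, ha₀, ha₀1, hle⟩ := hex
      obtain ⟨b₀, hr⟩ := Rel.exists_right h.rk ha₀ ha₀1
      have hS : Small A B a₀ b₀ :=
        ⟨h, hr, fun a ha g hg => hle (Subgroup.commutator_mem_commutator ha hg)⟩
      -- an element of `A` outside `⟨a₀⟩`
      have hexx : ∃ x ∈ A, x ∉ Subgroup.zpowers a₀ := by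
        by_contra hno
        push_neg at hno
        have hAle : A ≤ Subgroup.zpowers a₀ := hno
        have hord : orderOf a₀ = p := by
          have hd : orderOf a₀ ∣ p := orderOf_dvd_of_pow_eq_one (hAp _ ha₀)
          rcases (Nat.dvd_prime hp).1 hd with h1 | h1
          · exact absurd (orderOf_eq_one_iff.1 h1) ha₀1
          · exact h1
        have hfinz : Finite (Subgroup.zpowers a₀) := by
          rw [← Nat.card_pos_iff.trans ⟨fun h => h.2, fun h => ⟨⟨1⟩, h⟩⟩]
          rw [Nat.card_zpowers, hord]; exact hp.pos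
        have h1 : ENat.card A ≤ ENat.card (Subgroup.zpowers a₀) := enat_card_le_of_le hAle
        rw [ENat.card_eq_coe_natCard (Subgroup.zpowers a₀), Nat.card_zpowers, hord] at h1
        have h2 : (3 : ℕ∞) < (p : ℕ∞) := lt_of_lt_of_le hA h1
        have h3 : 3 < p := by exact_mod_cast h2
        rcases hp23 with rfl | rfl <;> omega
      obtain ⟨x, hx, hxV⟩ := hexx
      exact hS.absurd hp23 hAp hx hxV
    · -- characteristic at least five
      have h2 : p ≠ 2 := fun hh => hp23 (Or.inl hh)
      have h3 : p ≠ 3 := fun hh => hp23 (Or.inr hh)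
      have hle : A ≤ ⁅A, rankOneDiagonal A B⁆ := by
        apply h.le_commutator_diag_of_cube
        intro a ha
        refine ⟨a, ha, ?_, ?_⟩
        · by_cases ha1 : a = 1
          · exact Or.inl ha1
          · right
            intro hh
            have hord : orderOf a = p := by
              have hd : orderOf a ∣ p := orderOf_dvd_of_pow_eq_one (hAp _ ha)
              rcases (Nat.dvd_prime hp).1 hd with h1 | h1
              · exact absurd (orderOf_eq_one_iff.1 h1) ha1
              · exact h1
            have hd2 : orderOf a ∣ 2 := orderOf_dvd_of_pow_eq_one hh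
            rw [hord] at hd2
            exact h2 ((Nat.prime_dvd_prime_iff_eq hp Nat.prime_two).1 hd2)
        · have hcop : Nat.Coprime 3 p := by
            rw [Nat.coprime_primes Nat.prime_three hp]
            exact fun hh => h3 hh.symm
          obtain ⟨m, -, hm⟩ := Nat.exists_mul_mod_eq_one_of_coprime hcop hp.one_lt
          refine ⟨m, ?_⟩
          rw [← pow_mul]
          have e : 3 * m = p * (3 * m / p) + 1 := by
            have := Nat.div_add_mod (3 * m) p
            omega
          rw [e, pow_succ, pow_mul, hAp _ ha, one_pow, one_mul]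
      exact lt_of_lt_of_le hA (enat_card_le_of_le hle)
  · -- torsion-free, divisible
    have hle : A ≤ ⁅A, rankOneDiagonal A B⁆ := by
      apply h.le_commutator_diag_of_cube
      intro a ha
      obtain ⟨c, hc, hca⟩ := hdiv a ha 3 (by norm_num)
      refine ⟨c, hc, ?_, 1, by rw [pow_one]; exact hca⟩
      by_cases hc1 : c = 1
      · exact Or.inl hc1
      · right
        intro hh
        exact htf c hc hc1 (isOfFinOrder_iff_pow_eq_one.2 ⟨2, by norm_num, hh⟩)
    exact lt_of_lt_of_le hA (enat_card_le_of_le hle)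

end SpAb

end Cfsg.Agent.Lib.H6.SpR1
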