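import Mathlib
import Cfsg.Prelude.Def_RootSubgroups
import Cfsg.Prelude.Def_CaseTheorems
import Cfsg.Agent.Lib.H6.SpR10
import Cfsg.Agent.Lib.H25.RankOneGroup

set_option autoImplicit false

/-! Special rank one groups with abelian unipotent subgroups and more than three elements in
`A`: `X = X' A` and `X'` is quasisimple. -/

open Cfsg Cfsg.Agent.Lib.H25
open scoped commutatorElement

namespace Cfsg.Agent.Lib.H6.SpR1

variable {X : Type*} [Group X] {A B : Subgroup X}

theorem inf_center_eq_bot (hr : IsRankOnePair A B) : A ⊓ Subgroup.center X = ⊥ := by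
  rw [eq_bot_iff]
  intro a ha
  rw [Subgroup.mem_bot]
  exact RankOne.eq_one_of_mem_normalizer hr ha.1 (Subgroup.center_le_normalizer (B : Set X) ha.2)

theorem ne_bot_of_three_lt {P : Subgroup X} (h : 3 < ENat.card P) : P ≠ ⊥ := by
  rintro rfl
  have h1 : ENat.card (⊥ : Subgroup X) ≤ 1 := ENat.card_le_one
  have h2 : (3 : ℕ∞) < 1 := lt_of_lt_of_le h h1
  exact absurd h2 (by norm_num)

theorem exists_mul_of_sup_eq_top {L A : Subgroup X} [L.Normal] (hLA : L ⊔ A = ⊤) (g : X) :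
    ∃ l ∈ L, ∃ a ∈ A, g = l * a := by
  have hg : g ∈ ((L ⊔ A : Subgroup X) : Set X) := by rw [hLA]; trivial
  rw [Subgroup.normal_mul] at hg
  obtain ⟨l, hl, a, ha, rfl⟩ := Set.mem_mul.1 hg
  exact ⟨l, hl, a, ha, rfl⟩

/-- If `L` is normal, `L ⊔ A = ⊤` and `A` is abelian, then the commutator subgroup lies in `L`. -/
theorem commutator_le_of_sup_eq_top {L A : Subgroup X} [hL : L.Normal] (hLA : L ⊔ A = ⊤)
    (hc : ∀ x ∈ A, ∀ y ∈ A, x * y = y * x) : commutator X ≤ L := by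
  rw [commutator_def, Subgroup.commutator_le]
  intro g₁ _ g₂ _
  obtain ⟨l₁, hl₁, a₁, ha₁, rfl⟩ := exists_mul_of_sup_eq_top hLA g₁
  obtain ⟨l₂, hl₂, a₂, ha₂, rfl⟩ := exists_mul_of_sup_eq_top hLA g₂
  rw [← QuotientGroup.eq_one_iff (N := L)]
  have e1 : ((l₁ * a₁ : X) : X ⧸ L) = (a₁ : X ⧸ L) := by
    rw [QuotientGroup.mk_mul, (QuotientGroup.eq_one_iff l₁).2 hl₁, one_mul]
  have e2 : ((l₂ * a₂ : X) : X ⧸ L) = (a₂ : X ⧸ L) := by
    rw [QuotientGroup.mk_mul, (QuotientGroup.eq_one_iff l₂).2 hl₂, one_mul]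
  have e3 : ((⁅l₁ * a₁, l₂ * a₂⁆ : X) : X ⧸ L) = ((⁅a₁, a₂⁆ : X) : X ⧸ L) := by
    have h1 := map_commutatorElement (QuotientGroup.mk' L) (l₁ * a₁) (l₂ * a₂)
    have h2 := map_commutatorElement (QuotientGroup.mk' L) a₁ a₂
    simp only [QuotientGroup.mk'_apply] at h1 h2
    rw [h1, h2, e1, e2]
  rw [e3]
  have : ⁅a₁, a₂⁆ = 1 := by
    rw [commutatorElement_eq_one_iff_commute]; exact hc _ ha₁ _ ha₂
  rw [this]; rfl

/-- A special rank one group with abelian unipotent subgroups having more than three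
elements. -/
structure Big (A B : Subgroup X) : Prop where
  top : A ⊔ B = ⊤
  sp : SpAb A B
  card : 3 < ENat.card A

namespace Big

theorem rankOneGroup (hB : Big A B) : IsRankOneGroup X A B := ⟨hB.top, hB.sp.rk⟩

theorem commutator_diag_le (hB : Big A B) :
    ⁅A, rankOneDiagonal A B⁆ ≤ A ⊓ commutator X := by
  refine le_inf hB.sp.commutator_diag_le ?_
  rw [commutator_def]
  exact Subgroup.commutator_mono le_top le_top

theorem card_inf (hB : Big A B) : 3 < ENat.card ↥(A ⊓ commutator X) :=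
  lt_of_lt_of_le (hB.sp.card_commutator_diag hB.card) (enat_card_le_of_le hB.commutator_diag_le)

theorem inf_ne_bot (hB : Big A B) : A ⊓ commutator X ≠ ⊥ := ne_bot_of_three_lt hB.card_inf

theorem sup_eq_top (hB : Big A B) : commutator X ⊔ A = ⊤ := by
  rcases rankOne_normal_dichotomy hB.rankOneGroup (commutator X) with h1 | h1
  · exact h1
  · exfalso
    apply hB.inf_ne_bot
    rw [eq_bot_iff, ← inf_center_eq_bot hB.sp.rk]
    exact le_inf inf_le_left (inf_le_right.trans h1)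

/-- Every other unipotent subgroup forms a special pair with `A`. -/
theorem spAb_of_moves (hB : Big A B) {m : X} (hm : act A m ≠ A) : SpAb A (act A m) := by
  have hmem : act A m ∈ unipotentSubgroups A B := by
    refine ⟨m⁻¹, ?_, rfl⟩
    rw [hB.top]; trivial
  rw [RankOne.unipotentSubgroups_eq hB.sp.rk] at hmem
  rcases hmem with h1 | ⟨a, ha, h1⟩
  · exact absurd h1 hm
  · have h2 := hB.sp.conj a⁻¹
    rw [act_of_mem (A.inv_mem ha)] at h2
    rw [h1]
    have : conjBy B a = act B a⁻¹ := by rw [act_def, inv_inv]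
    rw [this]
    exact h2

theorem normalized_of_normal {N : Subgroup X} [hN : N.Normal] (P : Subgroup X) :
    ∀ g ∈ P, ∀ n ∈ N, g * n * g⁻¹ ∈ N := fun g _ n hn => hN.conj_mem n hn g

/-- The commutator subgroup is perfect. -/
theorem commutator_perfect (hB : Big A B) : ⁅commutator X, commutator X⁆ = commutator X := by
  apply le_antisymm (Subgroup.commutator_le_left _ _)
  have hnorm : (⁅commutator X, commutator X⁆ : Subgroup X).Normal := inferInstance
  rcases rankOne_normal_dichotomy hB.rankOneGroup ⁅commutator X, commutator X⁆ with h1 | h1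
  · exact commutator_le_of_sup_eq_top h1 hB.sp.cA
  · exfalso
    have hsub : SpAb (A ⊓ commutator X) (B ⊓ commutator X) :=
      hB.sp.inf (normalized_of_normal _) hB.inf_ne_bot
    have h2 := hsub.card_commutator_diag hB.card_inf
    have h3 : ⁅A ⊓ commutator X, rankOneDiagonal (A ⊓ commutator X) (B ⊓ commutator X)⁆ ≤
        A ⊓ Subgroup.center X := by
      refine le_inf (hsub.commutator_diag_le.trans inf_le_left) ?_
      refine le_trans ?_ h1
      apply Subgroup.commutator_mono inf_le_right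
      intro g hg
      have hg1 : g ∈ (A ⊓ commutator X) ⊔ (B ⊓ commutator X) := (mem_diag_iff.1 hg).1
      exact (sup_le inf_le_right inf_le_right : (A ⊓ commutator X) ⊔ (B ⊓ commutator X) ≤ _) hg1
    rw [inf_center_eq_bot hB.sp.rk] at h3
    exact ne_bot_of_three_lt h2 (le_bot_iff.1 h3)

end Big

/-- The product `M A₀` of a subgroup `M` and a subgroup `A₀` normalizing it. -/
def mulSub (M A₀ : Subgroup X) (hn : ∀ a ∈ A₀, ∀ m ∈ M, a * m * a⁻¹ ∈ M) : Subgroup X where
  carrier := {g | ∃ m ∈ M, ∃ a ∈ A₀, g = m * a}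
  one_mem' := ⟨1, M.one_mem, 1, A₀.one_mem, by simp⟩
  mul_mem' := by
    rintro _ _ ⟨m₁, hm₁, a₁, ha₁, rfl⟩ ⟨m₂, hm₂, a₂, ha₂, rfl⟩
    refine ⟨m₁ * (a₁ * m₂ * a₁⁻¹), M.mul_mem hm₁ (hn a₁ ha₁ m₂ hm₂), a₁ * a₂, A₀.mul_mem ha₁ ha₂, ?_⟩
    group
  inv_mem' := by
    rintro _ ⟨m, hm, a, ha, rfl⟩
    refine ⟨a⁻¹ * m⁻¹ * a⁻¹⁻¹, hn a⁻¹ (A₀.inv_mem ha) m⁻¹ (M.inv_mem hm), a⁻¹, A₀.inv_mem ha, ?_⟩
    group

theorem mem_mulSub {M A₀ : Subgroup X} {hn : ∀ a ∈ A₀, ∀ m ∈ M, a * m * a⁻¹ ∈ M} {g : X} :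
    g ∈ mulSub M A₀ hn ↔ ∃ m ∈ M, ∃ a ∈ A₀, g = m * a := Iff.rfl

namespace Big

/-- A subgroup of `X'`, normalized by `X'`, all of whose elements normalize `A`, is central. -/
theorem le_center_of_le_normalizer (hB : Big A B) {M : Subgroup X}
    (hnorm : ∀ n ∈ commutator X, ∀ m ∈ M, n * m * n⁻¹ ∈ M)
    (hMA : M ≤ Subgroup.normalizer (A : Set X)) : M ≤ Subgroup.center X := by
  have hAN : A ≤ Subgroup.normalizer (A : Set X) := Subgroup.le_normalizer
  have hMK : M ≤ (Subgroup.normalizer (A : Set X)).normalCore := by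
    intro m hm x
    obtain ⟨l, hl, a, ha, hx⟩ := exists_mul_of_sup_eq_top hB.sup_eq_top x⁻¹
    have hx' : x = a⁻¹ * l⁻¹ := by
      have := congrArg (fun t => t⁻¹) hx
      simpa using this
    have e : x * m * x⁻¹ = a⁻¹ * (l⁻¹ * m * l⁻¹⁻¹) * a⁻¹⁻¹ := by rw [hx']; group
    rw [e]
    exact Subgroup.mul_mem _ (Subgroup.mul_mem _ (hAN (A.inv_mem ha))
      (hMA (hnorm _ (Subgroup.inv_mem _ hl) m hm))) (Subgroup.inv_mem _ (hAN (A.inv_mem ha)))
  refine hMK.trans ?_
  rcases rankOne_normal_dichotomy hB.rankOneGroup (Subgroup.normalizer (A : Set X)).normalCore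
    with h1 | h1
  · exfalso
    have htop : Subgroup.normalizer (A : Set X) = ⊤ := by
      rw [eq_top_iff, ← h1]
      exact sup_le (Subgroup.normalCore_le _) hAN
    obtain ⟨b, hb, hb1⟩ := RankOne.exists_ne_one_right hB.sp.rk
    apply hb1
    apply RankOne.eq_one_of_mem_normalizer' hB.sp.rk hb
    rw [htop]; trivial
  · exact h1

/-- **Normal subgroups of `X'`.** A subgroup of `X'` normalized by `X'` is `X'` or central. -/
theorem normal_dichotomy (hB : Big A B) {M : Subgroup X} (hMN : M ≤ commutator X)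
    (hnorm : ∀ n ∈ commutator X, ∀ m ∈ M, n * m * n⁻¹ ∈ M) :
    M = commutator X ∨ M ≤ Subgroup.center X := by
  by_cases hMA : M ≤ Subgroup.normalizer (A : Set X)
  · exact Or.inr (hB.le_center_of_le_normalizer hnorm hMA)
  left
  obtain ⟨m, hm, hmA⟩ := SetLike.not_le_iff_exists.1 hMA
  have hmove : act A m ≠ A := by
    intro hE
    apply hmA
    exact SpAb.mem_normalizer_of_act hE
  have hsp := hB.spAb_of_moves hmove
  have hsub : SpAb (A ⊓ commutator X) (act A m ⊓ commutator X) :=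
    hsp.inf (normalized_of_normal _) hB.inf_ne_bot
  have hP₀ : act A m ⊓ commutator X = act (A ⊓ commutator X) m := by
    symm
    apply act_inf_of_normalizes
    · intro n hn
      exact (inferInstance : (commutator X).Normal).conj_mem n hn m
    · intro n hn
      have := (inferInstance : (commutator X).Normal).conj_mem n hn m⁻¹
      rwa [inv_inv] at this
  have hcard := hsub.card_commutator_diag hB.card_inf
  -- the product `M A₀`
  have hn : ∀ a ∈ A ⊓ commutator X, ∀ m' ∈ M, a * m' * a⁻¹ ∈ M :=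
    fun a ha m' hm' => hnorm a ha.2 m' hm'
  have hS : (A ⊓ commutator X) ⊔ (act A m ⊓ commutator X) ≤ mulSub M (A ⊓ commutator X) hn := by
    refine sup_le ?_ ?_
    · intro a ha
      exact ⟨1, M.one_mem, a, ha, by simp⟩
    · intro q hq
      rw [hP₀, mem_act] at hq
      refine ⟨m⁻¹ * ((m * q * m⁻¹) * m * (m * q * m⁻¹)⁻¹), ?_, m * q * m⁻¹, hq, by group⟩
      exact M.mul_mem (M.inv_mem hm) (hn _ hq m hm)
  have hle : ⁅A ⊓ commutator X, rankOneDiagonal (A ⊓ commutator X) (act A m ⊓ commutator X)⁆ ≤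
      M ⊓ A := by
    refine le_inf ?_ (hsub.commutator_diag_le.trans inf_le_left)
    rw [Subgroup.commutator_le]
    intro a ha g hg
    obtain ⟨m', hm', a', ha', rfl⟩ := hS (mem_diag_iff.1 hg).1
    have hcomm : a' * a⁻¹ * a'⁻¹ = a⁻¹ := by
      rw [hB.sp.cA a' ha'.1 a⁻¹ (A.inv_mem ha.1)]; group
    have e : ⁅a, m' * a'⁆ = (a * m' * a⁻¹) * m'⁻¹ := by
      rw [commutatorElement_def]
      calc a * (m' * a') * a⁻¹ * (m' * a')⁻¹ = a * m' * (a' * a⁻¹ * a'⁻¹) * m'⁻¹ := by group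
        _ = a * m' * a⁻¹ * m'⁻¹ := by rw [hcomm]
    rw [e]
    exact M.mul_mem (hn a ha m' hm') (M.inv_mem hm')
  obtain ⟨a₁, ha₁1⟩ := (Subgroup.ne_bot_iff_exists_ne_one).1 (ne_bot_of_three_lt hcard)
  have ha₁1' : (a₁ : X) ≠ 1 := fun hh => ha₁1 (Subtype.ext hh)
  have ha₁ : (a₁ : X) ∈ M ⊓ A := hle a₁.2
  -- the normal core of `M`
  have hcore : (a₁ : X) ∈ M.normalCore := by
    intro x
    obtain ⟨l, hl, a, ha, rfl⟩ := exists_mul_of_sup_eq_top hB.sup_eq_top x
    have hcomm : a * (a₁ : X) * a⁻¹ = a₁ := by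
      rw [hB.sp.cA a ha _ ha₁.2]; group
    have e : l * a * (a₁ : X) * (l * a)⁻¹ = l * (a * (a₁ : X) * a⁻¹) * l⁻¹ := by group
    rw [e, hcomm]
    exact hnorm l hl _ ha₁.1
  rcases rankOne_normal_dichotomy hB.rankOneGroup M.normalCore with h1 | h1
  · have := commutator_le_of_sup_eq_top h1 hB.sp.cA
    exact le_antisymm hMN (this.trans (Subgroup.normalCore_le M))
  · exfalso
    apply ha₁1'
    have : (a₁ : X) ∈ A ⊓ Subgroup.center X := ⟨ha₁.2, h1 hcore⟩
    rw [inf_center_eq_bot hB.sp.rk] at this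
    exact this

end Big

end Cfsg.Agent.Lib.H6.SpR1
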