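import Mathlib
import Cfsg.Prelude.Def_RootSubgroups
import Cfsg.Prelude.Def_CaseTheorems
import Cfsg.Agent.Lib.H6.SpR11

set_option autoImplicit false

/-! Special rank one groups with abelian unipotent subgroups and more than three elements in
`A`: the commutator subgroup is quasisimple. -/

open Cfsg Cfsg.Agent.Lib.H25
open scoped commutatorElement

namespace Cfsg.Agent.Lib.H6.SpR1

variable {X : Type*} [Group X] {A B : Subgroup X}

namespace Big

/-- Normal subgroups of the group `X'`. -/
theorem normal_dichotomy' (hB : Big A B) (M : Subgroup ↥(commutator X)) [hM : M.Normal] :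
    M = ⊤ ∨ M ≤ Subgroup.center ↥(commutator X) := by
  have hMN : M.map (commutator X).subtype ≤ commutator X := by
    rintro _ ⟨m, -, rfl⟩
    exact m.2
  have hnorm : ∀ n ∈ commutator X, ∀ m ∈ M.map (commutator X).subtype,
      n * m * n⁻¹ ∈ M.map (commutator X).subtype := by
    rintro n hn _ ⟨m, hm, rfl⟩
    exact ⟨⟨n, hn⟩ * m * ⟨n, hn⟩⁻¹, hM.conj_mem m hm ⟨n, hn⟩, rfl⟩
  rcases hB.normal_dichotomy hMN hnorm with h1 | h1
  · left
    rw [eq_top_iff]
    intro n _
    have : (n : X) ∈ M.map (commutator X).subtype := by rw [h1]; exact n.2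
    obtain ⟨m, hm, hmn⟩ := this
    have : m = n := Subtype.ext hmn
    rwa [this] at hm
  · right
    intro m hm
    rw [Subgroup.mem_center_iff]
    intro n
    apply Subtype.ext
    have hc : (m : X) ∈ Subgroup.center X := h1 ⟨m, hm, rfl⟩
    rw [Subgroup.mem_center_iff] at hc
    exact hc n

theorem isPerfect (hB : Big A B) : Group.IsPerfect ↥(commutator X) :=
  Subgroup.isPerfect_iff.2 hB.commutator_perfect

/-- **`X'` is quasisimple.** -/
theorem isQuasisimple (hB : Big A B) : IsQuasisimple ↥(commutator X) := by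
  refine ⟨hB.isPerfect, ?_⟩
  have hnt : Nontrivial (↥(commutator X) ⧸ Subgroup.center ↥(commutator X)) := by
    by_contra hns
    rw [not_nontrivial_iff_subsingleton] at hns
    have hc : Subgroup.center ↥(commutator X) = ⊤ :=
      QuotientGroup.subgroup_eq_top_of_subsingleton _ hns
    apply hB.inf_ne_bot
    have hbot : commutator X = ⊥ := by
      rw [← hB.commutator_perfect, eq_bot_iff, Subgroup.commutator_le]
      intro g₁ h₁ g₂ h₂
      rw [Subgroup.mem_bot, commutatorElement_eq_one_iff_commute]
      have h3 : (⟨g₁, h₁⟩ : ↥(commutator X)) ∈ Subgroup.center ↥(commutator X) := by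
        rw [hc]; trivial
      rw [Subgroup.mem_center_iff] at h3
      have := h3 ⟨g₂, h₂⟩
      exact (congrArg Subtype.val this).symm
    rw [hbot, inf_bot_eq]
  refine { toNontrivial := hnt, eq_bot_or_eq_top_of_normal := ?_ }
  intro H hH
  set M := H.comap (QuotientGroup.mk' (Subgroup.center ↥(commutator X))) with hMdef
  have hMn : M.Normal := hH.comap _
  have hHM : H = M.map (QuotientGroup.mk' (Subgroup.center ↥(commutator X))) := by
    rw [hMdef, Subgroup.map_comap_eq_self_of_surjective (QuotientGroup.mk'_surjective _)]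
  rcases hB.normal_dichotomy' M with h1 | h1
  · right
    rw [hHM, h1, ← MonoidHom.range_eq_map]
    exact MonoidHom.range_eq_top_of_surjective _ (QuotientGroup.mk'_surjective _)
  · left
    rw [hHM, eq_bot_iff]
    rintro _ ⟨z, hz, rfl⟩
    rw [Subgroup.mem_bot]
    exact (QuotientGroup.eq_one_iff z).mpr (h1 hz)

/-- Summary. -/
theorem main (hB : Big A B) :
    commutator X ⊔ A = ⊤ ∧ IsQuasisimple ↥(commutator X) ∧
      3 < ENat.card ↥(⁅A, rankOneDiagonal A B⁆ : Subgroup X) :=
  ⟨hB.sup_eq_top, hB.isQuasisimple, hB.sp.card_commutator_diag hB.card⟩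

end Big

end Cfsg.Agent.Lib.H6.SpR1
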