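import Mathlib
import Cfsg.Prelude.Def_RootSubgroups
import Cfsg.Agent.Lib.H6.SpR12

set_option autoImplicit false

/-! Special rank one groups with abelian unipotent subgroups and at most three elements in
`A`: `X` is `SL₂(2)`, `SL₂(3)` or `PSL₂(3)`. -/

open Cfsg Cfsg.Agent.Lib.H25 Cfsg.Agent.Lib.H12
open scoped commutatorElement

namespace Cfsg.Agent.Lib.H6.SpR1

variable {X : Type*} [Group X] {A B : Subgroup X}

theorem neg_one_units_zmod_two : (-1 : (ZMod 2)ˣ) = 1 := by decide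

theorem center_SL2_two :
    Subgroup.center (Matrix.SpecialLinearGroup (Fin 2) (ZMod 2)) = ⊥ := by
  have : Fact (Nat.Prime 2) := ⟨Nat.prime_two⟩
  rw [eq_bot_iff]
  intro M hM
  rw [Subgroup.mem_bot]
  rcases (SpAb.mem_center_SL2_iff (p := 2) M).1 hM with h1 | h1
  · exact h1
  · rw [h1]
    rw [neg_one_units_zmod_two, StPres.dgM_one]

theorem psl2_two_iso : Nonempty (Matrix.ProjectiveSpecialLinearGroup (Fin 2) (ZMod 2) ≃*
    Matrix.SpecialLinearGroup (Fin 2) (ZMod 2)) :=
  ⟨(QuotientGroup.quotientMulEquivOfEq center_SL2_two).trans QuotientGroup.quotientBot⟩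

theorem small_iso (hX : IsRankOneGroup X A B) (h : SpAb A B) (hA : ENat.card A ≤ 3) :
    Nonempty (X ≃* Matrix.SpecialLinearGroup (Fin 2) (ZMod 2)) ∨
      Nonempty (X ≃* Matrix.SpecialLinearGroup (Fin 2) (ZMod 3)) ∨
      Nonempty (X ≃* Matrix.ProjectiveSpecialLinearGroup (Fin 2) (ZMod 3)) := by
  have hA' : ENat.card A ≤ ((3 : ℕ) : ℕ∞) := hA
  have hfin : Finite A := finite_of_enat_card_le hA'
  have hcard : Nat.card A ≤ 3 := natCard_le_of_enat_card_le hA'
  obtain ⟨a, ha, ha1⟩ := RankOne.exists_ne_one_left h.rk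
  have hfo : IsOfFinOrder a := by
    have : IsOfFinOrder (⟨a, ha⟩ : A) := isOfFinOrder_of_finite _
    exact A.subtype.isOfFinOrder this
  rcases h.structure_thm with ⟨p, hp, hAp⟩ | ⟨htf, -⟩
  swap
  · exact absurd hfo (htf a ha ha1)
  have hord : orderOf a = p := by
    have hd : orderOf a ∣ p := orderOf_dvd_of_pow_eq_one (hAp _ ha)
    rcases (Nat.dvd_prime hp).1 hd with h1 | h1
    · exact absurd (orderOf_eq_one_iff.1 h1) ha1
    · exact h1
  have hzle : Subgroup.zpowers a ≤ A := by rw [Subgroup.zpowers_le]; exact ha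
  have hcz : Nat.card (Subgroup.zpowers a) = p := by rw [Nat.card_zpowers, hord]
  have hdvd : p ∣ Nat.card A := by rw [← hcz]; exact Subgroup.card_dvd_of_le hzle
  have hpos : 0 < Nat.card A := Nat.card_pos
  have hp2 := hp.two_le
  have hp23 : p = 2 ∨ p = 3 := by
    have hple : p ≤ 3 := (Nat.le_of_dvd hpos hdvd).trans hcard
    omega
  have hcA : Nat.card A = p := by
    obtain ⟨m, hm⟩ := hdvd
    rcases hp23 with rfl | rfl
    · have : m = 1 := by omega
      rw [hm, this]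
    · have : m = 1 := by omega
      rw [hm, this]
  have hzA : Subgroup.zpowers a = A :=
    Subgroup.eq_of_le_of_card_ge hzle (by rw [hcz, hcA])
  obtain ⟨b, hr⟩ := Rel.exists_right h.rk ha ha1
  have hordb : orderOf b = p := by rw [← h.orderOf_eq hr, hord]
  have hzleB : Subgroup.zpowers b ≤ B := by rw [Subgroup.zpowers_le]; exact hr.hb
  have hcB : Nat.card B = p := by
    obtain ⟨x, -, hBx⟩ := RankOne.exists_conj_eq_right h.rk
    have e : A ≃* conjBy A x := A.equivMapOfInjective _ (MulAut.conj x).injective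
    rw [hBx, ← Nat.card_congr e.toEquiv, hcA]
  have hfinB : Finite B := by
    apply Nat.finite_of_card_ne_zero
    rw [hcB]; exact hp.ne_zero
  have hzB : Subgroup.zpowers b = B :=
    Subgroup.eq_of_le_of_card_ge hzleB (by rw [Nat.card_zpowers, hordb, hcB])
  have htop : Subgroup.closure ({a, b} : Set X) = ⊤ := by
    rw [← hX.1, ← hzA, ← hzB, Subgroup.zpowers_eq_closure, Subgroup.zpowers_eq_closure,
      ← Subgroup.closure_union]
    rfl
  have e : X ≃* ↥(Subgroup.closure ({a, b} : Set X)) :=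
    (Subgroup.topEquiv (G := X)).symm.trans (MulEquiv.subgroupCongr htop.symm)
  rcases hp23 with rfl | rfl
  · have : Fact (Nat.Prime 2) := ⟨Nat.prime_two⟩
    left
    rcases h.closure_iso (p := 2) hr (hAp _ ha) with ⟨⟨e1⟩⟩ | ⟨⟨e1⟩⟩
    · exact ⟨e.trans e1⟩
    · obtain ⟨e2⟩ := psl2_two_iso
      exact ⟨e.trans (e1.trans e2)⟩
  · have : Fact (Nat.Prime 3) := ⟨Nat.prime_three⟩
    right
    rcases h.closure_iso (p := 3) hr (hAp _ ha) with ⟨⟨e1⟩⟩ | ⟨⟨e1⟩⟩
    · exact Or.inl ⟨e.trans e1⟩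
    · exact Or.inr ⟨e.trans e1⟩

end Cfsg.Agent.Lib.H6.SpR1
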