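import Mathlib
import Cfsg.Prelude.Def_RootSubgroups
import Cfsg.Agent.Lib.H6.SpR13

set_option autoImplicit false

/-! Transport of special rank one pairs along injective homomorphisms, and the structure theorem
for a pair inside a larger group. -/

open Cfsg Cfsg.Agent.Lib.H25
open scoped commutatorElement

namespace Cfsg.Agent.Lib.H6.SpR1

variable {G H : Type*} [Group G] [Group H]

theorem map_conjBy (f : H →* G) (P : Subgroup H) (g : H) :
    (conjBy P g).map f = conjBy (P.map f) (f g) := by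
  ext x
  constructor
  · rintro ⟨y, ⟨z, hz, rfl⟩, rfl⟩
    refine ⟨f z, ⟨z, hz, rfl⟩, ?_⟩
    simp [MulAut.conj_apply]
  · rintro ⟨y, ⟨z, hz, rfl⟩, rfl⟩
    refine ⟨g * z * g⁻¹, ⟨z, hz, by simp [MulAut.conj_apply]⟩, ?_⟩
    simp [MulAut.conj_apply]

theorem isRankOnePair_of_map {f : H →* G} (hf : Function.Injective f) {P Q : Subgroup H}
    (h : IsRankOnePair (P.map f) (Q.map f)) : IsRankOnePair P Q := by
  have hcond : ∀ {P Q : Subgroup H}, RankOneCondition (P.map f) (Q.map f) → RankOneCondition P Q := by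
    intro P Q hc a ha ha1
    have ha1' : f a ≠ 1 := fun hh => ha1 (hf (by rw [hh, map_one]))
    obtain ⟨b, ⟨b', hb', rfl⟩, hb1, hE⟩ := hc (f a) ⟨a, ha, rfl⟩ ha1'
    refine ⟨b', hb', ?_, ?_⟩
    · rintro rfl
      exact hb1 (map_one f)
    · apply Subgroup.map_injective hf
      rw [map_conjBy, map_conjBy, map_inv, map_inv]
      exact hE
  refine ⟨?_, ?_, ?_, hcond h.cond_left, hcond h.cond_right⟩
  · intro hE
    exact h.ne (by rw [hE])
  · exact (Group.isNilpotent_congr (P.equivMapOfInjective f hf)).2 h.nilpotent_left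
  · exact (Group.isNilpotent_congr (Q.equivMapOfInjective f hf)).2 h.nilpotent_right

theorem rel_map {f : H →* G} {P Q : Subgroup H} {a b : H} (hr : Rel P Q a b)
    (hf : Function.Injective f) : Rel (P.map f) (Q.map f) (f a) (f b) := by
  refine ⟨⟨a, hr.ha, rfl⟩, fun hh => hr.ha1 (hf (by rw [hh, map_one])), ⟨b, hr.hb, rfl⟩,
    fun hh => hr.hb1 (hf (by rw [hh, map_one])), ?_⟩
  have := congrArg (Subgroup.map f) hr.eq
  rw [act_def, act_def, map_conjBy, map_conjBy, map_inv, map_inv] at this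
  exact this

theorem spAb_of_map {f : H →* G} (hf : Function.Injective f) {P Q : Subgroup H}
    (h : SpAb (P.map f) (Q.map f)) : SpAb P Q := by
  refine ⟨isRankOnePair_of_map hf h.rk, ?_, ?_, ?_⟩
  · intro a b hr
    apply hf
    have := h.sp _ _ (rel_map hr hf)
    simpa using this
  · intro x hx y hy
    apply hf
    have := h.cA _ ⟨x, hx, rfl⟩ _ ⟨y, hy, rfl⟩
    simpa using this
  · intro x hx y hy
    apply hf
    have := h.cB _ ⟨x, hx, rfl⟩ _ ⟨y, hy, rfl⟩
    simpa using this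

section Sub

variable {A B : Subgroup G}

theorem map_subgroupOf_left (A B : Subgroup G) :
    (A.subgroupOf (A ⊔ B)).map (A ⊔ B).subtype = A := by
  rw [Subgroup.subgroupOf_map_subtype, inf_eq_left]; exact le_sup_left

theorem map_subgroupOf_right (A B : Subgroup G) :
    (B.subgroupOf (A ⊔ B)).map (A ⊔ B).subtype = B := by
  rw [Subgroup.subgroupOf_map_subtype, inf_eq_left]; exact le_sup_right

/-- The pair pulled back to the subgroup it generates. -/
theorem big_subgroupOf (h : SpAb A B) (hA : 3 < ENat.card A) :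
    Big (A.subgroupOf (A ⊔ B)) (B.subgroupOf (A ⊔ B)) := by
  refine ⟨?_, ?_, ?_⟩
  · rw [← Subgroup.subgroupOf_sup le_sup_left le_sup_right, Subgroup.subgroupOf_self]
  · apply spAb_of_map (f := (A ⊔ B).subtype) (Subgroup.subtype_injective _)
    rw [map_subgroupOf_left, map_subgroupOf_right]
    exact h
  · have e : A.subgroupOf (A ⊔ B) ≃* A := Subgroup.subgroupOfEquivOfLe le_sup_left
    rw [ENat.card_congr e.toEquiv]
    exact hA

theorem map_commutator_sub (X : Subgroup G) : (commutator ↥X).map X.subtype = ⁅X, X⁆ := by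
  rw [commutator_def, Subgroup.map_commutator, ← MonoidHom.range_eq_map, Subgroup.range_subtype]

/-- `A ∩ X'` has more than three elements, for `X = ⟨A, B⟩`. -/
theorem SpAb.card_inf_commutator (h : SpAb A B) (hA : 3 < ENat.card A) :
    3 < ENat.card ↥(A ⊓ ⁅A ⊔ B, A ⊔ B⁆) := by
  have hB := big_subgroupOf h hA
  have h1 := hB.card_inf
  have e : (A.subgroupOf (A ⊔ B) ⊓ commutator ↥(A ⊔ B)).map (A ⊔ B).subtype = A ⊓ ⁅A ⊔ B, A ⊔ B⁆ := by
    rw [Subgroup.map_inf _ _ _ (Subgroup.subtype_injective _), map_subgroupOf_left,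
      map_commutator_sub]
  have e2 : ↥(A.subgroupOf (A ⊔ B) ⊓ commutator ↥(A ⊔ B)) ≃*
      ↥((A.subgroupOf (A ⊔ B) ⊓ commutator ↥(A ⊔ B)).map (A ⊔ B).subtype) :=
    Subgroup.equivMapOfInjective _ _ (Subgroup.subtype_injective _)
  rw [ENat.card_congr e2.toEquiv, e] at h1
  exact h1

theorem SpAb.inf_commutator_ne_bot (h : SpAb A B) (hA : 3 < ENat.card A) :
    A ⊓ ⁅A ⊔ B, A ⊔ B⁆ ≠ ⊥ := ne_bot_of_three_lt (h.card_inf_commutator hA)

/-- `X'` is perfect, for `X = ⟨A, B⟩`. -/
theorem SpAb.commutator_perfect (h : SpAb A B) (hA : 3 < ENat.card A) :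
    ⁅⁅A ⊔ B, A ⊔ B⁆, ⁅A ⊔ B, A ⊔ B⁆⁆ = ⁅A ⊔ B, A ⊔ B⁆ := by
  have hB := big_subgroupOf h hA
  have h1 := hB.commutator_perfect
  have := congrArg (Subgroup.map (A ⊔ B).subtype) h1
  rw [Subgroup.map_commutator, map_commutator_sub] at this
  exact this

end Sub

end Cfsg.Agent.Lib.H6.SpR1
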