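import Mathlib
import Cfsg.Prelude.Def_RootSubgroups
import Cfsg.Agent.Lib.H6.SpR14

set_option autoImplicit false

/-! The key step for normal subgroups: a subgroup `M` containing an element `m` moving `A` to a
rank one partner meets `A` non-trivially. -/

open Cfsg Cfsg.Agent.Lib.H25
open scoped commutatorElement

namespace Cfsg.Agent.Lib.H6.SpR1

variable {G : Type*} [Group G] {A P : Subgroup G}

theorem SpAb.exists_mem_inf (h : SpAb A P) {K M : Subgroup G}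
    (hK : ∀ g ∈ A ⊔ P, ∀ n ∈ K, g * n * g⁻¹ ∈ K)
    (hn : ∀ a ∈ A ⊓ K, ∀ m' ∈ M, a * m' * a⁻¹ ∈ M) {m : G} (hm : m ∈ M)
    (hP : P ⊓ K = act (A ⊓ K) m) (hcard : 3 < ENat.card ↥(A ⊓ K)) :
    ∃ a₁ ∈ A ⊓ M, a₁ ≠ 1 := by
  have hne : A ⊓ K ≠ ⊥ := ne_bot_of_three_lt hcard
  have hsub : SpAb (A ⊓ K) (P ⊓ K) := h.inf hK hne
  have hc := hsub.card_commutator_diag hcard
  have hS : (A ⊓ K) ⊔ (P ⊓ K) ≤ mulSub M (A ⊓ K) hn := by
    refine sup_le ?_ ?_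
    · intro a ha
      exact ⟨1, M.one_mem, a, ha, by simp⟩
    · intro q hq
      rw [hP, mem_act] at hq
      refine ⟨m⁻¹ * ((m * q * m⁻¹) * m * (m * q * m⁻¹)⁻¹), ?_, m * q * m⁻¹, hq, by group⟩
      exact M.mul_mem (M.inv_mem hm) (hn _ hq m hm)
  have hle : ⁅A ⊓ K, rankOneDiagonal (A ⊓ K) (P ⊓ K)⁆ ≤ A ⊓ M := by
    refine le_inf (hsub.commutator_diag_le.trans inf_le_left) ?_
    rw [Subgroup.commutator_le]
    intro a ha g hg
    obtain ⟨m', hm', a', ha', rfl⟩ := hS (mem_diag_iff.1 hg).1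
    have hcomm : a' * a⁻¹ * a'⁻¹ = a⁻¹ := by
      rw [h.cA a' ha'.1 a⁻¹ (A.inv_mem ha.1)]; group
    have e : ⁅a, m' * a'⁆ = (a * m' * a⁻¹) * m'⁻¹ := by
      rw [commutatorElement_def]
      calc a * (m' * a') * a⁻¹ * (m' * a')⁻¹ = a * m' * (a' * a⁻¹ * a'⁻¹) * m'⁻¹ := by group
        _ = a * m' * a⁻¹ * m'⁻¹ := by rw [hcomm]
    rw [e]
    exact M.mul_mem (hn a ha m' hm') (M.inv_mem hm')
  obtain ⟨a₁, ha₁1⟩ := (Subgroup.ne_bot_iff_exists_ne_one).1 (ne_bot_of_three_lt hc)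
  exact ⟨a₁, hle a₁.2, fun hh => ha₁1 (Subtype.ext hh)⟩

end Cfsg.Agent.Lib.H6.SpR1
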