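import Mathlib
import Cfsg.Prelude.Def_RootSubgroups
import Cfsg.Prelude.Def_CaseTheorems
import Cfsg.Agent.Lib.H6.SpR15
import Cfsg.Agent.Lib.H6.Tim2P

set_option autoImplicit false

/-! Quasisimplicity criterion for groups generated by abstract root subgroups
(Timmesfeld II (2.14)): general facts about normal subgroups. -/

open Cfsg Cfsg.Agent.Lib.H25 Cfsg.Agent.Lib.H6.FConn Cfsg.Agent.Lib.H6.Tim211
  Cfsg.Agent.Lib.H6.SpR1
open scoped commutatorElement

namespace Cfsg.Agent.Lib.H6.QS

variable {G : Type*} [Group G] {S : Set (Subgroup G)}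

/-- The hypotheses of the criterion. -/
structure Hyp (S : Set (Subgroup G)) : Prop where
  hS : IsRootSubgroupSet S
  hcl : IsConjClassOfSubgroups S
  hconn : IsConnectedFamily (FAdj S) S
  hpartner : ∀ A ∈ S, ∃ B ∈ S, IsRankOnePair A B
  hcent : ∀ A ∈ S, ∀ C ∈ S, A ≠ C → centralizingMembers S A ≠ centralizingMembers S C
  hsp : ∀ A ∈ S, ∀ B ∈ S, IsRankOnePair A B → SpAb A B
  hcard : IsDegenerateRootSet S → ∀ A ∈ S, 3 < ENat.card A

/-- `M` contains a non-identity element of a member of `S`. -/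
def Good (S : Set (Subgroup G)) (M : Subgroup G) : Prop := ∃ A ∈ S, A ⊓ M ≠ ⊥

namespace Hyp

theorem cm_self (h : Hyp S) {A : Subgroup G} (hA : A ∈ S) : Cm A A :=
  fun _ hx _ hy => comm_of_isMulCommutative (h.hS.commutative A hA) hx hy

/-- `G = G' A`. -/
theorem sup_eq_top (h : Hyp S) {A : Subgroup G} (hA : A ∈ S) : commutator G ⊔ A = ⊤ := by
  rw [eq_top_iff, ← h.hS.generates]
  refine iSup₂_le ?_
  intro C hC
  obtain ⟨g, rfl⟩ := h.hcl.2 A hA C hC
  intro x hx
  rw [mem_conjBy] at hx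
  have e : x = ⁅g, g⁻¹ * x * g⁆ * (g⁻¹ * x * g) := by
    rw [commutatorElement_def]; group
  rw [e]
  refine Subgroup.mul_mem _ (Subgroup.mem_sup_left ?_) (Subgroup.mem_sup_right hx)
  rw [commutator_def]
  exact Subgroup.commutator_mem_commutator (Subgroup.mem_top _) (Subgroup.mem_top _)

theorem good_all (h : Hyp S) {N : Subgroup G} [hN : N.Normal] (hg : Good S N) :
    ∀ C ∈ S, C ⊓ N ≠ ⊥ := by
  obtain ⟨A, hA, hAN⟩ := hg
  intro C hC
  obtain ⟨g, rfl⟩ := h.hcl.2 A hA C hC
  obtain ⟨a, ha1⟩ := (Subgroup.ne_bot_iff_exists_ne_one).1 hAN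
  have ha1' : (a : G) ≠ 1 := fun hh => ha1 (Subtype.ext hh)
  intro hbot
  have hmem1 : g * (a : G) * g⁻¹ ∈ conjBy A g := by
    rw [mem_conjBy]
    have : g⁻¹ * (g * (a : G) * g⁻¹) * g = a := by group
    rw [this]; exact a.2.1
  have hmem : g * (a : G) * g⁻¹ ∈ conjBy A g ⊓ N := ⟨hmem1, hN.conj_mem _ a.2.2 g⟩
  rw [hbot, Subgroup.mem_bot] at hmem
  apply ha1'
  have := congrArg (fun t => g⁻¹ * t * g) hmem
  simpa [mul_assoc] using this

/-- A normal subgroup meeting a member of `S` non-trivially contains `G'`. -/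
theorem commutator_le_of_good (h : Hyp S) {N : Subgroup G} [hN : N.Normal] (hg : Good S N) :
    commutator G ≤ N := by
  have hall := h.good_all hg
  obtain ⟨A, hA, -⟩ := hg
  have hstep : ∀ C D : Subgroup G, FAdj S C D → N ⊔ C = N ⊔ D := by
    have hhalf : ∀ C D : Subgroup G, FAdj S C D → D ≤ N ⊔ C := by
      rintro C D ⟨hC, hD, hCD⟩
      obtain ⟨d, hd1⟩ := (Subgroup.ne_bot_iff_exists_ne_one).1 (hall D hD)
      have hd1' : (d : G) ≠ 1 := fun hh => hd1 (Subtype.ext hh)
      apply RankOne.right_le_sup_of_moves hCD d.2.2 (Subgroup.mem_sup_right d.2.1)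
      intro hE
      exact hd1' (RankOne.eq_one_of_mem_normalizer' hCD d.2.1 (conjBy_eq_self_iff.1 hE))
    intro C D hCD
    apply le_antisymm
    · exact sup_le le_sup_left (hhalf D C (fadj_symm hCD))
    · exact sup_le le_sup_left (hhalf C D hCD)
  have hpath : ∀ C : Subgroup G, Relation.ReflTransGen (FAdj S) A C → N ⊔ A = N ⊔ C := by
    intro C hp
    induction hp with
    | refl => rfl
    | tail _ hbc ih => exact ih.trans (hstep _ _ hbc)
  have htop : N ⊔ A = ⊤ := by
    rw [eq_top_iff, ← h.hS.generates]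
    refine iSup₂_le ?_
    intro C hC
    rw [hpath C (h.hconn A hA C hC)]
    exact le_sup_right
  exact commutator_le_of_sup_eq_top htop (h.cm_self hA)

/-- A subgroup normalizing every member of `S` is central. -/
theorem le_center_of_normalizes (h : Hyp S) {M : Subgroup G}
    (hM : ∀ m ∈ M, ∀ A ∈ S, conjBy A m = A) : M ≤ Subgroup.center G := by
  intro m hm
  have hcomm : ∀ A ∈ S, ∀ a ∈ A, m * a * m⁻¹ = a := by
    intro A hA a ha
    obtain ⟨B, hB, hAB⟩ := h.hpartner A hA
    have h1 : conjBy (conjBy B a) m = conjBy B a := hM m hm _ (h.hS.conj_mem B hB a)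
    have h2 : conjBy B m = B := hM m hm B hB
    have h3 : conjBy B (m * a * m⁻¹) = conjBy B a := by
      have e : m * a = (m * a * m⁻¹) * m := by group
      rw [conjBy_conjBy, e, ← conjBy_conjBy, h2] at h1
      exact h1
    have hmem : m * a * m⁻¹ ∈ A := by
      have : m * a * m⁻¹ ∈ conjBy A m := by
        rw [mem_conjBy]
        have : m⁻¹ * (m * a * m⁻¹) * m = a := by group
        rw [this]; exact ha
      rwa [hM m hm A hA] at this
    exact RankOne.conjBy_right_inj hAB hmem ha h3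
  have hle : (⊤ : Subgroup G) ≤ Subgroup.centralizer ({m} : Set G) := by
    rw [← h.hS.generates]
    refine iSup₂_le ?_
    intro A hA a ha
    rw [Subgroup.mem_centralizer_iff]
    intro x hx
    rw [Set.mem_singleton_iff] at hx
    subst hx
    have := hcomm A hA a ha
    have e : x * a = (x * a * x⁻¹) * x := by group
    rw [e, this]
  rw [Subgroup.mem_center_iff]
  intro g
  have := hle (Subgroup.mem_top g)
  rw [Subgroup.mem_centralizer_iff] at this
  exact (this m rfl).symm

end Hyp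

end Cfsg.Agent.Lib.H6.QS
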