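import Mathlib
import Cfsg.Prelude.Def_RootSubgroups
import Cfsg.Prelude.Def_CaseTheorems
import Cfsg.Agent.Lib.H6.QS1

set_option autoImplicit false

/-! Quasisimplicity criterion (Timmesfeld II (2.14)): a subgroup of `K = G'` normalized by `K`
is central or contains a non-identity element of a member of `S`. -/

open Cfsg Cfsg.Agent.Lib.H25 Cfsg.Agent.Lib.H6.FConn Cfsg.Agent.Lib.H6.Tim211
  Cfsg.Agent.Lib.H6.SpR1
open scoped commutatorElement

namespace Cfsg.Agent.Lib.H6.QS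

variable {G : Type*} [Group G] {S : Set (Subgroup G)}

/-- The context of the normal subgroup argument. -/
structure Ctx (S : Set (Subgroup G)) (K M : Subgroup G) : Prop where
  hyp : Hyp S
  normal : K.Normal
  hKne : ∀ E ∈ S, E ⊓ K ≠ ⊥
  hnorm : ∀ n ∈ K, ∀ m ∈ M, n * m * n⁻¹ ∈ M
  hccK : (∃ E ∈ S, ∃ C ∈ S, RootCommutatorCase S E C) → K = ⊤
  hRS : ∀ A ∈ S, ∀ m ∈ M, IsRankOnePair A (conjBy A m) → Good S M

namespace Ctx

variable {K M : Subgroup G}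

/-- The basic element of `M`: `c (m⁻¹ c m)⁻¹` for `c ∈ A^m ∩ K`. -/
theorem basic_mem (h : Ctx S K M) {A : Subgroup G} {m c : G} (hm : m ∈ M)
    (hc : c ∈ conjBy A m ⊓ K) : m⁻¹ * c * m ∈ A ⊓ K ∧ c * (m⁻¹ * c * m)⁻¹ ∈ M := by
  have hK := h.normal
  have h1 : m⁻¹ * c * m ∈ A := mem_conjBy.1 hc.1
  have h2 : m⁻¹ * c * m ∈ K := by
    have := hK.conj_mem c hc.2 m⁻¹
    rwa [inv_inv] at this
  refine ⟨⟨h1, h2⟩, ?_⟩
  have h3 := h.hnorm _ h2 m⁻¹ (M.inv_mem hm)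
  have e : c * (m⁻¹ * c * m)⁻¹ = m * (m⁻¹ * c * m * m⁻¹ * (m⁻¹ * c * m)⁻¹) := by group
  rw [e]
  exact M.mul_mem hm h3

theorem good_of_mem_le (_h : Ctx S K M) {F : Subgroup G} (hF : F ∈ S) (hFM : F ≤ M)
    (hne : F ≠ ⊥) : Good S M :=
  ⟨F, hF, by rwa [inf_eq_left.2 hFM]⟩

/-- Commutator case step. -/
theorem good_of_commutatorCase (h : Ctx S K M) {A : Subgroup G} (hA : A ∈ S) {m : G} (hm : m ∈ M)
    (hcc : RootCommutatorCase S A (conjBy A m)) : Good S M := by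
  have hKtop : K = ⊤ := h.hccK ⟨A, hA, _, h.hyp.hS.conj_mem A hA m, hcc⟩
  refine h.good_of_mem_le hcc.1 ?_ (h.hyp.hS.ne_bot _ hcc.1)
  rw [Subgroup.commutator_le]
  intro a ha c hc
  have hcK : c ∈ conjBy A m ⊓ K := ⟨hc, by rw [hKtop]; trivial⟩
  obtain ⟨ha', hμ⟩ := h.basic_mem hm hcK
  set a' := m⁻¹ * c * m with ha'def
  have hcomm : a' * a⁻¹ * a'⁻¹ = a⁻¹ := by
    rw [h.hyp.cm_self hA a' ha'.1 a⁻¹ (A.inv_mem ha)]; group
  have e : ⁅a, c⁆ = (a * (c * a'⁻¹) * a⁻¹) * (c * a'⁻¹)⁻¹ := by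
    rw [commutatorElement_def]
    calc a * c * a⁻¹ * c⁻¹ = a * (c * a'⁻¹) * (a' * a⁻¹ * a'⁻¹) * (c * a'⁻¹)⁻¹ := by group
      _ = a * (c * a'⁻¹) * a⁻¹ * (c * a'⁻¹)⁻¹ := by rw [hcomm]
  rw [e]
  exact M.mul_mem (h.hnorm a (by rw [hKtop]; trivial) _ hμ) (M.inv_mem hμ)

/-- Commuting step, one direction. -/
theorem good_of_commute_aux (h : Ctx S K M) {A E : Subgroup G} (hA : A ∈ S) (hE : E ∈ S) {m : G}
    (hm : m ∈ M) (hEA : Cm E A) (hEC : ¬ Cm E (conjBy A m)) : Good S M := by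
  have hCS : conjBy A m ∈ S := h.hyp.hS.conj_mem A hA m
  have hkey : ∀ e ∈ E ⊓ K, ∀ c ∈ conjBy A m ⊓ K, ⁅e, c⁆ ∈ M := by
    intro e he c hc
    obtain ⟨ha', hμ⟩ := h.basic_mem hm hc
    set a' := m⁻¹ * c * m with ha'def
    have h1 := h.hnorm e he.2 _ hμ
    have hcomm : a'⁻¹ * e⁻¹ = e⁻¹ * a'⁻¹ := by
      have := hEA e he.1 a' ha'.1
      have e1 : a'⁻¹ * e⁻¹ = (e * a')⁻¹ := by group
      have e2 : e⁻¹ * a'⁻¹ = (a' * e)⁻¹ := by group
      rw [e1, e2, this]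
    have e : ⁅e, c⁆ = (e * (c * a'⁻¹) * e⁻¹) * (c * a'⁻¹)⁻¹ := by
      rw [commutatorElement_def]
      calc e * c * e⁻¹ * c⁻¹ = e * c * (e⁻¹ * a'⁻¹) * a' * c⁻¹ := by group
        _ = e * c * (a'⁻¹ * e⁻¹) * a' * c⁻¹ := by rw [hcomm]
        _ = e * (c * a'⁻¹) * e⁻¹ * (c * a'⁻¹)⁻¹ := by group
    rw [e]
    exact M.mul_mem h1 (M.inv_mem hμ)
  rcases h.hyp.hS.pair E hE _ hCS with h0 | hr | hcc
  · exact absurd (Cm_iff_commutator.2 h0) hEC
  · -- rank one pair `(E, C)`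
    obtain ⟨e, he1⟩ := (Subgroup.ne_bot_iff_exists_ne_one).1 (h.hKne E hE)
    obtain ⟨c, hc1⟩ := (Subgroup.ne_bot_iff_exists_ne_one).1 (h.hKne _ hCS)
    have he1' : (e : G) ≠ 1 := fun hh => he1 (Subtype.ext hh)
    have hc1' : (c : G) ≠ 1 := fun hh => hc1 (Subtype.ext hh)
    have hm' : ⁅(e : G), (c : G)⁆ ∈ M := hkey e e.2 c c.2
    apply h.hRS E hE _ hm'
    have hmemX : ⁅(e : G), (c : G)⁆ ∈ E ⊔ conjBy A m := by
      rw [commutatorElement_def]
      exact Subgroup.mul_mem _ (Subgroup.mul_mem _ (Subgroup.mul_mem _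
        (Subgroup.mem_sup_left e.2.1) (Subgroup.mem_sup_right c.2.1))
        (Subgroup.mem_sup_left (E.inv_mem e.2.1))) (Subgroup.mem_sup_right
        (Subgroup.inv_mem _ c.2.1))
    have hu : conjBy E ⁅(e : G), (c : G)⁆ ∈ unipotentSubgroups E (conjBy A m) := ⟨_, hmemX, rfl⟩
    have hne : conjBy E ⁅(e : G), (c : G)⁆ ≠ E := by
      intro hE'
      have hn : ⁅(e : G), (c : G)⁆ ∈ Subgroup.normalizer (E : Set G) := conjBy_eq_self_iff.1 hE'
      have hn2 : (c : G) * (e : G)⁻¹ * (c : G)⁻¹ ∈ Subgroup.normalizer (E : Set G) := by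
        have h3 : (e : G)⁻¹ ∈ Subgroup.normalizer (E : Set G) :=
          Subgroup.le_normalizer (E.inv_mem e.2.1)
        have := Subgroup.mul_mem _ h3 hn
        rw [commutatorElement_def] at this
        have e4 : (e : G)⁻¹ * ((e : G) * (c : G) * (e : G)⁻¹ * (c : G)⁻¹) =
            (c : G) * (e : G)⁻¹ * (c : G)⁻¹ := by group
        rwa [e4] at this
      have hu2 : conjBy E (c : G) ∈ unipotentSubgroups E (conjBy A m) :=
        ⟨_, Subgroup.mem_sup_right c.2.1, rfl⟩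
      have hne2 : conjBy E (c : G) ≠ E := by
        intro hh
        exact hc1' (RankOne.eq_one_of_mem_normalizer' hr c.2.1 (conjBy_eq_self_iff.1 hh))
      have hmem2 : (c : G) * (e : G)⁻¹ * (c : G)⁻¹ ∈ conjBy E (c : G) := by
        rw [mem_conjBy]
        have : (c : G)⁻¹ * ((c : G) * (e : G)⁻¹ * (c : G)⁻¹) * (c : G) = (e : G)⁻¹ := by group
        rw [this]; exact E.inv_mem e.2.1
      have h5 := RankOne.eq_one_of_mem_of_mem_normalizer hr hu2 hne2 hmem2 hn2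
      apply he1'
      have := congrArg (fun t => ((c : G)⁻¹ * t * (c : G))⁻¹) h5
      simpa [mul_assoc] using this
    exact RankOne.isRankOnePair_of_mem hr (RankOne.left_mem_unipotentSubgroups _ _) hu hne.symm
  · -- commutator case `(E, C)`
    have hKtop : K = ⊤ := h.hccK ⟨E, hE, _, hCS, hcc⟩
    refine h.good_of_mem_le hcc.1 ?_ (h.hyp.hS.ne_bot _ hcc.1)
    rw [Subgroup.commutator_le]
    intro e he c hc
    exact hkey e ⟨he, by rw [hKtop]; trivial⟩ c ⟨hc, by rw [hKtop]; trivial⟩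

/-- Commuting step. -/
theorem good_of_commute (h : Ctx S K M) {A : Subgroup G} (hA : A ∈ S) {m : G} (hm : m ∈ M)
    (hne : conjBy A m ≠ A) (hAC : Cm A (conjBy A m)) : Good S M := by
  have hCS : conjBy A m ∈ S := h.hyp.hS.conj_mem A hA m
  have hdiff := h.hyp.hcent A hA _ hCS hne.symm
  have hex : ∃ E ∈ S, (Cm E A ∧ ¬ Cm E (conjBy A m)) ∨ (¬ Cm E A ∧ Cm E (conjBy A m)) := by
    by_contra hno
    push_neg at hno
    apply hdiff
    ext E
    rw [Tim2P.mem_centralizingMembers, Tim2P.mem_centralizingMembers]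
    constructor
    · rintro ⟨hE, h1⟩
      refine ⟨hE, ?_⟩
      by_contra h2
      exact h2 ((hno E hE).1 h1)
    · rintro ⟨hE, h1⟩
      refine ⟨hE, ?_⟩
      by_contra h2
      exact (hno E hE).2 h2 h1
  obtain ⟨E, hE, h1 | h1⟩ := hex
  · exact h.good_of_commute_aux hA hE hm h1.1 h1.2
  · have hback : conjBy (conjBy A m) m⁻¹ = A := by
      rw [conjBy_conjBy, inv_mul_cancel, conjBy_one]
    apply h.good_of_commute_aux hCS hE (M.inv_mem hm) h1.2
    rw [hback]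
    exact h1.1

/-- **Central or good.** -/
theorem central_or_good (h : Ctx S K M) : M ≤ Subgroup.center G ∨ Good S M := by
  by_cases hall : ∀ m ∈ M, ∀ A ∈ S, conjBy A m = A
  · exact Or.inl (h.hyp.le_center_of_normalizes hall)
  right
  push_neg at hall
  obtain ⟨m, hm, A, hA, hne⟩ := hall
  have hCS : conjBy A m ∈ S := h.hyp.hS.conj_mem A hA m
  rcases h.hyp.hS.pair A hA _ hCS with h0 | hr | hcc
  · exact h.good_of_commute hA hm hne (Cm_iff_commutator.2 h0)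
  · exact h.hRS A hA m hm hr
  · exact h.good_of_commutatorCase hA hm hcc

end Ctx

end Cfsg.Agent.Lib.H6.QS
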