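import Mathlib
import Cfsg.Prelude.Def_RootSubgroups
import Cfsg.Prelude.Def_CaseTheorems
import Cfsg.Agent.Lib.H6.QS2
import Cfsg.Agent.S5034

set_option autoImplicit false

/-! Quasisimplicity criterion (Timmesfeld II (2.14)): the degenerate and the non-degenerate
mode, and the conclusion. -/

open Cfsg Cfsg.Agent.Lib.H25 Cfsg.Agent.Lib.H6.FConn Cfsg.Agent.Lib.H6.Tim211
  Cfsg.Agent.Lib.H6.SpR1 Cfsg.Agent.Lib.H6.Tim2N
open scoped commutatorElement

namespace Cfsg.Agent.Lib.H6.QS

variable {G : Type*} [Group G] {S : Set (Subgroup G)}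

/-- A perfect subgroup all of whose normal subgroups are central or everything is
quasisimple. -/
theorem isQuasisimple_of_dichotomy {K : Subgroup G} (hperf : ⁅K, K⁆ = K) (hne : K ≠ ⊥)
    (hdich : ∀ M : Subgroup ↥K, M.Normal → M = ⊤ ∨ M ≤ Subgroup.center ↥K) :
    IsQuasisimple ↥K := by
  refine ⟨Subgroup.isPerfect_iff.2 hperf, ?_⟩
  have hnt : Nontrivial (↥K ⧸ Subgroup.center ↥K) := by
    by_contra hns
    rw [not_nontrivial_iff_subsingleton] at hns
    have hc : Subgroup.center ↥K = ⊤ := QuotientGroup.subgroup_eq_top_of_subsingleton _ hns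
    apply hne
    rw [← hperf, eq_bot_iff, Subgroup.commutator_le]
    intro g₁ h₁ g₂ h₂
    rw [Subgroup.mem_bot, commutatorElement_eq_one_iff_commute]
    have h3 : (⟨g₁, h₁⟩ : ↥K) ∈ Subgroup.center ↥K := by rw [hc]; trivial
    rw [Subgroup.mem_center_iff] at h3
    have := h3 ⟨g₂, h₂⟩
    exact (congrArg Subtype.val this).symm
  refine { toNontrivial := hnt, eq_bot_or_eq_top_of_normal := ?_ }
  intro H hH
  set M := H.comap (QuotientGroup.mk' (Subgroup.center ↥K)) with hMdef
  have hMn : M.Normal := hH.comap _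
  have hHM : H = M.map (QuotientGroup.mk' (Subgroup.center ↥K)) := by
    rw [hMdef, Subgroup.map_comap_eq_self_of_surjective (QuotientGroup.mk'_surjective _)]
  rcases hdich M hMn with h1 | h1
  · right
    rw [hHM, h1, ← MonoidHom.range_eq_map]
    exact MonoidHom.range_eq_top_of_surjective _ (QuotientGroup.mk'_surjective _)
  · left
    rw [hHM, eq_bot_iff]
    rintro _ ⟨z, hz, rfl⟩
    rw [Subgroup.mem_bot]
    exact (QuotientGroup.eq_one_iff z).mpr (h1 hz)

namespace Hyp

/-- Normal subgroups of `K = G'`, given the context for every subgroup normalized by `K`. -/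
theorem dichotomy (h : Hyp S)
    (hctx : ∀ M : Subgroup G, (∀ n ∈ commutator G, ∀ m ∈ M, n * m * n⁻¹ ∈ M) →
      Ctx S (commutator G) M)
    (M : Subgroup ↥(commutator G)) (hM : M.Normal) :
    M = ⊤ ∨ M ≤ Subgroup.center ↥(commutator G) := by
  have hnorm : ∀ n ∈ commutator G, ∀ m ∈ M.map (commutator G).subtype,
      n * m * n⁻¹ ∈ M.map (commutator G).subtype := by
    rintro n hn _ ⟨m, hm, rfl⟩
    exact ⟨⟨n, hn⟩ * m * ⟨n, hn⟩⁻¹, hM.conj_mem m hm ⟨n, hn⟩, rfl⟩
  rcases (hctx _ hnorm).central_or_good with h1 | ⟨A, hA, hAM⟩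
  · right
    intro m hm
    rw [Subgroup.mem_center_iff]
    intro n
    apply Subtype.ext
    have hc : (m : G) ∈ Subgroup.center G := h1 ⟨m, hm, rfl⟩
    rw [Subgroup.mem_center_iff] at hc
    exact hc n
  · left
    obtain ⟨a₁, ha₁1⟩ := (Subgroup.ne_bot_iff_exists_ne_one).1 hAM
    have ha₁1' : (a₁ : G) ≠ 1 := fun hh => ha₁1 (Subtype.ext hh)
    have hcore : (a₁ : G) ∈ (M.map (commutator G).subtype).normalCore := by
      intro x
      obtain ⟨l, hl, a, ha, rfl⟩ := exists_mul_of_sup_eq_top (h.sup_eq_top hA) x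
      have hcomm : a * (a₁ : G) * a⁻¹ = a₁ := by
        rw [h.cm_self hA a ha _ a₁.2.1]; group
      have e : l * a * (a₁ : G) * (l * a)⁻¹ = l * (a * (a₁ : G) * a⁻¹) * l⁻¹ := by group
      rw [e, hcomm]
      exact hnorm l hl _ a₁.2.2
    have hgood : Good S (M.map (commutator G).subtype).normalCore := by
      refine ⟨A, hA, ?_⟩
      intro hbot
      have : (a₁ : G) ∈ A ⊓ (M.map (commutator G).subtype).normalCore := ⟨a₁.2.1, hcore⟩
      rw [hbot, Subgroup.mem_bot] at this
      exact ha₁1' this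
    have hle := h.commutator_le_of_good hgood
    rw [eq_top_iff]
    intro n _
    have : (n : G) ∈ M.map (commutator G).subtype :=
      Subgroup.normalCore_le _ (hle n.2)
    obtain ⟨m, hm, hmn⟩ := this
    have : m = n := Subtype.ext hmn
    rwa [this] at hm

/-- The context in the degenerate mode. -/
theorem ctx_deg (h : Hyp S) (hdeg : IsDegenerateRootSet S) (M : Subgroup G)
    (hnorm : ∀ n ∈ commutator G, ∀ m ∈ M, n * m * n⁻¹ ∈ M) : Ctx S (commutator G) M := by
  have hcardA := h.hcard hdeg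
  have hKcard : ∀ E ∈ S, 3 < ENat.card ↥(E ⊓ commutator G) := by
    intro E hE
    obtain ⟨B, hB, hEB⟩ := h.hpartner E hE
    have h1 := (h.hsp E hE B hB hEB).card_inf_commutator (hcardA E hE)
    refine lt_of_lt_of_le h1 (enat_card_le_of_le (inf_le_inf_left _ ?_))
    rw [commutator_def]
    exact Subgroup.commutator_mono le_top le_top
  refine ⟨h, inferInstance, fun E hE => ne_bot_of_three_lt (hKcard E hE), hnorm, ?_, ?_⟩
  · rintro ⟨E, hE, C, hC, hcc⟩
    exact absurd hcc (hdeg E hE C hC)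
  · intro A hA m hm hr
    have hsp := h.hsp A hA _ (h.hS.conj_mem A hA m) hr
    have hKn : (commutator G).Normal := inferInstance
    have hP : conjBy A m ⊓ commutator G = act (A ⊓ commutator G) m⁻¹ := by
      have e : conjBy A m = act A m⁻¹ := by rw [act_def, inv_inv]
      rw [e]
      symm
      apply act_inf_of_normalizes
      · intro n hn
        exact hKn.conj_mem n hn m⁻¹
      · intro n hn
        have := hKn.conj_mem n hn m
        rwa [inv_inv]
    obtain ⟨a₁, ha₁, ha₁1⟩ := hsp.exists_mem_inf (K := commutator G) (M := M)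
      (fun g _ n hn => hKn.conj_mem n hn g) (fun a ha m' hm' => hnorm a ha.2 m' hm')
      (M.inv_mem hm) hP (hKcard A hA)
    refine ⟨A, hA, ?_⟩
    intro hbot
    rw [hbot, Subgroup.mem_bot] at ha₁
    exact ha₁1 ha₁

/-- In the non-degenerate mode `G` is perfect. -/
theorem commutator_eq_top_of_nondeg (h : Hyp S) (hnd : IsNondegenerateRootSet S) :
    commutator G = ⊤ := by
  have hN : NDClass S := NDClass.of ⟨h.hS, h.hcl⟩ hnd
  obtain ⟨A, hA, B, hB, hcc⟩ := hnd.2.2
  obtain ⟨D', hcfg⟩ := Tim2P.exists_cfg hN hA hB hcc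
  have hAK : A ≤ commutator G := by
    rw [← hcfg.hDC, commutator_def]
    exact Subgroup.commutator_mono le_top le_top
  have hKn : (commutator G).Normal := inferInstance
  rw [eq_top_iff, ← h.hS.generates]
  refine iSup₂_le ?_
  intro C hC
  obtain ⟨g, rfl⟩ := h.hcl.2 A hA C hC
  intro x hx
  rw [mem_conjBy] at hx
  have := hKn.conj_mem _ (hAK hx) g
  have e : g * (g⁻¹ * x * g) * g⁻¹ = x := by group
  rwa [e] at this

/-- The context in the non-degenerate mode. -/
theorem ctx_nondeg (h : Hyp S) (hnd : IsNondegenerateRootSet S) (M : Subgroup G)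
    (hnorm : ∀ n ∈ commutator G, ∀ m ∈ M, n * m * n⁻¹ ∈ M) : Ctx S (commutator G) M := by
  have hKtop := h.commutator_eq_top_of_nondeg hnd
  have hnorm' : ∀ n : G, ∀ m ∈ M, n * m * n⁻¹ ∈ M := fun n m hm =>
    hnorm n (by rw [hKtop]; trivial) m hm
  refine ⟨h, inferInstance, ?_, hnorm, fun _ => hKtop, ?_⟩
  · intro E hE
    rw [hKtop, inf_top_eq]
    exact h.hS.ne_bot E hE
  · intro A hA m hm hr
    have hCS : conjBy A m ∈ S := h.hS.conj_mem A hA m
    obtain ⟨⟨L, hL, hLC⟩, -⟩ := Cfsg.Agent.S5034.result ⟨h.hS, h.hcl⟩ hnd hA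
      (⟨hCS, hr⟩ : conjBy A m ∈ rankOnePartners S A)
    have hLS : L ∈ S := hL.1.1
    have hAL : Cm A L := Cm_iff_commutator.2 hL.1.2.2
    have hFS : ⁅conjBy A m, L⁆ ∈ S := hLC.2
    refine ⟨_, hFS, ?_⟩
    have hle : ⁅conjBy A m, L⁆ ≤ M := by
      rw [Subgroup.commutator_le]
      intro c hc l hl
      have ha' : m⁻¹ * c * m ∈ A := mem_conjBy.1 hc
      set a' := m⁻¹ * c * m with ha'def
      have hμ : c * a'⁻¹ ∈ M := by
        have e : c * a'⁻¹ = m * (a' * m⁻¹ * a'⁻¹) := by rw [ha'def]; group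
        rw [e]
        exact M.mul_mem hm (hnorm' a' _ (M.inv_mem hm))
      have hcomm : a' * l * a'⁻¹ = l := by
        rw [hAL a' ha' l hl]; group
      have e : ⁅c, l⁆ = (c * a'⁻¹) * (l * (c * a'⁻¹)⁻¹ * l⁻¹) := by
        rw [commutatorElement_def]
        calc c * l * c⁻¹ * l⁻¹ = (c * a'⁻¹) * (a' * l * a'⁻¹) * (c * a'⁻¹)⁻¹ * l⁻¹ := by group
          _ = (c * a'⁻¹) * l * (c * a'⁻¹)⁻¹ * l⁻¹ := by rw [hcomm]
          _ = (c * a'⁻¹) * (l * (c * a'⁻¹)⁻¹ * l⁻¹) := by group
      rw [e]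
      exact M.mul_mem hμ (hnorm' l _ (M.inv_mem hμ))
    rw [inf_eq_left.2 hle]
    exact h.hS.ne_bot _ hFS

/-- `G'` is perfect in the degenerate mode. -/
theorem perfect_deg (h : Hyp S) (hdeg : IsDegenerateRootSet S) :
    ⁅commutator G, commutator G⁆ = commutator G := by
  apply le_antisymm (Subgroup.commutator_le_left _ _)
  have hKn : (commutator G).Normal := inferInstance
  have hn2 : (⁅commutator G, commutator G⁆ : Subgroup G).Normal := inferInstance
  have hctx := h.ctx_deg hdeg ⁅commutator G, commutator G⁆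
    (fun n _ m hm => hn2.conj_mem m hm n)
  rcases hctx.central_or_good with h1 | h1
  · exfalso
    obtain ⟨A, hA⟩ := h.hcl.1
    obtain ⟨B, hB, hAB⟩ := h.hpartner A hA
    have hsp := h.hsp A hA B hB hAB
    have hc := h.hcard hdeg A hA
    have hperf := hsp.commutator_perfect hc
    have hne := hsp.inf_commutator_ne_bot hc
    have hXK : ⁅A ⊔ B, A ⊔ B⁆ ≤ commutator G := by
      rw [commutator_def]
      exact Subgroup.commutator_mono le_top le_top
    have hcen : ⁅A ⊔ B, A ⊔ B⁆ ≤ Subgroup.center G := by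
      rw [← hperf]
      exact (Subgroup.commutator_mono hXK hXK).trans h1
    obtain ⟨a, ha1⟩ := (Subgroup.ne_bot_iff_exists_ne_one).1 hne
    have ha1' : (a : G) ≠ 1 := fun hh => ha1 (Subtype.ext hh)
    obtain ⟨b, hb, hb1⟩ := RankOne.exists_ne_one_right hAB
    have hac : (a : G) ∈ Subgroup.center G := hcen a.2.2
    rw [Subgroup.mem_center_iff] at hac
    exact hb1 (RankOne.eq_one_of_commute hAB a.2.1 ha1' hb (hac b).symm)
  · exact h.commutator_le_of_good h1

/-- **The criterion.** -/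
theorem main (h : Hyp S) :
    (∀ A ∈ S, commutator G ⊔ A = ⊤ ∧ A ⊓ commutator G ≠ ⊥) ∧ IsQuasisimple ↥(commutator G) ∧
      (IsNondegenerateRootSet S → commutator G = ⊤) := by
  by_cases hdeg : IsDegenerateRootSet S
  · have hctx := h.ctx_deg hdeg
    have hKne : ∀ A ∈ S, A ⊓ commutator G ≠ ⊥ :=
      (hctx ⊥ (fun n _ m hm => by
        rw [Subgroup.mem_bot] at hm ⊢; rw [hm]; group)).hKne
    obtain ⟨A₀, hA₀⟩ := h.hcl.1
    refine ⟨fun A hA => ⟨h.sup_eq_top hA, hKne A hA⟩, ?_, ?_⟩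
    · apply isQuasisimple_of_dichotomy (h.perfect_deg hdeg)
      · intro hbot
        apply hKne A₀ hA₀
        rw [hbot, inf_bot_eq]
      · exact h.dichotomy hctx
    · intro hnd
      obtain ⟨A, hA, B, hB, hcc⟩ := hnd.2.2
      exact absurd hcc (hdeg A hA B hB)
  · -- not degenerate, hence non-degenerate
    have hnd : IsNondegenerateRootSet S := by
      unfold IsDegenerateRootSet at hdeg
      push_neg at hdeg
      obtain ⟨A, hA, B, hB, hcc⟩ := hdeg
      refine ⟨⟨A, hA, ⁅A, B⁆, hcc.1, ?_, ?_⟩, ?_, ⟨A, hA, B, hB, hcc⟩⟩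
      · intro hE
        have hcen : ∀ c ∈ A, ∀ x ∈ A ⊔ B, c * x = x * c := by
          intro c hc x hx
          rw [hE] at hc
          exact hcc.2.1 c hc x hx
        have : ⁅A, B⁆ = ⊥ := by
          rw [← Cm_iff_commutator]
          intro a ha b hb
          exact hcen a ha b (Subgroup.mem_sup_right hb)
        exact h.hS.ne_bot _ hcc.1 this
      · rw [← Cm_iff_commutator]
        intro a ha c hc
        exact (hcc.2.1 c hc a (Subgroup.mem_sup_left ha)).symm
      · obtain ⟨B', hB', hAB'⟩ := h.hpartner A hA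
        exact ⟨A, hA, B', hB', hAB'⟩
    have hKtop := h.commutator_eq_top_of_nondeg hnd
    have hctx := h.ctx_nondeg hnd
    refine ⟨fun A hA => ⟨h.sup_eq_top hA, ?_⟩, ?_, fun _ => hKtop⟩
    · rw [hKtop, inf_top_eq]
      exact h.hS.ne_bot A hA
    · apply isQuasisimple_of_dichotomy
      · rw [hKtop, ← commutator_def, hKtop]
      · rw [hKtop]
        intro hbot
        obtain ⟨A₀, hA₀⟩ := h.hcl.1
        apply h.hS.ne_bot A₀ hA₀
        rw [eq_bot_iff, ← hbot]
        exact le_top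
      · exact h.dichotomy hctx

end Hyp

end Cfsg.Agent.Lib.H6.QS
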