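import Mathlib
import Cfsg.Prelude.Def_RootSubgroups
import Cfsg.Agent.Lib.H16.BaerSuzuki

set_option autoImplicit false

/-! Root involutions (Timmesfeld): basic facts on the graph of odd order products. -/

open Cfsg

namespace Cfsg.Agent.Lib.H6.RootInv

variable {G : Type*} [Group G] {D : Set G}

theorem mul_self (hD : IsRootInvolutionSet D) {d : G} (hd : d ∈ D) : d * d = 1 := by
  rw [← pow_two, ← hD.orderOf_eq d hd]; exact pow_orderOf_eq_one d

theorem inv_eq (hD : IsRootInvolutionSet D) {d : G} (hd : d ∈ D) : d⁻¹ = d :=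
  inv_eq_of_mul_eq_one_left (mul_self hD hd)

theorem ne_one (hD : IsRootInvolutionSet D) {d : G} (hd : d ∈ D) : d ≠ 1 := by
  rintro rfl
  have := hD.orderOf_eq 1 hd
  rw [orderOf_one] at this
  exact absurd this (by norm_num)

theorem conj_mem' (hD : IsRootInvolutionSet D) {d x : G} (hd : d ∈ D) (hx : x ∈ D) :
    x * d * x ∈ D := by
  have := hD.conj_mem d hd x
  rwa [inv_eq hD hx] at this

theorem orderOf_mul_comm (hD : IsRootInvolutionSet D) {a b : G} (ha : a ∈ D) (hb : b ∈ D) :
    orderOf (a * b) = orderOf (b * a) := by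
  have : b * a = (a * b)⁻¹ := by rw [mul_inv_rev, inv_eq hD ha, inv_eq hD hb]
  rw [this, orderOf_inv]

theorem oddAdj_symm (hD : IsRootInvolutionSet D) {a b : G} (h : OddAdj D a b) : OddAdj D b a :=
  ⟨h.2.1, h.1, h.2.2.1.symm, by rw [← orderOf_mul_comm hD h.1 h.2.1]; exact h.2.2.2⟩

theorem rtg_symm (hD : IsRootInvolutionSet D) {a b : G}
    (h : Relation.ReflTransGen (OddAdj D) a b) : Relation.ReflTransGen (OddAdj D) b a := by
  induction h with
  | refl => exact Relation.ReflTransGen.refl
  | tail _ hbc ih => exact Relation.ReflTransGen.head (oddAdj_symm hD hbc) ih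

theorem component_eq_of_rtg (hD : IsRootInvolutionSet D) {a b : G}
    (h : Relation.ReflTransGen (OddAdj D) a b) :
    elemComponentOf (OddAdj D) D a = elemComponentOf (OddAdj D) D b := by
  ext c
  constructor
  · rintro ⟨hc, h1⟩
    exact ⟨hc, (rtg_symm hD h).trans h1⟩
  · rintro ⟨hc, h1⟩
    exact ⟨hc, h.trans h1⟩

/-- The fourth power of a product of two members that are not adjacent is trivial. -/
theorem pow_four_of_not_adj (hD : IsRootInvolutionSet D) {a b : G} (ha : a ∈ D) (hb : b ∈ D)
    (h : ¬ OddAdj D a b) : (a * b) ^ 4 = 1 := by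
  rcases hD.pair a ha b hb with h1 | h1 | h1
  · have : (a * b) ^ 2 = 1 := by
      rw [pow_two]
      calc a * b * (a * b) = a * (b * a) * b := by group
        _ = a * (a * b) * b := by rw [h1]
        _ = (a * a) * (b * b) := by group
        _ = 1 := by rw [mul_self hD ha, mul_self hD hb, one_mul]
    rw [show (4 : ℕ) = 2 * 2 from rfl, pow_mul, this, one_pow]
  · have hab : a = b := by
      by_contra hne
      exact h ⟨ha, hb, hne, h1⟩
    rw [hab, mul_self hD hb, one_pow]
  · rw [← h1.1]; exact pow_orderOf_eq_one _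

theorem adj_of_pow_four_ne (hD : IsRootInvolutionSet D) {a b : G} (ha : a ∈ D) (hb : b ∈ D)
    (h : (a * b) ^ 4 ≠ 1) : OddAdj D a b := by
  by_contra hn
  exact h (pow_four_of_not_adj hD ha hb hn)

/-- Two involutions whose product has fourth power one generate a 2-group. -/
theorem isPGroup_two_closure_pair {s t : G} (hs : orderOf s = 2) (ht : orderOf t = 2)
    (hz : (s * t) ^ 4 = 1) : IsPGroup 2 (Subgroup.closure ({s, t} : Set G)) := by
  have hss : s * s = 1 := by rw [← pow_two, ← hs]; exact pow_orderOf_eq_one s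
  have htt : t * t = 1 := by rw [← pow_two, ← ht]; exact pow_orderOf_eq_one t
  have hsinv : s⁻¹ = s := inv_eq_of_mul_eq_one_left hss
  have htinv : t⁻¹ = t := inv_eq_of_mul_eq_one_left htt
  set z := s * t with hzdef
  have hszs : s * z * s⁻¹ = z⁻¹ := by
    rw [hzdef, hsinv, mul_inv_rev, hsinv, htinv]
    calc s * (s * t) * s = (s * s) * t * s := by group
      _ = t * s := by rw [hss, one_mul]
  have hZ : IsPGroup 2 (Subgroup.zpowers z) := by
    have hd : orderOf z ∣ 2 ^ 2 := orderOf_dvd_of_pow_eq_one hz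
    obtain ⟨k, -, hk⟩ := (Nat.dvd_prime_pow Nat.prime_two).1 hd
    apply IsPGroup.of_card (n := k)
    rw [Nat.card_zpowers, hk]
  have hS : IsPGroup 2 (Subgroup.zpowers s) := by
    apply IsPGroup.of_card (n := 1)
    rw [Nat.card_zpowers, hs, pow_one]
  have hsNz : Subgroup.zpowers s ≤
      Subgroup.normalizer ((Subgroup.zpowers z : Subgroup G) : Set G) := by
    apply Subgroup.zpowers_le_of_mem
    rw [Subgroup.mem_normalizer_iff]
    intro n
    have key : ∀ n : G, n ∈ Subgroup.zpowers z → s * n * s⁻¹ ∈ Subgroup.zpowers z := by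
      intro n hn
      obtain ⟨k, rfl⟩ := Subgroup.mem_zpowers_iff.mp hn
      have e1 : s * z ^ k * s⁻¹ = MulAut.conj s (z ^ k) := by simp [MulAut.conj_apply]
      have e2 : s * z * s⁻¹ = MulAut.conj s z := by simp [MulAut.conj_apply]
      rw [e1, map_zpow, ← e2, hszs]
      exact Subgroup.zpow_mem _ (Subgroup.inv_mem _ (Subgroup.mem_zpowers z)) k
    constructor
    · exact key n
    · intro hn
      have := key _ hn
      rw [hsinv] at this
      have e : s * (s * n * s) * s = n := by
        calc s * (s * n * s) * s = (s * s) * n * (s * s) := by group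
          _ = n := by rw [hss, one_mul, mul_one]
      rwa [e] at this
  have hsup : IsPGroup 2 (Subgroup.zpowers z ⊔ Subgroup.zpowers s : Subgroup G) :=
    hZ.to_sup_of_normal_left' hS hsNz
  apply hsup.to_le
  rw [Subgroup.closure_le]
  intro x hx
  rcases hx with rfl | rfl
  · exact Subgroup.mem_sup_right (Subgroup.mem_zpowers _)
  · have : x = s⁻¹ * z := by rw [hzdef]; group
    rw [SetLike.mem_coe, this]
    exact Subgroup.mul_mem _ (Subgroup.inv_mem _ (Subgroup.mem_sup_right (Subgroup.mem_zpowers s)))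
      (Subgroup.mem_sup_left (Subgroup.mem_zpowers z))

end Cfsg.Agent.Lib.H6.RootInv
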