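import Mathlib
import Cfsg.Prelude.Def_RootSubgroups
import Cfsg.Agent.Lib.H6.RootInv1

set_option autoImplicit false

/-! Root involutions (Timmesfeld): the key lemma on commuting members with product in `D`. -/

open Cfsg

namespace Cfsg.Agent.Lib.H6.RootInv

variable {G : Type*} [Group G] {D : Set G}

/-- Conjugation preserves adjacency. -/
theorem oddAdj_conj (hD : IsRootInvolutionSet D) {a b : G} (h : OddAdj D a b) (g : G) :
    OddAdj D (g * a * g⁻¹) (g * b * g⁻¹) := by
  refine ⟨hD.conj_mem a h.1 g, hD.conj_mem b h.2.1 g, ?_, ?_⟩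
  · intro he
    exact h.2.2.1 (mul_left_cancel (mul_right_cancel he))
  · have e1 : g * a * g⁻¹ * (g * b * g⁻¹) = MulAut.conj g (a * b) := by
      simp [MulAut.conj_apply]
    rw [e1, MulEquiv.orderOf_eq]
    exact h.2.2.2

theorem isolated_conj (hD : IsRootInvolutionSet D) {w : G}
    (hw : IsIsolatedElem (OddAdj D) D w) (g : G) :
    IsIsolatedElem (OddAdj D) D (g * w * g⁻¹) := by
  refine ⟨hD.conj_mem w hw.1 g, ?_⟩
  intro b
  have key : ¬ OddAdj D (g * w * g⁻¹) b := by
    intro h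
    have h2 := oddAdj_conj hD h g⁻¹
    have e : g⁻¹ * (g * w * g⁻¹) * g⁻¹⁻¹ = w := by group
    rw [e] at h2
    exact (hw.2 _).1 h2
  exact ⟨key, fun h => key (oddAdj_symm hD h)⟩

/-- Isolated in terms of one-sided adjacency. -/
theorem isolated_iff (hD : IsRootInvolutionSet D) {w : G} :
    IsIsolatedElem (OddAdj D) D w ↔ w ∈ D ∧ ∀ b, ¬ OddAdj D w b := by
  constructor
  · rintro ⟨h1, h2⟩
    exact ⟨h1, fun b => (h2 b).1⟩
  · rintro ⟨h1, h2⟩
    exact ⟨h1, fun b => ⟨h2 b, fun h => h2 b (oddAdj_symm hD h)⟩⟩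

/-- If `(e y)^4 = 1` for involutions `e`, `y` then `e` commutes with its conjugate under `y`. -/
theorem commute_conj_of_pow_four {e y : G} (he : e * e = 1) (hy : y * y = 1)
    (h : (e * y) ^ 4 = 1) : Commute e (y * e * y⁻¹) := by
  have heinv : e⁻¹ = e := inv_eq_of_mul_eq_one_left he
  have hyinv : y⁻¹ = y := inv_eq_of_mul_eq_one_left hy
  have hu : e * (y * e * y) * (e * (y * e * y)) = 1 := by
    rw [← h]; simp only [pow_succ, pow_zero, one_mul, mul_assoc]
  have hinv : (e * (y * e * y))⁻¹ = e * (y * e * y) := inv_eq_of_mul_eq_one_left hu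
  have h2 : (e * (y * e * y))⁻¹ = (y * e * y) * e := by
    rw [mul_inv_rev, mul_inv_rev, mul_inv_rev, heinv, hyinv]
    simp only [mul_assoc]
  rw [hyinv]
  show e * (y * e * y) = (y * e * y) * e
  rw [← h2, hinv]

/-- The product of an involution and a commuting element of odd order. -/
theorem orderOf_mul_of_odd {e w : G} (he : orderOf e = 2) (hw : Odd (orderOf w))
    (hc : Commute e w) : orderOf (e * w) = 2 * orderOf w := by
  rw [hc.orderOf_mul_eq_mul_orderOf_of_coprime, he]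
  rw [he]
  exact (Odd.coprime_two_right hw).symm

/-- An element of odd order with `x ^ (2 ^ k) = 1` is trivial. -/
theorem eq_one_of_odd_of_pow_two_pow {x : G} (hx : Odd (orderOf x)) (k : ℕ)
    (h : x ^ (2 ^ k) = 1) : x = 1 := by
  have hd : orderOf x ∣ 2 ^ k := orderOf_dvd_of_pow_eq_one h
  have hc : Nat.Coprime (orderOf x) (2 ^ k) := (Odd.coprime_two_right hx).pow_right k
  have := hc.eq_one_of_dvd hd
  exact orderOf_eq_one_iff.mp this

section key

variable (hD : IsRootInvolutionSet D) {a g : G} (ha : a ∈ D) (hg : g ∈ D)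
  (hodd : Odd (orderOf (a * g)))

include hD ha hg in
theorem conj_prod : a * (a * g) * a⁻¹ = (a * g)⁻¹ := by
  rw [inv_eq hD ha, mul_inv_rev, inv_eq hD ha, inv_eq hD hg]
  calc a * (a * g) * a = (a * a) * g * a := by group
    _ = g * a := by rw [mul_self hD ha, one_mul]

include hD ha hg in
theorem conj_prod_pow (j : ℕ) : a * (a * g) ^ j * a⁻¹ = ((a * g) ^ j)⁻¹ := by
  have e1 : a * (a * g) ^ j * a⁻¹ = MulAut.conj a ((a * g) ^ j) := by simp [MulAut.conj_apply]
  have e2 : a * (a * g) * a⁻¹ = MulAut.conj a (a * g) := by simp [MulAut.conj_apply]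
  rw [e1, map_pow, ← e2, conj_prod hD ha hg, inv_pow]

include hD ha hg hodd in
/-- All the elements `z ^ j * a` of the dihedral group lie in `D`. -/
theorem pow_mul_mem (j : ℕ) : (a * g) ^ j * a ∈ D := by
  obtain ⟨r, hr⟩ := hodd
  set z := a * g with hz
  -- n = j * (r + 1), 2 n = j * (orderOf z + 1)
  have hmem := hD.conj_mem a ha (z ^ (j * (r + 1)))
  have hc := conj_prod_pow hD ha hg (j * (r + 1))
  rw [← hz] at hc
  have hainv : a⁻¹ = a := inv_eq hD ha
  have h1 : a * (z ^ (j * (r + 1)))⁻¹ = z ^ (j * (r + 1)) * a := by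
    have : a * (z ^ (j * (r + 1)))⁻¹ * a⁻¹ = z ^ (j * (r + 1)) := by
      calc a * (z ^ (j * (r + 1)))⁻¹ * a⁻¹ = (a * z ^ (j * (r + 1)) * a⁻¹)⁻¹ := by group
        _ = z ^ (j * (r + 1)) := by rw [hc, inv_inv]
    calc a * (z ^ (j * (r + 1)))⁻¹ = a * (z ^ (j * (r + 1)))⁻¹ * a⁻¹ * a := by group
      _ = z ^ (j * (r + 1)) * a := by rw [this]
  have h2 : z ^ (j * (r + 1)) * a * (z ^ (j * (r + 1)))⁻¹ = z ^ j * a := by
    rw [mul_assoc, h1, ← mul_assoc, ← pow_add]
    congr 1
    have : j * (r + 1) + j * (r + 1) = orderOf z * j + j := by rw [hr]; ring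
    rw [this, pow_add, pow_mul, pow_orderOf_eq_one, one_pow, one_mul]
  rwa [h2] at hmem

end key

end Cfsg.Agent.Lib.H6.RootInv
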