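import Mathlib
import Cfsg.Prelude.Def_RootSubgroups
import Cfsg.Agent.Lib.H6.RootInv2

set_option autoImplicit false

/-! Root involutions (Timmesfeld): the key lemma on commuting members with product in `D`. -/

open Cfsg

namespace Cfsg.Agent.Lib.H6.RootInv

variable {G : Type*} [Group G] {D : Set G}

/-- Four pairwise commuting involutions: the square of their product is trivial. -/
theorem sq_prod_four {x0 x1 x2 x3 : G} (h0 : x0 ^ 2 = 1) (h1 : x1 ^ 2 = 1) (h2 : x2 ^ 2 = 1)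
    (h3 : x3 ^ 2 = 1) (c01 : Commute x0 x1) (c02 : Commute x0 x2) (c03 : Commute x0 x3)
    (c12 : Commute x1 x2) (c13 : Commute x1 x3) (c23 : Commute x2 x3) :
    (x0 * x1 * x2 * x3) ^ 2 = 1 := by
  have h01 : (x0 * x1) ^ 2 = 1 := by rw [c01.mul_pow, h0, h1, one_mul]
  have h012 : (x0 * x1 * x2) ^ 2 = 1 := by
    rw [(c02.mul_left c12).mul_pow, h01, h2, one_mul]
  rw [((c03.mul_left c13).mul_left c23).mul_pow, h012, h3, one_mul]

/-- **Key lemma.** Let `a, e ∈ D` commute with `a e ∈ D`, let `g` be a neighbour of `a`, and suppose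
that `a` and `e` have no common neighbour.  Then `g` is a neighbour of `a e`. -/
theorem key_lemma (hD : IsRootInvolutionSet D) {a e g : G} (ha : a ∈ D) (he : e ∈ D)
    (hae : a * e = e * a) (hc : a * e ∈ D) (hag : OddAdj D a g)
    (hne : ∀ x, OddAdj D a x → ¬ OddAdj D e x) : OddAdj D (a * e) g := by
  have hg : g ∈ D := hag.2.1
  have hodd : Odd (orderOf (a * g)) := hag.2.2.2
  have haa := mul_self hD ha
  have hee := mul_self hD he
  have hainv := inv_eq hD ha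
  have heinv := inv_eq hD he
  obtain ⟨z, hz⟩ : ∃ z, z = a * g := ⟨_, rfl⟩
  rw [← hz] at hodd
  have hz1 : z ≠ 1 := by
    intro h
    rw [hz] at h
    have : g = a := by
      have h2 : g = a⁻¹ := by
        calc g = a⁻¹ * (a * g) := by group
          _ = a⁻¹ := by rw [h, mul_one]
      rw [h2, hainv]
    exact hag.2.2.1 this.symm
  -- the members `y j = z ^ j * a`
  have hy : ∀ j : ℕ, z ^ j * a ∈ D := by
    intro j; rw [hz]; exact pow_mul_mem hD ha hg (hz ▸ hodd) j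
  have hconj : ∀ j : ℕ, a * z ^ j * a⁻¹ = (z ^ j)⁻¹ := by
    intro j; rw [hz]; exact conj_prod_pow hD ha hg j
  -- `e` commutes with all its conjugates under powers of `z`
  have hX : ∀ j : ℕ, Commute e (z ^ j * e * (z ^ j)⁻¹) := by
    intro j
    by_cases hj : z ^ j = 1
    · rw [hj]; simp
    · have hadj : OddAdj D a (z ^ j * a) := by
        refine ⟨ha, hy j, ?_, ?_⟩
        · intro h
          apply hj
          calc z ^ j = z ^ j * a * a⁻¹ := by group
            _ = 1 := by rw [← h, mul_inv_cancel]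
        · have e1 : a * (z ^ j * a) = (z ^ j)⁻¹ := by
            rw [← hconj j, hainv]; group
          rw [e1, orderOf_inv]
          exact Odd.of_dvd_nat hodd (orderOf_pow_dvd j)
      have h4 := pow_four_of_not_adj hD he (hy j) (hne _ hadj)
      have hyy := mul_self hD (hy j)
      have := commute_conj_of_pow_four hee hyy h4
      have e2 : z ^ j * a * e * (z ^ j * a)⁻¹ = z ^ j * e * (z ^ j)⁻¹ := by
        rw [mul_inv_rev]
        calc z ^ j * a * e * (a⁻¹ * (z ^ j)⁻¹) = z ^ j * (a * e * a⁻¹) * (z ^ j)⁻¹ := by group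
          _ = z ^ j * e * (z ^ j)⁻¹ := by
            rw [hae, mul_assoc e a, mul_inv_cancel, mul_one]
      rwa [e2] at this
  -- all conjugates commute pairwise
  have hXX : ∀ i k : ℕ, Commute (z ^ i * e * (z ^ i)⁻¹) (z ^ (i + k) * e * (z ^ (i + k))⁻¹) := by
    intro i k
    have h1 := (Commute.conj_iff (z ^ i)).mpr (hX k)
    have e3 : z ^ i * (z ^ k * e * (z ^ k)⁻¹) * (z ^ i)⁻¹
        = z ^ (i + k) * e * (z ^ (i + k))⁻¹ := by
      rw [pow_add, mul_inv_rev]; group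
    rwa [e3] at h1
  have hXsq : ∀ i : ℕ, (z ^ i * e * (z ^ i)⁻¹) ^ 2 = 1 := by
    intro i
    rw [pow_two]
    calc z ^ i * e * (z ^ i)⁻¹ * (z ^ i * e * (z ^ i)⁻¹) = z ^ i * (e * e) * (z ^ i)⁻¹ := by group
      _ = 1 := by rw [hee, mul_one, mul_inv_cancel]
  apply adj_of_pow_four_ne hD hc hg
  intro h4
  have e4 : a * e * g = e * z := by
    rw [hae, hz, mul_assoc]
  rw [e4] at h4
  have hprod := sq_prod_four (hXsq 0) (hXsq 1) (hXsq 2) (hXsq 3) (hXX 0 1) (hXX 0 2) (hXX 0 3)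
    (hXX 1 1) (hXX 1 2) (hXX 2 1)
  have e5 : (e * z) ^ 4 = (z ^ 0 * e * (z ^ 0)⁻¹) * (z ^ (0 + 1) * e * (z ^ (0 + 1))⁻¹)
      * (z ^ (0 + 2) * e * (z ^ (0 + 2))⁻¹) * (z ^ (0 + 3) * e * (z ^ (0 + 3))⁻¹) * z ^ 4 := by
    rw [show (e * z) ^ 4 = e * z * (e * z) * (e * z) * (e * z) by
      simp only [pow_succ, pow_zero, one_mul]]
    group
  have e6 : z ^ (0 + 1) = z ^ 1 := by rw [zero_add]
  have e7 : z ^ (0 + 2) = z ^ 2 := by rw [zero_add]
  have e8 : z ^ (0 + 3) = z ^ 3 := by rw [zero_add]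
  have e9 : z ^ (1 + 1) = z ^ 2 := rfl
  have e10 : z ^ (1 + 2) = z ^ 3 := rfl
  have e11 : z ^ (2 + 1) = z ^ 3 := rfl
  simp only [e6, e7, e8, e9, e10, e11] at hprod e5
  rw [e5] at h4
  have h5 : z ^ 4 = ((z ^ 0 * e * (z ^ 0)⁻¹) * (z ^ 1 * e * (z ^ 1)⁻¹)
      * (z ^ 2 * e * (z ^ 2)⁻¹) * (z ^ 3 * e * (z ^ 3)⁻¹))⁻¹ :=
    (inv_eq_of_mul_eq_one_right h4).symm
  have h6 : z ^ (2 ^ 3) = 1 := by
    have : z ^ (2 ^ 3) = (z ^ 4) ^ 2 := by rw [← pow_mul]; norm_num
    rw [this, h5, inv_pow, hprod, inv_one]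
  exact hz1 (eq_one_of_odd_of_pow_two_pow hodd 3 h6)

end Cfsg.Agent.Lib.H6.RootInv
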