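import Mathlib
import Cfsg.Prelude.Def_RootSubgroups
import Cfsg.Agent.Lib.H6.RootInv3

set_option autoImplicit false

/-! Root involutions (Timmesfeld): the isolated vertices generate a normal 2-subgroup. -/

open Cfsg

namespace Cfsg.Agent.Lib.H6.RootInv

variable {G : Type*} [Group G] {D : Set G}

/-- The set of isolated vertices. -/
def isoSet (D : Set G) : Set G := {w | IsIsolatedElem (OddAdj D) D w}

theorem isoSet_conj (hD : IsRootInvolutionSet D) (g : G) (w : G) (hw : w ∈ isoSet D) :
    g * w * g⁻¹ ∈ isoSet D := isolated_conj hD hw g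

theorem isoSet_normal (hD : IsRootInvolutionSet D) : (Subgroup.closure (isoSet D)).Normal :=
  Cfsg.Agent.Lib.H16.closure_normal_of_conj_mem _ (isoSet_conj hD)

theorem isoSet_isPGroup [Finite G] (hD : IsRootInvolutionSet D) :
    IsPGroup 2 (Subgroup.closure (isoSet D)) := by
  have : Fact (Nat.Prime 2) := Nat.fact_prime_two
  apply Cfsg.Agent.Lib.H16.isPGroup_closure_of_pairwise (p := 2) _ (isoSet_conj hD)
  intro x hx y hy
  exact isPGroup_two_closure_pair (hD.orderOf_eq x hx.1) (hD.orderOf_eq y hy.1)
    (pow_four_of_not_adj hD hx.1 hy.1 (hx.2 y).1)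

/-- A member of `D` inside a normal 2-subgroup is isolated. -/
theorem isolated_of_mem_two_group (hD : IsRootInvolutionSet D) (Q : Subgroup G) [Q.Normal]
    (hQ : IsPGroup 2 Q) {d : G} (hd : d ∈ D) (hdQ : d ∈ Q) : IsIsolatedElem (OddAdj D) D d := by
  rw [isolated_iff hD]
  refine ⟨hd, ?_⟩
  intro b hb
  have hbD := hb.2.1
  have hbinv := inv_eq hD hbD
  have hmem : (d * b) ^ 2 ∈ Q := by
    have : (d * b) ^ 2 = d * (b * d * b⁻¹) := by rw [pow_two, hbinv]; group
    rw [this]
    exact Q.mul_mem hdQ (Subgroup.Normal.conj_mem inferInstance d hdQ b)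
  obtain ⟨k, hk⟩ := hQ ⟨(d * b) ^ 2, hmem⟩
  have hk' : (d * b) ^ (2 ^ (k + 1)) = 1 := by
    have := congrArg Subtype.val hk
    simp only [Subgroup.coe_pow, Subgroup.coe_one] at this
    rw [pow_succ, mul_comm, pow_mul]
    exact this
  have h1 := eq_one_of_odd_of_pow_two_pow hb.2.2.2 (k + 1) hk'
  apply hb.2.2.1
  have : b = d⁻¹ := by
    calc b = d⁻¹ * (d * b) := by group
      _ = d⁻¹ := by rw [h1, mul_one]
  rw [this, inv_eq hD hd]

theorem isoSet_inter [Finite G] (hD : IsRootInvolutionSet D) :
    (Subgroup.closure (isoSet D) : Set G) ∩ D = isoSet D := by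
  ext d
  constructor
  · rintro ⟨h1, h2⟩
    have := isoSet_normal hD
    exact isolated_of_mem_two_group hD _ (isoSet_isPGroup hD) h2 h1
  · intro h
    exact ⟨Subgroup.subset_closure h, h.1⟩

/-- A member with a nontrivial component has a neighbour. -/
theorem exists_adj_of_component (a : G)
    (h : ∃ a' ∈ elemComponentOf (OddAdj D) D a, a' ≠ a) : ∃ g, OddAdj D a g := by
  obtain ⟨a', ha', hne⟩ := h
  rcases Relation.ReflTransGen.cases_head ha'.2 with h1 | ⟨c, hc, -⟩
  · exact absurd h1.symm hne
  · exact ⟨c, hc⟩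

/-- Part (6). -/
theorem productPartners_subset (hD : IsRootInvolutionSet D) {a : G} (ha : a ∈ D)
    (h : ∃ a' ∈ elemComponentOf (OddAdj D) D a, a' ≠ a) :
    productPartners D a ⊆ elemComponentOf (OddAdj D) D a ∪ isoSet D := by
  intro e he
  obtain ⟨⟨heD, hea, hne⟩, hprod⟩ := he
  obtain ⟨g, hg⟩ := exists_adj_of_component a h
  by_cases hiso : IsIsolatedElem (OddAdj D) D e
  · exact Or.inr hiso
  · left
    refine ⟨heD, ?_⟩
    by_contra hcon
    rw [isolated_iff hD] at hiso
    push Not at hiso
    obtain ⟨f, hf⟩ := hiso heD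
    have hne1 : ∀ x, OddAdj D a x → ¬ OddAdj D e x := by
      intro x h1 h2
      exact hcon ((Relation.ReflTransGen.single h1).trans
        (Relation.ReflTransGen.single (oddAdj_symm hD h2)))
    have hne2 : ∀ x, OddAdj D e x → ¬ OddAdj D a x := fun x h1 h2 => hne1 x h2 h1
    have hae : a * e = e * a := hea.symm
    have hc : a * e ∈ D := by rw [hae]; exact hprod
    have k1 := key_lemma hD ha heD hae hc hg hne1
    have k2 := key_lemma hD heD ha hea hprod hf hne2
    rw [hea] at k2
    apply hcon
    exact ((Relation.ReflTransGen.single hg).trans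
      (Relation.ReflTransGen.single (oddAdj_symm hD k1))).trans
      ((Relation.ReflTransGen.single k2).trans
      (Relation.ReflTransGen.single (oddAdj_symm hD hf)))

/-- Part (5). -/
theorem commutator_mem (hD : IsRootInvolutionSet D) {a b : G} (ha : a ∈ D) (hb : b ∈ D)
    (h1 : ∃ a' ∈ elemComponentOf (OddAdj D) D a, a' ≠ a)
    (h2 : ∃ b' ∈ elemComponentOf (OddAdj D) D b, b' ≠ b)
    (hne : elemComponentOf (OddAdj D) D a ≠ elemComponentOf (OddAdj D) D b) :
    a * b * a⁻¹ * b⁻¹ ∈ Subgroup.closure (isoSet D) := by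
  have hainv := inv_eq hD ha
  have hbinv := inv_eq hD hb
  have haa := mul_self hD ha
  have hbb := mul_self hD hb
  have hnadj : ¬ OddAdj D a b := fun h =>
    hne (component_eq_of_rtg hD (Relation.ReflTransGen.single h))
  have hab : a ≠ b := by rintro rfl; exact hne rfl
  rcases hD.pair a ha b hb with h | h | ⟨h4, ht⟩
  · have : a * b * a⁻¹ * b⁻¹ = 1 := by
      rw [h]; group
    rw [this]; exact Subgroup.one_mem _
  · exact absurd ⟨ha, hb, hab, h⟩ hnadj
  · have hp4 : (a * b) ^ 4 = 1 := by rw [← h4]; exact pow_orderOf_eq_one _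
    have hp4' : a * b * a * b * a * b * a * b = 1 := by
      rw [← hp4]; simp only [pow_succ, pow_zero, one_mul, mul_assoc]
    obtain ⟨t, htdef⟩ : ∃ t, t = (a * b) ^ 2 := ⟨_, rfl⟩
    rw [← htdef] at ht
    have ht1 : t = a * b * a * b := by rw [htdef, pow_two]; simp only [mul_assoc]
    have ht2 : a * b * a⁻¹ * b⁻¹ = t := by rw [hainv, hbinv, ht1]
    -- t a = b a b
    have hbab_inv : (b * a * b)⁻¹ = b * a * b := by
      rw [mul_inv_rev, mul_inv_rev, hainv, hbinv, mul_assoc]
    have haba_inv : (a * b * a)⁻¹ = a * b * a := by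
      rw [mul_inv_rev, mul_inv_rev, hainv, hbinv, mul_assoc]
    have hta : t * a = b * a * b := by
      rw [ht1, ← hbab_inv]
      apply eq_inv_of_mul_eq_one_left
      rw [← hp4']; simp only [mul_assoc]
    have hat : a * t = b * a * b := by
      rw [ht1]
      calc a * (a * b * a * b) = (a * a) * b * a * b := by simp only [mul_assoc]
        _ = b * a * b := by rw [haa, one_mul]
    have htb : t * b = a * b * a := by
      rw [ht1]
      calc a * b * a * b * b = a * b * a * (b * b) := by simp only [mul_assoc]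
        _ = a * b * a := by rw [hbb, mul_one]
    have hbt : b * t = a * b * a := by
      have : b * (a * b * a * b) = (a * b * a)⁻¹ := by
        apply eq_inv_of_mul_eq_one_right
        rw [← hp4']; simp only [mul_assoc]
      rw [ht1, this, haba_inv]
    have hta_ne : t ≠ a := by
      intro h
      rw [h, haa] at hat
      have : a = 1 := by
        calc a = b⁻¹ * (b * a * b) * b⁻¹ := by group
          _ = 1 := by rw [← hat, hbinv, mul_one, hbb]
      exact ne_one hD ha this
    have htb_ne : t ≠ b := by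
      intro h
      rw [h, hbb] at htb
      have : b = 1 := by
        calc b = a⁻¹ * (a * b * a) * a⁻¹ := by group
          _ = 1 := by rw [← htb, hainv, mul_one, haa]
      exact ne_one hD hb this
    have hpa : t ∈ productPartners D a :=
      ⟨⟨ht, by rw [hta, hat], hta_ne⟩, by rw [hta]; exact conj_mem' hD ha hb⟩
    have hpb : t ∈ productPartners D b :=
      ⟨⟨ht, by rw [htb, hbt], htb_ne⟩, by rw [htb]; exact conj_mem' hD hb ha⟩
    rw [ht2]
    rcases productPartners_subset hD ha h1 hpa with h5 | h5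
    · rcases productPartners_subset hD hb h2 hpb with h6 | h6
      · exfalso
        apply hne
        rw [component_eq_of_rtg hD h5.2, component_eq_of_rtg hD h6.2]
      · exact Subgroup.subset_closure h6
    · exact Subgroup.subset_closure h5

end Cfsg.Agent.Lib.H6.RootInv
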