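import Mathlib
import Cfsg.Prelude.Def_RootSubgroups
import Cfsg.Agent.Lib.H6.RootInv5

set_option autoImplicit false

/-! Root involutions (Timmesfeld): connected graph gives one class; adjacent members are not
congruent modulo a proper normal subgroup (when some commuting product lies in `D`). -/

open Cfsg

namespace Cfsg.Agent.Lib.H6.RootInv

variable {G : Type*} [Group G] {D : Set G}

theorem pow_mul_eq_conj (hD : IsRootInvolutionSet D) {a g : G} (ha : a ∈ D) (hg : g ∈ D)
    (hodd : Odd (orderOf (a * g))) (j : ℕ) : ∃ w : G, (a * g) ^ j * a = w * a * w⁻¹ := by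
  obtain ⟨r, hr⟩ := hodd
  obtain ⟨z, hz⟩ : ∃ z, z = a * g := ⟨_, rfl⟩
  rw [← hz] at hr ⊢
  have hc := conj_prod_pow hD ha hg (j * (r + 1))
  rw [← hz] at hc
  have hainv : a⁻¹ = a := inv_eq hD ha
  have h1 : a * (z ^ (j * (r + 1)))⁻¹ = z ^ (j * (r + 1)) * a := by
    have : a * (z ^ (j * (r + 1)))⁻¹ * a⁻¹ = z ^ (j * (r + 1)) := by
      calc a * (z ^ (j * (r + 1)))⁻¹ * a⁻¹ = (a * z ^ (j * (r + 1)) * a⁻¹)⁻¹ := by group
        _ = z ^ (j * (r + 1)) := by rw [hc, inv_inv]
    calc a * (z ^ (j * (r + 1)))⁻¹ = a * (z ^ (j * (r + 1)))⁻¹ * a⁻¹ * a := by group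
      _ = z ^ (j * (r + 1)) * a := by rw [this]
  refine ⟨z ^ (j * (r + 1)), ?_⟩
  rw [mul_assoc (z ^ (j * (r + 1))) a, h1, ← mul_assoc, ← pow_add]
  congr 1
  have : j * (r + 1) + j * (r + 1) = orderOf z * j + j := by rw [hr]; ring
  rw [this, pow_add, pow_mul, pow_orderOf_eq_one, one_pow, one_mul]

/-- Adjacent members are conjugate. -/
theorem conj_of_adj (hD : IsRootInvolutionSet D) {a b : G} (h : OddAdj D a b) :
    ∃ w : G, b = w * a * w⁻¹ := by
  obtain ⟨ha, hb, -, hodd⟩ := h
  have hpos : 0 < orderOf (a * b) := hodd.pos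
  obtain ⟨w, hw⟩ := pow_mul_eq_conj hD ha hb hodd (orderOf (a * b) - 1)
  refine ⟨w, ?_⟩
  rw [← hw]
  have h1 : (a * b) ^ (orderOf (a * b) - 1) * (a * b) = 1 := by
    rw [← pow_succ, Nat.sub_add_cancel hpos, pow_orderOf_eq_one]
  have h2 : (a * b) ^ (orderOf (a * b) - 1) = (a * b)⁻¹ := eq_inv_of_mul_eq_one_left h1
  rw [h2, mul_inv_rev, inv_eq hD ha, inv_eq hD hb, mul_assoc, mul_self hD ha, mul_one]

theorem conj_of_rtg (hD : IsRootInvolutionSet D) {a b : G}
    (h : Relation.ReflTransGen (OddAdj D) a b) : ∃ w : G, b = w * a * w⁻¹ := by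
  induction h with
  | refl => exact ⟨1, by simp⟩
  | tail _ hbc ih =>
    obtain ⟨w, rfl⟩ := ih
    obtain ⟨v, hv⟩ := conj_of_adj hD hbc
    exact ⟨v * w, by rw [hv]; group⟩

/-- A connected graph: `D` is one conjugacy class. -/
theorem single_class (hD : IsRootInvolutionSet D) (hc : IsConnectedSet (OddAdj D) D)
    {a b : G} (ha : a ∈ D) (hb : b ∈ D) : ∃ w : G, b = w * a * w⁻¹ :=
  conj_of_rtg hD (hc a ha b hb)

/-- A normal subgroup meeting `D` is everything, if the graph is connected. -/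
theorem eq_top_of_mem (hD : IsRootInvolutionSet D) (hc : IsConnectedSet (OddAdj D) D)
    (N : Subgroup G) [N.Normal] {x : G} (hx : x ∈ D) (hxN : x ∈ N) : N = ⊤ := by
  rw [eq_top_iff, ← hD.generates, Subgroup.closure_le]
  intro y hy
  obtain ⟨w, rfl⟩ := single_class hD hc hx hy
  exact Subgroup.Normal.conj_mem inferInstance x hxN w

theorem productPartners_conj (hD : IsRootInvolutionSet D) {a b : G}
    (hb : b ∈ productPartners D a) (w : G) :
    w * b * w⁻¹ ∈ productPartners D (w * a * w⁻¹) := by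
  obtain ⟨⟨hbD, hba, hne⟩, hprod⟩ := hb
  refine ⟨⟨hD.conj_mem b hbD w, ?_, ?_⟩, ?_⟩
  · calc w * b * w⁻¹ * (w * a * w⁻¹) = w * (b * a) * w⁻¹ := by group
      _ = w * (a * b) * w⁻¹ := by rw [hba]
      _ = w * a * w⁻¹ * (w * b * w⁻¹) := by group
  · intro h
    exact hne (mul_left_cancel (mul_right_cancel h))
  · have : w * b * w⁻¹ * (w * a * w⁻¹) = w * (b * a) * w⁻¹ := by group
    rw [this]
    exact hD.conj_mem _ hprod w

/-- If some commuting product lies in `D` and the graph is connected, every member has a product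
partner. -/
theorem exists_productPartner (hD : IsRootInvolutionSet D) (hc : IsConnectedSet (OddAdj D) D)
    (hDD : (D ∩ commutingProducts D).Nonempty) {d : G} (hd : d ∈ D) :
    ∃ b, b ∈ productPartners D d := by
  obtain ⟨c, hcD, a, ha, b, hb, hab, hne, rfl⟩ := hDD
  have hb' : b ∈ productPartners D a := by
    refine ⟨⟨hb, hab.symm, ?_⟩, by rw [← hab]; exact hcD⟩
    rintro rfl
    exact hne (mul_self hD hb)
  obtain ⟨w, rfl⟩ := single_class hD hc ha hd
  exact ⟨_, productPartners_conj hD hb' w⟩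

theorem eq_one_of_sq_of_odd_pow {H : Type*} [Group H] {x : H} (h2 : x ^ 2 = 1) {k : ℕ}
    (hk : Odd k) (h : x ^ k = 1) : x = 1 := by
  obtain ⟨r, rfl⟩ := hk
  rw [pow_succ, pow_mul, h2, one_pow, one_mul] at h
  exact h

/-- Adjacent members are not congruent modulo a normal subgroup that misses `D`. -/
theorem not_adj_of_congr (hD : IsRootInvolutionSet D) (N : Subgroup G) [N.Normal]
    (hN : ∀ x ∈ D, x ∉ N) {d e b : G} (hd : d ∈ D) (hb : b ∈ productPartners D d)
    (hde : d⁻¹ * e ∈ N) : ¬ OddAdj D d e := by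
  intro hadj
  obtain ⟨⟨hbD, hbd, hbne⟩, hprod⟩ := hb
  have he : e ∈ D := hadj.2.1
  have hdinv := inv_eq hD hd
  -- the quotient map
  have hφe : (QuotientGroup.mk' N) e = (QuotientGroup.mk' N) d := by
    have : (QuotientGroup.mk' N) (d⁻¹ * e) = 1 := by
      rw [QuotientGroup.mk'_apply, QuotientGroup.eq_one_iff]; exact hde
    rw [map_mul, map_inv] at this
    exact (inv_mul_eq_one.mp this).symm
  have hφdd : (QuotientGroup.mk' N) d * (QuotientGroup.mk' N) d = 1 := by
    rw [← map_mul, mul_self hD hd, map_one]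
  have hφz : ∀ j : ℕ, (QuotientGroup.mk' N) ((d * e) ^ j * d) = (QuotientGroup.mk' N) d := by
    intro j
    rw [map_mul, map_pow, map_mul, hφe, hφdd, one_pow, one_mul]
  have hmem_one : ∀ x : G, x ∈ D → (QuotientGroup.mk' N) x ≠ 1 := by
    intro x hx h
    rw [QuotientGroup.mk'_apply, QuotientGroup.eq_one_iff] at h
    exact hN x hx h
  have hdb : d * b = b * d := hbd.symm
  have hcD : d * b ∈ D := by rw [hdb]; exact hprod
  have hkey : OddAdj D (d * b) e := by
    apply key_lemma_local hD hd hbD hdb hcD hadj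
    intro j _ hbad
    -- b * (z^j * d) has odd order, so the image of b * d is trivial
    have hodd := hbad.2.2.2
    have h1 : ((QuotientGroup.mk' N) (b * d)) ^ orderOf (b * ((d * e) ^ j * d)) = 1 := by
      have : (QuotientGroup.mk' N) (b * d) = (QuotientGroup.mk' N) (b * ((d * e) ^ j * d)) := by
        rw [map_mul, map_mul (QuotientGroup.mk' N) b ((d * e) ^ j * d), hφz j]
      rw [this, ← map_pow, pow_orderOf_eq_one, map_one]
    have h2 : ((QuotientGroup.mk' N) (b * d)) ^ 2 = 1 := by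
      rw [← map_pow, pow_two, mul_self hD hprod, map_one]
    exact hmem_one _ hprod (eq_one_of_sq_of_odd_pow h2 hodd h1)
  -- now the image of b is trivial
  have hodd := hkey.2.2.2
  have h1 : ((QuotientGroup.mk' N) b) ^ orderOf (d * b * e) = 1 := by
    have : (QuotientGroup.mk' N) b = (QuotientGroup.mk' N) (d * b * e) := by
      rw [map_mul, hφe, ← map_mul]
      congr 1
      rw [hdb, mul_assoc, mul_self hD hd, mul_one]
    rw [this, ← map_pow, pow_orderOf_eq_one, map_one]
  have h2 : ((QuotientGroup.mk' N) b) ^ 2 = 1 := by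
    rw [← map_pow, pow_two, mul_self hD hbD, map_one]
  exact hmem_one _ hbD (eq_one_of_sq_of_odd_pow h2 hodd h1)

end Cfsg.Agent.Lib.H6.RootInv
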