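import Mathlib
import Cfsg.Prelude.Def_Characters
import Cfsg.Agent.Lib.L0.CharOps

/-!
# S4561 piece PICHAR: the outer product of an irreducible character is irreducible on the Pi group
-/

set_option autoImplicit false

namespace Cfsg.Agent.Lib.H6.GAG

open Cfsg Cfsg.Agent.Lib.L0
open scoped ComplexConjugate

theorem isCharacter_of_irr {G : Type*} [Group G] {χ : G → ℂ} (h : IsIrrCharacter G χ) : IsCharacter G χ := by
  obtain ⟨n, ρ, -, e⟩ := h
  exact ⟨n, ρ, e⟩

/-- the partial outer products are characters -/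
theorem isCharacter_piChar_finset {ι : Type*} {G : Type*} [Group G] (χ : G → ℂ) (hχ : IsCharacter G χ)
    (s : Finset ι) : IsCharacter (ι → G) (fun f => ∏ i ∈ s, χ (f i)) := by
  classical
  induction s using Finset.induction_on with
  | empty =>
    have h1 : IsCharacter (ι → G) (1 : (ι → G) → ℂ) := isCharacter_of_irr isIrrCharacter_one
    convert h1 using 1
    funext f
    rw [Finset.prod_empty]
    rfl
  | insert a s ha ih =>
    have h2 : IsCharacter (ι → G) (χ ∘ (Pi.evalMonoidHom (fun _ : ι => G) a)) :=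
      isCharacter_comp (Pi.evalMonoidHom (fun _ : ι => G) a) hχ
    have h3 := isCharacter_mul h2 ih
    convert h3 using 1
    funext f
    rw [Finset.prod_insert ha]
    rfl

/-- PICHAR.  The outer product `f ↦ ∏ i, χ (f i)` is an irreducible character of `ι → G`. -/
theorem isIrrCharacter_piChar {ι : Type*} [Fintype ι] {G : Type*} [Group G] [Finite G] (χ : G → ℂ)
    (hχ : IsIrrCharacter G χ) : IsIrrCharacter (ι → G) (fun f => ∏ i, χ (f i)) := by
  classical
  have : Fintype G := Fintype.ofFinite G
  have hchar : IsCharacter (ι → G) (fun f => ∏ i, χ (f i)) :=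
    isCharacter_piChar_finset χ (isCharacter_of_irr hχ) Finset.univ
  apply isIrrCharacter_of_classInner_self_eq_one hchar
  have h1 : classInner χ χ = 1 := irr_classInner_self hχ
  unfold classInner at h1 ⊢
  have hcard : (Nat.card (ι → G) : ℂ) = (Nat.card G : ℂ) ^ Fintype.card ι := by
    rw [Nat.card_fun, Nat.card_eq_fintype_card (α := ι)]
    push_cast
    rfl
  have hsum : ∑ f : ι → G, (∏ i, χ (f i)) * conj (∏ i, χ (f i)) =
      (∑ g : G, χ g * conj (χ g)) ^ Fintype.card ι := by
    have e1 : ∀ f : ι → G, (∏ i, χ (f i)) * conj (∏ i, χ (f i)) = ∏ i, (χ (f i) * conj (χ (f i))) := by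
      intro f
      rw [map_prod, Finset.prod_mul_distrib]
    simp_rw [e1]
    have e2 := Finset.prod_univ_sum (fun _ : ι => (Finset.univ : Finset G)) (fun (_ : ι) (g : G) => χ g * conj (χ g))
    rw [Fintype.piFinset_univ] at e2
    rw [← e2, Finset.prod_const, Finset.card_univ]
  rw [hsum, hcard, ← inv_pow, ← mul_pow, h1, one_pow]

end Cfsg.Agent.Lib.H6.GAG
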