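import Mathlib
import Cfsg.Agent.Lib.H17.GHDefs
import Cfsg.Agent.Lib.H21.GHKE

/-!
# S4402, concrete pieces K5 / K7 (helper6): the subgroup `Asc = closure Omc` of the tree group, explicitly

`Asc = {enc n | popcount (n &&& 15) even, bit 4 of n = bit 5 of n}` (32 elements, listed by `el : Fin 32 → Perm (Fin 8)`);
`mem_Asc_iff : σ ∈ Asc ↔ ∃ j : Fin 32, el j = σ`.
-/

set_option autoImplicit false
set_option linter.dupNamespace false

namespace Cfsg.Agent.Lib.H6.GH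

open Subgroup Cfsg.Agent.Lib.H17.GH Cfsg.Agent.Lib.H14.A8Sylow

/-- the `enc`-indices of the 32 elements of `Asc` -/
def gL : List (Fin 128) :=
  [0, 3, 5, 6, 9, 10, 12, 15, 48, 51, 53, 54, 57, 58, 60, 63, 64, 67, 69, 70, 73, 74, 76, 79, 112,
    115, 117, 118, 121, 122, 124, 127]

/-- the 32 elements of `Asc` -/
def el (j : Fin 32) : Equiv.Perm (Fin 8) := enc (gL.getD j.val 0)

/-- the `enc`-indices of the 8 elements of `Omc` -/
def oL : List (Fin 128) := [64, 69, 74, 79, 112, 118, 121, 127]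

/-- the 8 elements of `Omc` -/
def om (i : Fin 8) : Equiv.Perm (Fin 8) := enc (oL.getD i.val 0)

/-- left multiplication table: `om i * el j = el (tabL[32 i + j])` -/
def tabL : List (Fin 32) :=
  [16, 22, 18, 20, 19, 21, 17, 23, 24, 30, 26, 28, 27, 29, 25, 31, 0, 6, 2, 4, 3, 5, 1, 7, 8, 14, 10, 12, 11, 13, 9, 15, 18, 20, 16, 22, 17, 23, 19, 21, 26, 28, 24, 30, 25, 31, 27, 29, 2, 4, 0, 6, 1, 7, 3, 5, 10, 12, 8, 14, 9, 15, 11, 13, 21, 19, 23, 17, 22, 16, 20, 18, 29, 27, 31, 25, 30, 24, 28, 26, 5, 3, 7, 1, 6, 0, 4, 2, 13, 11, 15, 9, 14, 8, 12, 10, 23, 17, 21, 19, 20, 18, 22, 16, 31, 25, 29, 27, 28, 26, 30, 24, 7, 1, 5, 3, 4, 2, 6, 0, 15, 9, 13, 11, 12, 10, 14, 8, 24, 30, 29, 27, 28, 26, 25, 31, 16, 22, 21, 19, 20, 18, 17, 23, 8, 14, 13, 11, 12, 10, 9, 15, 0, 6, 5, 3, 4, 2, 1, 7, 27, 29, 30, 24, 31, 25, 26, 28, 19, 21, 22, 16, 23, 17, 18, 20, 11, 13, 14, 8, 15, 9, 10, 12, 3, 5, 6, 0, 7, 1, 2, 4, 28, 26, 25,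 31, 24, 30, 29, 27, 20, 18, 17, 23, 16, 22, 21, 19, 12, 10, 9, 15, 8, 14, 13, 11, 4, 2, 1, 7, 0, 6, 5, 3, 31, 25, 26, 28, 27, 29, 30, 24, 23, 17, 18, 20, 19, 21, 22, 16, 15, 9, 10, 12, 11, 13, 14, 8, 7, 1, 2, 4, 3, 5, 6, 0]

/-- words: `el j` as a product of at most four elements of `Omc` -/
def wL : List (List (Fin 8)) :=
  [[], [0, 1, 4, 5], [0, 1], [4, 5], [4, 6], [0, 2], [0, 1, 4, 6], [0, 3], [0, 4], [1, 6], [1, 4], [0, 6], [0, 5], [1, 7], [1, 5], [0, 7], [0], [1, 4, 6], [1], [0, 4, 6], [0, 4, 5], [2], [1, 4, 5], [3], [4], [0, 1, 5], [0, 1, 4], [5], [6], [0, 1, 7], [0, 1, 6], [7]]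

theorem om_mem (i : Fin 8) : om i ∈ Omc := by
  have h : ∀ i : Fin 8, ((∀ a b, blk2 (om i a) = blk2 (om i b) ↔ blk2 a = blk2 b) ∧
      (∀ a b, blk4 (om i a) = blk4 (om i b) ↔ blk4 a = blk4 b)) ∧ om i * om i = 1 ∧
      ∀ a, blk4 (om i a) ≠ blk4 a := by decide +kernel
  exact h i

theorem om_sq (i : Fin 8) : om i * om i = 1 := (om_mem i).2.1

theorem exists_om_of_mem {σ : Equiv.Perm (Fin 8)} (h : σ ∈ Omc) : ∃ i : Fin 8, om i = σ := by
  obtain ⟨n, rfl⟩ := (Cfsg.Agent.Lib.H21.GH.mem_T_iff_enc σ).1 h.1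
  have key : ∀ n : Fin 128, (enc n * enc n = 1 ∧ ∀ a, blk4 (enc n a) ≠ blk4 a) →
      ∃ i : Fin 8, om i = enc n := by decide +kernel
  exact key n ⟨h.2.1, h.2.2⟩

theorem om_mul_el : ∀ i : Fin 8, ∀ j : Fin 32,
    om i * el j = el (tabL.getD (32 * i.val + j.val) 0) := by decide +kernel

theorem el_zero : el 0 = 1 := by decide +kernel

theorem el_eq_prod : ∀ j : Fin 32, el j = ((wL.getD j.val []).map om).prod := by decide +kernel

theorem el_injective : Function.Injective el := by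
  have h : ∀ j k : Fin 32, el j = el k → j = k := by decide +kernel
  exact fun j k => h j k

theorem el_mem_Asc (j : Fin 32) : el j ∈ Asc := by
  rw [el_eq_prod j]
  unfold Asc
  apply Subgroup.list_prod_mem
  intro x hx
  rw [List.mem_map] at hx
  obtain ⟨i, -, rfl⟩ := hx
  exact Subgroup.subset_closure (om_mem i)

/-- The explicit description of `Asc`. -/
theorem mem_Asc_iff (σ : Equiv.Perm (Fin 8)) : σ ∈ Asc ↔ ∃ j : Fin 32, el j = σ := by
  constructor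
  · intro h
    unfold Asc at h
    induction h using Subgroup.closure_induction_left with
    | one => exact ⟨0, el_zero⟩
    | mul_left x hx y _ ih =>
      obtain ⟨i, rfl⟩ := exists_om_of_mem hx
      obtain ⟨j, rfl⟩ := ih
      exact ⟨_, (om_mul_el i j).symm⟩
    | inv_mul_cancel x hx y _ ih =>
      obtain ⟨i, rfl⟩ := exists_om_of_mem hx
      obtain ⟨j, rfl⟩ := ih
      have hinv : (om i)⁻¹ = om i := inv_eq_of_mul_eq_one_left (om_sq i)
      rw [hinv]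
      exact ⟨_, (om_mul_el i j).symm⟩
  · rintro ⟨j, rfl⟩
    exact el_mem_Asc j

theorem card_Asc : Nat.card Asc = 32 := by
  have h : (Asc : Set (Equiv.Perm (Fin 8))) = Set.range el := by
    ext σ
    rw [SetLike.mem_coe, mem_Asc_iff, Set.mem_range]
  have h1 : Nat.card Asc = Nat.card (Set.range el) := by
    apply Nat.card_congr
    exact Equiv.setCongr h
  rw [h1, Nat.card_range_of_injective el_injective, Nat.card_eq_fintype_card, Fintype.card_fin]

end Cfsg.Agent.Lib.H6.GH
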