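import Mathlib
import Cfsg.Agent.Lib.H17.GHDefs
import Cfsg.Agent.Lib.H6.GHAs

/-!
# S4402, piece K5 (helper6): `Asc = closure Omc` has order 32 and is elementary abelian modulo `zc`
-/

set_option autoImplicit false
set_option linter.dupNamespace false

namespace Cfsg.Agent.Lib.H6.GH

open Subgroup Cfsg.Agent.Lib.H17.GH Cfsg.Agent.Lib.H14.A8Sylow

/-- K5. `Asc = closure Omc` has order 32 and is elementary abelian modulo `zc`. -/
theorem Asc_facts : Nat.card Asc = 32 ∧ (∀ a ∈ Asc, a * a = 1 ∨ a * a = zc) ∧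
    (∀ a ∈ Asc, ∀ b ∈ Asc, a * b = b * a ∨ a * b = b * a * zc) := by
  refine ⟨card_Asc, ?_, ?_⟩
  · intro a ha
    obtain ⟨j, rfl⟩ := (mem_Asc_iff a).1 ha
    have key : ∀ j : Fin 32, el j * el j = 1 ∨ el j * el j = zc := by decide +kernel
    exact key j
  · intro a ha b hb
    obtain ⟨j, rfl⟩ := (mem_Asc_iff a).1 ha
    obtain ⟨k, rfl⟩ := (mem_Asc_iff b).1 hb
    have key : ∀ j k : Fin 32, el j * el k = el k * el j ∨ el j * el k = el k * el j * zc := by
      decide +kernel
    exact key j k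

end Cfsg.Agent.Lib.H6.GH
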