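import Mathlib
import Cfsg.Agent.Lib.H17.GHDefs
import Cfsg.Agent.Lib.H6.GHAs
import Cfsg.Agent.Lib.H10.DFD6c

/-!
# S4402, piece K7 (helper6): `T = A1c A2c Asc`, `A_i ∩ Asc` has index 2 in `A_i`, `T / Asc` is abelian
-/

set_option autoImplicit false
set_option linter.dupNamespace false

namespace Cfsg.Agent.Lib.H6.GH

open Subgroup Cfsg.Agent.Lib.H17.GH Cfsg.Agent.Lib.H14.A8Sylow
open scoped commutatorElement

/-- commuting with the four leaf transpositions -/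
def C1 (σ : Equiv.Perm (Fin 8)) : Prop :=
  lsw 0 * σ = σ * lsw 0 ∧ lsw 1 * σ = σ * lsw 1 ∧ lsw 2 * σ = σ * lsw 2 ∧ lsw 3 * σ = σ * lsw 3

/-- commuting with the four generators of `A2c` -/
def C2 (σ : Equiv.Perm (Fin 8)) : Prop :=
  dsw 0 1 * σ = σ * dsw 0 1 ∧ qsw 0 * σ = σ * qsw 0 ∧ dsw 2 3 * σ = σ * dsw 2 3 ∧
    qsw 1 * σ = σ * qsw 1

instance (σ : Equiv.Perm (Fin 8)) : Decidable (C1 σ) := by unfold C1; infer_instance
instance (σ : Equiv.Perm (Fin 8)) : Decidable (C2 σ) := by unfold C2; infer_instance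

theorem mem_A1c_iff (σ : Equiv.Perm (Fin 8)) : σ ∈ A1c ↔ σ ∈ T ∧ C1 σ := by
  unfold A1c C1
  rw [Subgroup.mem_inf, Subgroup.mem_centralizer_iff]
  simp only [Set.mem_insert_iff, Set.mem_singleton_iff, forall_eq_or_imp, forall_eq]

theorem mem_A2c_iff (σ : Equiv.Perm (Fin 8)) : σ ∈ A2c ↔ σ ∈ T ∧ C2 σ := by
  unfold A2c C2
  rw [Subgroup.mem_inf, Subgroup.mem_centralizer_iff]
  simp only [Set.mem_insert_iff, Set.mem_singleton_iff, forall_eq_or_imp, forall_eq]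

theorem enc_mem_T (n : Fin 128) : enc n ∈ T :=
  (Cfsg.Agent.Lib.H21.GH.mem_T_iff_enc _).2 ⟨n, rfl⟩

/-- the `A1c`-part of `enc n` -/
def ta (n : Fin 128) : Fin 128 := ⟨n.val % 16, by omega⟩
/-- the `A2c`-part of `enc n` -/
def tb (n : Fin 128) : Fin 128 := ([0, 16, 32, 0] : List (Fin 128)).getD (n.val / 16 % 4) 0
/-- the `Asc`-part of `enc n` -/
def tc (n : Fin 128) : Fin 128 :=
  ([0, 0, 0, 48, 64, 64, 64, 112] : List (Fin 128)).getD (n.val / 16) 0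

theorem key4 : ∀ n : Fin 128, C1 (enc (ta n)) ∧ C2 (enc (tb n)) ∧ (∃ j : Fin 32, el j = enc (tc n)) ∧
    enc n = enc (ta n) * enc (tb n) * enc (tc n) := by decide +kernel

theorem key5 : ∀ m : Fin 128, C1 (enc m) →
    (∃ j : Fin 32, el j = enc m) ∨ (∃ j : Fin 32, el j = lsw 0 * enc m) := by decide +kernel

theorem key6 : ∀ m : Fin 128, C2 (enc m) →
    (∃ j : Fin 32, el j = enc m) ∨ (∃ j : Fin 32, el j = qsw 0 * enc m) := by decide +kernel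

/-- index 2: if `a, a' ∉ Asc` but `g * a, g * a' ∈ Asc` then `a⁻¹ * a' ∈ Asc` -/
theorem inv_mul_mem_of_coset {g a a' : Equiv.Perm (Fin 8)} (ha : g * a ∈ Asc) (ha' : g * a' ∈ Asc) :
    a⁻¹ * a' ∈ Asc := by
  have h : a⁻¹ * a' = (g * a)⁻¹ * (g * a') := by group
  rw [h]
  exact Asc.mul_mem (Asc.inv_mem ha) ha'

/-- the seven generators of `T` -/
def gen7 (u : Fin 7) : Equiv.Perm (Fin 8) :=
  [lsw 0, lsw 1, lsw 2, lsw 3, qsw 0, qsw 1, hsw].getD u.val 1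

theorem gen7_mem_T (u : Fin 7) : gen7 u ∈ T := by
  have h : ∀ u : Fin 7, (∀ a b, blk2 (gen7 u a) = blk2 (gen7 u b) ↔ blk2 a = blk2 b) ∧
      (∀ a b, blk4 (gen7 u a) = blk4 (gen7 u b) ↔ blk4 a = blk4 b) := by decide +kernel
  exact h u

theorem pw_mem {K : Subgroup (Equiv.Perm (Fin 8))} {g : Equiv.Perm (Fin 8)} (hg : g ∈ K) (b : Bool) :
    pw g b ∈ K := by
  unfold pw
  split
  · exact hg
  · exact K.one_mem

theorem T_le_closure : T ≤ closure (Set.range gen7) := by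
  intro σ hσ
  obtain ⟨n, rfl⟩ := (Cfsg.Agent.Lib.H21.GH.mem_T_iff_enc σ).1 hσ
  have hg : ∀ u : Fin 7, gen7 u ∈ closure (Set.range gen7) := fun u => subset_closure ⟨u, rfl⟩
  unfold enc
  exact mul_mem (mul_mem (mul_mem (mul_mem (mul_mem (mul_mem (pw_mem (hg 0) _) (pw_mem (hg 1) _))
    (pw_mem (hg 2) _)) (pw_mem (hg 3) _)) (pw_mem (hg 4) _)) (pw_mem (hg 5) _)) (pw_mem (hg 6) _)

theorem conj_mem_Omc {g x : Equiv.Perm (Fin 8)} (hg : g ∈ T) (hx : x ∈ Omc) : g * x * g⁻¹ ∈ Omc := by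
  refine ⟨T.mul_mem (T.mul_mem hg hx.1) (T.inv_mem hg), ?_, ?_⟩
  · have h : g * x * g⁻¹ * (g * x * g⁻¹) = g * (x * x) * g⁻¹ := by group
    rw [h, hx.2.1, mul_one, mul_inv_cancel]
  · intro i
    have h1 : (g * x * g⁻¹) i = g (x (g⁻¹ i)) := by
      rw [Equiv.Perm.mul_apply, Equiv.Perm.mul_apply]
    have h2 : g (g⁻¹ i) = i := by
      rw [← Equiv.Perm.mul_apply, mul_inv_cancel, Equiv.Perm.one_apply]
    rw [h1]
    intro h3
    have h4 := hx.2.2 (g⁻¹ i)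
    apply h4
    rw [← (mem_T.1 hg).2 (x (g⁻¹ i)) (g⁻¹ i), h2]
    exact h3

theorem conj_mem_Asc {g h : Equiv.Perm (Fin 8)} (hg : g ∈ T) (hh : h ∈ Asc) : g * h * g⁻¹ ∈ Asc := by
  unfold Asc at hh ⊢
  induction hh using Subgroup.closure_induction with
  | mem x hx => exact subset_closure (conj_mem_Omc hg hx)
  | one => simp
  | mul x y _ _ ihx ihy =>
    have e : g * (x * y) * g⁻¹ = (g * x * g⁻¹) * (g * y * g⁻¹) := by group
    rw [e]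
    exact mul_mem ihx ihy
  | inv x _ ihx =>
    have e : g * x⁻¹ * g⁻¹ = (g * x * g⁻¹)⁻¹ := by group
    rw [e]
    exact inv_mem ihx

theorem T_le_normalizer_Asc : T ≤ normalizer (Asc : Set (Equiv.Perm (Fin 8))) := by
  intro g hg
  rw [Subgroup.mem_normalizer_iff]
  intro h
  constructor
  · exact conj_mem_Asc hg
  · intro hh
    have := conj_mem_Asc (T.inv_mem hg) hh
    have e : g⁻¹ * (g * h * g⁻¹) * g⁻¹⁻¹ = h := by group
    rwa [e] at this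

theorem gen7_comm : ∀ u v : Fin 7,
    ∃ j : Fin 32, el j = gen7 u * gen7 v * (gen7 u)⁻¹ * (gen7 v)⁻¹ := by decide +kernel

theorem commutator_T_le_Asc : ⁅T, T⁆ ≤ Asc := by
  apply Cfsg.Agent.Lib.H10.DF.commutator_le_of_closure T Asc (Set.range gen7) T_le_closure
  · rintro _ ⟨u, rfl⟩
    exact gen7_mem_T u
  · exact T_le_normalizer_Asc
  · rintro _ ⟨u, rfl⟩ _ ⟨v, rfl⟩
    obtain ⟨j, hj⟩ := gen7_comm u v
    rw [commutatorElement_def, ← hj]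
    exact el_mem_Asc j

/-- K7. `T = A1c A2c Asc`, `A_i ∩ Asc` has index 2 in `A_i`, `T / Asc` is abelian. -/
theorem prod_idx_comm : (∀ p ∈ T, ∃ a ∈ A1c, ∃ b ∈ A2c, ∃ c ∈ Asc, p = a * b * c) ∧
    (∀ a ∈ A1c, ∀ a' ∈ A1c, a ∉ Asc → a' ∉ Asc → a⁻¹ * a' ∈ Asc) ∧
    (∀ a ∈ A2c, ∀ a' ∈ A2c, a ∉ Asc → a' ∉ Asc → a⁻¹ * a' ∈ Asc) ∧
    (∀ p ∈ T, ∀ q ∈ T, p * q * p⁻¹ * q⁻¹ ∈ Asc) := by
  refine ⟨?_, ?_, ?_, ?_⟩
  · intro p hp
    obtain ⟨n, rfl⟩ := (Cfsg.Agent.Lib.H21.GH.mem_T_iff_enc p).1 hp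
    obtain ⟨h1, h2, ⟨j, hj⟩, h4⟩ := key4 n
    refine ⟨enc (ta n), (mem_A1c_iff _).2 ⟨enc_mem_T _, h1⟩, enc (tb n),
      (mem_A2c_iff _).2 ⟨enc_mem_T _, h2⟩, enc (tc n), ?_, h4⟩
    rw [← hj]
    exact el_mem_Asc j
  · intro a ha a' ha' hna hna'
    rw [mem_A1c_iff] at ha ha'
    obtain ⟨m, rfl⟩ := (Cfsg.Agent.Lib.H21.GH.mem_T_iff_enc a).1 ha.1
    obtain ⟨m', rfl⟩ := (Cfsg.Agent.Lib.H21.GH.mem_T_iff_enc a').1 ha'.1
    rcases key5 m ha.2 with ⟨j, hj⟩ | ⟨j, hj⟩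
    · exact absurd (hj ▸ el_mem_Asc j) hna
    rcases key5 m' ha'.2 with ⟨j', hj'⟩ | ⟨j', hj'⟩
    · exact absurd (hj' ▸ el_mem_Asc j') hna'
    exact inv_mul_mem_of_coset (g := lsw 0) (hj ▸ el_mem_Asc j) (hj' ▸ el_mem_Asc j')
  · intro a ha a' ha' hna hna'
    rw [mem_A2c_iff] at ha ha'
    obtain ⟨m, rfl⟩ := (Cfsg.Agent.Lib.H21.GH.mem_T_iff_enc a).1 ha.1
    obtain ⟨m', rfl⟩ := (Cfsg.Agent.Lib.H21.GH.mem_T_iff_enc a').1 ha'.1
    rcases key6 m ha.2 with ⟨j, hj⟩ | ⟨j, hj⟩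
    · exact absurd (hj ▸ el_mem_Asc j) hna
    rcases key6 m' ha'.2 with ⟨j', hj'⟩ | ⟨j', hj'⟩
    · exact absurd (hj' ▸ el_mem_Asc j') hna'
    exact inv_mul_mem_of_coset (g := qsw 0) (hj ▸ el_mem_Asc j) (hj' ▸ el_mem_Asc j')
  · intro p hp q hq
    have h : p * q * p⁻¹ * q⁻¹ = ⁅p, q⁆ := (commutatorElement_def p q).symm
    rw [h]
    exact commutator_T_le_Asc (Subgroup.commutator_mem_commutator hp hq)

end Cfsg.Agent.Lib.H6.GH
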