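import Mathlib
import Cfsg.Agent.Lib.H19.SGTDefs
import Cfsg.Agent.Lib.H19.FittingCrit
import Cfsg.Agent.Lib.H19.Fpf4Main

/-!
# S3795 (Gross, `p = 2`), piece QREP (twin, helper6): the `𝔽_t`-linear action on an elementary
abelian section `Q / N`.
-/

set_option autoImplicit false
set_option linter.unusedSectionVars false
set_option linter.unusedVariables false
set_option linter.style.haveILetI false
set_option maxHeartbeats 1000000

namespace Cfsg.Agent.Lib.H6.SGT

open Module Cfsg Cfsg.Agent.Lib.H19.SG Cfsg.Agent.Lib.H19.SGT Cfsg.Agent.Lib.H19.ModRep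
  Cfsg.Agent.Lib.H1 Cfsg.Agent.Lib.H1.QuadMul

universe u uΓ

section ambient

variable {Γ : Type uΓ} [Group Γ]

/-- **QREP**: the `𝔽_t`-linear action on an elementary abelian section `Q / N` of the subgroup of
elements normalizing both `Q` and `N`. -/
theorem exists_quotRep [Finite Γ] (t : ℕ) [Fact t.Prime] (Q N : Subgroup Γ) (hNQ : N ≤ Q)
    (hQN : ∀ q ∈ Q, ∀ z ∈ N, q * z * q⁻¹ ∈ N)
    (hcomm : ∀ a ∈ Q, ∀ b ∈ Q, a * b * a⁻¹ * b⁻¹ ∈ N) (hpow : ∀ a ∈ Q, a ^ t ∈ N) :
    ∃ (M : Type uΓ) (_ : AddCommGroup M) (_ : Module (ZMod t) M) (_ : Module.Finite (ZMod t) M)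
      (θ : Representation (ZMod t) ↥(Subgroup.normalizer (Q : Set Γ) ⊓
        Subgroup.normalizer (N : Set Γ)) M) (cls : ↥Q → M),
      Function.Surjective cls ∧ (∀ a b : ↥Q, cls (a * b) = cls a + cls b) ∧
      (∀ a : ↥Q, cls a = 0 ↔ (a : Γ) ∈ N) ∧
      ∀ (g : ↥(Subgroup.normalizer (Q : Set Γ) ⊓ Subgroup.normalizer (N : Set Γ))) (a b : ↥Q),
        (b : Γ) = (g : Γ) * a * (g : Γ)⁻¹ → θ g (cls a) = cls b := by
  classical
  haveI hN₀ : (N.subgroupOf Q).Normal := by
    constructor
    intro z hz q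
    rw [Subgroup.mem_subgroupOf] at hz ⊢
    exact hQN q q.2 z hz
  haveI hEA : IsEA t (↥Q ⧸ N.subgroupOf Q) :=
    { comm := by
        intro x y
        induction x using QuotientGroup.induction_on with | _ a => ?_
        induction y using QuotientGroup.induction_on with | _ b => ?_
        rw [← QuotientGroup.mk_mul, ← QuotientGroup.mk_mul, QuotientGroup.eq,
          Subgroup.mem_subgroupOf]
        have h1 := hcomm _ (Q.inv_mem b.2) _ (Q.inv_mem a.2)
        have e : (((a * b)⁻¹ * (b * a) : ↥Q) : Γ) =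
            (b : Γ)⁻¹ * (a : Γ)⁻¹ * ((b : Γ)⁻¹)⁻¹ * ((a : Γ)⁻¹)⁻¹ := by
          push_cast
          group
        rw [e]
        exact h1
      exp := by
        intro x
        induction x using QuotientGroup.induction_on with | _ a => ?_
        rw [← QuotientGroup.mk_pow, QuotientGroup.eq_one_iff, Subgroup.mem_subgroupOf]
        push_cast
        exact hpow a a.2 }
  -- the action of `K₀` on the quotient
  have hmap : ∀ g : ↥(Subgroup.normalizer (Q : Set Γ) ⊓ Subgroup.normalizer (N : Set Γ)),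
      (N.subgroupOf Q).map
        ((conjAut (g : Γ) Q (Subgroup.mem_inf.mp g.2).1 : ↥Q ≃* ↥Q) : ↥Q →* ↥Q) =
        N.subgroupOf Q := by
    intro g
    have hgN := (Subgroup.mem_inf.mp g.2).2
    ext x
    constructor
    · rintro ⟨y, hy, rfl⟩
      rw [SetLike.mem_coe, Subgroup.mem_subgroupOf] at hy
      rw [Subgroup.mem_subgroupOf]
      exact (Subgroup.mem_normalizer_iff.mp hgN _).mp hy
    · intro hx
      rw [Subgroup.mem_subgroupOf] at hx
      refine ⟨(conjAut (g : Γ) Q (Subgroup.mem_inf.mp g.2).1).symm x, ?_, ?_⟩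
      · rw [SetLike.mem_coe, Subgroup.mem_subgroupOf]
        have h1 := (Subgroup.mem_normalizer_iff.mp (Subgroup.inv_mem _ hgN) _).mp hx
        rw [inv_inv] at h1
        exact h1
      · exact MulEquiv.apply_symm_apply _ x
  let ψ : ↥(Subgroup.normalizer (Q : Set Γ) ⊓ Subgroup.normalizer (N : Set Γ)) →*
      MulAut (↥Q ⧸ N.subgroupOf Q) :=
    { toFun := fun g => QuotientGroup.congr (N.subgroupOf Q) (N.subgroupOf Q)
        (conjAut (g : Γ) Q (Subgroup.mem_inf.mp g.2).1) (hmap g)
      map_one' := by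
        apply MulEquiv.ext
        intro x
        induction x using QuotientGroup.induction_on with | _ a => ?_
        rw [QuotientGroup.congr_mk, MulAut.one_apply]
        congr 1
        apply Subtype.ext
        rw [conjAut_coe]
        simp
      map_mul' := by
        intro g h
        apply MulEquiv.ext
        intro x
        induction x using QuotientGroup.induction_on with | _ a => ?_
        rw [MulAut.mul_apply, QuotientGroup.congr_mk, QuotientGroup.congr_mk,
          QuotientGroup.congr_mk]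
        congr 1
        apply Subtype.ext
        rw [conjAut_coe, conjAut_coe, conjAut_coe]
        push_cast
        group }
  have hψ : ∀ g (a : ↥Q), ψ g (QuotientGroup.mk a) =
      QuotientGroup.mk (conjAut (g : Γ) Q (Subgroup.mem_inf.mp g.2).1 a) := by
    intro g a
    exact QuotientGroup.congr_mk (N.subgroupOf Q) (N.subgroupOf Q)
      (conjAut (g : Γ) Q (Subgroup.mem_inf.mp g.2).1) (hmap g) a
  let θ : Representation (ZMod t) ↥(Subgroup.normalizer (Q : Set Γ) ⊓
      Subgroup.normalizer (N : Set Γ)) (EA t (↥Q ⧸ N.subgroupOf Q)) :=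
    LinearEquiv.automorphismGroup.toLinearMapMonoidHom.comp
      ((mulAutToLin t (↥Q ⧸ N.subgroupOf Q)).comp ψ)
  refine ⟨EA t (↥Q ⧸ N.subgroupOf Q), inferInstance, inferInstance, Module.Finite.of_finite, θ,
    fun a => EA.of t (QuotientGroup.mk a), ?_, ?_, ?_, ?_⟩
  · intro x
    obtain ⟨a, ha⟩ := QuotientGroup.mk_surjective x.val
    refine ⟨a, ?_⟩
    show EA.of t (QuotientGroup.mk a : ↥Q ⧸ N.subgroupOf Q) = x
    rw [ha]
    rfl
  · intro a b
    rfl
  · intro a
    have h1 : EA.of t (QuotientGroup.mk a : ↥Q ⧸ N.subgroupOf Q) = 0 ↔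
        (QuotientGroup.mk a : ↥Q ⧸ N.subgroupOf Q) = 1 := Iff.rfl
    rw [h1, QuotientGroup.eq_one_iff, Subgroup.mem_subgroupOf]
  · intro g a b hb
    show EA.of t (ψ g (QuotientGroup.mk a)) = EA.of t (QuotientGroup.mk b)
    rw [hψ]
    congr 2
    apply Subtype.ext
    rw [conjAut_coe]
    exact hb.symm

end ambient

end Cfsg.Agent.Lib.H6.SGT
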