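import Mathlib
import Cfsg.Agent.Lib.H19.SGTDefs
import Cfsg.Agent.Lib.H19.FittingCrit
import Cfsg.Agent.Lib.H19.Fpf4Main
import Cfsg.Agent.Lib.H3.SGTL2
import Cfsg.Agent.Lib.H6.SGTQREP

/-!
# S3795 (Gross, `p = 2`), piece SPEC: the final contradiction of the main lemma (helper6)

`spec_false`: with `g' = s ^ (2 ^ j)`, `a = n - j ≥ 2`, `(g' - 1)(τ + 1)` killing the elementary
abelian section `Q / N`, `|Q₋ / N| = (2 ^ a - 1) ^ 2` a power of `t` and `R = [R, τ]` a `u`-group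
with `[Q, R] = Q`: contradiction (base change of the `𝔽_t`-module `Q / N` to the algebraic closure
and `level_two`).
-/

set_option autoImplicit false
set_option linter.unusedSectionVars false
set_option linter.unusedVariables false
set_option linter.style.haveILetI false
set_option maxHeartbeats 1000000

namespace Cfsg.Agent.Lib.H6.SGT

open Module Cfsg Cfsg.Agent.Lib.H19.SG Cfsg.Agent.Lib.H19.SGT Cfsg.Agent.Lib.H19.ModRep
  Cfsg.Agent.Lib.H1 Cfsg.Agent.Lib.H1.QuadMul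
open scoped TensorProduct

universe u uΓ

section ambient

variable {Γ : Type uΓ} [Group Γ]

/-- in a finite group, `g Q g⁻¹ ⊆ Q` puts `g` in the normalizer -/
theorem spec_mem_normalizer [Finite Γ] (Q : Subgroup Γ) (g : Γ)
    (h : ∀ q ∈ Q, g * q * g⁻¹ ∈ Q) : g ∈ Subgroup.normalizer (Q : Set Γ) := by
  rw [Subgroup.mem_normalizer_iff]
  intro q
  refine ⟨h q, fun hq => ?_⟩
  let f : ↥Q → ↥Q := fun x => ⟨g * x * g⁻¹, h x x.2⟩
  have hinj : Function.Injective f := by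
    intro x y hxy
    have h1 : g * (x : Γ) * g⁻¹ = g * (y : Γ) * g⁻¹ := congrArg Subtype.val hxy
    apply Subtype.ext
    have h2 : (x : Γ) = g⁻¹ * (g * (x : Γ) * g⁻¹) * g := by group
    rw [h2, h1]
    group
  obtain ⟨x, hx⟩ := Finite.surjective_of_injective hinj ⟨g * q * g⁻¹, hq⟩
  have h1 : g * (x : Γ) * g⁻¹ = g * q * g⁻¹ := congrArg Subtype.val hx
  have h2 : q = (x : Γ) := by
    have h3 : q = g⁻¹ * (g * q * g⁻¹) * g := by group
    rw [h3, ← h1]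
    group
  rw [h2]
  exact x.2

theorem spec_conj_pow_mem (Q : Subgroup Γ) (g : Γ) (h : ∀ q ∈ Q, g * q * g⁻¹ ∈ Q) (i : ℕ) :
    ∀ q ∈ Q, g ^ i * q * (g ^ i)⁻¹ ∈ Q := by
  induction i with
  | zero => intro q hq; simpa using hq
  | succ i ih =>
    intro q hq
    have h1 := h _ (ih q hq)
    have e : g ^ (i + 1) * q * (g ^ (i + 1))⁻¹ = g * (g ^ i * q * (g ^ i)⁻¹) * g⁻¹ := by
      rw [pow_succ']
      group
    rw [e]
    exact h1

variable {s : Γ} {n : ℕ} {Q R : Subgroup Γ} {t u : ℕ}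

/-- **SPEC**: the final contradiction (uses `exists_quotRep`, base change to
`AlgebraicClosure (ZMod t)` and `level_two`). -/
theorem spec_false [Finite Γ] [Fact t.Prime] [Fact u.Prime] (htu : t ≠ u) (ht2 : t ≠ 2)
    (hu2 : u ≠ 2) (hn : 0 < n) (hs : s ^ 2 ^ n = 1)
    (hQ : IsPGroup t Q) (hR : IsPGroup u R)
    (hsQ : ∀ q ∈ Q, s * q * s⁻¹ ∈ Q) (hsR : ∀ x ∈ R, s * x * s⁻¹ ∈ R)
    (hRQ : ∀ x ∈ R, ∀ q ∈ Q, x * q * x⁻¹ ∈ Q)
    (hgen : R ≤ Subgroup.closure (commSet R (tau s n)))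
    (hQR : Subgroup.closure {y | ∃ q ∈ Q, ∃ x ∈ R, y = q⁻¹ * (x * q * x⁻¹)} = Q)
    {N : Subgroup Γ} {j : ℕ} (hj : j < n) (hNQ : N ≤ Q) (hNne : N ≠ Q)
    (hQN : ∀ q ∈ Q, ∀ z ∈ N, q * z * q⁻¹ ∈ N)
    (hcomm : ∀ a ∈ Q, ∀ b ∈ Q, a * b * a⁻¹ * b⁻¹ ∈ N) (hpow : ∀ a ∈ Q, a ^ t ∈ N)
    (hgN : ∀ z ∈ N, s ^ 2 ^ j * z * (s ^ 2 ^ j)⁻¹ ∈ N)
    (hRN : ∀ x ∈ R, ∀ z ∈ N, x * z * x⁻¹ ∈ N)
    (ha : 2 ≤ n - j) (hcard : ∃ b : ℕ, t ^ b = (2 ^ (n - j) - 1) ^ 2)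
    (hspec : ∀ a ∈ Q, s ^ 2 ^ j * (tau s n * a * (tau s n)⁻¹ * a) * (s ^ 2 ^ j)⁻¹ *
        (tau s n * a * (tau s n)⁻¹ * a)⁻¹ ∈ N) : False := by
  have htp : t.Prime := Fact.out
  have hup : u.Prime := Fact.out
  -- the element `g' = s ^ (2 ^ j)` and `τ = g' ^ (2 ^ (a - 1))`
  obtain ⟨g', hg'def⟩ : ∃ g' : Γ, g' = s ^ 2 ^ j := ⟨_, rfl⟩
  obtain ⟨a, hadef⟩ : ∃ a : ℕ, a = n - j := ⟨_, rfl⟩
  rw [← hadef] at ha hcard
  rw [← hg'def] at hgN hspec
  have hja : j + a = n := by omega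
  have hτ : tau s n = g' ^ 2 ^ (a - 1) := by
    unfold tau
    rw [hg'def, ← pow_mul, ← pow_add]
    congr 2
    omega
  have hg'P : g' ^ 2 ^ a = 1 := by
    rw [hg'def, ← pow_mul, ← pow_add, hja, hs]
  rw [hτ] at hspec hgen
  obtain ⟨τ, hτdef⟩ : ∃ τ : Γ, τ = g' ^ 2 ^ (a - 1) := ⟨_, rfl⟩
  rw [← hτdef] at hspec hgen
  -- invariance under `g'`
  have hg'Q : ∀ q ∈ Q, g' * q * g'⁻¹ ∈ Q := by
    rw [hg'def]; exact spec_conj_pow_mem Q s hsQ _
  have hg'R : ∀ x ∈ R, g' * x * g'⁻¹ ∈ R := by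
    rw [hg'def]; exact spec_conj_pow_mem R s hsR _
  have hτQ : ∀ q ∈ Q, τ * q * τ⁻¹ ∈ Q := by
    rw [hτdef]; exact spec_conj_pow_mem Q g' hg'Q _
  have hg'nR : g' ∈ Subgroup.normalizer (R : Set Γ) := spec_mem_normalizer R g' hg'R
  -- the group `K₀`
  obtain ⟨K₀, hK₀def⟩ : ∃ K₀ : Subgroup Γ, K₀ = Subgroup.normalizer (Q : Set Γ) ⊓
      Subgroup.normalizer (N : Set Γ) := ⟨_, rfl⟩
  have hg'K : g' ∈ Subgroup.normalizer (Q : Set Γ) ⊓ Subgroup.normalizer (N : Set Γ) :=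
    Subgroup.mem_inf.mpr ⟨spec_mem_normalizer Q g' hg'Q, spec_mem_normalizer N g' hgN⟩
  have hRK : R ≤ Subgroup.normalizer (Q : Set Γ) ⊓ Subgroup.normalizer (N : Set Γ) := by
    intro x hx
    exact Subgroup.mem_inf.mpr ⟨spec_mem_normalizer Q x (hRQ x hx),
      spec_mem_normalizer N x (hRN x hx)⟩
  -- the module `Q / N`
  obtain ⟨M, iM1, iM2, iM3, θ, cls, hsurj, hadd, hzero, hact⟩ :=
    exists_quotRep t Q N hNQ hQN hcomm hpow
  -- elements of `K₀`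
  let gK : ↥(Subgroup.normalizer (Q : Set Γ) ⊓ Subgroup.normalizer (N : Set Γ)) := ⟨g', hg'K⟩
  let τK : ↥(Subgroup.normalizer (Q : Set Γ) ⊓ Subgroup.normalizer (N : Set Γ)) :=
    gK ^ 2 ^ (a - 1)
  have hτK : (τK : Γ) = τ := by
    rw [hτdef]
    rfl
  let ι : ↥R →* ↥(Subgroup.normalizer (Q : Set Γ) ⊓ Subgroup.normalizer (N : Set Γ)) :=
    Subgroup.inclusion hRK
  have hι : ∀ x : ↥R, ((ι x : ↥(Subgroup.normalizer (Q : Set Γ) ⊓
      Subgroup.normalizer (N : Set Γ))) : Γ) = x := fun x => rfl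
  have hgKP : gK ^ 2 ^ a = 1 := by
    apply Subtype.ext
    exact hg'P
  -- additivity consequences
  have hcls_eq : ∀ c y : ↥Q, (c : Γ) * (y : Γ)⁻¹ ∈ N → cls c = cls y := by
    intro c y hcy
    have h1 : c = (c * y⁻¹) * y := by group
    have h2 : cls (c * y⁻¹) = 0 := (hzero _).mpr hcy
    rw [h1, hadd, h2, zero_add]
  -- the special relation over `𝔽_t`
  have hspecM : (θ gK - 1) * (θ τK + 1) = 0 := by
    apply LinearMap.ext
    intro m
    obtain ⟨x, rfl⟩ := hsurj m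
    rw [Module.End.mul_apply, LinearMap.add_apply, Module.End.one_apply, LinearMap.zero_apply]
    have h1 : θ τK (cls x) = cls ⟨τ * x * τ⁻¹, hτQ x x.2⟩ := by
      apply hact
      rw [hτK]
    rw [h1, ← hadd, LinearMap.sub_apply, Module.End.one_apply, sub_eq_zero]
    obtain ⟨y, hydef⟩ : ∃ y : ↥Q, y = ⟨τ * x * τ⁻¹, hτQ x x.2⟩ * x := ⟨_, rfl⟩
    rw [← hydef]
    have hyc : (y : Γ) = τ * x * τ⁻¹ * x := by rw [hydef]; rfl
    have h2 : θ gK (cls y) = cls ⟨g' * y * g'⁻¹, hg'Q y y.2⟩ := by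
      apply hact
      rfl
    rw [h2]
    apply hcls_eq
    show g' * (y : Γ) * g'⁻¹ * (y : Γ)⁻¹ ∈ N
    rw [hyc]
    exact hspec x x.2
  -- the field
  let kb := AlgebraicClosure (ZMod t)
  haveI : CharP kb t := charP_of_injective_algebraMap (algebraMap (ZMod t) kb).injective t
  have hcast : ∀ q : ℕ, q.Prime → q ≠ t → ((q : ℕ) : kb) ≠ 0 := by
    intro q hq hqt
    rw [Ne, CharP.cast_eq_zero_iff kb t q]
    intro hdvd
    exact hqt ((Nat.prime_dvd_prime_iff_eq htp hq).mp hdvd).symm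
  have h2k : (2 : kb) ≠ 0 := by
    have := hcast 2 Nat.prime_two (Ne.symm ht2)
    exact_mod_cast this
  have huk : (u : kb) ≠ 0 := hcast u hup (Ne.symm htu)
  -- the representation of `R`
  let ρY : Representation kb ↥R (kb ⊗[ZMod t] M) := (bc kb θ).comp ι
  have hρY : ∀ x : ↥R, ρY x = bc kb θ (ι x) := fun x => rfl
  have hTw : Tw ρY (conjAut g' R hg'nR) (bc kb θ gK) (2 ^ a) :=
    { hT := by rw [← map_pow, hgKP, map_one]
      hφ := by
        apply MulEquiv.ext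
        intro x
        apply Subtype.ext
        rw [conjAut_pow_coe, hg'P, one_mul, inv_one, mul_one]
        rfl
      htw := by
        intro x
        rw [hρY, hρY, ← map_mul, ← map_mul]
        congr 1
        apply Subtype.ext
        show g' * (x : Γ) = (g' * (x : Γ) * g'⁻¹) * g'
        group }
  have hspecY : (bc kb θ gK - 1) * ((bc kb θ gK) ^ 2 ^ (a - 1) + 1) = 0 := by
    have h1 : (bc kb θ gK) ^ 2 ^ (a - 1) = bc kb θ τK := by rw [← map_pow]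
    rw [h1, bc_apply, bc_apply]
    have h2 : ((θ gK - 1) * (θ τK + 1)).baseChange kb = 0 := by
      rw [hspecM, LinearMap.baseChange_zero]
    rw [LinearMap.baseChange_mul, LinearMap.baseChange_sub, LinearMap.baseChange_add,
      LinearMap.baseChange_one] at h2
    exact h2
  have hRG : IsPGroup u ↥R := hR
  rcases Cfsg.Agent.Lib.H3.SGT.level_two hu2 ha hRG h2k huk hTw hspecY with hA | ⟨m, hm⟩
  · -- (a): `R` acts trivially on `Q / N`
    have hker : ∀ x : ↥R, θ ((ι x)⁻¹ * ι ((conjAut g' R hg'nR ^ 2 ^ (a - 1)) x)) = 1 := by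
      intro x
      have h1 := hA x
      rw [hρY, hρY, bc_apply, bc_apply] at h1
      have h2 := bc_injective kb h1
      rw [map_mul, h2, ← map_mul, inv_mul_cancel, map_one]
    have hS : R ≤ (MonoidHom.ker θ).map (Subgroup.subtype _) := by
      refine hgen.trans ?_
      rw [Subgroup.closure_le]
      rintro y ⟨x, hx, rfl⟩
      refine ⟨(ι ⟨x, hx⟩)⁻¹ * ι ((conjAut g' R hg'nR ^ 2 ^ (a - 1)) ⟨x, hx⟩), ?_, ?_⟩
      · exact MonoidHom.mem_ker.mpr (hker ⟨x, hx⟩)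
      · show (x : Γ)⁻¹ * (((conjAut g' R hg'nR ^ 2 ^ (a - 1)) ⟨x, hx⟩ : ↥R) : Γ) = _
        rw [conjAut_pow_coe, ← hτdef]
        group
    have htriv : ∀ x : ↥R, θ (ι x) = 1 := by
      intro x
      obtain ⟨g, hg, hgx⟩ := hS x.2
      have h1 : g = ι x := Subtype.ext hgx
      rw [← h1]
      exact MonoidHom.mem_ker.mp hg
    have hle : Subgroup.closure {y | ∃ q ∈ Q, ∃ x ∈ R, y = q⁻¹ * (x * q * x⁻¹)} ≤ N := by
      rw [Subgroup.closure_le]
      rintro y ⟨q, hq, x, hx, rfl⟩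
      have h1 : θ (ι ⟨x, hx⟩) (cls ⟨q, hq⟩) = cls ⟨x * q * x⁻¹, hRQ x hx q hq⟩ := by
        apply hact
        rfl
      rw [htriv, Module.End.one_apply] at h1
      have h2 : (⟨x * q * x⁻¹, hRQ x hx q hq⟩ : ↥Q) =
          ⟨q, hq⟩ * (⟨q, hq⟩⁻¹ * ⟨x * q * x⁻¹, hRQ x hx q hq⟩) := by group
      rw [h2, hadd] at h1
      have h3 : cls ((⟨q, hq⟩ : ↥Q)⁻¹ * ⟨x * q * x⁻¹, hRQ x hx q hq⟩) = 0 := by
        have := h1
        rw [left_eq_add] at this
        exact this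
      exact (hzero _).mp h3
    rw [hQR] at hle
    exact hNne (le_antisymm hNQ hle)
  · -- (b): arithmetic
    obtain ⟨b, hb⟩ := hcard
    have h4 : 4 ≤ 2 ^ a := by
      calc 4 = 2 ^ 2 := by norm_num
        _ ≤ 2 ^ a := Nat.pow_le_pow_right (by norm_num) ha
    have hm0 : m ≠ 0 := by
      rintro rfl
      rw [pow_zero] at hm
      omega
    have h1 : u ∣ 2 ^ a - 1 := by
      rw [← hm]
      exact dvd_pow_self u hm0
    have h2 : u ∣ t ^ b := by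
      rw [hb]
      exact dvd_pow h1 (by norm_num)
    have h3 : u ∣ t := hup.dvd_of_dvd_pow h2
    exact htu ((Nat.prime_dvd_prime_iff_eq hup htp).mp h3).symm

end ambient

end Cfsg.Agent.Lib.H6.SGT
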