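import Mathlib
import Cfsg.Prelude.Def_LieTypeChar
import Cfsg.Agent.Lib.H19.SRDefs
import Cfsg.Agent.Lib.H29.ChevPJ4
import Cfsg.Agent.Lib.H29.ChevPJ5
import Cfsg.Agent.Lib.H29.ChevCert13
import Cfsg.Agent.Lib.H29.ChevSimpleGen

/-!
# S4613, piece EXC: `p'`-automorphisms of the Chevalley groups `G₂, F₄, E₆, E₇, E₈` fixing `U` elementwise are trivial

Criterion (GEN) with `R = U` and the radicals `U_{{i}}` of the minimal parabolic subgroups: `C_G(U_J) ≤ N_G(U_J) = P_J`
and `C(U_J) ⊓ P_J ≤ U` (helper29's `ChevPJ3`), while the fundamental root elements and their negatives lie in the `P_{{i}}`.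
-/

set_option autoImplicit false
set_option linter.unusedSectionVars false
set_option linter.unusedVariables false

namespace Cfsg.Agent.Lib.H6.SR

open Cfsg Cfsg.Lie Matrix Cfsg.Agent.Lib.H19.SR Cfsg.Agent.Lib.H29.Chev

section generic

variable {D : ChevalleyDatum} {fd : FD} {fx : FX} {fc : FC} {fz : FZ} {F : Type*} [Field F]

/-- membership in the normalizer passes to `subgroupOf` -/
theorem mem_normalizer_subgroupOf {G : Type*} [Group G] (K U : Subgroup G) (x : ↥K)
    (hx : (x : G) ∈ Subgroup.normalizer (U : Set G)) :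
    x ∈ Subgroup.normalizer ((U.subgroupOf K : Subgroup ↥K) : Set ↥K) := by
  rw [Subgroup.mem_normalizer_iff]
  intro h
  rw [Subgroup.mem_subgroupOf, Subgroup.mem_subgroupOf]
  have := (Subgroup.mem_normalizer_iff.mp hx) (h : G)
  simpa using this

/-- the centralizer of `U.subgroupOf K` (for `U ≤ K`) maps into the centralizer of `U` -/
theorem coe_mem_centralizer_of_subgroupOf {G : Type*} [Group G] (K U : Subgroup G) (hUK : U ≤ K) (x : ↥K)
    (hx : x ∈ Subgroup.centralizer ((U.subgroupOf K : Subgroup ↥K) : Set ↥K)) :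
    (x : G) ∈ Subgroup.centralizer (U : Set G) := by
  rw [Subgroup.mem_centralizer_iff]
  intro y hy
  have h1 : (⟨y, hUK hy⟩ : ↥K) ∈ ((U.subgroupOf K : Subgroup ↥K) : Set ↥K) := Subgroup.mem_subgroupOf.mpr hy
  have h2 := (Subgroup.mem_centralizer_iff.mp hx) _ h1
  exact congrArg Subtype.val h2

/-- generation passes to the subtype -/
theorem closure_preimage_eq_top {G : Type*} [Group G] (K : Subgroup G) (S : Set G) (hSK : S ⊆ (K : Set G))
    (hgen : K ≤ Subgroup.closure S) : Subgroup.closure {x : ↥K | (x : G) ∈ S} = ⊤ := by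
  have hmap : (Subgroup.closure {x : ↥K | (x : G) ∈ S}).map K.subtype = Subgroup.closure S := by
    rw [MonoidHom.map_closure]
    congr 1
    ext g
    constructor
    · rintro ⟨x, hx, rfl⟩
      exact hx
    · intro hg
      exact ⟨⟨g, hSK hg⟩, hg, rfl⟩
  rw [eq_top_iff]
  intro x _
  have hx' : (x : G) ∈ Subgroup.closure S := hgen x.2
  rw [← hmap] at hx'
  obtain ⟨y, hy, hyx⟩ := hx'
  have : y = x := Subtype.ext hyx
  rw [← this]
  exact hy

/-- the generic statement -/
theorem sylRigid_of_cert12 (C : Cert12 D fd fx fc fz) [Fintype F] (p : ℕ) [Fact p.Prime] [CharP F p]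
    (hl : 2 ≤ fd.l)
    (h1 : ∀ k < fd.l, ∀ m < fd.l, k ≠ m → fd.ChkPJ1 fx k m)
    (h2 : ∀ i < fd.l, ∀ m < fd.l, i ≠ m → fd.ChkPJ2 fx i m) : SylRigid p ↥(D.group F) := by
  classical
  have hUG : D.posUnipotent F ≤ D.group F :=
    (le_sup_left : D.posUnipotent F ≤ D.borelSubgroup F).trans C.c6.c2.borel_le_group
  set R : Subgroup ↥(D.group F) := (D.posUnipotent F).subgroupOf (D.group F) with hRdef
  have hR : IsPGroup p ↥R := (C.isPGroup_posUnipotent (F := F) p).comap_subtype
  let 𝒬 : Set (Subgroup ↥(D.group F)) :=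
    {Q | ∃ i < fd.l, Q = (D.unipotentRadical F {i}).subgroupOf (D.group F)}
  refine sylRigid_of_gen' p R hR 𝒬 ?_ ?_
  · rintro Q ⟨i, hi, rfl⟩
    have hJle : D.unipotentRadical F {i} ≤ D.posUnipotent F := C.radical_le_pos {i}
    refine ⟨fun x hx => Subgroup.mem_subgroupOf.mpr (hJle (Subgroup.mem_subgroupOf.mp hx)), ?_⟩
    intro g hg
    have hcent : (g : GL D.Idx F) ∈ Subgroup.centralizer (D.unipotentRadical F {i} : Set (GL D.Idx F)) :=
      coe_mem_centralizer_of_subgroupOf (D.group F) _ (hJle.trans hUG) g hg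
    have hnorm : (g : GL D.Idx F) ∈ Subgroup.normalizer (D.unipotentRadical F {i} : Set (GL D.Idx F)) :=
      Subgroup.centralizer_le_normalizer _ hcent
    have hJr : ∀ j ∈ ({i} : Set ℕ), j < D.rank := by
      intro j hj
      rw [Set.mem_singleton_iff] at hj
      rw [hj, C.c6.c2.rank_eq]
      exact hi
    have hpar : (g : GL D.Idx F) ∈ D.parabolicSubgroup F {i} := by
      rw [← C.normalizer_radical (F := F) {i} hJr]
      exact Subgroup.mem_inf.mpr ⟨hnorm, g.2⟩
    have hJ' : ∃ m, m < fd.l ∧ m ∉ ({i} : Set ℕ) := by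
      by_cases h0 : i = 0
      · exact ⟨1, by omega, by rw [Set.mem_singleton_iff]; omega⟩
      · exact ⟨0, by omega, by rw [Set.mem_singleton_iff]; omega⟩
    have := C.cent_radical_le_pos (F := F) {i} hJ' h1 h2 (Subgroup.mem_inf.mpr ⟨hcent, hpar⟩)
    exact Subgroup.mem_subgroupOf.mpr this
  · -- generation
    have hgen : D.group F ≤ Subgroup.closure (SimGen D fd F) := by
      rw [← C.c6.group_eq_closure_SimGen]
    have hSG : SimGen D fd F ⊆ (D.group F : Set (GL D.Idx F)) := by
      intro g hg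
      have : g ∈ Subgroup.closure (SimGen D fd F) := Subgroup.subset_closure hg
      rw [← C.c6.group_eq_closure_SimGen] at this
      exact this
    have htop := closure_preimage_eq_top (D.group F) (SimGen D fd F) hSG hgen
    rw [eq_top_iff, ← htop, Subgroup.closure_le]
    intro x hx
    apply Subgroup.subset_closure
    obtain ⟨i, hi, t, hg | hg⟩ := hx
    · -- a fundamental root element: in `B ≤ P_{{i}}`
      have e : (x : GL D.Idx F) = C.c6.c2.xA (fd.simples.getD i 0) t := gl_ext (by rw [hg, C.c6.c2.xA_val])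
      have hP : (x : GL D.Idx F) ∈ D.parabolicSubgroup F {i} := by
        rw [e]
        exact C.c6.c5.c3.xA_pos_mem_parabolic {i} _ (C.c6.c2.simple_lt i hi) (C.c6.simple_pos i hi) t
      rw [Set.mem_iUnion₂]
      exact ⟨_, ⟨i, hi, rfl⟩, mem_normalizer_subgroupOf (D.group F) _ x (C.parabolic_le_normalizer {i} hP)⟩
    · -- the negative of a fundamental root
      have e : (x : GL D.Idx F) = C.c6.c2.xA (fd.n - 1 - fd.simples.getD i 0) t :=
        gl_ext (by rw [hg, C.c6.c2.xA_val])
      have hP : (x : GL D.Idx F) ∈ D.parabolicSubgroup F {i} := by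
        rw [e]
        refine C.c6.c5.c3.xA_neg_mem_parabolic C.c6.desc {i} _ (fd.simples.getD i 0) (C.c6.c2.simple_lt i hi)
          (C.c6.simple_pos i hi) ?_ rfl t
        intro j hj hjJ
        rw [(fd.simple_spec C.c6.c2.simple i hi).2.2 j hj, if_neg]
        intro hij
        exact hjJ (by rw [Set.mem_singleton_iff]; exact hij.symm)
      rw [Set.mem_iUnion₂]
      exact ⟨_, ⟨i, hi, rfl⟩, mem_normalizer_subgroupOf (D.group F) _ x (C.parabolic_le_normalizer {i} hP)⟩

end generic

/-- EXC -/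
theorem sylRigid_chev (F : Type*) [Field F] [Fintype F] (p : ℕ) [Fact p.Prime] [CharP F p] (D : Lie.ChevalleyDatum)
    (hD : D ∈ [Lie.chevG2, Lie.chevF4, Lie.chevE6, Lie.chevE7, Lie.chevE8])
    (hq : D = Lie.chevG2 → 3 ≤ Fintype.card F) (hs : IsSimpleGroup ↥(D.group F)) : SylRigid p ↥(D.group F) := by
  simp only [List.mem_cons, List.not_mem_nil, or_false] at hD
  rcases hD with rfl | rfl | rfl | rfl | rfl
  · exact sylRigid_of_cert12 cert12_G2 p (by decide) chkPJ1_G2 chkPJ2_G2
  · exact sylRigid_of_cert12 cert12_F4 p (by decide) chkPJ1_F4 chkPJ2_F4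
  · exact sylRigid_of_cert12 cert12_E6 p (by decide) chkPJ1_E6 chkPJ2_E6
  · exact sylRigid_of_cert12 cert12_E7 p (by decide) chkPJ1_E7 chkPJ2_E7
  · exact sylRigid_of_cert12 cert12_E8 p (by decide) chkPJ1_E8 chkPJ2_E8

end Cfsg.Agent.Lib.H6.SR
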