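import Mathlib

/-!
S4443 piece (LINALG), general form (helper6), PURE Mathlib.

* `rank_eq_card_of_dual`: if `Ω i j = u i * ∑ b, c b i * w b j` with `u i ≠ 0` and the families
  `c`, `w` (indexed by `β`) are dual, `∑ i, c b i * w b' i = δ b b'`, then `rank Ω = |β|`.
* `rank_map_of_field`: the rank of a square matrix (any finite index type) does not change under a
  homomorphism of fields.
-/

set_option autoImplicit false

namespace Cfsg.Agent.Lib.H6.RB

open Matrix

section dual

variable {k : Type*} [Field k] {ι β : Type*} [Fintype ι] [Fintype β] [DecidableEq ι] [DecidableEq β]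

omit [DecidableEq ι] in
/-- `Cᵀ W` has rank `|β|` when `C Wᵀ = 1`. -/
theorem rank_transpose_mul_of_mul_transpose_eq_one (C W : Matrix β ι k) (h : C * Wᵀ = 1) :
    (Cᵀ * W).rank = Fintype.card β := by
  have h' : W * Cᵀ = 1 := by
    have := congrArg Matrix.transpose h
    rwa [Matrix.transpose_mul, Matrix.transpose_transpose, Matrix.transpose_one] at this
  apply le_antisymm
  · calc (Cᵀ * W).rank ≤ (Cᵀ).rank := Matrix.rank_mul_le_left _ _
      _ ≤ Fintype.card β := Matrix.rank_le_card_width _
  · have h1 : (1 : Matrix β β k) = W * (Cᵀ * W) * Cᵀ := by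
      calc (1 : Matrix β β k) = (W * Cᵀ) * (W * Cᵀ) := by rw [h', Matrix.mul_one]
        _ = W * (Cᵀ * W) * Cᵀ := by simp only [Matrix.mul_assoc]
    calc Fintype.card β = (1 : Matrix β β k).rank := Matrix.rank_one.symm
      _ = (W * (Cᵀ * W) * Cᵀ).rank := by rw [← h1]
      _ ≤ (W * (Cᵀ * W)).rank := Matrix.rank_mul_le_left _ _
      _ ≤ (Cᵀ * W).rank := Matrix.rank_mul_le_right _ _

/-- (LINALG) -/
theorem rank_eq_card_of_dual (u : ι → k) (hu : ∀ i, u i ≠ 0) (c w : β → ι → k)
    (horth : ∀ b b', ∑ i, c b i * w b' i = if b = b' then 1 else 0)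
    (Ω : Matrix ι ι k) (hΩ : ∀ i j, Ω i j = u i * ∑ b, c b i * w b j) :
    Ω.rank = Fintype.card β := by
  have hCW : (Matrix.of c : Matrix β ι k) * (Matrix.of w : Matrix β ι k)ᵀ = 1 := by
    ext b b'
    rw [Matrix.mul_apply, Matrix.one_apply]
    simp only [Matrix.transpose_apply, Matrix.of_apply]
    exact horth b b'
  have hΩ' : Ω = Matrix.diagonal u * ((Matrix.of c : Matrix β ι k)ᵀ * (Matrix.of w : Matrix β ι k)) := by
    ext i j
    rw [Matrix.diagonal_mul, hΩ i j, Matrix.mul_apply]
    simp only [Matrix.transpose_apply, Matrix.of_apply]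
  have hdet : IsUnit (Matrix.diagonal u).det := by
    rw [Matrix.det_diagonal, isUnit_iff_ne_zero]
    exact Finset.prod_ne_zero_iff.2 (fun i _ => hu i)
  rw [hΩ', Matrix.rank_mul_eq_right_of_isUnit_det _ _ hdet]
  exact rank_transpose_mul_of_mul_transpose_eq_one _ _ hCW

/-- the same with the dual families indexed by a subtype counted by `Nat.card` -/
theorem rank_eq_natCard_of_dual (u : ι → k) (hu : ∀ i, u i ≠ 0) (c w : β → ι → k)
    (horth : ∀ b b', ∑ i, c b i * w b' i = if b = b' then 1 else 0)
    (Ω : Matrix ι ι k) (hΩ : ∀ i j, Ω i j = u i * ∑ b, c b i * w b j) :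
    Ω.rank = Nat.card β := by
  rw [Nat.card_eq_fintype_card]
  exact rank_eq_card_of_dual u hu c w horth Ω hΩ

end dual

section map

variable {K : Type*} [Field K] {L : Type*} [Field L]
variable {m : Type*} [Fintype m] [DecidableEq m]

/-- the rank of a square matrix is invariant under homomorphisms of fields -/
theorem rank_map_of_field (f : K →+* L) (A : Matrix m m K) : (A.map f).rank = A.rank := by
  classical
  obtain ⟨L₁, L₂, D, hA⟩ := Matrix.Pivot.exists_list_transvec_mul_diagonal_mul_list_transvec A
  set P : Matrix m m K := (L₁.map Matrix.TransvectionStruct.toMatrix).prod with hPdef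
  set Q : Matrix m m K := (L₂.map Matrix.TransvectionStruct.toMatrix).prod with hQdef
  have hP : P.det = 1 := Matrix.TransvectionStruct.det_toMatrix_prod L₁
  have hQ : Q.det = 1 := Matrix.TransvectionStruct.det_toMatrix_prod L₂
  have hPu : IsUnit P.det := by rw [hP]; exact isUnit_one
  have hQu : IsUnit Q.det := by rw [hQ]; exact isUnit_one
  have hPf : IsUnit (P.map f).det := by
    have : (P.map f).det = f P.det := by rw [RingHom.map_det, RingHom.mapMatrix_apply]
    rw [this, hP, map_one]; exact isUnit_one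
  have hQf : IsUnit (Q.map f).det := by
    have : (Q.map f).det = f Q.det := by rw [RingHom.map_det, RingHom.mapMatrix_apply]
    rw [this, hQ, map_one]; exact isUnit_one
  have h1 : A.rank = Fintype.card {i // D i ≠ 0} := by
    rw [hA, Matrix.rank_mul_eq_left_of_isUnit_det _ _ hQu,
      Matrix.rank_mul_eq_right_of_isUnit_det _ _ hPu, Matrix.rank_diagonal]
  have h2 : (A.map f).rank = Fintype.card {i // f (D i) ≠ 0} := by
    rw [hA, Matrix.map_mul, Matrix.map_mul, Matrix.diagonal_map (map_zero f),
      Matrix.rank_mul_eq_left_of_isUnit_det _ _ hQf,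
      Matrix.rank_mul_eq_right_of_isUnit_det _ _ hPf, Matrix.rank_diagonal]
  rw [h1, h2]
  exact Fintype.card_congr (Equiv.subtypeEquivRight (fun i => map_ne_zero f))

end map

end Cfsg.Agent.Lib.H6.RB
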