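import Mathlib
import Cfsg.Agent.Lib.H6.RBLINALG

/-!
S4443 pieces 7 (LINALG) `rank_transpose_mul_of_dual` and 8 (RANKMAP) `rank_map_field` in the exact
signatures of `tools/blueprints/S4443_sigs.lean` (helper6).  PURE Mathlib.
-/

set_option autoImplicit false

namespace Cfsg.Agent.Lib.H6.RB

/-- (LINALG) -/
theorem rank_transpose_mul_of_dual {k : Type*} [Field k] {𝔅 J : Type*} [Fintype 𝔅] [DecidableEq 𝔅]
    [Fintype J] (W C : Matrix 𝔅 J k) (γ : k) (hγ : γ ≠ 0)
    (h : C * W.transpose = γ • (1 : Matrix 𝔅 𝔅 k)) :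
    (C.transpose * W).rank = Fintype.card 𝔅 := by
  have h1 : (γ⁻¹ • C) * W.transpose = 1 := by
    rw [Matrix.smul_mul, h, smul_smul, inv_mul_cancel₀ hγ, one_smul]
  have h2 := rank_transpose_mul_of_mul_transpose_eq_one (γ⁻¹ • C) W h1
  have h3 : (γ⁻¹ • C).transpose * W = γ⁻¹ • (C.transpose * W) := by
    rw [Matrix.transpose_smul, Matrix.smul_mul]
  rw [h3] at h2
  -- rank of a nonzero scalar multiple
  apply le_antisymm
  · calc (C.transpose * W).rank ≤ (C.transpose).rank := Matrix.rank_mul_le_left _ _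
      _ ≤ Fintype.card 𝔅 := Matrix.rank_le_card_width _
  · classical
    have h4 : C.transpose * W = γ • (γ⁻¹ • (C.transpose * W)) := by
      rw [smul_smul, mul_inv_cancel₀ hγ, one_smul]
    have h5 : γ • (γ⁻¹ • (C.transpose * W)) =
        (γ⁻¹ • (C.transpose * W)) * (γ • (1 : Matrix J J k)) := by
      rw [Matrix.mul_smul, Matrix.mul_one]
    refine le_of_eq ?_
    calc Fintype.card 𝔅 = (γ⁻¹ • (C.transpose * W)).rank := h2.symm
      _ = ((γ⁻¹ • (C.transpose * W)) * (γ • (1 : Matrix J J k))).rank := by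
          have hdet : IsUnit (γ • (1 : Matrix J J k)).det := by
            rw [Matrix.det_smul, Matrix.det_one, mul_one]
            exact (isUnit_iff_ne_zero.2 hγ).pow _
          rw [Matrix.rank_mul_eq_left_of_isUnit_det _ _ hdet]
      _ = (C.transpose * W).rank := by rw [← h5, ← h4]

/-- (RANKMAP) -/
theorem rank_map_field {K L : Type*} [Field K] [Field L] (φ : K →+* L) {J : Type*} [Fintype J]
    [DecidableEq J] (A : Matrix J J K) : (A.map φ).rank = A.rank :=
  rank_map_of_field φ A

end Cfsg.Agent.Lib.H6.RB
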