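/-
EO phase 2 (helper21), task **EO2-T5**: `plus_iff_of_odd_halves`, exact signature of
`tools/blueprints/EO2_sigs.lean`.  Bridge from the bundled statement `plusOn_sup_iff_iso` of
`Lib/H6/AschEO2T5a`.
-/
import Mathlib
import Cfsg.Agent.Lib.H6.AschEO2T5a
import Cfsg.Agent.Lib.H29.Orth

set_option autoImplicit false
set_option linter.unusedSectionVars false
set_option linter.unusedVariables false

namespace Cfsg.Agent.Lib.H6.EOP2

open Cfsg Cfsg.Geo Module
open scoped MatrixGroups Matrix Kronecker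
open Cfsg.Agent.Lib.H24.Elus (NDon)
open Cfsg.Agent.Lib.H10.OrtNd (PB TS PlusOn PB_apply PB_symm PB_self TS_mono)
open Cfsg.Agent.Lib.H29.Orth (toQF)

variable {F : Type*} [Field F] [Fintype F] {n : ℕ}

theorem two_ne_zero_of_odd_card (hodd : Odd (Fintype.card F)) : (2 : F) ≠ 0 := by
  intro h
  have h2 : ringChar F = 2 := by
    have hdvd : ringChar F ∣ 2 := by
      apply (ringChar.spec F 2).1
      exact_mod_cast h
    rcases (Nat.dvd_prime Nat.prime_two).1 hdvd with h1 | h1
    · exact absurd h1 (CharP.ringChar_ne_one)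
    · exact h1
  have := (FiniteField.even_card_iff_char_two (F := F)).1 h2
  rcases hodd with ⟨m, hm⟩
  omega

theorem ndon_of_isNondegenerateOn (Q : (Fin n → F) → F) (hQ : IsNondegenerateQuadraticForm Q)
    (W : Submodule F (Fin n → F)) (hW : IsNondegenerateOn (QuadraticMap.polar Q) W) :
    NDon (PB (toQF Q hQ)) W := by
  intro u hu h
  by_contra hu0
  obtain ⟨-, ⟨x, hx, hxu⟩⟩ := hW u hu hu0
  apply hxu
  have := h x hx
  rwa [PB_apply] at this

/-- **EO2-T5**. -/
theorem plus_iff_of_odd_halves (hodd : Odd (Fintype.card F)) (Q : (Fin n → F) → F)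
    (hQ : IsNondegenerateQuadraticForm Q) (k : ℕ) (hk : Odd k)
    (D : Fin 2 → Submodule F (Fin n → F))
    (hD : IsNondegenerateMDecomposition (QuadraticMap.polar Q) k D) :
    IsPlusTypeOn Q ⊤ ↔ (AreIsometricFor Q (D 0) (D 1) ↔ IsSquare (-1 : F)) := by
  obtain ⟨s, hs⟩ := hk
  have h2 := two_ne_zero_of_odd_card hodd
  have hnd : ∀ i, NDon (PB (toQF Q hQ)) (D i) := fun i =>
    ndon_of_isNondegenerateOn Q hQ (D i) (hD.nondegenerate i)
  have horth : ∀ u ∈ D 0, ∀ v ∈ D 1, PB (toQF Q hQ) u v = 0 := by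
    intro u hu v hv
    rw [PB_apply]
    exact hD.orthogonal 0 1 (by decide) u hu v hv
  have hsup : D 0 ⊔ D 1 = ⊤ := by
    rw [← hD.decomp.iSup_eq_top]
    apply le_antisymm
    · exact sup_le (le_iSup D 0) (le_iSup D 1)
    · apply iSup_le
      intro i
      fin_cases i
      · exact le_sup_left
      · exact le_sup_right
  have key := plusOn_sup_iff_iso (toQF Q hQ) h2 (D 0) (D 1) (hnd 0) (hnd 1) horth s
    (by rw [hD.decomp.finrank_eq, hs]) (by rw [hD.decomp.finrank_eq, hs])
  rw [hsup] at key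
  exact key

end Cfsg.Agent.Lib.H6.EOP2
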