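/-
EO phase 2 (helper21), task **EO2-T6**: `plus_iff_of_odd_blocks`, exact signature of
`tools/blueprints/EO2_sigs.lean`: `t ≡ 2 mod 4` pairwise isometric orthogonal blocks of odd
dimension, `q` odd: plus type iff `-1` is a square.

Proof: `V = P ⟂ P^⊥` with `P = D 0 ⟂ D 1`; `P^⊥` contains the other `t - 2 = 4 m` blocks, whose sum
carries a totally singular subspace of half the dimension (helper13 `good_of_quads`), so `P^⊥` is of
plus type and `V` is of plus type iff `P` is; `P` is of plus type iff `-1` is a square by EO2-T5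
(`plusOn_sup_iff_iso`), the two blocks being isometric.
-/
import Mathlib
import Cfsg.Agent.Lib.H6.AschEO2T5
import Cfsg.Agent.Lib.H13.AschEO2T

set_option autoImplicit false
set_option linter.unusedSectionVars false
set_option linter.unusedVariables false

namespace Cfsg.Agent.Lib.H6.EOP2

open Cfsg Cfsg.Geo Module
open scoped MatrixGroups Matrix Kronecker
open Cfsg.Agent.Lib.H24.Elus (NDon)
open Cfsg.Agent.Lib.H13.OSS Cfsg.Agent.Lib.H13.OES
open Cfsg.Agent.Lib.H10.OrtNd (PB TS PlusOn PB_apply PB_symm PB_self TS_mono)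
open Cfsg.Agent.Lib.H29.Orth (toQF toQF_nondegenerate)

variable {F : Type*} [Field F] [Fintype F] {n : ℕ}

/-- **EO2-T6**. -/
theorem plus_iff_of_odd_blocks (hodd : Odd (Fintype.card F)) (Q : (Fin n → F) → F)
    (hQ : IsNondegenerateQuadraticForm Q) {t : ℕ} (k : ℕ) (hk : Odd k) (ht : t % 4 = 2)
    (D : Fin t → Submodule F (Fin n → F)) (hD : IsOrthogonalMDecomposition Q k D) :
    IsPlusTypeOn Q ⊤ ↔ IsSquare (-1 : F) := by
  obtain ⟨s, hs⟩ := hk
  have h2 := two_ne_zero_of_odd_card hodd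
  have hD' : IsOrthogonalMDecomposition (⇑(toQF Q hQ)) k D := hD
  have hQb := toQF_nondegenerate Q hQ
  have hrefl := PB_refl (toQF Q hQ)
  have ht2 : 2 ≤ t := by omega
  obtain ⟨m, hm⟩ : ∃ m, t = 4 * m + 2 := ⟨t / 4, by omega⟩
  let a : Fin t := ⟨0, by omega⟩
  let b : Fin t := ⟨1, by omega⟩
  have hab : a ≠ b := by
    intro h
    have := congrArg Fin.val h
    simp [a, b] at this
  have hA := Cfsg.Agent.Lib.H13.EOP2.ndon_block hD' a
  have hA' := Cfsg.Agent.Lib.H13.EOP2.ndon_block hD' b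
  have horth : ∀ u ∈ D a, ∀ v ∈ D b, PB (toQF Q hQ) u v = 0 := by
    intro u hu v hv
    rw [PB_apply]
    exact hD.decomp.orthogonal a b hab u hu v hv
  have hP : NDon (PB (toQF Q hQ)) (D a ⊔ D b) := NDon_supR _ hrefl _ _ hA hA' horth
  have hPd : finrank F ↥(D a ⊔ D b) = 2 * k := Cfsg.Agent.Lib.H13.EOP2.finrank_pair hD' hab
  have hB'nd := NDon_perp_inR (PB (toQF Q hQ)) hrefl ⊤ _ (NDon_top_of _ hQb) hP le_top
  have hfin := finrank_perp_inR (PB (toQF Q hQ)) hrefl ⊤ _ hP le_top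
  have hsup := sup_perp_inR (PB (toQF Q hQ)) hrefl ⊤ _ hP le_top
  have hn : t * k = n := by
    have := Cfsg.Agent.Lib.H17.AschSP2.mul_eq_of_isMDecomposition D hD.decomp.decomp
    rwa [Fintype.card_fin] at this
  rw [finrank_top, Module.finrank_fintype_fun_eq_card, Fintype.card_fin, hPd] at hfin
  -- the other blocks
  have hcard : (Finset.univ \ ({a, b} : Finset (Fin t))).card = 4 * m := by
    rw [Finset.card_sdiff_of_subset (Finset.subset_univ _), Finset.card_univ, Fintype.card_fin,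
      Finset.card_pair hab]
    omega
  obtain ⟨a', b', hab'⟩ := Cfsg.Agent.Lib.H13.EOP2.exists_sq_add_sq_eq_neg_one (F := F)
  obtain ⟨U, hU, hUts, hUd⟩ := Cfsg.Agent.Lib.H13.EOP2.good_of_quads hD'
    (fun i₀ i₁ i₂ i₃ h01 h02 h03 h12 h13 h23 =>
      Cfsg.Agent.Lib.H13.EOP2.good_quad hD' h01 h02 h03 h12 h13 h23 a' b' hab') m _ hcard
  have hBB' : (⨆ i ∈ Finset.univ \ ({a, b} : Finset (Fin t)), D i) ≤
      ⊤ ⊓ (PB (toQF Q hQ)).orthogonal (D a ⊔ D b) := by
    intro x hx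
    refine ⟨trivial, ?_⟩
    show x ∈ (PB (toQF Q hQ)).orthogonal (D a ⊔ D b)
    rw [LinearMap.BilinForm.mem_orthogonal_iff]
    intro y hy
    have hdisj : Disjoint ({a, b} : Finset (Fin t)) (Finset.univ \ ({a, b} : Finset (Fin t))) :=
      Finset.disjoint_sdiff
    exact Cfsg.Agent.Lib.H13.EOP2.polar_biSup_eq_zero hD' hdisj
      (Cfsg.Agent.Lib.H13.EOP2.pair_le a b hy) hx
  have hfB : finrank F ↥(⊤ ⊓ (PB (toQF Q hQ)).orthogonal (D a ⊔ D b)) = k * (4 * m) := by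
    have e1 : (4 * m + 2) * k = n := by rw [← hm]; exact hn
    have e2 : (4 * m + 2) * k = k * (4 * m) + 2 * k := by ring
    omega
  have hB'p : PlusOn (toQF Q hQ) (⊤ ⊓ (PB (toQF Q hQ)).orthogonal (D a ⊔ D b)) :=
    ⟨U, hU.trans hBB', hUts, by rw [hUd, hcard, hfB]⟩
  have hevP : Even (finrank F ↥(D a ⊔ D b)) := by
    rw [hPd]
    exact even_two_mul k
  have hevB : Even (finrank F ↥(⊤ ⊓ (PB (toQF Q hQ)).orthogonal (D a ⊔ D b))) := by
    rw [hfB]
    exact ⟨k * (2 * m), by ring⟩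
  have hPB : ∀ u ∈ D a ⊔ D b, ∀ v ∈ ⊤ ⊓ (PB (toQF Q hQ)).orthogonal (D a ⊔ D b),
      PB (toQF Q hQ) u v = 0 := by
    intro u hu v hv
    exact (LinearMap.BilinForm.mem_orthogonal_iff.1 hv.2) u hu
  have key1 := plus_top_iff (toQF Q hQ) hQb _ _ hP hB'nd hPB hsup hevP hevB
  have key2 := plusOn_sup_iff_iso (toQF Q hQ) h2 (D a) (D b) hA hA' horth s
    (by rw [hD.decomp.decomp.finrank_eq, hs]) (by rw [hD.decomp.decomp.finrank_eq, hs])
  have hiso : ∃ e : ↥(D a) ≃ₗ[F] ↥(D b), ∀ w : ↥(D a),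
      (toQF Q hQ) ((e w : ↥(D b)) : Fin n → F) = (toQF Q hQ) (w : Fin n → F) := hD.isometric a b
  show PlusOn (toQF Q hQ) ⊤ ↔ IsSquare (-1 : F)
  rw [key1]
  constructor
  · intro h
    exact (key2.1 (h.2 hB'p)).1 hiso
  · intro h
    exact ⟨fun _ => hB'p, fun _ => key2.2 ⟨fun _ => h, fun _ => hiso⟩⟩

end Cfsg.Agent.Lib.H6.EOP2
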