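/-
S5673 project (Aschbacher's theorem, orthogonal case in odd dimension), tool **OT5'**
with its exact signature: `Lib/H6/AschOT5p` (Galois descent) + helper24's OT5.
-/
import Cfsg.Agent.Lib.H6.AschOT5p
import Cfsg.Agent.Lib.H24.AschOT5

set_option autoImplicit false

namespace Cfsg.Agent.Lib.H6.Asch

open Cfsg Cfsg.Geo Cfsg.Agent.Lib.Lead.Asch Cfsg.Agent.Lib.H24.Asch
open scoped MatrixGroups Matrix Kronecker

variable {F : Type*} [Field F] [Fintype F] {n : ℕ}

/-- **OT5'** -/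
theorem oc5_of_fixes_unitary (Q : (Fin n → F) → F) (hQ : OData Q) (hn : 2 ≤ n)
    (H N : Subgroup (GL (Fin n) F)) (hH : H ≤ isometryGroup F Q) (hNH : N ≤ H)
    (hnorm : NormalizedBy H N) (habs : ActsAbsolutelyIrreducibly (matrixSet N))
    (σ : F ≃+* F) (g : (Fin n → F) → (Fin n → F) → F) (hg : IsUnitaryForm σ g)
    (hfix : FixesForm (matrixSet N) g) : OC5 Q H :=
  oc5_of_fixes_unitary_aux Q hQ hn H N hH hNH hnorm habs
    (fun F₁ hne hreal => oc5_of_realisable Q hQ hn H N hH hNH hnorm habs F₁ hne hreal) σ g hg hfix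

end Cfsg.Agent.Lib.H6.Asch
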