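import Mathlib
import Cfsg.Prelude.Def_Involutions
import Cfsg.Agent.Lib.H6.Conj

set_option autoImplicit false

/-!  Groups whose involution centralizers are elementary abelian 2-groups (hypothesis `hC`). -/

namespace Cfsg.Agent.Lib.H6.CIT

variable {G : Type*} [Group G]

theorem mem_centralizer_singleton {t c : G} :
    c ∈ Subgroup.centralizer ({t} : Set G) ↔ t * c = c * t := by
  rw [Subgroup.mem_centralizer_iff]
  constructor
  · intro h; exact h t rfl
  · intro h y hy
    rw [Set.mem_singleton_iff] at hy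
    rw [hy]; exact h

theorem isPGroup_two_of_sq {K : Subgroup G} (h : ∀ c ∈ K, c ^ 2 = 1) : IsPGroup 2 K := by
  intro x
  refine ⟨1, ?_⟩
  apply Subtype.ext
  rw [pow_one, Subgroup.coe_pow, h x.1 x.2]
  rfl

/-- a non-trivial element of `T` is an involution, provided `T` is a centralizer of an involution. -/
theorem orderOf_eq_two_of_sq {t : G} (h1 : t ≠ 1) (h2 : t ^ 2 = 1) : orderOf t = 2 :=
  orderOf_eq_prime h2 h1

variable [Finite G] (T : Sylow 2 G)
  (hC : ∀ t : G, orderOf t = 2 → IsMulCommutative (Subgroup.centralizer ({t} : Set G)) ∧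
    ∀ c ∈ Subgroup.centralizer ({t} : Set G), c ^ 2 = 1)

include hC

omit [Finite G] in
/-- the centralizer of an involution `t ∈ T` is `T`. -/
theorem centralizer_eq_of_le {t : G} (ht : orderOf t = 2)
    (hle : (T : Subgroup G) ≤ Subgroup.centralizer ({t} : Set G)) :
    Subgroup.centralizer ({t} : Set G) = T :=
  T.is_maximal' (isPGroup_two_of_sq (hC t ht).2) hle

/-- if `T ≠ 1`, `T` is the centralizer of an involution. -/
theorem exists_centralizer_eq (hT : (T : Subgroup G) ≠ ⊥) :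
    ∃ t₀ : G, orderOf t₀ = 2 ∧ t₀ ∈ (T : Subgroup G) ∧ Subgroup.centralizer ({t₀} : Set G) = T := by
  have : Fact (Nat.Prime 2) := ⟨Nat.prime_two⟩
  have hnt : Nontrivial (T : Subgroup G) := (Subgroup.nontrivial_iff_ne_bot _).mpr hT
  have hcn : Nontrivial (Subgroup.center (T : Subgroup G)) := T.2.center_nontrivial
  have hcard : 2 ∣ Nat.card (Subgroup.center (T : Subgroup G)) := by
    have hp : IsPGroup 2 (Subgroup.center (T : Subgroup G)) := T.2.to_subgroup _
    obtain ⟨n, hn⟩ := IsPGroup.iff_card.mp hp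
    have : 1 < Nat.card (Subgroup.center (T : Subgroup G)) := Finite.one_lt_card
    rw [hn] at this ⊢
    have hn0 : n ≠ 0 := by
      intro h; rw [h] at this; simp at this
    exact dvd_pow_self 2 hn0
  obtain ⟨⟨⟨z, hzT⟩, hzc⟩, hz⟩ := exists_prime_orderOf_dvd_card' 2 hcard
  have hz2 : orderOf z = 2 := by
    rw [← hz, Subgroup.orderOf_mk, Subgroup.orderOf_mk]
  refine ⟨z, hz2, hzT, ?_⟩
  apply centralizer_eq_of_le T hC hz2
  intro x hx
  rw [mem_centralizer_singleton]
  rw [Subgroup.mem_center_iff] at hzc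
  have := hzc ⟨x, hx⟩
  have := congrArg Subtype.val this
  simpa using this.symm

/-- `T` is commutative of exponent 2. -/
theorem T_props (hT : (T : Subgroup G) ≠ ⊥) :
    (∀ a ∈ (T : Subgroup G), ∀ b ∈ (T : Subgroup G), a * b = b * a) ∧ ∀ a ∈ (T : Subgroup G), a ^ 2 = 1 := by
  obtain ⟨t₀, h1, h2, h3⟩ := exists_centralizer_eq T hC hT
  obtain ⟨hcomm, hsq⟩ := hC t₀ h1
  constructor
  · intro a ha b hb
    rw [← h3] at ha hb
    have := hcomm.is_comm.comm ⟨a, ha⟩ ⟨b, hb⟩
    exact congrArg Subtype.val this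
  · intro a ha
    rw [← h3] at ha
    exact hsq a ha

/-- for every non-identity `t ∈ T`, `C_G(t) = T`. -/
theorem centralizer_eq (hT : (T : Subgroup G) ≠ ⊥) {t : G} (ht : t ∈ (T : Subgroup G)) (ht1 : t ≠ 1) :
    orderOf t = 2 ∧ Subgroup.centralizer ({t} : Set G) = T := by
  obtain ⟨hcomm, hsq⟩ := T_props T hC hT
  have h2 : orderOf t = 2 := orderOf_eq_two_of_sq ht1 (hsq t ht)
  refine ⟨h2, centralizer_eq_of_le T hC h2 ?_⟩
  intro x hx
  rw [mem_centralizer_singleton]
  exact hcomm t ht x hx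

omit hC [Finite G] in
/-- an element of order two of `N_G(T)` lies in `T`. -/
theorem mem_T_of_mem_normalizer {s : G} (hs : orderOf s = 2)
    (hsN : s ∈ Subgroup.normalizer ((T : Subgroup G) : Set G)) : s ∈ (T : Subgroup G) := by
  have : Fact (Nat.Prime 2) := ⟨Nat.prime_two⟩
  have h1 : IsPGroup 2 (Subgroup.zpowers s) := by
    apply IsPGroup.of_card (n := 1)
    rw [Nat.card_zpowers, hs, pow_one]
  have h2 : Subgroup.zpowers s ≤ Subgroup.normalizer ((T : Subgroup G) : Set G) := by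
    rw [Subgroup.zpowers_le]; exact hsN
  have h3 := IsPGroup.to_sup_of_normal_right' h1 T.2 h2
  have h4 := T.is_maximal' h3 le_sup_right
  rw [← h4]
  exact Subgroup.mem_sup_left (Subgroup.mem_zpowers s)

/-- `N_G(T)` is strongly embedded when `T` is non-trivial and not normal. -/
theorem normalizer_stronglyEmbedded (hT : (T : Subgroup G) ≠ ⊥) (hnn : ¬ (T : Subgroup G).Normal) :
    Cfsg.IsStronglyEmbedded (Subgroup.normalizer ((T : Subgroup G) : Set G)) := by
  have : Fact (Nat.Prime 2) := ⟨Nat.prime_two⟩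
  refine ⟨?_, ?_, ?_⟩
  · intro h
    exact hnn (Subgroup.normalizer_eq_top_iff.mp h)
  · obtain ⟨t₀, h1, h2, -⟩ := exists_centralizer_eq T hC hT
    have h3 : t₀ ∈ Subgroup.normalizer ((T : Subgroup G) : Set G) := Subgroup.le_normalizer h2
    have h4 : orderOf t₀ ∣ Nat.card (Subgroup.normalizer ((T : Subgroup G) : Set G)) := by
      have := orderOf_dvd_natCard (⟨t₀, h3⟩ : Subgroup.normalizer ((T : Subgroup G) : Set G))
      rwa [Subgroup.orderOf_mk] at this
    rw [h1] at h4
    exact even_iff_two_dvd.mpr h4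
  · intro g hg
    by_contra hodd
    rw [Nat.not_odd_iff_even, even_iff_two_dvd] at hodd
    obtain ⟨⟨s, hsmem⟩, hs⟩ := exists_prime_orderOf_dvd_card' 2 hodd
    rw [Subgroup.orderOf_mk] at hs
    obtain ⟨hs1, hs2⟩ := Subgroup.mem_inf.mp hsmem
    rw [Cfsg.Agent.Lib.H6.mem_map_conj_iff] at hs2
    have hsT := mem_T_of_mem_normalizer T hs hs1
    have hs' : orderOf (g⁻¹ * s * g) = 2 := by
      have : g⁻¹ * s * g = (MulAut.conj g⁻¹) s := by simp
      rw [this, MulEquiv.orderOf_eq]; exact hs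
    have hsT' := mem_T_of_mem_normalizer T hs' hs2
    have hne : s ≠ 1 := by
      intro h; rw [h, orderOf_one] at hs; omega
    have hne' : g⁻¹ * s * g ≠ 1 := by
      intro h; rw [h, orderOf_one] at hs'; omega
    obtain ⟨-, hc⟩ := centralizer_eq T hC hT hsT hne
    obtain ⟨-, hc'⟩ := centralizer_eq T hC hT hsT' hne'
    apply hg
    rw [Subgroup.mem_normalizer_iff]
    intro x
    have e1 : x ∈ (T : Subgroup G) ↔ x ∈ Subgroup.centralizer ({g⁻¹ * s * g} : Set G) := by
      rw [hc']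
    have e2 : g * x * g⁻¹ ∈ (T : Subgroup G) ↔ g * x * g⁻¹ ∈ Subgroup.centralizer ({s} : Set G) := by
      rw [hc]
    rw [e1, e2, mem_centralizer_singleton, mem_centralizer_singleton]
    constructor
    · intro h
      calc s * (g * x * g⁻¹) = g * ((g⁻¹ * s * g) * x) * g⁻¹ := by group
        _ = g * (x * (g⁻¹ * s * g)) * g⁻¹ := by rw [h]
        _ = g * x * g⁻¹ * s := by group
    · intro h
      calc g⁻¹ * s * g * x = g⁻¹ * (s * (g * x * g⁻¹)) * g := by group
        _ = g⁻¹ * (g * x * g⁻¹ * s) * g := by rw [h]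
        _ = x * (g⁻¹ * s * g) := by group

end Cfsg.Agent.Lib.H6.CIT
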