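import Mathlib
import Cfsg.Prelude.Def_LieRecognition

set_option autoImplicit false

namespace Cfsg.Agent.Lib.H6.RankOne

open MulAction
open scoped Pointwise

variable {G Ω : Type*} [Group G] [MulAction G Ω] {a : Ω} {t : G} {Q : Subgroup G}

theorem t_inv (hS : Cfsg.IsRankOneSetup G Ω a t Q) : t⁻¹ = t :=
  inv_eq_of_mul_eq_one_right hS.mul_self

theorem tt_smul (hS : Cfsg.IsRankOneSetup G Ω a t Q) (c : Ω) : t • t • c = c := by
  rw [← mul_smul, hS.mul_self, one_smul]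

theorem ta_ne (hS : Cfsg.IsRankOneSetup G Ω a t Q) : t • a ≠ a := by
  intro h
  exact hS.not_mem (mem_stabilizer_iff.mpr h)

/-- `t` normalises the two-point stabiliser `D`. -/
theorem t_conj_mem_D (hS : Cfsg.IsRankOneSetup G Ω a t Q) {d : G}
    (hd : d ∈ stabilizer G a ⊓ stabilizer G (t • a)) :
    t * d * t ∈ stabilizer G a ⊓ stabilizer G (t • a) := by
  rw [Subgroup.mem_inf, mem_stabilizer_iff, mem_stabilizer_iff] at hd ⊢
  constructor
  · rw [mul_smul, mul_smul, hd.2, tt_smul hS]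
  · rw [mul_smul, mul_smul, tt_smul hS, hd.1]

theorem t_conj_mem_D' (hS : Cfsg.IsRankOneSetup G Ω a t Q) {d : G}
    (hd : d ∈ stabilizer G a ⊓ stabilizer G (t • a)) :
    t * d * t⁻¹ ∈ stabilizer G a ⊓ stabilizer G (t • a) := by
  rw [t_inv hS]; exact t_conj_mem_D hS hd

theorem D_le_Ga : stabilizer G a ⊓ stabilizer G (t • a) ≤ stabilizer G a := inf_le_left

theorem Q_inf_D (hS : Cfsg.IsRankOneSetup G Ω a t Q) :
    Q ⊓ (stabilizer G a ⊓ stabilizer G (t • a)) = ⊥ := by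
  rw [eq_bot_iff]
  intro x hx
  rw [Subgroup.mem_inf] at hx
  have : x ∈ Q ⊓ stabilizer G (t • a) := Subgroup.mem_inf.mpr ⟨hx.1, (Subgroup.mem_inf.mp hx.2).2⟩
  rw [hS.inf_eq_bot] at this
  exact this

theorem D_le_normalizer_Q (hS : Cfsg.IsRankOneSetup G Ω a t Q) :
    stabilizer G a ≤ Subgroup.normalizer (Q : Set G) := by
  intro h hh
  rw [Subgroup.mem_normalizer_iff]
  intro x
  constructor
  · exact hS.conj_mem h hh x
  · intro hx
    have := hS.conj_mem h⁻¹ (Subgroup.inv_mem _ hh) _ hx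
    have e : h⁻¹ * (h * x * h⁻¹) * h⁻¹⁻¹ = x := by group
    rw [e] at this; exact this

/-- every element of `G_a` is `q d`. -/
theorem exists_Q_D (hS : Cfsg.IsRankOneSetup G Ω a t Q) {g : G} (hg : g ∈ stabilizer G a) :
    ∃ q ∈ Q, ∃ d ∈ stabilizer G a ⊓ stabilizer G (t • a), g = q * d := by
  have h1 : (↑(Q ⊔ (stabilizer G a ⊓ stabilizer G (t • a))) : Set G)
      = (Q : Set G) * ((stabilizer G a ⊓ stabilizer G (t • a) : Subgroup G) : Set G) :=
    Subgroup.coe_mul_of_right_le_normalizer_left Q _ (le_trans inf_le_left (D_le_normalizer_Q hS))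
  have h2 : g ∈ (↑(Q ⊔ (stabilizer G a ⊓ stabilizer G (t • a))) : Set G) := by
    rw [hS.sup_eq]; exact hg
  rw [h1] at h2
  obtain ⟨q, hq, d, hd, rfl⟩ := h2
  exact ⟨q, hq, d, hd, rfl⟩

/-- every element of `G_a` is `d q`. -/
theorem exists_D_Q (hS : Cfsg.IsRankOneSetup G Ω a t Q) {g : G} (hg : g ∈ stabilizer G a) :
    ∃ d ∈ stabilizer G a ⊓ stabilizer G (t • a), ∃ q ∈ Q, g = d * q := by
  obtain ⟨q, hq, d, hd, rfl⟩ := exists_Q_D hS hg
  refine ⟨d, hd, d⁻¹ * q * d, ?_, by group⟩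
  have := hS.conj_mem d⁻¹ (Subgroup.inv_mem _ (D_le_Ga hd)) q hq
  simpa using this

/-- `Q` is transitive on the points other than `a`. -/
theorem exists_Q_smul_ta (hS : Cfsg.IsRankOneSetup G Ω a t Q) {c : Ω} (hc : c ≠ a) :
    ∃ q ∈ Q, q • (t • a) = c := by
  have h2 := hS.two_transitive
  rw [is_two_pretransitive_iff] at h2
  obtain ⟨g, hga, hgb⟩ := h2 (a := a) (b := t • a) (c := a) (d := c) (ta_ne hS).symm hc.symm
  obtain ⟨q, hq, d, hd, rfl⟩ := exists_Q_D hS (mem_stabilizer_iff.mpr hga)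
  refine ⟨q, hq, ?_⟩
  rw [mul_smul] at hgb
  rw [Subgroup.mem_inf, mem_stabilizer_iff, mem_stabilizer_iff] at hd
  rw [hd.2] at hgb
  exact hgb

theorem Q_smul_a (hS : Cfsg.IsRankOneSetup G Ω a t Q) {q : G} (hq : q ∈ Q) : q • a = a :=
  mem_stabilizer_iff.mp (hS.le hq)

theorem Q_smul_ne (hS : Cfsg.IsRankOneSetup G Ω a t Q) {q : G} (hq : q ∈ Q) {c : Ω} (hc : c ≠ a) :
    q • c ≠ a := by
  intro h
  apply hc
  have : q⁻¹ • (q • c) = q⁻¹ • a := by rw [h]
  rw [inv_smul_smul] at this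
  rw [this, Q_smul_a hS (Q.inv_mem hq)]

/-- only the identity of `Q` fixes a point other than `a`. -/
theorem Q_fix_eq_one (hS : Cfsg.IsRankOneSetup G Ω a t Q) {q : G} (hq : q ∈ Q) {c : Ω} (hc : c ≠ a)
    (h : q • c = c) : q = 1 := by
  obtain ⟨q₀, hq₀, hq₀c⟩ := exists_Q_smul_ta hS hc
  have h1 : q₀⁻¹ * q * q₀ ∈ Q ⊓ stabilizer G (t • a) := by
    rw [Subgroup.mem_inf]
    refine ⟨Q.mul_mem (Q.mul_mem (Q.inv_mem hq₀) hq) hq₀, ?_⟩
    rw [mem_stabilizer_iff, mul_smul, mul_smul, hq₀c, h, ← hq₀c, inv_smul_smul]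
  rw [hS.inf_eq_bot, Subgroup.mem_bot] at h1
  calc q = q₀ * (q₀⁻¹ * q * q₀) * q₀⁻¹ := by group
    _ = 1 := by rw [h1]; group

/-- regularity of `Q` on the points other than `a`. -/
theorem Q_regular (hS : Cfsg.IsRankOneSetup G Ω a t Q) {b c : Ω} (hb : b ≠ a) (hc : c ≠ a) :
    ∃! x : Q, (x : G) • b = c := by
  obtain ⟨q₁, hq₁, h1⟩ := exists_Q_smul_ta hS hb
  obtain ⟨q₂, hq₂, h2⟩ := exists_Q_smul_ta hS hc
  refine ⟨⟨q₂ * q₁⁻¹, Q.mul_mem hq₂ (Q.inv_mem hq₁)⟩, ?_, ?_⟩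
  · show (q₂ * q₁⁻¹) • b = c
    rw [mul_smul, ← h1, inv_smul_smul, h2]
  · rintro ⟨y, hy⟩ hyb
    apply Subtype.ext
    show y = q₂ * q₁⁻¹
    have hyb' : y • b = c := hyb
    have : (q₂ * q₁⁻¹)⁻¹ * y = 1 := by
      apply Q_fix_eq_one hS (Q.mul_mem (Q.inv_mem (Q.mul_mem hq₂ (Q.inv_mem hq₁))) hy) hb
      rw [mul_smul, hyb', ← h2]
      rw [mul_inv_rev, inv_inv, mul_smul, inv_smul_smul, h1]
    calc y = (q₂ * q₁⁻¹) * ((q₂ * q₁⁻¹)⁻¹ * y) := by group
      _ = q₂ * q₁⁻¹ := by rw [this, mul_one]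

/-- uniqueness in the canonical form `g = x t y`, `x ∈ G_a`, `y ∈ Q`. -/
theorem canonical_unique (hS : Cfsg.IsRankOneSetup G Ω a t Q) {x y x' y' : G}
    (hx : x ∈ stabilizer G a) (hy : y ∈ Q) (hx' : x' ∈ stabilizer G a) (hy' : y' ∈ Q)
    (h : x * t * y = x' * t * y') : x = x' ∧ y = y' := by
  have h1 : y' * y⁻¹ ∈ Q ⊓ stabilizer G (t • a) := by
    rw [Subgroup.mem_inf]
    refine ⟨Q.mul_mem hy' (Q.inv_mem hy), ?_⟩
    have e : y' * y⁻¹ = t⁻¹ * (x'⁻¹ * x) * t := by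
      have : x' * t * y' * y⁻¹ = x * t := by rw [← h]; group
      calc y' * y⁻¹ = t⁻¹ * x'⁻¹ * (x' * t * y' * y⁻¹) := by group
        _ = t⁻¹ * (x'⁻¹ * x) * t := by rw [this]; group
    rw [e, mem_stabilizer_iff, mul_smul, mul_smul, tt_smul hS]
    have : (x'⁻¹ * x) • a = a :=
      mem_stabilizer_iff.mp (Subgroup.mul_mem _ (Subgroup.inv_mem _ hx') hx)
    rw [this, t_inv hS]
  rw [hS.inf_eq_bot, Subgroup.mem_bot] at h1
  have hyy : y = y' := by
    calc y = (y' * y⁻¹)⁻¹ * y' := by group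
      _ = y' := by rw [h1]; group
  subst hyy
  exact ⟨mul_right_cancel (mul_right_cancel h), rfl⟩

/-- existence of the canonical form for elements outside `G_a`. -/
theorem canonical_exists (hS : Cfsg.IsRankOneSetup G Ω a t Q) {g : G} (hg : g ∉ stabilizer G a) :
    ∃ x ∈ stabilizer G a, ∃ y ∈ Q, g = x * t * y := by
  -- g⁻¹ a ≠ a, so g⁻¹ a = y⁻¹ (t a) for some y ∈ Q
  have hne : g⁻¹ • a ≠ a := by
    intro h
    apply hg
    rw [mem_stabilizer_iff]
    have : g • (g⁻¹ • a) = g • a := by rw [h]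
    rw [smul_inv_smul] at this
    exact this.symm
  obtain ⟨q, hq, hqa⟩ := exists_Q_smul_ta hS hne
  refine ⟨g * q * t, ?_, q⁻¹, Q.inv_mem hq, ?_⟩
  · rw [mem_stabilizer_iff, mul_smul, mul_smul, hqa, smul_inv_smul]
  · have := hS.mul_self
    calc g = g * q * (t * t) * q⁻¹ := by rw [this]; group
      _ = g * q * t * t * q⁻¹ := by group


theorem QD_unique (hS : Cfsg.IsRankOneSetup G Ω a t Q) {q d q' d' : G}
    (hq : q ∈ Q) (hd : d ∈ stabilizer G a ⊓ stabilizer G (t • a))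
    (hq' : q' ∈ Q) (hd' : d' ∈ stabilizer G a ⊓ stabilizer G (t • a))
    (h : q * d = q' * d') : q = q' ∧ d = d' := by
  have h1 : q'⁻¹ * q ∈ Q ⊓ (stabilizer G a ⊓ stabilizer G (t • a)) := by
    rw [Subgroup.mem_inf]
    refine ⟨Q.mul_mem (Q.inv_mem hq') hq, ?_⟩
    have e : q'⁻¹ * q = d' * d⁻¹ := by
      calc q'⁻¹ * q = q'⁻¹ * (q * d) * d⁻¹ := by group
        _ = d' * d⁻¹ := by rw [h]; group
    rw [e]
    exact Subgroup.mul_mem _ hd' (Subgroup.inv_mem _ hd)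
  rw [Q_inf_D hS, Subgroup.mem_bot] at h1
  have hqq : q = q' := by
    calc q = q' * (q'⁻¹ * q) := by group
      _ = q' := by rw [h1, mul_one]
  subst hqq
  exact ⟨rfl, mul_left_cancel h⟩

theorem canon3_unique (hS : Cfsg.IsRankOneSetup G Ω a t Q) {g h f g' h' f' : G}
    (hg : g ∈ Q) (hh : h ∈ stabilizer G a ⊓ stabilizer G (t • a)) (hf : f ∈ Q)
    (hg' : g' ∈ Q) (hh' : h' ∈ stabilizer G a ⊓ stabilizer G (t • a)) (hf' : f' ∈ Q)
    (heq : g * h * t * f = g' * h' * t * f') : g = g' ∧ h = h' ∧ f = f' := by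
  have h1 := canonical_unique hS (x := g * h) (y := f) (x' := g' * h') (y' := f')
    (Subgroup.mul_mem _ (hS.le hg) (D_le_Ga hh)) hf
    (Subgroup.mul_mem _ (hS.le hg') (D_le_Ga hh')) hf' heq
  have h2 := QD_unique hS hg hh hg' hh' h1.1
  exact ⟨h2.1, h2.2, h1.2⟩

/-- `Q` is normalised by `D`. -/
theorem D_conj_mem_Q (hS : Cfsg.IsRankOneSetup G Ω a t Q) {d q : G}
    (hd : d ∈ stabilizer G a ⊓ stabilizer G (t • a)) (hq : q ∈ Q) : d * q * d⁻¹ ∈ Q :=
  hS.conj_mem d (D_le_Ga hd) q hq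

theorem D_conj_mem_Q' (hS : Cfsg.IsRankOneSetup G Ω a t Q) {d q : G}
    (hd : d ∈ stabilizer G a ⊓ stabilizer G (t • a)) (hq : q ∈ Q) : d⁻¹ * q * d ∈ Q := by
  have := hS.conj_mem d⁻¹ (Subgroup.inv_mem _ (D_le_Ga hd)) q hq
  simpa using this


theorem exists_Q_ne_one (hS : Cfsg.IsRankOneSetup G Ω a t Q) : ∃ q ∈ Q, q ≠ 1 := by
  by_contra h
  push Not at h
  have hQ : Q = ⊥ := by
    rw [eq_bot_iff]
    intro q hq
    rw [Subgroup.mem_bot]; exact h q hq
  have := hS.even_card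
  rw [hQ, Subgroup.card_bot] at this
  exact absurd this (by decide)

/-- `Ω ≃ Option Q`. -/
theorem card_Omega [Finite G] (hS : Cfsg.IsRankOneSetup G Ω a t Q) : Nat.card Ω = Nat.card Q + 1 := by
  classical
  let f : Option Q → Ω := fun o => match o with
    | none => a
    | some q => (q : G) • (t • a)
  have hf : Function.Bijective f := by
    constructor
    · intro o o' h
      match o, o' with
      | none, none => rfl
      | none, some q =>
        exfalso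
        exact Q_smul_ne hS q.2 (ta_ne hS) h.symm
      | some q, none =>
        exfalso
        exact Q_smul_ne hS q.2 (ta_ne hS) h
      | some q, some q' =>
        have h' : (q : G) • (t • a) = (q' : G) • (t • a) := h
        have : ((q' : G)⁻¹ * (q : G)) = 1 := by
          apply Q_fix_eq_one hS (Q.mul_mem (Q.inv_mem q'.2) q.2) (ta_ne hS)
          rw [mul_smul, h', inv_smul_smul]
        have : (q : G) = (q' : G) := by
          calc (q : G) = (q' : G) * ((q' : G)⁻¹ * (q : G)) := by group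
            _ = q' := by rw [this, mul_one]
        rw [Subtype.ext this]
    · intro c
      by_cases hc : c = a
      · exact ⟨none, hc.symm⟩
      · obtain ⟨q, hq, hqc⟩ := exists_Q_smul_ta hS hc
        exact ⟨some ⟨q, hq⟩, hqc⟩
  rw [← Nat.card_congr (Equiv.ofBijective f hf), Finite.card_option]

theorem card_Ga [Finite G] (hS : Cfsg.IsRankOneSetup G Ω a t Q) :
    Nat.card (stabilizer G a) = Nat.card Q * Nat.card ↥(stabilizer G a ⊓ stabilizer G (t • a)) := by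
  let f : Q × ↥(stabilizer G a ⊓ stabilizer G (t • a)) → stabilizer G a :=
    fun p => ⟨(p.1 : G) * (p.2 : G), Subgroup.mul_mem _ (hS.le p.1.2) (D_le_Ga p.2.2)⟩
  have hf : Function.Bijective f := by
    constructor
    · rintro ⟨⟨q, hq⟩, ⟨d, hd⟩⟩ ⟨⟨q', hq'⟩, ⟨d', hd'⟩⟩ h
      have h' : q * d = q' * d' := congrArg Subtype.val h
      obtain ⟨rfl, rfl⟩ := QD_unique hS hq hd hq' hd' h'
      rfl
    · rintro ⟨g, hg⟩
      obtain ⟨q, hq, d, hd, rfl⟩ := exists_Q_D hS hg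
      exact ⟨(⟨q, hq⟩, ⟨d, hd⟩), rfl⟩
  rw [← Nat.card_prod]
  exact (Nat.card_congr (Equiv.ofBijective f hf)).symm

theorem isPretransitive (hS : Cfsg.IsRankOneSetup G Ω a t Q) : IsPretransitive G Ω := by
  have := hS.two_transitive
  exact isPretransitive_of_is_two_pretransitive

theorem card_G [Finite G] (hS : Cfsg.IsRankOneSetup G Ω a t Q) :
    Nat.card G = Nat.card Q * Nat.card ↥(stabilizer G a ⊓ stabilizer G (t • a)) * (Nat.card Q + 1) := by
  have := isPretransitive hS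
  rw [← card_Omega hS, ← card_Ga hS, ← index_stabilizer_of_transitive G a, Subgroup.card_mul_index]

/-- Some Sylow 2-subgroup of `G` lies in `Q`. -/
theorem exists_sylow_le_Q [Finite G] (hS : Cfsg.IsRankOneSetup G Ω a t Q) :
    ∃ P : Sylow 2 G, (P : Subgroup G) ≤ Q := by
  have : Fact (Nat.Prime 2) := ⟨Nat.prime_two⟩
  obtain ⟨P₀⟩ : Nonempty (Sylow 2 Q) := inferInstance
  have hcard : Nat.card ((P₀ : Subgroup Q).map Q.subtype) = 2 ^ (Nat.card G).factorization 2 := by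
    rw [Subgroup.card_map_of_injective Q.subtype_injective, P₀.card_eq_multiplicity, card_G hS]
    congr 1
    have hQpos : Nat.card Q ≠ 0 := Nat.card_pos.ne'
    have hDpos : Nat.card ↥(stabilizer G a ⊓ stabilizer G (t • a)) ≠ 0 := Nat.card_pos.ne'
    rw [Nat.factorization_mul (mul_ne_zero hQpos hDpos) (by omega), Nat.factorization_mul hQpos hDpos]
    have h1 : (Nat.card ↥(stabilizer G a ⊓ stabilizer G (t • a))).factorization 2 = 0 := by
      apply Nat.factorization_eq_zero_of_not_dvd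
      rw [← even_iff_two_dvd, Nat.not_even_iff_odd]
      exact hS.odd_card
    have h2 : (Nat.card Q + 1).factorization 2 = 0 := by
      apply Nat.factorization_eq_zero_of_not_dvd
      rw [← even_iff_two_dvd, Nat.not_even_iff_odd]
      exact hS.even_card.add_one
    simp only [Finsupp.coe_add, Pi.add_apply, h1, h2, add_zero]
  exact ⟨Sylow.ofCard _ hcard, by
    rw [Sylow.coe_ofCard]; exact Subgroup.map_subtype_le _⟩


/-- An element of `D` squaring to one is trivial (`|D|` is odd). -/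
theorem D_sq_eq_one [Finite G] (hS : Cfsg.IsRankOneSetup G Ω a t Q) {d : G}
    (hd : d ∈ stabilizer G a ⊓ stabilizer G (t • a)) (h : d * d = 1) : d = 1 := by
  have h1 : orderOf (⟨d, hd⟩ : ↥(stabilizer G a ⊓ stabilizer G (t • a))) ∣
      Nat.card ↥(stabilizer G a ⊓ stabilizer G (t • a)) := orderOf_dvd_natCard _
  have h2 : orderOf (⟨d, hd⟩ : ↥(stabilizer G a ⊓ stabilizer G (t • a))) ∣ 2 := by
    apply orderOf_dvd_of_pow_eq_one
    apply Subtype.ext
    simp only [Subgroup.coe_pow, Subgroup.coe_one]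
    rw [pow_two]; exact h
  have hodd : Odd (orderOf (⟨d, hd⟩ : ↥(stabilizer G a ⊓ stabilizer G (t • a)))) :=
    Odd.of_dvd_nat hS.odd_card h1
  have h3 : orderOf (⟨d, hd⟩ : ↥(stabilizer G a ⊓ stabilizer G (t • a))) = 1 := by
    rcases (Nat.dvd_prime Nat.prime_two).mp h2 with h | h
    · exact h
    · rw [h] at hodd; exact absurd hodd (by decide)
  have := orderOf_eq_one_iff.mp h3
  exact congrArg Subtype.val this

/-- Involutions of `G_a` lie in `Q`. -/
theorem involution_Ga_mem_Q [Finite G] (hS : Cfsg.IsRankOneSetup G Ω a t Q) {s : G}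
    (hs : s ∈ stabilizer G a) (hss : s * s = 1) : s ∈ Q := by
  obtain ⟨q, hq, d, hd, rfl⟩ := exists_Q_D hS hs
  have h1 : d * d ∈ Q := by
    have e : d * d = (q * (d * q * d⁻¹))⁻¹ * (q * d * (q * d)) := by group
    rw [e, hss, mul_one]
    exact Q.inv_mem (Q.mul_mem hq (D_conj_mem_Q hS hd hq))
  have h2 : d * d ∈ Q ⊓ (stabilizer G a ⊓ stabilizer G (t • a)) :=
    Subgroup.mem_inf.mpr ⟨h1, Subgroup.mul_mem _ hd hd⟩
  rw [Q_inf_D hS, Subgroup.mem_bot] at h2
  rw [D_sq_eq_one hS hd h2, mul_one]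
  exact hq

/-- a non-identity element of `Q` fixing `c` forces `c = a`. -/
theorem eq_a_of_Q_fix (hS : Cfsg.IsRankOneSetup G Ω a t Q) {q : G} (hq : q ∈ Q) (hq1 : q ≠ 1) {c : Ω}
    (h : q • c = c) : c = a := by
  by_contra hc
  exact hq1 (Q_fix_eq_one hS hq hc h)

end Cfsg.Agent.Lib.H6.RankOne
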