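import Mathlib
import Cfsg.Prelude.Def_LieRecognition
import Cfsg.Agent.Lib.H6.RankOne
import Cfsg.Agent.Lib.H6.Dihedral

set_option autoImplicit false

namespace Cfsg.Agent.Lib.H6.RankOne

open MulAction

variable {G Ω : Type*} [Group G] [MulAction G Ω] {a : Ω} {t : G} {Q : Subgroup G}

/-- The product of an involution of `G_a` and an involution outside `G_a` has odd order. -/
theorem odd_orderOf_mul [Finite G]
    (hS : Cfsg.IsRankOneSetup G Ω a t Q) (s u : G) (hs : s ∈ stabilizer G a) (hs1 : s ≠ 1)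
    (hss : s * s = 1) (hu : u ∉ stabilizer G a) (huu : u * u = 1) : Odd (orderOf (s * u)) := by
  have hsQ : s ∈ Q := involution_Ga_mem_Q hS hs hss
  by_contra hodd
  rw [Nat.not_odd_iff_even] at hodd
  obtain ⟨m, hm⟩ := hodd
  have hpos : 0 < orderOf (s * u) := orderOf_pos _
  have hm0 : 0 < m := by omega
  have h2m : (s * u) ^ (2 * m) = 1 := by
    rw [two_mul, ← hm]; exact pow_orderOf_eq_one _
  obtain ⟨hws, -⟩ := Cfsg.Agent.Lib.H6.even_case hss huu m h2m
  obtain ⟨w, hw⟩ : ∃ w, w = (s * u) ^ m := ⟨_, rfl⟩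
  rw [← hw] at hws
  have hw1 : w ≠ 1 := by
    rw [hw]
    intro h1
    have := orderOf_dvd_of_pow_eq_one h1
    have := Nat.le_of_dvd hm0 this
    omega
  have hww : w * w = 1 := by rw [hw, ← pow_add, ← two_mul, h2m]
  have hwu : Commute w u := by
    have h1 : Commute w (s * u) := by rw [hw]; exact (Commute.refl (s * u)).pow_left m
    have h2 : u = s⁻¹ * (s * u) := by group
    rw [h2]
    exact (hws.inv_right).mul_right h1
  have hwa : w • a = a := by
    apply eq_a_of_Q_fix hS hsQ hs1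
    rw [← mul_smul, ← hws.eq, mul_smul, Q_smul_a hS hsQ]
  have hwQ : w ∈ Q := involution_Ga_mem_Q hS (mem_stabilizer_iff.mpr hwa) hww
  apply hu
  rw [mem_stabilizer_iff]
  apply eq_a_of_Q_fix hS hwQ hw1
  rw [← mul_smul, hwu.eq, mul_smul, hwa]

/-- every element squaring to one has a fixed point. -/
theorem exists_fixed_point [Finite G] (hS : Cfsg.IsRankOneSetup G Ω a t Q) (u : G) (huu : u * u = 1) :
    ∃ c : Ω, u • c = c := by
  have : Fact (Nat.Prime 2) := ⟨Nat.prime_two⟩
  have hcard := card_Omega hS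
  have hodd : ¬ 2 ∣ Nat.card Ω := by
    rw [hcard, ← even_iff_two_dvd, Nat.not_even_iff_odd]
    exact hS.even_card.add_one
  have hP : IsPGroup 2 (Subgroup.zpowers u) := by
    by_cases hu1 : u = 1
    · rw [hu1, Subgroup.zpowers_one_eq_bot]; exact IsPGroup.of_bot
    · apply IsPGroup.of_card (n := 1)
      rw [Nat.card_zpowers, pow_one]
      exact orderOf_eq_prime (by rw [pow_two]; exact huu) hu1
  obtain ⟨c, hc⟩ := hP.nonempty_fixed_point_of_prime_not_dvd_card Ω hodd
  exact ⟨c, hc ⟨u, Subgroup.mem_zpowers u⟩⟩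

/-- if `g • c = a` and the involution `u` fixes `c` then `g u g⁻¹ ∈ Q`. -/
theorem conj_mem_Q_of_fix [Finite G] (hS : Cfsg.IsRankOneSetup G Ω a t Q) {u g : G} {c : Ω}
    (huu : u * u = 1) (huc : u • c = c) (hg : g • c = a) : g * u * g⁻¹ ∈ Q := by
  apply involution_Ga_mem_Q hS
  · rw [mem_stabilizer_iff, mul_smul, mul_smul, ← hg, inv_smul_smul, huc]
  · exact Cfsg.Agent.Lib.H6.conj_mul_self huu g

/-- a non-trivial involution fixes at most one point. -/
theorem fixed_point_unique [Finite G] (hS : Cfsg.IsRankOneSetup G Ω a t Q) {u : G} (hu1 : u ≠ 1)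
    (huu : u * u = 1) {c c' : Ω} (hc : u • c = c) (hc' : u • c' = c') : c = c' := by
  have := isPretransitive hS
  obtain ⟨g, hg⟩ := MulAction.exists_smul_eq G c a
  have hQ := conj_mem_Q_of_fix hS huu hc hg
  have h1 : g * u * g⁻¹ ≠ 1 := by
    intro h; apply hu1
    calc u = g⁻¹ * (g * u * g⁻¹) * g := by group
      _ = 1 := by rw [h]; group
  have h2 : g • c' = a := by
    apply eq_a_of_Q_fix hS hQ h1
    rw [mul_smul, mul_smul, inv_smul_smul, hc']
  have : g • c = g • c' := by rw [hg, h2]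
  exact MulAction.injective g this

/-- `t` fixes exactly one point. -/
theorem exists_t_fix [Finite G] (hS : Cfsg.IsRankOneSetup G Ω a t Q) :
    ∃ p : Ω, t • p = p ∧ p ≠ a ∧ p ≠ t • a := by
  obtain ⟨p, hp⟩ := exists_fixed_point hS t hS.mul_self
  refine ⟨p, hp, ?_, ?_⟩
  · intro h; rw [h] at hp; exact ta_ne hS hp
  · intro h
    have : t • p = t • (t • a) := by rw [← h]
    rw [hp, tt_smul hS] at this
    rw [this] at hp
    exact ta_ne hS hp

end Cfsg.Agent.Lib.H6.RankOne
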