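import Mathlib
import Cfsg.Prelude.Def_LieRecognition
import Cfsg.Agent.Lib.H6.RankOne2

set_option autoImplicit false

namespace Cfsg.Agent.Lib.H6.RankOne

open MulAction

variable {G Ω : Type*} [Group G] [MulAction G Ω] {a : Ω} {t : G} {Q : Subgroup G}

/-- Two involutions whose product has odd order are conjugate under an involution. -/
theorem exists_involution_conj {s r : G} (hss : s * s = 1) (hrr : r * r = 1)
    (hodd : Odd (orderOf (s * r))) : ∃ u : G, u * u = 1 ∧ u * s * u = r := by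
  obtain ⟨m, hm⟩ := hodd
  have h1 : (s * r) ^ (2 * m + 1) = 1 := by rw [← hm]; exact pow_orderOf_eq_one _
  have h2 := Cfsg.Agent.Lib.H6.conj_of_pow_odd hss hrr m h1
  have h3 := Cfsg.Agent.Lib.H6.pow_mul_eq hss hrr m
  obtain ⟨w, hw⟩ : ∃ w, w = (s * r) ^ m := ⟨_, rfl⟩
  rw [← hw] at h2 h3
  refine ⟨w * s, ?_, ?_⟩
  · calc w * s * (w * s) = w * s * (s * w⁻¹) := by rw [← h3]
      _ = w * (s * s) * w⁻¹ := by group
      _ = 1 := by rw [hss]; group
  · calc w * s * s * (w * s) = w * (s * s) * (w * s) := by group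
      _ = w * (w * s) := by rw [hss]; group
      _ = w * (s * w⁻¹) := by rw [h3]
      _ = w * s * w⁻¹ := by group
      _ = r := h2

/-- injectivity of the `Q`-action on a point different from `a`. -/
theorem Q_smul_inj (hS : Cfsg.IsRankOneSetup G Ω a t Q) {q q' : G} (hq : q ∈ Q) (hq' : q' ∈ Q)
    {c : Ω} (hc : c ≠ a) (h : q • c = q' • c) : q = q' := by
  have h1 : (q'⁻¹ * q) • c = c := by rw [mul_smul, h, inv_smul_smul]
  have h2 := Q_fix_eq_one hS (Q.mul_mem (Q.inv_mem hq') hq) hc h1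
  calc q = q' * (q'⁻¹ * q) := by group
    _ = q' := by rw [h2, mul_one]

/-- An involution of `G_a` and an involution fixing `t • a` are conjugate under an involution swapping
`a` and `t • a`. -/
theorem exists_swap_conj [Finite G] (hS : Cfsg.IsRankOneSetup G Ω a t Q) {s r : G}
    (hs : s ∈ stabilizer G a) (hs1 : s ≠ 1) (hss : s * s = 1)
    (hr : r • (t • a) = t • a) (hr1 : r ≠ 1) (hrr : r * r = 1) :
    ∃ u : G, u * u = 1 ∧ u • a = t • a ∧ u * s * u = r := by
  have hra : r ∉ stabilizer G a := by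
    intro h
    rw [mem_stabilizer_iff] at h
    exact ta_ne hS (fixed_point_unique hS hr1 hrr hr h)
  have hodd := odd_orderOf_mul hS s r hs hs1 hss hra hrr
  obtain ⟨u, huu, hu⟩ := exists_involution_conj hss hrr hodd
  refine ⟨u, huu, ?_, hu⟩
  have : r • (u • a) = u • a := by
    rw [← hu, mul_smul, mul_smul, ← mul_smul u u, huu, one_smul, mem_stabilizer_iff.mp hs]
  exact fixed_point_unique hS hr1 hrr this hr

/-- an involution swapping `a` and `t • a` is `t * k` with `k` inverted by `t`. -/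
theorem mem_K_of_swap (hS : Cfsg.IsRankOneSetup G Ω a t Q) {u : G} (huu : u * u = 1)
    (hua : u • a = t • a) :
    t * u ∈ Cfsg.invertedBy (stabilizer G a ⊓ stabilizer G (t • a)) t := by
  constructor
  · rw [Subgroup.mem_inf, mem_stabilizer_iff, mem_stabilizer_iff]
    constructor
    · rw [mul_smul, hua, tt_smul hS]
    · have : u • (t • a) = a := by rw [← hua, ← mul_smul, huu, one_smul]
      rw [mul_smul, this]
  · rw [mul_inv_rev, ← mul_assoc, hS.mul_self, one_mul, inv_eq_of_mul_eq_one_right huu]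

theorem K_inv {k : G} (hk : k ∈ Cfsg.invertedBy (stabilizer G a ⊓ stabilizer G (t • a)) t) :
    k⁻¹ ∈ Cfsg.invertedBy (stabilizer G a ⊓ stabilizer G (t • a)) t := by
  obtain ⟨h1, h2⟩ := hk
  refine ⟨Subgroup.inv_mem _ h1, ?_⟩
  have : t * k⁻¹ * t⁻¹ = (t * k * t⁻¹)⁻¹ := by group
  rw [this, h2]

theorem K_props (hS : Cfsg.IsRankOneSetup G Ω a t Q) {k : G}
    (hk : k ∈ Cfsg.invertedBy (stabilizer G a ⊓ stabilizer G (t • a)) t) :
    (t * k) * (t * k) = 1 ∧ (t * k) • a = t • a ∧ (t * k) • (t • a) = a := by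
  obtain ⟨hkD, hk2⟩ := hk
  rw [Subgroup.mem_inf, mem_stabilizer_iff, mem_stabilizer_iff] at hkD
  refine ⟨?_, ?_, ?_⟩
  · have e : t * k * (t * k) = (t * k * t⁻¹) * (t * t) * k := by group
    rw [e, hk2, hS.mul_self]; group
  · rw [mul_smul, hkD.1]
  · rw [mul_smul, hkD.2, tt_smul hS]

/-- replacing `t` by `t * k`, `k` inverted by `t`, gives again a rank-one setup. -/
theorem setup_of_K (hS : Cfsg.IsRankOneSetup G Ω a t Q) {k : G}
    (hk : k ∈ Cfsg.invertedBy (stabilizer G a ⊓ stabilizer G (t • a)) t) :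
    Cfsg.IsRankOneSetup G Ω a (t * k) Q := by
  obtain ⟨h1, h2, h3⟩ := K_props hS hk
  refine { two_transitive := hS.two_transitive, mul_self := h1, ne_one := ?_, not_mem := ?_,
           le := hS.le, conj_mem := hS.conj_mem, inf_eq_bot := ?_, sup_eq := ?_,
           even_card := hS.even_card, odd_card := ?_ }
  · intro h
    rw [h, one_smul] at h2
    exact ta_ne hS h2.symm
  · rw [mem_stabilizer_iff, h2]; exact ta_ne hS
  · rw [h2]; exact hS.inf_eq_bot
  · rw [h2]; exact hS.sup_eq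
  · rw [h2]; exact hS.odd_card

/-- conjugates of involutions by `t`. -/
theorem t_conj_involution (hS : Cfsg.IsRankOneSetup G Ω a t Q) {s : G} (hs1 : s ≠ 1)
    (hss : s * s = 1) : t * s * t ≠ 1 ∧ (t * s * t) * (t * s * t) = 1 := by
  have htinv := t_inv hS
  have e : t * s * t = t * s * t⁻¹ := by rw [htinv]
  rw [e]
  refine ⟨?_, Cfsg.Agent.Lib.H6.conj_mul_self hss t⟩
  intro h
  apply hs1
  have e : s = t⁻¹ * (t * s * t⁻¹) * t := by group
  rw [e, h]; group

/-- the elements inverted by `t` are transitive on the involutions of `G_a`. -/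
theorem exists_K_conj [Finite G] (hS : Cfsg.IsRankOneSetup G Ω a t Q) {s s' : G}
    (hs : s ∈ Cfsg.involutionsIn (stabilizer G a : Set G))
    (hs' : s' ∈ Cfsg.involutionsIn (stabilizer G a : Set G)) :
    ∃ k ∈ Cfsg.invertedBy (stabilizer G a ⊓ stabilizer G (t • a)) t, k⁻¹ * s * k = s' := by
  obtain ⟨hs, hs1, hss⟩ := hs
  obtain ⟨hs', hs'1, hss'⟩ := hs'
  rw [SetLike.mem_coe] at hs hs'
  have htinv := t_inv hS
  obtain ⟨hr1, hrr⟩ := t_conj_involution hS hs'1 hss'
  have hr : (t * s' * t) • (t • a) = t • a := by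
    rw [mul_smul, mul_smul, tt_smul hS, mem_stabilizer_iff.mp hs']
  obtain ⟨u, huu, hua, hu⟩ := exists_swap_conj hS hs hs1 hss hr hr1 hrr
  have huinv : u⁻¹ = u := inv_eq_of_mul_eq_one_right huu
  refine ⟨(t * u)⁻¹, K_inv (mem_K_of_swap hS huu hua), ?_⟩
  have e : ((t * u)⁻¹)⁻¹ * s * (t * u)⁻¹ = t * (u * s * u⁻¹) * t⁻¹ := by group
  rw [e, huinv, htinv, hu]
  have e2 : t * (t * s' * t) * t = (t * t) * s' * (t * t) := by group
  rw [e2, hS.mul_self, one_mul, mul_one]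

/-- every involution moving `a` is `q (t k) q⁻¹`. -/
theorem exists_QK_of_moving (hS : Cfsg.IsRankOneSetup G Ω a t Q) {u : G} (huu : u * u = 1)
    (hua : u • a ≠ a) :
    ∃ q ∈ Q, ∃ k ∈ Cfsg.invertedBy (stabilizer G a ⊓ stabilizer G (t • a)) t,
      u = q * t * k * q⁻¹ := by
  obtain ⟨q, hq, hqc⟩ := exists_Q_smul_ta hS hua
  have h1 : (q⁻¹ * u * q) * (q⁻¹ * u * q) = 1 := by
    have := Cfsg.Agent.Lib.H6.conj_mul_self huu q⁻¹
    rwa [inv_inv] at this
  have h2 : (q⁻¹ * u * q) • a = t • a := by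
    rw [mul_smul, mul_smul, Q_smul_a hS hq, ← hqc, inv_smul_smul]
  refine ⟨q, hq, t * (q⁻¹ * u * q), mem_K_of_swap hS h1 h2, ?_⟩
  have e : q * t * (t * (q⁻¹ * u * q)) * q⁻¹ = q * (t * t) * q⁻¹ * u := by group
  rw [e, hS.mul_self]; group

/-- every involution moving `a` is `(q t) s (q t)⁻¹` with `s` an involution of `G_a`. -/
theorem exists_QI_of_moving [Finite G] (hS : Cfsg.IsRankOneSetup G Ω a t Q) {u : G} (huu : u * u = 1)
    (hua : u • a ≠ a) :
    ∃ q ∈ Q, ∃ s ∈ Cfsg.involutionsIn (stabilizer G a : Set G),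
      u = q * t * s * t * q⁻¹ := by
  have htinv := t_inv hS
  obtain ⟨c, hc⟩ := exists_fixed_point hS u huu
  have hca : c ≠ a := by
    intro h; rw [h] at hc; exact hua hc
  have hu1 : u ≠ 1 := by
    intro h; rw [h, one_smul] at hua; exact hua rfl
  obtain ⟨q, hq, hqc⟩ := exists_Q_smul_ta hS hca
  have hconj : t * q⁻¹ * u * q * t = (t * q⁻¹) * u * (t * q⁻¹)⁻¹ := by
    have : (t * q⁻¹) * u * (t * q⁻¹)⁻¹ = t * q⁻¹ * u * q * t⁻¹ := by group
    rw [this, htinv]
  refine ⟨q, hq, t * q⁻¹ * u * q * t, ⟨?_, ?_, ?_⟩, ?_⟩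
  · rw [SetLike.mem_coe, mem_stabilizer_iff, mul_smul, mul_smul, mul_smul, mul_smul, hqc, hc, ← hqc,
      inv_smul_smul, tt_smul hS]
  · rw [hconj]
    intro h
    apply hu1
    have e : u = (t * q⁻¹)⁻¹ * ((t * q⁻¹) * u * (t * q⁻¹)⁻¹) * (t * q⁻¹) := by group
    rw [e, h]; group
  · rw [hconj]; exact Cfsg.Agent.Lib.H6.conj_mul_self huu _
  · have e : q * t * (t * q⁻¹ * u * q * t) * t * q⁻¹ = q * (t * t) * q⁻¹ * u * q * (t * t) * q⁻¹ := by
      group
    rw [e, hS.mul_self]; group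

/-- `q (t k) q⁻¹` is an involution moving `a`. -/
theorem QK_moving (hS : Cfsg.IsRankOneSetup G Ω a t Q) {q k : G} (hq : q ∈ Q)
    (hk : k ∈ Cfsg.invertedBy (stabilizer G a ⊓ stabilizer G (t • a)) t) :
    (q * t * k * q⁻¹) * (q * t * k * q⁻¹) = 1 ∧ (q * t * k * q⁻¹) • a = q • (t • a) := by
  obtain ⟨h1, h2, h3⟩ := K_props hS hk
  constructor
  · have e : q * t * k * q⁻¹ * (q * t * k * q⁻¹) = q * (t * k * (t * k)) * q⁻¹ := by group
    rw [e, h1]; group
  · have e : q * t * k * q⁻¹ = q * (t * k) * q⁻¹ := by group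
    rw [e, mul_smul, mul_smul, Q_smul_a hS (Q.inv_mem hq), h2]

/-- `(q t) s (q t)⁻¹` is a non-trivial involution fixing `q • t • a`. -/
theorem QI_moving (hS : Cfsg.IsRankOneSetup G Ω a t Q) {q s : G} (_hq : q ∈ Q)
    (hs : s ∈ Cfsg.involutionsIn (stabilizer G a : Set G)) :
    (q * t * s * t * q⁻¹) * (q * t * s * t * q⁻¹) = 1 ∧ q * t * s * t * q⁻¹ ≠ 1 ∧
      (q * t * s * t * q⁻¹) • (q • (t • a)) = q • (t • a) := by
  obtain ⟨hs, hs1, hss⟩ := hs
  rw [SetLike.mem_coe, mem_stabilizer_iff] at hs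
  have htinv := t_inv hS
  have hconj : q * t * s * t * q⁻¹ = (q * t) * s * (q * t)⁻¹ := by
    have : (q * t) * s * (q * t)⁻¹ = q * t * s * t⁻¹ * q⁻¹ := by group
    rw [this, htinv]
  refine ⟨?_, ?_, ?_⟩
  · rw [hconj]; exact Cfsg.Agent.Lib.H6.conj_mul_self hss _
  · rw [hconj]
    intro h
    apply hs1
    have e : s = (q * t)⁻¹ * ((q * t) * s * (q * t)⁻¹) * (q * t) := by group
    rw [e, h]; group
  · rw [mul_smul, mul_smul, mul_smul, mul_smul, inv_smul_smul, tt_smul hS, hs]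

/-- `|K|` is the number of involutions of `G_a`. -/
theorem card_K [Finite G] (hS : Cfsg.IsRankOneSetup G Ω a t Q) :
    Nat.card (Cfsg.invertedBy (stabilizer G a ⊓ stabilizer G (t • a)) t) =
      Nat.card (Cfsg.involutionsIn (stabilizer G a : Set G)) := by
  classical
  let f : Q × (Cfsg.invertedBy (stabilizer G a ⊓ stabilizer G (t • a)) t) → G :=
    fun p => (p.1 : G) * t * (p.2 : G) * (p.1 : G)⁻¹
  let g : Q × (Cfsg.involutionsIn (stabilizer G a : Set G)) → G :=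
    fun p => (p.1 : G) * t * (p.2 : G) * t * (p.1 : G)⁻¹
  have hf_inj : Function.Injective f := by
    rintro ⟨⟨q, hq⟩, ⟨k, hk⟩⟩ ⟨⟨q', hq'⟩, ⟨k', hk'⟩⟩ h
    simp only [f] at h
    have h1 := (QK_moving hS hq hk).2
    have h2 := (QK_moving hS hq' hk').2
    rw [h, h2] at h1
    have h3 : q = q' := (Q_smul_inj hS hq' hq (ta_ne hS) h1).symm
    subst h3
    have h4 : k = k' := by
      have := mul_right_cancel h
      exact mul_left_cancel this
    subst h4
    rfl
  have hg_inj : Function.Injective g := by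
    rintro ⟨⟨q, hq⟩, ⟨s, hs⟩⟩ ⟨⟨q', hq'⟩, ⟨s', hs'⟩⟩ h
    simp only [g] at h
    obtain ⟨h1, h2, h3⟩ := QI_moving hS hq hs
    obtain ⟨-, -, h3'⟩ := QI_moving hS hq' hs'
    rw [← h] at h3'
    have h4 := fixed_point_unique hS h2 h1 h3 h3'
    have h5 : q = q' := Q_smul_inj hS hq hq' (ta_ne hS) h4
    subst h5
    have h6 : s = s' := by
      have := mul_right_cancel (mul_right_cancel h)
      exact mul_left_cancel this
    subst h6
    rfl
  have hrange : Set.range f = Set.range g := by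
    ext u
    constructor
    · rintro ⟨⟨⟨q, hq⟩, ⟨k, hk⟩⟩, rfl⟩
      obtain ⟨h1, h2⟩ := QK_moving hS hq hk
      have hne : (q * t * k * q⁻¹) • a ≠ a := by
        rw [h2]; exact Q_smul_ne hS hq (ta_ne hS)
      obtain ⟨q', hq', s, hs, hu⟩ := exists_QI_of_moving hS h1 hne
      exact ⟨⟨⟨q', hq'⟩, ⟨s, hs⟩⟩, hu.symm⟩
    · rintro ⟨⟨⟨q, hq⟩, ⟨s, hs⟩⟩, rfl⟩
      obtain ⟨h1, h2, h3⟩ := QI_moving hS hq hs
      have hne : (q * t * s * t * q⁻¹) • a ≠ a := by
        intro h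
        have := fixed_point_unique hS h2 h1 h3 h
        exact Q_smul_ne hS hq (ta_ne hS) this
      obtain ⟨q', hq', k, hk, hu⟩ := exists_QK_of_moving hS h1 hne
      exact ⟨⟨⟨q', hq'⟩, ⟨k, hk⟩⟩, hu.symm⟩
  have h1 := Nat.card_range_of_injective hf_inj
  have h2 := Nat.card_range_of_injective hg_inj
  rw [hrange, h2, Nat.card_prod, Nat.card_prod] at h1
  have hQ : 0 < Nat.card Q := Nat.card_pos
  exact (Nat.eq_of_mul_eq_mul_left hQ h1).symm

end Cfsg.Agent.Lib.H6.RankOne
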