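import Mathlib
import Cfsg.Prelude.Def_Involutions
import Cfsg.Agent.Lib.H6.Conj
import Cfsg.Agent.Lib.H6.Dihedral
import Cfsg.Agent.Lib.H6.RankOne3

set_option autoImplicit false
set_option linter.unusedSectionVars false

/-! Strongly embedded subgroups: the action on cosets. -/

namespace Cfsg.Agent.Lib.H6.SE

variable {G : Type*} [Group G] [Finite G] {H : Subgroup G}

theorem mem_of_conj_mem (hH : Cfsg.IsStronglyEmbedded H) {t g : G} (ht : orderOf t = 2) (htH : t ∈ H)
    (h : g⁻¹ * t * g ∈ H) : g ∈ H := by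
  by_contra hg
  have hodd := hH.2.2 g hg
  have hmem : t ∈ H ⊓ H.map (MulAut.conj g).toMonoidHom := by
    rw [Subgroup.mem_inf, Cfsg.Agent.Lib.H6.mem_map_conj_iff]
    exact ⟨htH, h⟩
  have h1 : orderOf t ∣ Nat.card ↥(H ⊓ H.map (MulAut.conj g).toMonoidHom) := by
    have := orderOf_dvd_natCard (⟨t, hmem⟩ : ↥(H ⊓ H.map (MulAut.conj g).toMonoidHom))
    rwa [Subgroup.orderOf_mk] at this
  rw [ht] at h1
  have := Odd.of_dvd_nat hodd h1
  exact absurd this (by decide)

theorem mem_of_conj_mem' (hH : Cfsg.IsStronglyEmbedded H) {t g : G} (ht : orderOf t = 2) (htH : t ∈ H)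
    (h : g * t * g⁻¹ ∈ H) : g ∈ H := by
  have := mem_of_conj_mem hH (g := g⁻¹) ht htH (by rwa [inv_inv])
  exact (Subgroup.inv_mem_iff H).mp this

theorem centralizer_le (hH : Cfsg.IsStronglyEmbedded H) {t : G} (ht : orderOf t = 2) (htH : t ∈ H) :
    Subgroup.centralizer ({t} : Set G) ≤ H := by
  intro c hc
  rw [Subgroup.mem_centralizer_iff] at hc
  have h1 : t * c = c * t := hc t rfl
  apply mem_of_conj_mem' hH ht htH
  have : c * t * c⁻¹ = t := by rw [← h1]; group
  rw [this]; exact htH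

omit [Finite G] in
theorem sq_eq_one {t : G} (ht : orderOf t = 2) : t * t = 1 := by
  have := pow_orderOf_eq_one t
  rwa [ht, pow_two] at this

omit [Finite G] in
theorem ne_one {t : G} (ht : orderOf t = 2) : t ≠ 1 := by
  intro h; rw [h, orderOf_one] at ht; omega

omit [Finite G] in
theorem inv_eq {t : G} (ht : orderOf t = 2) : t⁻¹ = t := inv_eq_of_mul_eq_one_right (sq_eq_one ht)

omit [Finite G] in
theorem orderOf_conj {t : G} (ht : orderOf t = 2) (g : G) : orderOf (g * t * g⁻¹) = 2 := by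
  have : g * t * g⁻¹ = (MulAut.conj g) t := rfl
  rw [this, MulEquiv.orderOf_eq]; exact ht

omit [Finite G] in
theorem orderOf_conj' {t : G} (ht : orderOf t = 2) (g : G) : orderOf (g⁻¹ * t * g) = 2 := by
  have := orderOf_conj ht g⁻¹
  rwa [inv_inv] at this

omit [Finite G] in
/-- `t` fixes the coset `aH` iff `a⁻¹ t a ∈ H`. -/
theorem smul_mk_eq_iff (t a : G) : t • (QuotientGroup.mk a : G ⧸ H) = QuotientGroup.mk a ↔ a⁻¹ * t * a ∈ H := by
  have : t • (QuotientGroup.mk a : G ⧸ H) = QuotientGroup.mk (t * a) := rfl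
  rw [this, QuotientGroup.eq]
  have e : (t * a)⁻¹ * a = (a⁻¹ * t * a)⁻¹ := by group
  rw [e, Subgroup.inv_mem_iff]

/-- an involution fixes at most one coset. -/
theorem fix_unique (hH : Cfsg.IsStronglyEmbedded H) {t : G} (ht : orderOf t = 2) {x y : G ⧸ H}
    (hx : t • x = x) (hy : t • y = y) : x = y := by
  induction x using QuotientGroup.induction_on with
  | H a =>
    induction y using QuotientGroup.induction_on with
    | H b =>
      rw [smul_mk_eq_iff] at hx hy
      rw [QuotientGroup.eq]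
      have h1 : (a⁻¹ * b)⁻¹ * (a⁻¹ * t * a) * (a⁻¹ * b) ∈ H := by
        have e : (a⁻¹ * b)⁻¹ * (a⁻¹ * t * a) * (a⁻¹ * b) = b⁻¹ * t * b := by group
        rw [e]; exact hy
      exact mem_of_conj_mem hH (orderOf_conj' ht a) hx h1

/-- `H` contains an involution. -/
theorem exists_involution (hH : Cfsg.IsStronglyEmbedded H) : ∃ t ∈ H, orderOf t = 2 := by
  have : Fact (Nat.Prime 2) := ⟨Nat.prime_two⟩
  obtain ⟨⟨t, htH⟩, ht⟩ := exists_prime_orderOf_dvd_card' 2 (even_iff_two_dvd.mp hH.2.1)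
  rw [Subgroup.orderOf_mk] at ht
  exact ⟨t, htH, ht⟩

/-- a Sylow 2-subgroup of `G` containing an involution of `H` lies in `H`. -/
theorem sylow_le (hH : Cfsg.IsStronglyEmbedded H) (P : Sylow 2 G) {t : G} (ht : orderOf t = 2) (htH : t ∈ H)
    (htP : t ∈ (P : Subgroup G)) : (P : Subgroup G) ≤ H := by
  have : Fact (Nat.Prime 2) := ⟨Nat.prime_two⟩
  have hnt : Nontrivial (P : Subgroup G) := ⟨⟨⟨t, htP⟩, 1, fun h => ne_one ht (congrArg Subtype.val h)⟩⟩
  have hcn : Nontrivial (Subgroup.center (P : Subgroup G)) := P.2.center_nontrivial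
  have hcard : 2 ∣ Nat.card (Subgroup.center (P : Subgroup G)) := by
    have hp : IsPGroup 2 (Subgroup.center (P : Subgroup G)) := P.2.to_subgroup _
    obtain ⟨n, hn⟩ := IsPGroup.iff_card.mp hp
    have : 1 < Nat.card (Subgroup.center (P : Subgroup G)) := Finite.one_lt_card
    rw [hn] at this ⊢
    have hn0 : n ≠ 0 := by
      intro h; rw [h] at this; simp at this
    exact dvd_pow_self 2 hn0
  obtain ⟨⟨⟨c, hcP⟩, hcc⟩, hc⟩ := exists_prime_orderOf_dvd_card' 2 hcard
  have hc2 : orderOf c = 2 := by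
    rw [← hc, Subgroup.orderOf_mk, Subgroup.orderOf_mk]
  rw [Subgroup.mem_center_iff] at hcc
  have hcomm : ∀ x ∈ (P : Subgroup G), x * c = c * x := by
    intro x hx
    have := hcc ⟨x, hx⟩
    exact congrArg Subtype.val this
  have hcH : c ∈ H := by
    apply centralizer_le hH ht htH
    rw [Subgroup.mem_centralizer_iff]
    intro y hy
    rw [Set.mem_singleton_iff] at hy
    rw [hy]; exact hcomm t htP
  intro x hx
  apply centralizer_le hH hc2 hcH
  rw [Subgroup.mem_centralizer_iff]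
  intro y hy
  rw [Set.mem_singleton_iff] at hy
  rw [hy]; exact (hcomm x hx).symm

/-- every involution fixes some coset. -/
theorem exists_fix (hH : Cfsg.IsStronglyEmbedded H) {t : G} (ht : orderOf t = 2) :
    ∃ x : G ⧸ H, t • x = x := by
  have : Fact (Nat.Prime 2) := ⟨Nat.prime_two⟩
  obtain ⟨t₁, ht₁H, ht₁⟩ := exists_involution hH
  have hp : ∀ s : G, orderOf s = 2 → IsPGroup 2 (Subgroup.zpowers s) := by
    intro s hs
    apply IsPGroup.of_card (n := 1)
    rw [Nat.card_zpowers, hs, pow_one]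
  obtain ⟨P, hP⟩ := (hp t₁ ht₁).exists_le_sylow
  obtain ⟨P', hP'⟩ := (hp t ht).exists_le_sylow
  have hPH := sylow_le hH P ht₁ ht₁H (hP (Subgroup.mem_zpowers t₁))
  obtain ⟨g, hg⟩ := MulAction.exists_smul_eq G P P'
  have htP' : t ∈ (P' : Subgroup G) := hP' (Subgroup.mem_zpowers t)
  rw [← hg, Sylow.coe_subgroup_smul, Subgroup.mem_pointwise_smul_iff_inv_smul_mem] at htP'
  refine ⟨QuotientGroup.mk g, ?_⟩
  rw [smul_mk_eq_iff]
  apply hPH
  have : (MulAut.conj g)⁻¹ • t = g⁻¹ * t * g := by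
    rw [← map_inv]
    simp [MulAut.smul_def]
  rwa [this] at htP'

/-- the product of two involutions with different fixed points has odd order. -/
theorem odd_orderOf_mul (hH : Cfsg.IsStronglyEmbedded H) {i j : G} (hi : orderOf i = 2) (hj : orderOf j = 2)
    {x y : G ⧸ H} (hx : i • x = x) (hy : j • y = y) (hxy : x ≠ y) : Odd (orderOf (i * j)) := by
  have hii := sq_eq_one hi
  have hjj := sq_eq_one hj
  by_contra hodd
  rw [Nat.not_odd_iff_even] at hodd
  obtain ⟨m, hm⟩ := hodd
  have hpos : 0 < orderOf (i * j) := orderOf_pos _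
  have hm0 : 0 < m := by omega
  have h2m : (i * j) ^ (2 * m) = 1 := by
    rw [two_mul, ← hm]; exact pow_orderOf_eq_one _
  obtain ⟨hwi, -⟩ := Cfsg.Agent.Lib.H6.even_case hii hjj m h2m
  obtain ⟨w, hw⟩ : ∃ w, w = (i * j) ^ m := ⟨_, rfl⟩
  rw [← hw] at hwi
  have hw1 : w ≠ 1 := by
    rw [hw]
    intro h1
    have := orderOf_dvd_of_pow_eq_one h1
    have := Nat.le_of_dvd hm0 this
    omega
  have hww : w * w = 1 := by rw [hw, ← pow_add, ← two_mul, h2m]
  have hw2 : orderOf w = 2 := orderOf_eq_prime (by rw [pow_two]; exact hww) hw1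
  have hwj : Commute w j := by
    have h1 : Commute w (i * j) := by rw [hw]; exact (Commute.refl (i * j)).pow_left m
    have h2 : j = i⁻¹ * (i * j) := by group
    rw [h2]
    exact (hwi.inv_right).mul_right h1
  -- w fixes x and y
  have hwx : w • x = x := by
    apply fix_unique hH hi ?_ hx
    rw [← mul_smul, ← hwi.eq, mul_smul, hx]
  have hwy : w • y = y := by
    apply fix_unique hH hj ?_ hy
    rw [← mul_smul, ← hwj.eq, mul_smul, hy]
  exact hxy (fix_unique hH hw2 hwx hwy)

/-- two involutions with different fixed points are exchanged by an involution swapping the fixed points. -/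
theorem exists_swap (hH : Cfsg.IsStronglyEmbedded H) {i j : G} (hi : orderOf i = 2) (hj : orderOf j = 2)
    {x y : G ⧸ H} (hx : i • x = x) (hy : j • y = y) (hxy : x ≠ y) :
    ∃ u : G, orderOf u = 2 ∧ u * i * u = j ∧ u • x = y ∧ u • y = x := by
  have hodd := odd_orderOf_mul hH hi hj hx hy hxy
  obtain ⟨u, huu, hu⟩ := Cfsg.Agent.Lib.H6.RankOne.exists_involution_conj (sq_eq_one hi) (sq_eq_one hj) hodd
  have hux : u • x = y := by
    apply fix_unique hH hj ?_ hy
    rw [← hu, mul_smul, mul_smul, ← mul_smul u u, huu, one_smul, hx]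
  have huy : u • y = x := by
    rw [← hux, ← mul_smul, huu, one_smul]
  have hu1 : u ≠ 1 := by
    intro h
    rw [h, one_smul] at hux
    exact hxy hux
  exact ⟨u, orderOf_eq_prime (by rw [pow_two]; exact huu) hu1, hu, hux, huy⟩

end Cfsg.Agent.Lib.H6.SE
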