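import Mathlib
import Cfsg.Prelude.Def_Involutions
import Cfsg.Prelude.Def_LieRecognition
import Cfsg.Agent.Lib.H6.CIT
import Cfsg.Agent.Lib.H6.StrEmb
import Cfsg.Agent.S1124
import Cfsg.Agent.S1225

set_option autoImplicit false
set_option linter.unusedSectionVars false

/-!  Groups whose involution centralizers are elementary abelian 2-groups: structure of `H = N_G(T)`. -/

namespace Cfsg.Agent.Lib.H6.CIT

open Cfsg.Agent.Lib.H6.SE

theorem card_ne_one (K : Type*) [Group K] [Finite K] : Nat.card {t : K // t ≠ 1} = Nat.card K - 1 := by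
  classical
  have := Fintype.ofFinite K
  rw [Nat.card_eq_fintype_card, Nat.card_eq_fintype_card]
  have := Set.card_ne_eq (1 : K)
  convert this

variable {G : Type*} [Group G] [Finite G] (T : Sylow 2 G)
  (hC : ∀ t : G, orderOf t = 2 → IsMulCommutative (Subgroup.centralizer ({t} : Set G)) ∧
    ∀ c ∈ Subgroup.centralizer ({t} : Set G), c ^ 2 = 1)
  (hT : (T : Subgroup G) ≠ ⊥) (hnn : ¬ (T : Subgroup G).Normal)
  {u : G} (hu : orderOf u = 2) (huH : u ∉ Subgroup.normalizer ((T : Subgroup G) : Set G))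

/-- an element of odd order squaring to one is trivial -/
theorem eq_one_of_odd_of_sq {K : Subgroup G} (hK : Odd (Nat.card K)) {d : G} (hd : d ∈ K) (h : d ^ 2 = 1) :
    d = 1 := by
  have h1 : orderOf d ∣ Nat.card K := by
    have := orderOf_dvd_natCard (⟨d, hd⟩ : K)
    rwa [Subgroup.orderOf_mk] at this
  have h2 : orderOf d ∣ 2 := orderOf_dvd_of_pow_eq_one h
  have h3 : Odd (orderOf d) := Odd.of_dvd_nat hK h1
  have h4 : orderOf d = 1 := by
    rcases (Nat.dvd_prime Nat.prime_two).mp h2 with h | h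
    · exact h
    · rw [h] at h3; exact absurd h3 (by decide)
  exact orderOf_eq_one_iff.mp h4

include hC hT hnn hu huH

theorem D_odd : Odd (Nat.card ↥(Subgroup.normalizer ((T : Subgroup G) : Set G) ⊓
    (Subgroup.normalizer ((T : Subgroup G) : Set G)).map (MulAut.conj u).toMonoidHom)) :=
  (normalizer_stronglyEmbedded T hC hT hnn).2.2 u huH

/-- `D ∩ T = 1`. -/
theorem D_inf_T {d : G} (hd : d ∈ Subgroup.normalizer ((T : Subgroup G) : Set G) ⊓
    (Subgroup.normalizer ((T : Subgroup G) : Set G)).map (MulAut.conj u).toMonoidHom)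
    (hdT : d ∈ (T : Subgroup G)) : d = 1 :=
  eq_one_of_odd_of_sq (D_odd T hC hT hnn hu huH) hd ((T_props T hC hT).2 d hdT)

/-- `u` inverts `D`. -/
theorem D_inverted {d : G} (hd : d ∈ Subgroup.normalizer ((T : Subgroup G) : Set G) ⊓
    (Subgroup.normalizer ((T : Subgroup G) : Set G)).map (MulAut.conj u).toMonoidHom) :
    u * d * u⁻¹ = d⁻¹ := by
  have huinv := inv_eq hu
  have hodd := D_odd T hC hT hnn hu huH
  have hnorm : ∀ x ∈ Subgroup.normalizer ((T : Subgroup G) : Set G) ⊓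
      (Subgroup.normalizer ((T : Subgroup G) : Set G)).map (MulAut.conj u).toMonoidHom,
      u * x * u⁻¹ ∈ Subgroup.normalizer ((T : Subgroup G) : Set G) ⊓
      (Subgroup.normalizer ((T : Subgroup G) : Set G)).map (MulAut.conj u).toMonoidHom := by
    intro x hx
    rw [Subgroup.mem_inf, Cfsg.Agent.Lib.H6.mem_map_conj_iff] at hx ⊢
    constructor
    · have := hx.2
      rw [huinv] at this ⊢
      exact this
    · have e : u⁻¹ * (u * x * u⁻¹) * u = x := by group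
      rw [e]; exact hx.1
  obtain ⟨h1, -, -⟩ := Cfsg.Agent.S1124.result u hu _ hodd hnorm
  obtain ⟨⟨p1, p2⟩, ⟨hp1, hp2, hp3⟩, -⟩ := h1 d hd
  simp only at hp1 hp2 hp3
  obtain ⟨hp1D, hp1C⟩ := Subgroup.mem_inf.mp hp1
  have hp1' : p1 = 1 := eq_one_of_odd_of_sq hodd hp1D ((hC u hu).2 p1 hp1C)
  rw [hp1', one_mul] at hp3
  rw [hp3]
  exact hp2.2

/-- `H = D T`. -/
theorem exists_D_T {s₀ : G} (hs₀ : orderOf s₀ = 2) (hs₀T : s₀ ∈ (T : Subgroup G)) {h : G}
    (hh : h ∈ Subgroup.normalizer ((T : Subgroup G) : Set G)) :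
    ∃ d ∈ Subgroup.normalizer ((T : Subgroup G) : Set G) ⊓
      (Subgroup.normalizer ((T : Subgroup G) : Set G)).map (MulAut.conj u).toMonoidHom,
      d * s₀ * d⁻¹ = h * s₀ * h⁻¹ ∧ d⁻¹ * h ∈ (T : Subgroup G) := by
  have hSE := normalizer_stronglyEmbedded T hC hT hnn
  have hs₀N : s₀ ∈ Subgroup.normalizer ((T : Subgroup G) : Set G) := Subgroup.le_normalizer hs₀T
  have h1 : h * s₀ * h⁻¹ ∈ Subgroup.normalizer ((T : Subgroup G) : Set G) :=
    Subgroup.mul_mem _ (Subgroup.mul_mem _ hh hs₀N) (Subgroup.inv_mem _ hh)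
  obtain ⟨d, hd, hds⟩ := Cfsg.Agent.S1225.exists_D_conj hSE hu huH hs₀ hs₀N (orderOf_conj hs₀ h) h1
  refine ⟨d, hd, hds, ?_⟩
  obtain ⟨-, hc⟩ := centralizer_eq T hC hT hs₀T (ne_one hs₀)
  rw [← hc, mem_centralizer_singleton]
  calc s₀ * (d⁻¹ * h) = d⁻¹ * (d * s₀ * d⁻¹) * h := by group
    _ = d⁻¹ * (h * s₀ * h⁻¹) * h := by rw [hds]
    _ = d⁻¹ * h * s₀ := by group

/-- `|H| = |D| |T|`. -/
theorem card_N : Nat.card (Subgroup.normalizer ((T : Subgroup G) : Set G)) =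
    Nat.card ↥(Subgroup.normalizer ((T : Subgroup G) : Set G) ⊓
      (Subgroup.normalizer ((T : Subgroup G) : Set G)).map (MulAut.conj u).toMonoidHom) *
      Nat.card (T : Subgroup G) := by
  obtain ⟨s₀, hs₀, hs₀T, -⟩ := exists_centralizer_eq T hC hT
  rw [← Nat.card_prod]
  symm
  apply Nat.card_congr
  refine Equiv.ofBijective (fun p => ⟨p.1.1 * p.2.1, Subgroup.mul_mem _ (Subgroup.mem_inf.mp p.1.2).1
    (Subgroup.le_normalizer p.2.2)⟩) ⟨?_, ?_⟩
  · rintro ⟨⟨d, hd⟩, ⟨t, ht⟩⟩ ⟨⟨d', hd'⟩, ⟨t', ht'⟩⟩ h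
    simp only [Subtype.mk.injEq] at h
    have h1 : d'⁻¹ * d = t' * t⁻¹ := by
      calc d'⁻¹ * d = d'⁻¹ * (d * t) * t⁻¹ := by group
        _ = d'⁻¹ * (d' * t') * t⁻¹ := by rw [h]
        _ = t' * t⁻¹ := by group
    have h2 : d'⁻¹ * d = 1 := by
      apply D_inf_T T hC hT hnn hu huH (Subgroup.mul_mem _ (Subgroup.inv_mem _ hd') hd)
      rw [h1]
      exact Subgroup.mul_mem _ ht' (Subgroup.inv_mem _ ht)
    have h3 : d = d' := by
      calc d = d' * (d'⁻¹ * d) := by group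
        _ = d' := by rw [h2, mul_one]
    subst h3
    have h4 : t = t' := mul_left_cancel h
    subst h4
    rfl
  · rintro ⟨h, hh⟩
    obtain ⟨d, hd, -, hdt⟩ := exists_D_T T hC hT hnn hu huH hs₀ hs₀T hh
    refine ⟨⟨⟨d, hd⟩, ⟨d⁻¹ * h, hdt⟩⟩, ?_⟩
    apply Subtype.ext
    show d * (d⁻¹ * h) = h
    group

/-- `|D| = |T| - 1`. -/
theorem card_D : Nat.card ↥(Subgroup.normalizer ((T : Subgroup G) : Set G) ⊓
      (Subgroup.normalizer ((T : Subgroup G) : Set G)).map (MulAut.conj u).toMonoidHom) =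
      Nat.card (T : Subgroup G) - 1 := by
  obtain ⟨s₀, hs₀, hs₀T, hc⟩ := exists_centralizer_eq T hC hT
  have hSE := normalizer_stronglyEmbedded T hC hT hnn
  have hs₀N : s₀ ∈ Subgroup.normalizer ((T : Subgroup G) : Set G) := Subgroup.le_normalizer hs₀T
  rw [← card_ne_one]
  apply Nat.card_congr
  have hmemT : ∀ d : ↥(Subgroup.normalizer ((T : Subgroup G) : Set G) ⊓
      (Subgroup.normalizer ((T : Subgroup G) : Set G)).map (MulAut.conj u).toMonoidHom),
      d.1 * s₀ * d.1⁻¹ ∈ (T : Subgroup G) := by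
    intro d
    apply mem_T_of_mem_normalizer T (orderOf_conj hs₀ d.1)
    have hdN := (Subgroup.mem_inf.mp d.2).1
    exact Subgroup.mul_mem _ (Subgroup.mul_mem _ hdN hs₀N) (Subgroup.inv_mem _ hdN)
  refine Equiv.ofBijective (fun d => ⟨⟨d.1 * s₀ * d.1⁻¹, hmemT d⟩, ?_⟩) ⟨?_, ?_⟩
  · intro h
    have := congrArg Subtype.val h
    simp only [Subgroup.coe_one] at this
    exact ne_one (orderOf_conj hs₀ d.1) this
  · rintro ⟨d, hd⟩ ⟨d', hd'⟩ h
    simp only [Subtype.mk.injEq] at h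
    have h1 : d'⁻¹ * d ∈ (T : Subgroup G) := by
      rw [← hc, mem_centralizer_singleton]
      calc s₀ * (d'⁻¹ * d) = d'⁻¹ * (d' * s₀ * d'⁻¹) * d := by group
        _ = d'⁻¹ * (d * s₀ * d⁻¹) * d := by rw [h]
        _ = d'⁻¹ * d * s₀ := by group
    have h2 := D_inf_T T hC hT hnn hu huH (Subgroup.mul_mem _ (Subgroup.inv_mem _ hd') hd) h1
    apply Subtype.ext
    show d = d'
    calc d = d' * (d'⁻¹ * d) := by group
      _ = d' := by rw [h2, mul_one]
  · rintro ⟨⟨t, htT⟩, ht1⟩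
    have ht1' : t ≠ 1 := fun h => ht1 (Subtype.ext h)
    obtain ⟨ht2, -⟩ := centralizer_eq T hC hT htT ht1'
    have htN : t ∈ Subgroup.normalizer ((T : Subgroup G) : Set G) := Subgroup.le_normalizer htT
    obtain ⟨d, hd, hds⟩ := Cfsg.Agent.S1225.exists_D_conj hSE hu huH hs₀ hs₀N ht2 htN
    refine ⟨⟨d, hd⟩, ?_⟩
    apply Subtype.ext
    apply Subtype.ext
    exact hds

end Cfsg.Agent.Lib.H6.CIT
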