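import Mathlib
import Cfsg.Agent.Lib.H6.CIT2

set_option autoImplicit false
set_option linter.unusedSectionVars false

namespace Cfsg.Agent.Lib.H6.CIT

open Cfsg.Agent.Lib.H6.SE

variable {G : Type*} [Group G]

theorem mem_D_iff (N : Subgroup G) (u d : G) :
    d ∈ N ⊓ N.map (MulAut.conj u).toMonoidHom ↔
      d • (QuotientGroup.mk 1 : G ⧸ N) = QuotientGroup.mk 1 ∧
      d • (QuotientGroup.mk u : G ⧸ N) = QuotientGroup.mk u := by
  rw [Subgroup.mem_inf, Cfsg.Agent.Lib.H6.mem_map_conj_iff, smul_mk_eq_iff, smul_mk_eq_iff]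
  simp

/-- a subgroup inverted elementwise by some element is commutative. -/
theorem comm_of_inverted {D : Subgroup G} {u : G} (h : ∀ d ∈ D, u * d * u⁻¹ = d⁻¹) :
    ∀ a ∈ D, ∀ b ∈ D, a * b = b * a := by
  intro a ha b hb
  have h1 := h (a * b) (D.mul_mem ha hb)
  have h2 : u * (a * b) * u⁻¹ = (u * a * u⁻¹) * (u * b * u⁻¹) := by group
  rw [h2, h a ha, h b hb] at h1
  -- a⁻¹ b⁻¹ = (a b)⁻¹ = b⁻¹ a⁻¹
  have h3 : a⁻¹ * b⁻¹ = b⁻¹ * a⁻¹ := by rw [h1]; group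
  calc a * b = (b⁻¹ * a⁻¹)⁻¹ := by group
    _ = (a⁻¹ * b⁻¹)⁻¹ := by rw [h3]
    _ = b * a := by group

variable [Finite G] (T : Sylow 2 G)
  (hC : ∀ t : G, orderOf t = 2 → IsMulCommutative (Subgroup.centralizer ({t} : Set G)) ∧
    ∀ c ∈ Subgroup.centralizer ({t} : Set G), c ^ 2 = 1)
  (hnc : ¬ IsCyclic (T : Subgroup G)) (hnn : ¬ (T : Subgroup G).Normal)
  {u : G} (hu : orderOf u = 2) (huH : u ∉ Subgroup.normalizer ((T : Subgroup G) : Set G))

omit [Finite G] in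
theorem T_ne_bot (hnc : ¬ IsCyclic (T : Subgroup G)) : (T : Subgroup G) ≠ ⊥ := by
  intro h
  apply hnc
  rw [h]
  exact isCyclic_of_subsingleton

include hC hnc hnn hu huH

/-- `D` is not trivial. -/
theorem exists_D_ne_one : ∃ d ∈ Subgroup.normalizer ((T : Subgroup G) : Set G) ⊓
    (Subgroup.normalizer ((T : Subgroup G) : Set G)).map (MulAut.conj u).toMonoidHom, d ≠ 1 := by
  have hT := T_ne_bot T hnc
  by_contra hcon
  push Not at hcon
  have h1 : Nat.card ↥(Subgroup.normalizer ((T : Subgroup G) : Set G) ⊓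
      (Subgroup.normalizer ((T : Subgroup G) : Set G)).map (MulAut.conj u).toMonoidHom) = 1 := by
    rw [Nat.card_eq_one_iff_unique]
    refine ⟨⟨fun a b => ?_⟩, ⟨1⟩⟩
    apply Subtype.ext
    rw [hcon a.1 a.2, hcon b.1 b.2]
  rw [card_D T hC hT hnn hu huH] at h1
  have h2 : Nat.card (T : Subgroup G) = 2 := by
    have : 0 < Nat.card (T : Subgroup G) := Nat.card_pos
    omega
  have : Fact (Nat.Prime 2) := ⟨Nat.prime_two⟩
  exact hnc (isCyclic_of_prime_card h2)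

/-- no element of `H` inverts `D`. -/
theorem no_invert {h : G} (hh : h ∈ Subgroup.normalizer ((T : Subgroup G) : Set G))
    (hinv : ∀ d ∈ Subgroup.normalizer ((T : Subgroup G) : Set G) ⊓
      (Subgroup.normalizer ((T : Subgroup G) : Set G)).map (MulAut.conj u).toMonoidHom,
      h * d * h⁻¹ = d⁻¹) : False := by
  have hT := T_ne_bot T hnc
  obtain ⟨s₀, hs₀, hs₀T, -⟩ := exists_centralizer_eq T hC hT
  obtain ⟨d₀, hd₀, -, ht₀⟩ := exists_D_T T hC hT hnn hu huH hs₀ hs₀T hh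
  have hcomm := comm_of_inverted (fun d hd => D_inverted T hC hT hnn hu huH hd)
  obtain ⟨d, hd, hd1⟩ := exists_D_ne_one T hC hnc hnn hu huH
  apply hd1
  have hodd := D_odd T hC hT hnn hu huH
  -- t₀ = d₀⁻¹ h inverts d
  have h1 : (d₀⁻¹ * h) * d * (d₀⁻¹ * h)⁻¹ = d⁻¹ := by
    have e : (d₀⁻¹ * h) * d * (d₀⁻¹ * h)⁻¹ = d₀⁻¹ * (h * d * h⁻¹) * d₀ := by group
    rw [e, hinv d hd]
    have := hcomm d₀⁻¹ (Subgroup.inv_mem _ hd₀) d⁻¹ (Subgroup.inv_mem _ hd)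
    rw [this]; group
  -- d⁻² ∈ T ∩ D
  have hdN : d ∈ Subgroup.normalizer ((T : Subgroup G) : Set G) := (Subgroup.mem_inf.mp hd).1
  have h2 : d⁻¹ * d⁻¹ ∈ (T : Subgroup G) := by
    have e : d⁻¹ * d⁻¹ = (d₀⁻¹ * h) * (d * (d₀⁻¹ * h)⁻¹ * d⁻¹) := by
      calc d⁻¹ * d⁻¹ = ((d₀⁻¹ * h) * d * (d₀⁻¹ * h)⁻¹) * d⁻¹ := by rw [h1]
        _ = (d₀⁻¹ * h) * (d * (d₀⁻¹ * h)⁻¹ * d⁻¹) := by group
    rw [e]
    apply Subgroup.mul_mem _ ht₀
    rw [Subgroup.mem_normalizer_iff] at hdN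
    exact (hdN _).mp (Subgroup.inv_mem _ ht₀)
  have h3 : d⁻¹ * d⁻¹ = 1 :=
    D_inf_T T hC hT hnn hu huH (Subgroup.mul_mem _ (Subgroup.inv_mem _ hd) (Subgroup.inv_mem _ hd)) h2
  apply eq_one_of_odd_of_sq hodd hd
  calc d ^ 2 = (d⁻¹ * d⁻¹)⁻¹ := by group
    _ = 1 := by rw [h3, inv_one]

/-- if `D` fixes the coset `p = u' • H ≠ H` (`u'` an involution), then `H ∩ u'Hu'⁻¹ = D`. -/
theorem D_eq_of_fix {u' : G} (hu' : orderOf u' = 2)
    (hu'x : u' • (QuotientGroup.mk 1 : G ⧸ Subgroup.normalizer ((T : Subgroup G) : Set G)) ≠ QuotientGroup.mk 1)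
    (hfix : ∀ d ∈ Subgroup.normalizer ((T : Subgroup G) : Set G) ⊓
      (Subgroup.normalizer ((T : Subgroup G) : Set G)).map (MulAut.conj u).toMonoidHom,
      d • (u' • (QuotientGroup.mk 1 : G ⧸ Subgroup.normalizer ((T : Subgroup G) : Set G))) =
        u' • (QuotientGroup.mk 1 : G ⧸ Subgroup.normalizer ((T : Subgroup G) : Set G))) :
    Subgroup.normalizer ((T : Subgroup G) : Set G) ⊓
      (Subgroup.normalizer ((T : Subgroup G) : Set G)).map (MulAut.conj u).toMonoidHom =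
    Subgroup.normalizer ((T : Subgroup G) : Set G) ⊓
      (Subgroup.normalizer ((T : Subgroup G) : Set G)).map (MulAut.conj u').toMonoidHom := by
  have hT := T_ne_bot T hnc
  have hu'H : u' ∉ Subgroup.normalizer ((T : Subgroup G) : Set G) := by
    intro h
    apply hu'x
    rw [smul_mk_eq_iff]
    simpa using h
  apply Subgroup.eq_of_le_of_card_ge
  · intro d hd
    rw [mem_D_iff]
    refine ⟨((mem_D_iff _ u d).mp hd).1, ?_⟩
    have := hfix d hd
    have e : u' • (QuotientGroup.mk 1 : G ⧸ Subgroup.normalizer ((T : Subgroup G) : Set G)) =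
        QuotientGroup.mk u' := by
      show QuotientGroup.mk (u' * 1) = _
      rw [mul_one]
    rwa [e] at this
  · rw [card_D T hC hT hnn hu huH, card_D T hC hT hnn hu' hu'H]

end Cfsg.Agent.Lib.H6.CIT
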