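import Mathlib
import Cfsg.Agent.Lib.H6.CIT3
import Cfsg.Agent.S1228
import Cfsg.Agent.Lib.H1.SchurZassenhaus

set_option autoImplicit false
open Pointwise

namespace Cfsg.Agent.Lib.H6.CIT

open Cfsg.Agent.Lib.H6.SE

variable {G : Type*} [Group G] [Finite G] (T : Sylow 2 G)
  (hC : ∀ t : G, orderOf t = 2 → IsMulCommutative (Subgroup.centralizer ({t} : Set G)) ∧
    ∀ c ∈ Subgroup.centralizer ({t} : Set G), c ^ 2 = 1)
  (hnc : ¬ IsCyclic (T : Subgroup G)) (hnn : ¬ (T : Subgroup G).Normal)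

omit [Finite G] in
theorem mk_one_smul (N : Subgroup G) (g : G) : g • (QuotientGroup.mk 1 : G ⧸ N) = QuotientGroup.mk g := by
  show QuotientGroup.mk (g * 1) = _
  rw [mul_one]

omit [Finite G] in
theorem mem_iff_fix (N : Subgroup G) (g : G) : g ∈ N ↔ g • (QuotientGroup.mk 1 : G ⧸ N) = QuotientGroup.mk 1 := by
  rw [smul_mk_eq_iff]
  simp

include hC hnc hnn

/-- there is an involution outside `N(T)`. -/
theorem exists_involution_not_mem :
    ∃ u : G, orderOf u = 2 ∧ u ∉ Subgroup.normalizer ((T : Subgroup G) : Set G) := by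
  have hT := T_ne_bot T hnc
  have hSE := normalizer_stronglyEmbedded T hC hT hnn
  obtain ⟨s₀, hs₀, hs₀T, -⟩ := exists_centralizer_eq T hC hT
  have hs₀N : s₀ ∈ Subgroup.normalizer ((T : Subgroup G) : Set G) := Subgroup.le_normalizer hs₀T
  have hne : Subgroup.normalizer ((T : Subgroup G) : Set G) ≠ ⊤ := hSE.1
  obtain ⟨g, hg⟩ : ∃ g : G, g ∉ Subgroup.normalizer ((T : Subgroup G) : Set G) := by
    by_contra hcon
    push Not at hcon
    exact hne ((Subgroup.eq_top_iff' _).mpr hcon)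
  refine ⟨g * s₀ * g⁻¹, orderOf_conj hs₀ g, ?_⟩
  intro h
  exact hg (mem_of_conj_mem' hSE hs₀ hs₀N h)

/-- every coset `≠ H` is `uH` for an involution `u ∉ H`. -/
theorem exists_involution_mk {p : G ⧸ Subgroup.normalizer ((T : Subgroup G) : Set G)}
    (hp : p ≠ QuotientGroup.mk 1) :
    ∃ u : G, orderOf u = 2 ∧ u ∉ Subgroup.normalizer ((T : Subgroup G) : Set G) ∧
      (QuotientGroup.mk u : G ⧸ Subgroup.normalizer ((T : Subgroup G) : Set G)) = p := by
  have hT := T_ne_bot T hnc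
  have hSE := normalizer_stronglyEmbedded T hC hT hnn
  obtain ⟨s₀, hs₀, hs₀T, -⟩ := exists_centralizer_eq T hC hT
  have hs₀N : s₀ ∈ Subgroup.normalizer ((T : Subgroup G) : Set G) := Subgroup.le_normalizer hs₀T
  induction p using QuotientGroup.induction_on with
  | H g =>
    have hix : s₀ • (QuotientGroup.mk 1 : G ⧸ Subgroup.normalizer ((T : Subgroup G) : Set G)) =
        QuotientGroup.mk 1 := (mem_iff_fix _ _).mp hs₀N
    have hjp : (g * s₀ * g⁻¹) • (QuotientGroup.mk g : G ⧸ Subgroup.normalizer ((T : Subgroup G) : Set G)) =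
        QuotientGroup.mk g := by
      rw [smul_mk_eq_iff]
      have e : g⁻¹ * (g * s₀ * g⁻¹) * g = s₀ := by group
      rw [e]; exact hs₀N
    obtain ⟨u', hu', -, hu'x, -⟩ := exists_swap hSE hs₀ (orderOf_conj hs₀ g) hix hjp (Ne.symm hp)
    rw [mk_one_smul] at hu'x
    refine ⟨u', hu', ?_, hu'x⟩
    intro h
    apply hp
    rw [← hu'x, ← mk_one_smul]
    exact (mem_iff_fix _ _).mp h

/-- `T D = N(T)`. -/
theorem T_sup_D {u : G} (hu : orderOf u = 2) (huH : u ∉ Subgroup.normalizer ((T : Subgroup G) : Set G)) :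
    (T : Subgroup G) ⊔ (Subgroup.normalizer ((T : Subgroup G) : Set G) ⊓
      (Subgroup.normalizer ((T : Subgroup G) : Set G)).map (MulAut.conj u).toMonoidHom) =
    Subgroup.normalizer ((T : Subgroup G) : Set G) := by
  have hT := T_ne_bot T hnc
  obtain ⟨s₀, hs₀, hs₀T, -⟩ := exists_centralizer_eq T hC hT
  apply le_antisymm
  · exact sup_le Subgroup.le_normalizer inf_le_left
  · intro h hh
    obtain ⟨d, hd, -, hdt⟩ := exists_D_T T hC hT hnn hu huH hs₀ hs₀T hh
    have e : h = d * (d⁻¹ * h) := by group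
    rw [e]
    exact Subgroup.mul_mem _ (Subgroup.mem_sup_right hd) (Subgroup.mem_sup_left hdt)

/-- any two of the subgroups `D_u` are conjugate under `T`. -/
theorem exists_T_conj_D {u u' : G} (hu : orderOf u = 2)
    (huH : u ∉ Subgroup.normalizer ((T : Subgroup G) : Set G)) (hu' : orderOf u' = 2)
    (hu'H : u' ∉ Subgroup.normalizer ((T : Subgroup G) : Set G)) :
    ∃ n ∈ (T : Subgroup G), MulAut.conj n • (Subgroup.normalizer ((T : Subgroup G) : Set G) ⊓
      (Subgroup.normalizer ((T : Subgroup G) : Set G)).map (MulAut.conj u).toMonoidHom) =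
      Subgroup.normalizer ((T : Subgroup G) : Set G) ⊓
      (Subgroup.normalizer ((T : Subgroup G) : Set G)).map (MulAut.conj u').toMonoidHom := by
  have hT := T_ne_bot T hnc
  have hodd := D_odd T hC hT hnn hu huH
  apply Cfsg.Agent.Lib.H1.sz_conj_internal (N := (T : Subgroup G)) inf_le_left inf_le_left
  · have h2 : ∃ k, Nat.card (T : Subgroup G) = 2 ^ k := by
      have : Fact (Nat.Prime 2) := ⟨Nat.prime_two⟩
      exact (IsPGroup.iff_card.mp T.2)
    obtain ⟨k, hk⟩ := h2
    rw [hk]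
    apply Nat.Coprime.pow_left
    exact (Nat.coprime_two_left).mpr hodd
  · rw [Subgroup.disjoint_def]
    intro x hxT hxD
    exact D_inf_T T hC hT hnn hu huH hxD hxT
  · rw [Subgroup.disjoint_def]
    intro x hxT hxD
    exact D_inf_T T hC hT hnn hu' hu'H hxD hxT
  · rw [T_sup_D T hC hnc hnn hu huH, T_sup_D T hC hnc hnn hu' hu'H]
  · left
    have hcomm := (T_props T hC hT).1
    exact Group.isSolvable_of_comm (fun a b => Subtype.ext (hcomm a.1 a.2 b.1 b.2))

/-- `T` is transitive on the cosets `≠ H`. -/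
theorem exists_T_smul {x y : G ⧸ Subgroup.normalizer ((T : Subgroup G) : Set G)}
    (hx : x ≠ QuotientGroup.mk 1) (hy : y ≠ QuotientGroup.mk 1) :
    ∃ n ∈ (T : Subgroup G), n • x = y := by
  obtain ⟨u, hu, huH, rfl⟩ := exists_involution_mk T hC hnc hnn hx
  obtain ⟨u', hu', hu'H, rfl⟩ := exists_involution_mk T hC hnc hnn hy
  obtain ⟨n, hn, hconj⟩ := exists_T_conj_D T hC hnc hnn hu huH hu' hu'H
  refine ⟨n, hn, ?_⟩
  have hfix : ∀ d ∈ Subgroup.normalizer ((T : Subgroup G) : Set G) ⊓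
      (Subgroup.normalizer ((T : Subgroup G) : Set G)).map (MulAut.conj u').toMonoidHom,
      d • (QuotientGroup.mk (n * u) : G ⧸ Subgroup.normalizer ((T : Subgroup G) : Set G)) =
        QuotientGroup.mk (n * u) := by
    intro d hd
    rw [← hconj, Cfsg.Agent.Lib.H1.mem_conj_smul_iff] at hd
    have e1 : (QuotientGroup.mk (n * u) : G ⧸ Subgroup.normalizer ((T : Subgroup G) : Set G)) =
        n • QuotientGroup.mk u := rfl
    rw [e1, ← mul_smul]
    have e2 : d * n = n * (n⁻¹ * d * n) := by group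
    rw [e2, mul_smul, ((mem_D_iff _ u _).mp hd).2]
  rcases (Cfsg.Agent.S1228.fixed_cosets T hC hnc hnn hu' hu'H (n * u)).mp hfix with h | h
  · exfalso
    apply huH
    have h1 : n * u ∈ Subgroup.normalizer ((T : Subgroup G) : Set G) := by
      rw [mem_iff_fix, mk_one_smul]; exact h
    have e : u = n⁻¹ * (n * u) := by group
    rw [e]
    exact Subgroup.mul_mem _ (Subgroup.inv_mem _ (Subgroup.le_normalizer hn)) h1
  · exact h

/-- a nontrivial element of `T` fixes only the coset `H`. -/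
theorem T_semiregular {t : G} (ht : t ∈ (T : Subgroup G)) (ht1 : t ≠ 1)
    {x : G ⧸ Subgroup.normalizer ((T : Subgroup G) : Set G)} (hx : t • x = x) :
    x = QuotientGroup.mk 1 := by
  have hT := T_ne_bot T hnc
  have hSE := normalizer_stronglyEmbedded T hC hT hnn
  obtain ⟨ht2, -⟩ := centralizer_eq T hC hT ht ht1
  exact fix_unique hSE ht2 hx ((mem_iff_fix _ _).mp (Subgroup.le_normalizer ht))

/-- an element fixing `H` and two further distinct cosets is trivial. -/
theorem eq_one_of_fix_three_base {g : G} {p q : G ⧸ Subgroup.normalizer ((T : Subgroup G) : Set G)}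
    (hp : p ≠ QuotientGroup.mk 1) (hq : q ≠ QuotientGroup.mk 1) (hpq : p ≠ q)
    (hg0 : g • (QuotientGroup.mk 1 : G ⧸ Subgroup.normalizer ((T : Subgroup G) : Set G)) = QuotientGroup.mk 1)
    (hgp : g • p = p) (hgq : g • q = q) : g = 1 := by
  have hT := T_ne_bot T hnc
  obtain ⟨u, hu, huH, rfl⟩ := exists_involution_mk T hC hnc hnn hp
  obtain ⟨n, hn, hnq⟩ := exists_T_smul T hC hnc hnn hp hq
  have hn1 : n ≠ 1 := by
    intro h
    rw [h, one_smul] at hnq
    exact hpq hnq
  have hnN : n ∈ Subgroup.normalizer ((T : Subgroup G) : Set G) := Subgroup.le_normalizer hn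
  have hgN : g ∈ Subgroup.normalizer ((T : Subgroup G) : Set G) := (mem_iff_fix _ _).mpr hg0
  have hgD : g ∈ Subgroup.normalizer ((T : Subgroup G) : Set G) ⊓
      (Subgroup.normalizer ((T : Subgroup G) : Set G)).map (MulAut.conj u).toMonoidHom := by
    rw [mem_D_iff]; exact ⟨hg0, hgp⟩
  have hg'D : n⁻¹ * g * n ∈ Subgroup.normalizer ((T : Subgroup G) : Set G) ⊓
      (Subgroup.normalizer ((T : Subgroup G) : Set G)).map (MulAut.conj u).toMonoidHom := by
    rw [mem_D_iff]
    constructor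
    · rw [← mem_iff_fix]
      exact Subgroup.mul_mem _ (Subgroup.mul_mem _ (Subgroup.inv_mem _ hnN) hgN) hnN
    · rw [mul_smul, mul_smul, hnq, hgq, ← hnq, ← mul_smul, inv_mul_cancel, one_smul]
  have h1 : g * (n⁻¹ * g * n)⁻¹ = 1 := by
    apply D_inf_T T hC hT hnn hu huH (Subgroup.mul_mem _ hgD (Subgroup.inv_mem _ hg'D))
    have e : g * (n⁻¹ * g * n)⁻¹ = n⁻¹ * (n * g * n⁻¹ * g⁻¹) * n := by group
    have e2 : n * g * n⁻¹ * g⁻¹ = n * (g * n⁻¹ * g⁻¹) := by group
    rw [e]
    refine Subgroup.mul_mem _ (Subgroup.mul_mem _ (Subgroup.inv_mem _ hn) ?_) hn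
    rw [e2]
    refine Subgroup.mul_mem _ hn ?_
    exact (Subgroup.mem_normalizer_iff.mp hgN n⁻¹).mp (Subgroup.inv_mem _ hn)
  have h2 : n * g = g * n := by
    have e : g = n⁻¹ * g * n := by
      calc g = g * (n⁻¹ * g * n)⁻¹ * (n⁻¹ * g * n) := by group
        _ = n⁻¹ * g * n := by rw [h1, one_mul]
    calc n * g = n * (n⁻¹ * g * n) := by rw [← e]
      _ = g * n := by group
  obtain ⟨-, hc⟩ := centralizer_eq T hC hT hn hn1
  have hgT : g ∈ (T : Subgroup G) := by
    rw [← hc, mem_centralizer_singleton]; exact h2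
  exact D_inf_T T hC hT hnn hu huH hgD hgT

/-- an element fixing three distinct cosets is trivial. -/
theorem eq_one_of_fix_three {g : G} {x₁ x₂ x₃ : G ⧸ Subgroup.normalizer ((T : Subgroup G) : Set G)}
    (h12 : x₁ ≠ x₂) (h13 : x₁ ≠ x₃) (h23 : x₂ ≠ x₃)
    (hg1 : g • x₁ = x₁) (hg2 : g • x₂ = x₂) (hg3 : g • x₃ = x₃) : g = 1 := by
  induction x₁ using QuotientGroup.induction_on with
  | H a =>
    have e0 : a⁻¹ • (QuotientGroup.mk a : G ⧸ Subgroup.normalizer ((T : Subgroup G) : Set G)) =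
        QuotientGroup.mk 1 := by
      show QuotientGroup.mk (a⁻¹ * a) = _
      rw [inv_mul_cancel]
    have key : a⁻¹ * g * a = 1 := by
      apply eq_one_of_fix_three_base T hC hnc hnn (p := a⁻¹ • x₂) (q := a⁻¹ • x₃)
      · rw [← e0]; intro h; exact h12 (smul_left_cancel _ h).symm
      · rw [← e0]; intro h; exact h13 (smul_left_cancel _ h).symm
      · intro h; exact h23 (smul_left_cancel _ h)
      · rw [← e0, mul_smul, mul_smul, ← mul_smul a, mul_inv_cancel, one_smul, hg1]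
      · rw [mul_smul, mul_smul, ← mul_smul a, mul_inv_cancel, one_smul, hg2]
      · rw [mul_smul, mul_smul, ← mul_smul a, mul_inv_cancel, one_smul, hg3]
    calc g = a * (a⁻¹ * g * a) * a⁻¹ := by group
      _ = 1 := by rw [key]; group

/-- `G` maps any ordered pair of distinct cosets to `(H, p)` for any `p ≠ H`. -/
theorem exists_smul_pair {x₁ x₂ p : G ⧸ Subgroup.normalizer ((T : Subgroup G) : Set G)}
    (h12 : x₁ ≠ x₂) (hp : p ≠ QuotientGroup.mk 1) :
    ∃ g : G, g • x₁ = QuotientGroup.mk 1 ∧ g • x₂ = p := by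
  induction x₁ using QuotientGroup.induction_on with
  | H a =>
    have e0 : a⁻¹ • (QuotientGroup.mk a : G ⧸ Subgroup.normalizer ((T : Subgroup G) : Set G)) =
        QuotientGroup.mk 1 := by
      show QuotientGroup.mk (a⁻¹ * a) = _
      rw [inv_mul_cancel]
    have h2 : a⁻¹ • x₂ ≠ QuotientGroup.mk 1 := by
      rw [← e0]; intro h; exact h12 (smul_left_cancel _ h).symm
    obtain ⟨n, hn, hnp⟩ := exists_T_smul T hC hnc hnn h2 hp
    refine ⟨n * a⁻¹, ?_, ?_⟩
    · rw [mul_smul, e0, ← mem_iff_fix]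
      exact Subgroup.le_normalizer hn
    · rw [mul_smul, hnp]

/-- `D_u` is transitive on the cosets other than `H` and `uH`. -/
theorem exists_D_smul {u : G} (hu : orderOf u = 2)
    (huH : u ∉ Subgroup.normalizer ((T : Subgroup G) : Set G))
    {q r : G ⧸ Subgroup.normalizer ((T : Subgroup G) : Set G)}
    (hq0 : q ≠ QuotientGroup.mk 1) (hqu : q ≠ QuotientGroup.mk u)
    (hr0 : r ≠ QuotientGroup.mk 1) (hru : r ≠ QuotientGroup.mk u) :
    ∃ d ∈ Subgroup.normalizer ((T : Subgroup G) : Set G) ⊓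
      (Subgroup.normalizer ((T : Subgroup G) : Set G)).map (MulAut.conj u).toMonoidHom,
      d • q = r := by
  have hT := T_ne_bot T hnc
  have hSE := normalizer_stronglyEmbedded T hC hT hnn
  have hu0 : (QuotientGroup.mk u : G ⧸ Subgroup.normalizer ((T : Subgroup G) : Set G)) ≠
      QuotientGroup.mk 1 := by
    intro h
    apply huH
    rw [mem_iff_fix, mk_one_smul]; exact h
  obtain ⟨tq, htq, htqq⟩ := exists_T_smul T hC hnc hnn hu0 hq0
  obtain ⟨tr, htr, htrr⟩ := exists_T_smul T hC hnc hnn hu0 hr0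
  have htq1 : tq ≠ 1 := by
    intro h; rw [h, one_smul] at htqq; exact hqu htqq.symm
  have htr1 : tr ≠ 1 := by
    intro h; rw [h, one_smul] at htrr; exact hru htrr.symm
  obtain ⟨hoq, -⟩ := centralizer_eq T hC hT htq htq1
  obtain ⟨hor, -⟩ := centralizer_eq T hC hT htr htr1
  obtain ⟨d, hd, hdc⟩ := Cfsg.Agent.S1225.exists_D_conj hSE hu huH hoq (Subgroup.le_normalizer htq)
    hor (Subgroup.le_normalizer htr)
  refine ⟨d, hd, ?_⟩
  rw [← htqq, ← htrr, ← mul_smul]
  have e : d * tq = (d * tq * d⁻¹) * d := by group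
  rw [e, hdc, mul_smul, ((mem_D_iff _ u _).mp hd).2]

end Cfsg.Agent.Lib.H6.CIT
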