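import Mathlib

/-!
# S4561 piece CYCQ: a quotient of prime order is cyclic of that order
-/

set_option autoImplicit false

namespace Cfsg.Agent.Lib.H6.GAG

/-- CYCQ.  A quotient of prime order `p` is `≃* Multiplicative (ZMod p)`. -/
theorem quotient_equiv_zmod {G : Type*} [Group G] (M : Subgroup G) [M.Normal] (p : ℕ) [Fact p.Prime]
    (hidx : M.index = p) : Nonempty ((G ⧸ M) ≃* Multiplicative (ZMod p)) := by
  have hp : p.Prime := Fact.out
  have hcard : Nat.card (G ⧸ M) = p := by
    rw [← Subgroup.index_eq_card]; exact hidx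
  have hcyc : IsCyclic (G ⧸ M) := isCyclic_of_prime_card hcard
  have e := zmodCyclicMulEquiv hcyc
  rw [hcard] at e
  exact ⟨e.symm⟩

end Cfsg.Agent.Lib.H6.GAG
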