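import Mathlib

/-!
# S4561 piece PRIMEIDX: a nontrivial finite solvable group has a normal subgroup of prime index
-/

set_option autoImplicit false

namespace Cfsg.Agent.Lib.H6.GAG

/-- a nontrivial finite abelian group has a subgroup of prime index -/
theorem exists_prime_index_of_comm {A : Type*} [CommGroup A] [Finite A] [Nontrivial A] :
    ∃ (M : Subgroup A) (p : ℕ), p.Prime ∧ M.index = p := by
  classical
  have hbt : (⊥ : Subgroup A) ≠ ⊤ := bot_ne_top
  obtain ⟨M, hM, -⟩ := (eq_top_or_exists_le_coatom (⊥ : Subgroup A)).resolve_left hbt
  have hfin : Finite (A ⧸ M) := inferInstance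
  have hcard : Nat.card (A ⧸ M) = M.index := (Subgroup.index_eq_card M).symm
  have hne : M.index ≠ 1 := fun h => hM.1 (Subgroup.index_eq_one.mp h)
  have hnt : Nontrivial (A ⧸ M) := by
    rw [← Finite.one_lt_card_iff_nontrivial, hcard]
    have : M.index ≠ 0 := Subgroup.index_ne_zero_of_finite
    omega
  have hsurj : Function.Surjective (QuotientGroup.mk' M) := QuotientGroup.mk'_surjective M
  have hsimple : IsSimpleGroup (A ⧸ M) :=
    { exists_pair_ne := hnt.exists_pair_ne
      eq_bot_or_eq_top_of_normal := by
        intro K _
        have hle : M ≤ K.comap (QuotientGroup.mk' M) := by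
          intro x hx
          rw [Subgroup.mem_comap]
          have : (QuotientGroup.mk' M) x = 1 := by
            rw [QuotientGroup.mk'_apply, QuotientGroup.eq_one_iff]; exact hx
          rw [this]; exact one_mem K
        rcases hM.le_iff.mp hle with h | h
        · right
          apply Subgroup.comap_injective hsurj
          rw [h, Subgroup.comap_top]
        · left
          apply Subgroup.comap_injective hsurj
          rw [h]
          ext x
          rw [Subgroup.mem_comap, Subgroup.mem_bot, QuotientGroup.mk'_apply, QuotientGroup.eq_one_iff] }
  refine ⟨M, M.index, ?_, rfl⟩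
  rw [← hcard]
  exact IsSimpleGroup.prime_card

/-- PRIMEIDX.  A nontrivial finite solvable group has a normal subgroup of prime index. -/
theorem exists_normal_prime_index {G : Type*} [Group G] [Finite G] [Group.IsSolvable G] [Nontrivial G] :
    ∃ (M : Subgroup G) (p : ℕ), M.Normal ∧ p.Prime ∧ M.index = p := by
  have hlt : commutator G < ⊤ := Group.IsSolvable.commutator_lt_top_of_nontrivial G
  have hfin : Finite (Abelianization G) := by unfold Abelianization; infer_instance
  have hnt : Nontrivial (Abelianization G) := by
    rw [← Finite.one_lt_card_iff_nontrivial]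
    have hcard : Nat.card (Abelianization G) = (commutator G).index := (Subgroup.index_eq_card _).symm
    rw [hcard]
    have h0 : (commutator G).index ≠ 0 := Subgroup.index_ne_zero_of_finite
    have h1 : (commutator G).index ≠ 1 := fun h => hlt.ne (Subgroup.index_eq_one.mp h)
    omega
  obtain ⟨M, p, hp, hM⟩ := exists_prime_index_of_comm (A := Abelianization G)
  have hsurj : Function.Surjective (Abelianization.of : G →* Abelianization G) :=
    QuotientGroup.mk'_surjective _
  refine ⟨M.comap Abelianization.of, p, inferInstance, hp, ?_⟩
  rw [Subgroup.index_comap_of_surjective M hsurj, hM]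

end Cfsg.Agent.Lib.H6.GAG
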