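import Mathlib
import Cfsg.Prelude.Def_Blocks
import Cfsg.Prelude.Def_Characters
import Cfsg.Agent.Lib.H23.GagDefs
import Cfsg.Agent.Lib.H6.GAGPICHAR
import Cfsg.Agent.Lib.H24.CharLinearMul

/-!
# S4561 piece THETA: the character `ϑ` of the base group of `Tw H₀ p` is irreducible
-/

set_option autoImplicit false
set_option linter.unusedSectionVars false

universe u

namespace Cfsg.Agent.Lib.H6.GAG

open Cfsg Cfsg.Agent.Lib.H23.Gag Cfsg.Agent.Lib.L0

variable {H₀ : Type u} [Group H₀] [Finite H₀] (p : ℕ) [Fact p.Prime]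

/-- the projection of the base group onto `H₀^p` -/
def baseF (H₀ : Type u) [Group H₀] (p : ℕ) : ↥(Tw.base H₀ p) →* (Cp p → H₀) where
  toFun x := x.1.f
  map_one' := rfl
  map_mul' := by
    intro x y
    have hx : x.1.s = 1 := x.2
    show (x.1 * y.1).f = x.1.f * y.1.f
    rw [Tw.mul_f, hx, inv_one]
    funext t
    simp

theorem baseF_surjective : Function.Surjective (baseF H₀ p) := by
  intro f
  exact ⟨⟨⟨f, 1, 0, 0⟩, rfl⟩, rfl⟩

/-- the projection of the base group onto the last coordinate -/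
def baseC (H₀ : Type u) [Group H₀] (p : ℕ) : ↥(Tw.base H₀ p) →* Multiplicative (ZMod p) where
  toFun x := Multiplicative.ofAdd x.1.c
  map_one' := rfl
  map_mul' := by
    intro x y
    have hx : x.1.s = 1 := x.2
    show Multiplicative.ofAdd (x.1 * y.1).c = Multiplicative.ofAdd x.1.c * Multiplicative.ofAdd y.1.c
    rw [Tw.mul_c, hx, ← ofAdd_add]
    simp

/-- THETA.  `ϑ` is an irreducible character of the base group. -/
theorem isIrrCharacter_theta (χ₀ : IrrCharacter H₀) :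
    IsIrrCharacter ↥(Tw.base H₀ p) (Tw.theta p (χ₀ : H₀ → ℂ)) := by
  have hp : p.Prime := Fact.out
  have : NeZero p := ⟨hp.ne_zero⟩
  have h1 : IsIrrCharacter (Cp p → H₀) (fun f => ∏ i, (χ₀ : H₀ → ℂ) (f i)) :=
    isIrrCharacter_piChar (χ₀ : H₀ → ℂ) χ₀.2
  have h2 : IsIrrCharacter ↥(Tw.base H₀ p) ((fun f : Cp p → H₀ => ∏ i, (χ₀ : H₀ → ℂ) (f i)) ∘ baseF H₀ p) :=
    isIrrCharacter_comp_of_surjective (baseF H₀ p) (baseF_surjective p) h1
  let μ : ↥(Tw.base H₀ p) →* ℂˣ :=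
    (((ZMod.stdAddChar (N := p)).toMonoidHom).comp (baseC H₀ p)).toHomUnits
  have h3 := Cfsg.Agent.Lib.H24.isIrrCharacter_mul_hom _ h2 μ
  convert h3 using 1
  funext x
  rfl

end Cfsg.Agent.Lib.H6.GAG
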