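import Mathlib
import Cfsg.Agent.Lib.H23.RVDefs
import Cfsg.Agent.Lib.H24.RVOINT
import Cfsg.Agent.Lib.H24.RVTRINT

/-!
# S4959 piece INT: `achi_isIntegral`
-/

set_option autoImplicit false

universe u

namespace Cfsg.Agent.Lib.H6.RV

open Cfsg Cfsg.Agent.Lib.H23 Cfsg.Agent.Lib.H23.RV
open scoped ComplexConjugate

section crit

variable {X : Type u} [Group X] [Finite X] (p : ℕ) [Fact p.Prime]

theorem achi_isIntegral (G : Subgroup X) (v : X)
    (ψ : ↥(G ⊓ Subgroup.centralizer ({v} : Set X)) → ℂ)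
    (hψc : IsClassFunction ↥(G ⊓ Subgroup.centralizer ({v} : Set X)) ψ)
    (hψO : OInt ↥(G ⊓ Subgroup.centralizer ({v} : Set X)) ψ)
    (χ : X → ℂ) (hχ : IsCharacter X χ) :
    IsIntegral ℤ ((Nat.card ↥(G ⊓ Subgroup.centralizer ({v} : Set X)) : ℂ)⁻¹ *
      ∑ᶠ h : ↥(G ⊓ Subgroup.centralizer ({v} : Set X)), ψ h * χ (v * (h : X))) := by
  classical
  obtain ⟨n, ρ, rfl⟩ := hχ
  set H : Subgroup X := G ⊓ Subgroup.centralizer ({v} : Set X) with hH
  letI : Fintype H := Fintype.ofFinite H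
  set σ : Representation ℂ H (Fin n → ℂ) := ρ.comp H.subtype with hσ
  set M : Module.End ℂ (Fin n → ℂ) := ρ v with hM
  have hcomm : ∀ g : H, M * σ g = σ g * M := by
    intro g
    have hg : (g : X) ∈ Subgroup.centralizer ({v} : Set X) := g.2.2
    have h1 : v * (g : X) = (g : X) * v := Subgroup.mem_centralizer_iff.mp hg v (Set.mem_singleton v)
    show ρ v * ρ (g : X) = ρ (g : X) * ρ v
    rw [← map_mul, ← map_mul, h1]
  have hMint : ∀ μ : ℂ, M.HasEigenvalue μ → IsIntegral ℤ μ := by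
    intro μ hμ
    obtain ⟨x, hx⟩ := hμ.exists_hasEigenvector
    have hk : 0 < orderOf v := orderOf_pos v
    have h1 : (M ^ orderOf v) x = μ ^ orderOf v • x := hx.pow_apply (orderOf v)
    have h2 : M ^ orderOf v = 1 := by
      rw [hM, ← map_pow, pow_orderOf_eq_one, map_one]
    rw [h2, Module.End.one_apply] at h1
    have h3 : μ ^ orderOf v = 1 := by
      have h4 : (μ ^ orderOf v - 1) • x = 0 := by
        rw [sub_smul, one_smul, ← h1, sub_self]
      rcases smul_eq_zero.mp h4 with h5 | h5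
      · exact sub_eq_zero.mp h5
      · exact absurd h5 hx.2
    exact IsIntegral.of_pow hk (by rw [h3]; exact isIntegral_one)
  have hF : OInt H (fun g => LinearMap.trace ℂ (Fin n → ℂ) (M * σ g)) :=
    Cfsg.Agent.Lib.H24.RV.oInt_trace_mul σ M hcomm hMint
  have hFeq : (fun g : H => LinearMap.trace ℂ (Fin n → ℂ) (M * σ g)) =
      fun g : H => ρ.character (v * (g : X)) := by
    funext g
    show LinearMap.trace ℂ (Fin n → ℂ) (ρ v * ρ (g : X)) = ρ.character (v * (g : X))
    rw [← map_mul]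
    rfl
  rw [hFeq] at hF
  have hprod := Cfsg.Agent.Lib.H24.RV.oInt_mul hψc hψO hF
  have hone : IsCharacter H (1 : H → ℂ) := by
    obtain ⟨m, τ, _, hτ⟩ := Cfsg.Agent.Lib.L0.isIrrCharacter_one (G := H)
    exact ⟨m, τ, hτ⟩
  have h1 := hprod 1 hone
  convert h1 using 1
  unfold classInner
  rw [finsum_eq_sum_of_fintype]
  congr 1
  refine Finset.sum_congr rfl fun g _ => ?_
  simp

end crit

end Cfsg.Agent.Lib.H6.RV
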