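import Mathlib
import Cfsg.Agent.Lib.H23.RVDefs
import Cfsg.Agent.Lib.H23.Ito
import Cfsg.Agent.Lib.H23.BlockLocal
import Cfsg.Agent.Lib.L0.PRegCongP
import Cfsg.Agent.Lib.L0.CharBasic

/-!
# S4959 piece NONVAN: `achi_ne_zero`
-/

set_option autoImplicit false

universe u

namespace Cfsg.Agent.Lib.H6.RV

open Cfsg Cfsg.Agent.Lib.H23 Cfsg.Agent.Lib.H23.RV
open scoped ComplexConjugate

section crit

variable {X : Type u} [Group X] [Finite X] (p : ℕ) [Fact p.Prime]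

theorem achi_ne_zero (V : Subgroup X) [V.Normal] (hVexp : ∀ v ∈ V, v ^ p = 1)
    (hidx : ¬ p ∣ V.index) (hself : Subgroup.centralizer (V : Set X) = V) (G : Subgroup X)
    (hGV : Subgroup.IsComplement' V G) (v : X) (hv : v ∈ V)
    (ψ : ↥(G ⊓ Subgroup.centralizer ({v} : Set X)) → ℂ) (hψ1 : ψ 1 = 1)
    (hψdiv : ∀ h : ↥(G ⊓ Subgroup.centralizer ({v} : Set X)), h ≠ 1 →
      ∃ ζ a b : ℂ, ζ ^ p = 1 ∧ IsIntegral ℤ a ∧ IsIntegral ℤ b ∧ ψ h = (1 - ζ) * a + (p : ℂ) * b)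
    (χ : X → ℂ) (hχ : IsIrrCharacter X χ) :
    (∑ᶠ h : ↥(G ⊓ Subgroup.centralizer ({v} : Set X)), ψ h * χ (v * (h : X))) ≠ 0 := by
  classical
  have hp : p.Prime := Fact.out
  obtain ⟨M, hM⟩ := Cfsg.Agent.Lib.L0.PRegP.exists_isPModular hp
  haveI hP : M.IsPrime := isPrime_of_isPModular hM
  have hχc : IsCharacter X χ := Cfsg.Agent.Lib.L0.isCharacter_of_irr hχ
  letI : Fintype X := Fintype.ofFinite X
  letI : Fintype ↥(G ⊓ Subgroup.centralizer ({v} : Set X)) := Fintype.ofFinite _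
  -- Ito: χ 1 = d, d ∣ |X : V|
  have hVab : ∀ a ∈ V, ∀ b ∈ V, a * b = b * a := by
    intro a ha b hb
    have hb' : b ∈ Subgroup.centralizer (V : Set X) := by rw [hself]; exact hb
    exact Subgroup.mem_centralizer_iff.mp hb' a ha
  obtain ⟨d, hd1, hdV⟩ := ito_char V hVab hχ
  have hpd : ¬ p ∣ d := fun h => hidx (h.trans hdV)
  -- χ v ≡ χ 1
  have hcong : MemLocalIdeal M (χ v - χ 1) := by
    have hpp : IsPPart p v v := by
      refine ⟨1, mul_one v, Commute.one_right v, ?_, ?_⟩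
      · have h1 : orderOf v ∣ p := orderOf_dvd_of_pow_eq_one (hVexp v hv)
        rcases (Nat.dvd_prime hp).mp h1 with h2 | h2
        · exact ⟨0, by rw [h2, pow_zero]⟩
        · exact ⟨1, by rw [h2, pow_one]⟩
      · rw [orderOf_one]
        exact fun h => hp.one_lt.ne' (Nat.dvd_one.mp h)
    have := Cfsg.Agent.Lib.L0.PReg.char_ppart_congr hM hχc hpp
    rwa [inv_mul_cancel] at this
  -- values of χ are in the local ring
  have hloc : ∀ x : X, MemLocalRing M (χ x) := fun x =>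
    memLocalRing_coe hP.ne_top ⟨χ x, Cfsg.Agent.Lib.L0.isCharacter_isIntegral hχc x⟩
  -- ψ h ∈ local ideal for h ≠ 1
  have hψM : ∀ h : ↥(G ⊓ Subgroup.centralizer ({v} : Set X)), h ≠ 1 → MemLocalIdeal M (ψ h) := by
    intro h hh
    obtain ⟨ζ, a, b, hζ, ha, hb, hψ⟩ := hψdiv h hh
    rw [hψ]
    have hζi : IsIntegral ℤ ζ :=
      IsIntegral.of_pow hp.pos (by rw [hζ]; exact isIntegral_one)
    have h1 : (1 : AlgInt) - ⟨ζ, hζi⟩ ∈ M := by
      apply Cfsg.Agent.Lib.L0.PReg.mem_of_pow_sub_pow_mem hM 1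
      have : (⟨ζ, hζi⟩ : AlgInt) ^ p ^ 1 = 1 := by
        apply Subtype.ext
        push_cast
        rw [pow_one, hζ]
      rw [this, one_pow, sub_self]
      exact M.zero_mem
    have h2 : MemLocalIdeal M (1 - ζ) := by
      have := (memLocalIdeal_coe_iff (M := M) ((1 : AlgInt) - ⟨ζ, hζi⟩)).2 h1
      simpa using this
    refine memLocalIdeal_add ?_ ?_
    · exact memLocalIdeal_mul_right h2 (memLocalRing_coe hP.ne_top ⟨a, ha⟩)
    · exact memLocalIdeal_mul_right (memLocalIdeal_p hM) (memLocalRing_coe hP.ne_top ⟨b, hb⟩)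
  intro hzero
  rw [finsum_eq_sum_of_fintype] at hzero
  rw [← Finset.add_sum_erase Finset.univ _ (Finset.mem_univ
    (1 : ↥(G ⊓ Subgroup.centralizer ({v} : Set X))))] at hzero
  have hR : MemLocalIdeal M (∑ h ∈ (Finset.univ.erase
      (1 : ↥(G ⊓ Subgroup.centralizer ({v} : Set X)))), ψ h * χ (v * (h : X))) := by
    refine memLocalIdeal_sum _ _ fun h hh => ?_
    exact memLocalIdeal_mul_right (hψM h (Finset.ne_of_mem_erase hh)) (hloc _)
  rw [hψ1, one_mul, Subgroup.coe_one, mul_one] at hzero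
  have hχv : MemLocalIdeal M (χ v) := by
    have : χ v = -(∑ h ∈ (Finset.univ.erase
      (1 : ↥(G ⊓ Subgroup.centralizer ({v} : Set X)))), ψ h * χ (v * (h : X))) :=
      eq_neg_of_add_eq_zero_left hzero
    rw [this]
    exact memLocalIdeal_neg hR
  have hχ1 : MemLocalIdeal M (χ 1) := by
    have : χ 1 = χ v - (χ v - χ 1) := by ring
    rw [this]
    exact memLocalIdeal_sub hχv hcong
  rw [hd1] at hχ1
  exact hpd ((natCast_memLocalIdeal_iff hM d).1 hχ1)

end crit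

end Cfsg.Agent.Lib.H6.RV
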