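import Mathlib
import Cfsg.Agent.Lib.H15.HigBasic
import Cfsg.Agent.Lib.H15.HigVPINV
import Cfsg.Agent.Lib.H6.HigXV0
import Cfsg.Agent.Lib.H16.HigALG
import Cfsg.Agent.Lib.H16.HigCOMM

/-!
# S3050 piece XLE (L9): `X ≤ Vp`  (twin)
-/

set_option autoImplicit false

namespace Cfsg.Agent.Lib.H6.Hig

open Cfsg.Agent.Lib.H15.Hig

section abstract
variable {K : Type*} [Field K] [CharP K 2] {V : Type*} [AddCommGroup V] (O : Ops K V)

theorem X_le_Vp (hg : Good K V) : X O ≤ Vp O := by
  intro m hm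
  letI : Module K (V0 O) := modV0 O hg
  have hp : ∀ b, O.U b m - m ∈ V0 O := fun b => sub_mem_V0_of_mem_X O hg hm b
  have hs : m + m ∈ V0 O := Cfsg.Agent.Lib.H16.Hig.two_mem_V0 O hg hm
  let P : K → V0 O := fun b => ⟨O.U b m - m, hp b⟩
  let S : V0 O := ⟨m + m, hs⟩
  have hPadd : ∀ a b, P (a + b) = P a + P b := by
    intro a b
    apply Subtype.ext
    exact sub_add_of_mem_X O hg hm a b
  have hP0 : P 0 = 0 := by
    apply Subtype.ext
    show O.U 0 m - m = 0
    rw [O.U_zero, sub_self]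
  let θ : K →+ V0 O :=
    { toFun := fun a => P a + a • P 1 + a • S
      map_zero' := by
        show P 0 + (0 : K) • P 1 + (0 : K) • S = 0
        rw [zero_smul, zero_smul, add_zero, add_zero, hP0]
      map_add' := by
        intro a b
        show P (a + b) + (a + b) • P 1 + (a + b) • S =
          (P a + a • P 1 + a • S) + (P b + b • P 1 + b • S)
        rw [hPadd, add_smul, add_smul]
        abel }
  have hθ : ∀ a, θ a = P a + a • P 1 + a • S := fun a => rfl
  have h2 : ∀ x : V0 O, x + x = 0 := fun x => Subtype.ext (add_self_of_mem_V0 O hg x.2)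
  have hθ1 : θ 1 = S := by
    rw [hθ, one_smul, one_smul, h2, zero_add]
  have hcoe : ∀ (c : K), c ≠ 0 → ∀ x : V0 O, ((c • x : V0 O) : V) = O.H c x :=
    fun c hc x => coe_smul_V0 O hg hc x
  have hi : ∀ a : K, a ≠ 0 → θ 1 = a • θ (a⁻¹ ^ 2) + θ a⁻¹ + θ a := by
    intro a ha
    have hcomm : a • S + S = a • P (a⁻¹ ^ 2) + P a⁻¹ + P a + a • P 1 := by
      apply Subtype.ext
      rw [AddSubgroup.coe_add, AddSubgroup.coe_add, AddSubgroup.coe_add, AddSubgroup.coe_add,
        hcoe a ha, hcoe a ha, hcoe a ha]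
      exact Cfsg.Agent.Lib.H16.Hig.comm_identity O hg hm ha
    have hmul : a * a⁻¹ ^ 2 = a⁻¹ := by field_simp
    rw [hθ1, hθ, hθ, hθ, smul_add, smul_add, smul_smul, smul_smul, hmul]
    linear_combination (norm := abel) hcomm - h2 (a • S) - h2 (a⁻¹ • P 1) - h2 (a⁻¹ • S)
  have hzero := Cfsg.Agent.Lib.H16.Hig.theta_eq_zero hg.big hg.sq θ hi
  have hS0 : S = 0 := by rw [← hθ1]; exact hzero 1
  have hPa : ∀ a, a ≠ 0 → O.U a m - m = O.H a (O.U 1 m - m) := by
    intro a ha
    have h1 := hzero a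
    rw [hθ, hS0, smul_zero, add_zero] at h1
    have h3 : P a = a • P 1 := by
      linear_combination (norm := abel) h1 - h2 (a • P 1)
    have h4 := congrArg (fun x : V0 O => (x : V)) h3
    simp only [hcoe a ha] at h4
    exact h4
  -- the element `m' = m + W p(1)` is fixed
  have hm' : m + O.W (O.U 1 m - m) ∈ V0 O := by
    intro a
    by_cases ha : a = 0
    · rw [ha, O.U_zero]
    · have h5 := hPa a ha
      have h6 := add_self_of_mem_V0 O hg (H_mem_V0 O ha (hp 1))
      rw [map_add, U_W_of_mem_V0' O hg ha (hp 1)]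
      linear_combination (norm := abel) h5 + h6
  refine (mem_Vp O).2 ⟨m + O.W (O.U 1 m - m), hm', -(O.U 1 m - m), (V0 O).neg_mem (hp 1), ?_⟩
  rw [map_neg]
  abel

end abstract

end Cfsg.Agent.Lib.H6.Hig
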