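import Mathlib
import Cfsg.Agent.Lib.H15.HigBasic
import Cfsg.Agent.Lib.H15.HigVPINV
import Cfsg.Agent.Lib.H6.HigXLE

/-!
# S3050 piece TOP (L10): `Vp = ⊤`
-/

set_option autoImplicit false

namespace Cfsg.Agent.Lib.H6.Hig

open Cfsg.Agent.Lib.H15.Hig

section abstract
variable {K : Type*} [Field K] [CharP K 2] {V : Type*} [AddCommGroup V] (O : Ops K V)

theorem Vp_eq_top [Finite K] [Finite V] (hg : Good K V) : Vp O = ⊤ := by
  classical
  by_contra hne
  have hcomap : ∀ a : K, Vp O ≤ (Vp O).comap (O.U a) := fun a m hm => U_mem_Vp O hg a hm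
  letI : MulAction (Multiplicative K) (V ⧸ Vp O) :=
    { smul := fun a q => QuotientAddGroup.map (Vp O) (Vp O) (O.U a.toAdd) (hcomap _) q
      one_smul := by
        intro q
        induction q using QuotientAddGroup.induction_on with
        | H m =>
          show QuotientAddGroup.map (Vp O) (Vp O) (O.U (0 : K)) (hcomap _) (m : V ⧸ Vp O) = m
          rw [QuotientAddGroup.map_mk, O.U_zero]
      mul_smul := by
        intro a b q
        induction q using QuotientAddGroup.induction_on with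
        | H m =>
          show QuotientAddGroup.map (Vp O) (Vp O) (O.U (a.toAdd + b.toAdd)) (hcomap _)
              (m : V ⧸ Vp O) =
            QuotientAddGroup.map (Vp O) (Vp O) (O.U a.toAdd) (hcomap _)
              (QuotientAddGroup.map (Vp O) (Vp O) (O.U b.toAdd) (hcomap _) (m : V ⧸ Vp O))
          rw [QuotientAddGroup.map_mk, QuotientAddGroup.map_mk, QuotientAddGroup.map_mk, O.U_add] }
  have hsmul : ∀ (a : Multiplicative K) (m : V),
      a • (m : V ⧸ Vp O) = ((O.U a.toAdd m : V) : V ⧸ Vp O) := fun a m => rfl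
  have hP : IsPGroup 2 (Multiplicative K) := by
    intro g
    refine ⟨1, ?_⟩
    rw [pow_one]
    show Multiplicative.ofAdd (2 • g.toAdd) = 1
    have : (2 : ℕ) • g.toAdd = 0 := by
      rw [two_nsmul]; exact CharTwo.add_self_eq_zero _
    rw [this]; rfl
  haveI : Fact (Nat.Prime 2) := ⟨Nat.prime_two⟩
  -- the quotient is a nontrivial 2-group
  obtain ⟨m₀, hm₀⟩ : ∃ m : V, m ∉ Vp O := by
    by_contra hcon
    push Not at hcon
    exact hne (eq_top_iff.2 fun m _ => hcon m)
  have hQ2 : IsPGroup 2 (Multiplicative (V ⧸ Vp O)) := by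
    intro g
    obtain ⟨m, hm⟩ := QuotientAddGroup.mk_surjective (s := Vp O) g.toAdd
    obtain ⟨k, hk⟩ := hg.tors m
    refine ⟨k, ?_⟩
    show Multiplicative.ofAdd ((2 ^ k) • g.toAdd) = 1
    have : (2 ^ k) • g.toAdd = 0 := by
      rw [← hm]
      show (((2 ^ k) • m : V) : V ⧸ Vp O) = 0
      rw [hk]; rfl
    rw [this]; rfl
  have hdvd : 2 ∣ Nat.card (V ⧸ Vp O) := by
    obtain ⟨n, hn⟩ := (IsPGroup.iff_card (p := 2) (G := Multiplicative (V ⧸ Vp O))).1 hQ2
    have hn' : Nat.card (V ⧸ Vp O) = 2 ^ n := hn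
    have hn0 : n ≠ 0 := by
      rintro rfl
      rw [pow_zero] at hn'
      have hsub : Subsingleton (V ⧸ Vp O) := (Nat.card_eq_one_iff_unique.1 hn').1
      have : ((m₀ : V) : V ⧸ Vp O) = 0 := Subsingleton.elim _ _
      exact hm₀ ((QuotientAddGroup.eq_zero_iff m₀).1 this)
    rw [hn']
    exact dvd_pow_self 2 hn0
  have h0 : (0 : V ⧸ Vp O) ∈ MulAction.fixedPoints (Multiplicative K) (V ⧸ Vp O) := by
    intro a
    show a • (((0 : V)) : V ⧸ Vp O) = ((0 : V) : V ⧸ Vp O)
    rw [hsmul, map_zero]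
  obtain ⟨b, hb, hb0⟩ := hP.exists_fixed_point_of_prime_dvd_card_of_fixed_point
    (V ⧸ Vp O) hdvd h0
  obtain ⟨m, rfl⟩ := QuotientAddGroup.mk_surjective (s := Vp O) b
  have hmVp : m ∉ Vp O := by
    intro hm
    apply hb0
    exact ((QuotientAddGroup.eq_zero_iff m).2 hm).symm
  have hmX : m ∈ X O := by
    intro a
    have h1 := hb (Multiplicative.ofAdd a)
    rw [hsmul] at h1
    have h1' : ((O.U a m : V) : V ⧸ Vp O) = (m : V ⧸ Vp O) := h1
    have h2 : ((O.U a m - m : V) : V ⧸ Vp O) = 0 := by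
      rw [QuotientAddGroup.mk_sub, h1']
      exact sub_self _
    exact (QuotientAddGroup.eq_zero_iff _).1 h2
  exact hmVp (X_le_Vp O hg hmX)

end abstract

end Cfsg.Agent.Lib.H6.Hig
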