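import Mathlib
import Cfsg.Agent.Lib.H15.HigBasic
import Cfsg.Agent.Lib.H15.HigVPINV
import Cfsg.Agent.Lib.H6.HigTOP

/-!
# S3050 piece PAIR1 (Lemma C, first half): equivariant biadditive pairings vanish on `V0 × V0`
-/

set_option autoImplicit false

namespace Cfsg.Agent.Lib.H6.Hig

open Cfsg.Agent.Lib.H15.Hig

section abstract
variable {K : Type*} [Field K] [CharP K 2] {V : Type*} [AddCommGroup V] (O : Ops K V)

section pairing
variable {N : Type*} [AddCommGroup N] (ON : Ops K N)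

/-- If `U a n = g a + n` with `g a ∈ V0` for all `a ≠ 0`, then `g a = H a (g 1)`. -/
theorem key_of_U_eq (hgN : Good K N) {n : N} {g : K → N} (hg0 : ∀ a, a ≠ 0 → g a ∈ V0 ON)
    (hU : ∀ a, a ≠ 0 → ON.U a n = g a + n) : ∀ a, a ≠ 0 → g a = ON.H a (g 1) := by
  have hnX : n ∈ X ON := by
    intro a
    by_cases ha : a = 0
    · rw [ha, ON.U_zero, sub_self]; exact (Vp ON).zero_mem
    · rw [hU a ha, add_sub_cancel_right]
      exact V0_le_Vp ON (hg0 a ha)
  obtain ⟨n0, hn0, n1, hn1, hn⟩ := (mem_Vp ON).1 (X_le_Vp ON hgN hnX)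
  have h1 : ∀ a, a ≠ 0 → g a = ON.H a n1 := by
    intro a ha
    have h2 := hU a ha
    rw [← hn, U_add_W ON hgN ha hn0 hn1] at h2
    linear_combination (norm := abel) (-1 : ℤ) • h2
  intro a ha
  rw [h1 a ha, h1 1 one_ne_zero, ON.H_one]

theorem pairing_zero_left (c : V → V → N) (hadd1 : ∀ x y z, c (x + y) z = c x z + c y z)
    (y : V) : c 0 y = 0 := by
  have := hadd1 0 0 y
  rw [add_zero] at this
  linear_combination (norm := abel) (-1 : ℤ) • this

theorem pairing_zero_right (c : V → V → N) (hadd2 : ∀ x y z, c x (y + z) = c x y + c x z)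
    (x : V) : c x 0 = 0 := by
  have := hadd2 x 0 0
  rw [add_zero] at this
  linear_combination (norm := abel) (-1 : ℤ) • this

theorem pairing_mem_V0 (c : V → V → N)
    (hU : ∀ a x y, c (O.U a x) (O.U a y) = ON.U a (c x y)) {x y : V} (hx : x ∈ V0 O)
    (hy : y ∈ V0 O) : c x y ∈ V0 ON := by
  intro a
  rw [← hU a x y, hx a, hy a]

theorem pairing_V0_V0 [Finite K] [Finite V] [Finite N] (hg : Good K V) (hgN : Good K N)
    (c : V → V → N)
    (hadd1 : ∀ x y z, c (x + y) z = c x z + c y z)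
    (hadd2 : ∀ x y z, c x (y + z) = c x y + c x z)
    (hU : ∀ a x y, c (O.U a x) (O.U a y) = ON.U a (c x y))
    (hW : ∀ x y, c (O.W x) (O.W y) = ON.W (c x y))
    (hH : ∀ a, a ≠ 0 → ∀ x y, c (O.H a x) (O.H a y) = ON.H a (c x y)) :
    ∀ x ∈ V0 O, ∀ y ∈ V0 O, c x y = 0 := by
  -- second variable
  have hsnd : ∀ x ∈ V0 O, ∀ y ∈ V0 O, ∀ a, a ≠ 0 → c x (O.H a y) = ON.H a (c x y) := by
    intro x hx y hy a ha
    have := key_of_U_eq ON hgN (n := c x (O.W y)) (g := fun a => c x (O.H a y))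
      (fun a ha => pairing_mem_V0 O ON c hU hx (H_mem_V0 O ha hy))
      (fun a ha => by
        show ON.U a (c x (O.W y)) = c x (O.H a y) + c x (O.W y)
        rw [← hU a x (O.W y), hx a, U_W_of_mem_V0' O hg ha hy, hadd2]) a ha
    simpa [O.H_one] using this
  -- first variable
  have hfst : ∀ x ∈ V0 O, ∀ y ∈ V0 O, ∀ a, a ≠ 0 → c (O.H a x) y = ON.H a (c x y) := by
    intro x hx y hy a ha
    have := key_of_U_eq ON hgN (n := c (O.W x) y) (g := fun a => c (O.H a x) y)
      (fun a ha => pairing_mem_V0 O ON c hU (H_mem_V0 O ha hx) hy)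
      (fun a ha => by
        show ON.U a (c (O.W x) y) = c (O.H a x) y + c (O.W x) y
        rw [← hU a (O.W x) y, hy a, U_W_of_mem_V0' O hg ha hx, hadd1]) a ha
    simpa [O.H_one] using this
  intro x hx y hy
  have hz0 : c x y ∈ V0 ON := pairing_mem_V0 O ON c hU hx hy
  have hfix : ∀ a, a ≠ 0 → ON.H a (c x y) = c x y := by
    intro a ha
    have h1 : ON.H a (c x y) = ON.H a (ON.H a (c x y)) := by
      calc ON.H a (c x y) = c (O.H a x) (O.H a y) := (hH a ha x y).symm
        _ = ON.H a (c x (O.H a y)) := hfst x hx (O.H a y) (H_mem_V0 O ha hy) a ha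
        _ = ON.H a (ON.H a (c x y)) := by rw [hsnd x hx y hy a ha]
    exact (H_injective ON ha h1).symm
  obtain ⟨a, ha0, ha1⟩ := hg.big
  have ha10 : a + 1 ≠ 0 := by
    intro h
    apply ha1
    have : a = -1 := by linear_combination h
    rw [this, CharTwo.neg_eq]
  have h2 := H_add_of_mem_V0 ON hgN ha0 one_ne_zero ha10 hz0
  rw [hfix a ha0, hfix 1 one_ne_zero, hfix (a + 1) ha10] at h2
  linear_combination (norm := abel) (-1 : ℤ) • h2

end pairing

end abstract

end Cfsg.Agent.Lib.H6.Hig
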