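import Mathlib
import Cfsg.Agent.Lib.H15.HigBasic
import Cfsg.Agent.Lib.H15.HigVPINV
import Cfsg.Agent.Lib.H6.HigTOP
import Cfsg.Agent.Lib.H6.HigPAIR1

/-!
# S3050 piece PAIR2 (Lemma C): equivariant biadditive pairings vanish
-/

set_option autoImplicit false

namespace Cfsg.Agent.Lib.H6.Hig

open Cfsg.Agent.Lib.H15.Hig

section abstract
variable {K : Type*} [Field K] [CharP K 2] {V : Type*} [AddCommGroup V] (O : Ops K V)

section pairing
variable {N : Type*} [AddCommGroup N] (ON : Ops K N)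

theorem pairing_eq_zero [Finite K] [Finite V] [Finite N] (hg : Good K V) (hgN : Good K N)
    (c : V → V → N)
    (hadd1 : ∀ x y z, c (x + y) z = c x z + c y z)
    (hadd2 : ∀ x y z, c x (y + z) = c x y + c x z)
    (hU : ∀ a x y, c (O.U a x) (O.U a y) = ON.U a (c x y))
    (hW : ∀ x y, c (O.W x) (O.W y) = ON.W (c x y))
    (hH : ∀ a, a ≠ 0 → ∀ x y, c (O.H a x) (O.H a y) = ON.H a (c x y)) :
    ∀ x y, c x y = 0 := by
  have h00 := pairing_V0_V0 O ON hg hgN c hadd1 hadd2 hU hW hH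
  -- `c x (W y) ∈ V0` and `c (W x) y ∈ V0` for `x, y ∈ V0`
  have h01mem : ∀ x ∈ V0 O, ∀ y ∈ V0 O, c x (O.W y) ∈ V0 ON := by
    intro x hx y hy a
    by_cases ha : a = 0
    · rw [ha, ON.U_zero]
    · rw [← hU a x (O.W y), hx a, U_W_of_mem_V0' O hg ha hy, hadd2,
        h00 x hx _ (H_mem_V0 O ha hy), zero_add]
  have h10mem : ∀ x ∈ V0 O, ∀ y ∈ V0 O, c (O.W x) y ∈ V0 ON := by
    intro x hx y hy a
    by_cases ha : a = 0
    · rw [ha, ON.U_zero]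
    · rw [← hU a (O.W x) y, hy a, U_W_of_mem_V0' O hg ha hx, hadd1,
        h00 _ (H_mem_V0 O ha hx) y hy, zero_add]
  have hinf := V0_inf_V1 ON hgN.tors
  have h01 : ∀ x ∈ V0 O, ∀ y ∈ V0 O, c x (O.W y) = 0 := by
    intro x hx y hy
    have h1 : c x (O.W y) ∈ V0 ON := h01mem x hx y hy
    have h2 : c x (O.W y) ∈ V1 ON := by
      refine (mem_V1 ON).2 ⟨c (O.W x) y, h10mem x hx y hy, ?_⟩
      rw [← hW, O.W_W]
    have : c x (O.W y) ∈ V0 ON ⊓ V1 ON := ⟨h1, h2⟩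
    rw [hinf] at this
    exact this
  have h10 : ∀ x ∈ V0 O, ∀ y ∈ V0 O, c (O.W x) y = 0 := by
    intro x hx y hy
    have h1 : c (O.W x) y ∈ V0 ON := h10mem x hx y hy
    have h2 : c (O.W x) y ∈ V1 ON := by
      refine (mem_V1 ON).2 ⟨c x (O.W y), h01mem x hx y hy, ?_⟩
      rw [← hW, O.W_W]
    have : c (O.W x) y ∈ V0 ON ⊓ V1 ON := ⟨h1, h2⟩
    rw [hinf] at this
    exact this
  have h11 : ∀ x ∈ V0 O, ∀ y ∈ V0 O, c (O.W x) (O.W y) = 0 := by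
    intro x hx y hy
    rw [hW, h00 x hx y hy, map_zero]
  intro x y
  have htop := Vp_eq_top O hg
  have hx : x ∈ Vp O := by rw [htop]; trivial
  have hy : y ∈ Vp O := by rw [htop]; trivial
  obtain ⟨x0, hx0, x1, hx1, rfl⟩ := (mem_Vp O).1 hx
  obtain ⟨y0, hy0, y1, hy1, rfl⟩ := (mem_Vp O).1 hy
  rw [hadd1, hadd2, hadd2, h00 x0 hx0 y0 hy0, h01 x0 hx0 y1 hy1, h10 x1 hx1 y0 hy0,
    h11 x1 hx1 y1 hy1]
  simp

end pairing

end abstract

end Cfsg.Agent.Lib.H6.Hig
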