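import Mathlib

set_option autoImplicit false

namespace Cfsg.Agent.Lib.H6

variable {G : Type*} [Group G]

theorem mem_normalizer_subgroupOf_iff {P B : Subgroup G} (hBP : B ≤ P) (y : P) :
    y ∈ Subgroup.normalizer ((B.subgroupOf P : Subgroup P) : Set P) ↔
      (y : G) ∈ Subgroup.normalizer (B : Set G) := by
  rw [Subgroup.mem_normalizer_iff, Subgroup.mem_normalizer_iff]
  constructor
  · intro h g
    constructor
    · intro hg
      have := (h ⟨g, hBP hg⟩).mp (by rw [Subgroup.mem_subgroupOf]; exact hg)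
      rw [Subgroup.mem_subgroupOf] at this
      simpa using this
    · intro hg
      have hgP : g ∈ P := by
        have h1 : (y : G) * g * (y : G)⁻¹ ∈ P := hBP hg
        have h2 : g = (y : G)⁻¹ * ((y : G) * g * (y : G)⁻¹) * (y : G) := by group
        rw [h2]
        exact P.mul_mem (P.mul_mem (P.inv_mem y.2) h1) y.2
      have := (h ⟨g, hgP⟩).mpr (by rw [Subgroup.mem_subgroupOf]; simpa using hg)
      rw [Subgroup.mem_subgroupOf] at this
      exact this
  · intro h g
    rw [Subgroup.mem_subgroupOf, Subgroup.mem_subgroupOf]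
    have := h (g : G)
    simpa using this

/-- Normaliser growth inside a nilpotent subgroup `P`: if `B ≤ P` is not normal in `P`, some `x ∈ P`
outside `N(B)` normalises `N_P(B)`. -/
theorem exists_normalizing_normalizer {P B : Subgroup G} (hP : Group.IsNilpotent P) (hBP : B ≤ P)
    (hn : ¬ P ≤ Subgroup.normalizer (B : Set G)) :
    ∃ x ∈ P, x ∉ Subgroup.normalizer (B : Set G) ∧
      ∀ y, y ∈ Subgroup.normalizer (B : Set G) ⊓ P ↔ x * y * x⁻¹ ∈ Subgroup.normalizer (B : Set G) ⊓ P := by
  have hnc : NormalizerCondition P := Group.normalizerCondition_of_isNilpotent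
  set N' := Subgroup.normalizer ((B.subgroupOf P : Subgroup P) : Set P) with hN'
  have hNtop : N' < ⊤ := by
    rw [lt_top_iff_ne_top]
    intro h
    apply hn
    intro y hy
    have : (⟨y, hy⟩ : P) ∈ N' := by rw [h]; trivial
    exact (mem_normalizer_subgroupOf_iff hBP ⟨y, hy⟩).mp this
  have hlt := hnc N' hNtop
  obtain ⟨x', hx'1, hx'2⟩ := SetLike.exists_of_lt hlt
  refine ⟨x', x'.2, ?_, ?_⟩
  · intro h
    exact hx'2 ((mem_normalizer_subgroupOf_iff hBP x').mpr h)
  · intro y
    by_cases hy : y ∈ P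
    · have h1 := (Subgroup.mem_normalizer_iff.mp hx'1) ⟨y, hy⟩
      rw [hN', mem_normalizer_subgroupOf_iff hBP, mem_normalizer_subgroupOf_iff hBP] at h1
      have hP2 : (x' : G) * y * (x' : G)⁻¹ ∈ P := P.mul_mem (P.mul_mem x'.2 hy) (P.inv_mem x'.2)
      constructor
      · rintro ⟨h2, _⟩
        exact ⟨by simpa using h1.mp h2, hP2⟩
      · rintro ⟨h2, _⟩
        exact ⟨h1.mpr (by simpa using h2), hy⟩
    · constructor
      · rintro ⟨_, h2⟩
        exact absurd h2 hy
      · rintro ⟨_, h2⟩
        exfalso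
        apply hy
        have : y = (x' : G)⁻¹ * ((x' : G) * y * (x' : G)⁻¹) * (x' : G) := by group
        rw [this]
        exact P.mul_mem (P.mul_mem (P.inv_mem x'.2) h2) x'.2

end Cfsg.Agent.Lib.H6
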