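import Mathlib
import Cfsg.Agent.Lib.H6.QD2

/-! Quaternion subgroups of order 8 of quasi-dihedral groups (helper6). -/

set_option autoImplicit false

namespace Cfsg.Agent.Lib.H6.QD

section Arith3

variable {n : ℕ}

theorem four_mul_qt (hn : 2 ≤ n) : 4 * qt n = 0 :=
  (four_mul_eq_zero_iff hn (qt n)).mpr (Or.inr (Or.inl rfl))

theorem four_mul_hf (hn : 2 ≤ n) : 4 * hf n = 0 :=
  (four_mul_eq_zero_iff hn (hf n)).mpr (Or.inr (Or.inr (Or.inl rfl)))

/-- `mm` is a unit: cancel it. -/
theorem mm_mul_eq_zero_iff (hn : 2 ≤ n) (a : ZMod (2 ^ n)) : mm n * a = 0 ↔ a = 0 := by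
  have h := mm_mul_mm hn
  constructor
  · intro h1
    have : a = mm n * (mm n * a) := by linear_combination (-a) * h
    rw [this, h1, mul_zero]
  · intro h1; rw [h1, mul_zero]

theorem unit_mul_eq_zero_iff (hn : 3 ≤ n) (a : ZMod (2 ^ n)) : (1 - qt n) * a = 0 ↔ a = 0 := by
  rw [unit_mul_eq_iff hn, mul_zero]

/-- `2^(n-3)`. -/
def e8 (n : ℕ) : ZMod (2 ^ n) := 2 ^ (n - 3)

theorem two_mul_e8 (hn : 3 ≤ n) : 2 * e8 n = qt n := by
  unfold e8 qt
  rw [← pow_succ']
  congr 1
  omega

theorem four_mul_e8 (hn : 3 ≤ n) : 4 * e8 n = hf n := by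
  have h1 := two_mul_e8 hn
  have h2 := two_mul_qt (n := n) (by omega)
  linear_combination 2 * h1 + h2

end Arith3

theorem ncard_four_le {α : Type*} (a b c d : α) : ({a, b, c, d} : Set α).ncard ≤ 4 := by
  have h1 := Set.ncard_insert_le a ({b, c, d} : Set α)
  have h2 := Set.ncard_insert_le b ({c, d} : Set α)
  have h3 := ncard_pair_le c d
  omega

namespace Pres

variable {S : Type*} [Group S] {n : ℕ} (P : Pres S n)

/-- membership in the quaternion group `⟨x^{2^{n-2}}, x^i y⟩`. -/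
def InQ (i : ZMod (2 ^ n)) (s : S) : Prop :=
  (∃ c, 4 * c = 0 ∧ s = P.R c) ∨ ∃ c, 4 * c = 0 ∧ s = P.SR (i + c)

theorem inQ_R_iff (i j : ZMod (2 ^ n)) : P.InQ i (P.R j) ↔ 4 * j = 0 := by
  unfold InQ
  constructor
  · rintro (⟨c, hc, h⟩ | ⟨c, hc, h⟩)
    · rw [P.R_eq_R_iff] at h; rw [h]; exact hc
    · exact absurd h.symm (P.SR_ne_R _ _)
  · intro h; left; exact ⟨j, h, rfl⟩

theorem inQ_SR_iff (i j : ZMod (2 ^ n)) : P.InQ i (P.SR j) ↔ 4 * (j - i) = 0 := by
  unfold InQ
  constructor
  · rintro (⟨c, hc, h⟩ | ⟨c, hc, h⟩)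
    · exact absurd h (P.SR_ne_R _ _)
    · rw [P.SR_eq_SR_iff] at h; rw [h]; linear_combination hc
  · intro h; right; exact ⟨j - i, h, by congr 1; ring⟩

theorem R_four (j : ZMod (2 ^ n)) : (P.R j * P.R j) * (P.R j * P.R j) = P.R (4 * j) := by
  rw [P.R_mul_R, P.R_mul_R]; congr 1; ring

variable [Finite S]

/-- classification of the subgroups of order 8 with a unique involution and exponent 4 that are
not contained in `⟨x⟩`-type sets: they are the quaternion groups `Q_i`, `i` odd. -/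
theorem quat_mem (Q : Subgroup S) (hcard : Nat.card Q = 8)
    (h4 : ∀ g ∈ Q, (g * g) * (g * g) = 1)
    (huniq : ∀ g ∈ Q, ∀ g' ∈ Q, g * g = 1 → g ≠ 1 → g' * g' = 1 → g' ≠ 1 → g = g') :
    ∃ k, ∀ s, s ∈ Q ↔ P.InQ (2 * k + 1) s := by
  classical
  have hncard : (Q : Set S).ncard = 8 := by
    rw [← Nat.card_coe_set_eq]; exact hcard
  -- the R-part
  have hR : ∀ j, P.R j ∈ Q → 4 * j = 0 := by
    intro j hj
    have := h4 _ hj
    rwa [P.R_four, P.R_eq_one_iff] at this
  -- some SR i in Q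
  have h1 : ∃ i, P.SR i ∈ Q := by
    by_contra hcon
    push Not at hcon
    have hsub : (Q : Set S) ⊆ {P.R 0, P.R (qt n), P.R (hf n), P.R (- qt n)} := by
      intro s hs
      rcases P.cases s with ⟨j, rfl⟩ | ⟨j, rfl⟩
      · have := (four_mul_eq_zero_iff P.n_two j).mp (hR j hs)
        simp only [Set.mem_insert_iff, Set.mem_singleton_iff, P.R_eq_R_iff]
        exact this
      · exact absurd hs (hcon j)
    have := Set.ncard_le_ncard hsub (Set.toFinite _)
    have h2 := ncard_four_le (P.R 0) (P.R (qt n)) (P.R (hf n)) (P.R (- qt n))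
    omega
  obtain ⟨i, hi⟩ := h1
  -- SR-part relative to i
  have hSR : ∀ j, P.SR j ∈ Q → 4 * (j - i) = 0 := by
    intro j hj
    have h2 : (P.SR i)⁻¹ * P.SR j ∈ Q := Q.mul_mem (Q.inv_mem hi) hj
    rw [P.SR_inv, P.SR_mul_SR] at h2
    have h3 := hR _ h2
    have h4 : mm n * (4 * (j - i)) = 0 := by linear_combination h3
    exact (mm_mul_eq_zero_iff P.n_two _).mp h4
  -- i is odd
  have hodd : ∃ k, i = 2 * k + 1 := by
    rcases even_or_odd i with ⟨k, hk⟩ | ⟨k, hk⟩
    · exfalso
      have hinv : P.SR i * P.SR i = 1 := by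
        rw [P.SR_sq, hk, hf_mul_even P.n_pos, P.R_zero]
      have hz : P.R (hf n) ∉ Q := by
        intro hz
        have := huniq _ hz _ hi (by rw [P.R_mul_R, hf_add_hf P.n_pos, P.R_zero]) P.R_hf_ne_one hinv
          (P.SR_ne_one _)
        exact P.SR_ne_R _ _ this.symm
      have hsub : (Q : Set S) ⊆ {1, P.SR i} := by
        intro s hs
        rcases P.cases s with ⟨j, rfl⟩ | ⟨j, rfl⟩
        · left
          rcases (four_mul_eq_zero_iff P.n_two j).mp (hR j hs) with h | h | h | h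
          · rw [h, P.R_zero]
          · exfalso; apply hz
            have := Q.mul_mem hs hs
            rwa [P.R_mul_R, h, ← two_mul, two_mul_qt P.n_two] at this
          · exfalso; apply hz; rw [← h]; exact hs
          · exfalso; apply hz
            have := Q.mul_mem hs hs
            rw [P.R_mul_R, h] at this
            have e : - qt n + - qt n = hf n := by
              have h1 := two_mul_qt (n := n) P.n_two
              have h2 := hf_add_hf (n := n) P.n_pos
              linear_combination - h1 - h2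
            rwa [e] at this
        · right
          have h2 : P.SR i * P.SR j ∈ Q := Q.mul_mem hi hs
          rw [P.SR_mul_SR] at h2
          have h3 := hR _ h2
          rcases (four_mul_eq_zero_iff P.n_two _).mp h3 with h | h | h | h
          · have h5 : P.SR i * P.SR j = 1 := by rw [P.SR_mul_SR, h, P.R_zero]
            simp only [Set.mem_singleton_iff]
            exact (mul_left_cancel (h5.trans hinv.symm))
          · exfalso; apply hz
            have := Q.mul_mem h2 h2
            rwa [P.R_mul_R, h, ← two_mul, two_mul_qt P.n_two] at this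
          · exfalso; apply hz; rw [← h]; exact h2
          · exfalso; apply hz
            have := Q.mul_mem h2 h2
            rw [P.R_mul_R, h] at this
            have e : - qt n + - qt n = hf n := by
              have h1 := two_mul_qt (n := n) P.n_two
              have h2 := hf_add_hf (n := n) P.n_pos
              linear_combination - h1 - h2
            rwa [e] at this
      have := Set.ncard_le_ncard hsub (Set.toFinite _)
      have h2 := ncard_pair_le (1 : S) (P.SR i)
      omega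
    · exact ⟨k, hk⟩
  obtain ⟨k, hk⟩ := hodd
  have hz : P.R (hf n) ∈ Q := by
    have := Q.mul_mem hi hi
    rwa [P.SR_sq, hk, hf_mul_odd P.n_pos] at this
  -- R qt ∈ Q
  have hq : P.R (qt n) ∈ Q := by
    by_contra hq
    have hq' : P.R (- qt n) ∉ Q := by
      intro h
      apply hq
      have := Q.inv_mem h
      rwa [P.R_inv, neg_neg] at this
    have hsub : (Q : Set S) ⊆ {1, P.R (hf n), P.SR i, P.SR (i + hf n)} := by
      intro s hs
      simp only [Set.mem_insert_iff, Set.mem_singleton_iff]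
      rcases P.cases s with ⟨j, rfl⟩ | ⟨j, rfl⟩
      · rcases (four_mul_eq_zero_iff P.n_two j).mp (hR j hs) with h | h | h | h
        · left; rw [h, P.R_zero]
        · rw [h] at hs; exact absurd hs hq
        · right; left; rw [h]
        · rw [h] at hs; exact absurd hs hq'
      · have h2 : (P.SR i)⁻¹ * P.SR j ∈ Q := Q.mul_mem (Q.inv_mem hi) hs
        rw [P.SR_inv, P.SR_mul_SR] at h2
        have h3 := hR _ h2
        have e : - mm n * i + mm n * j = mm n * (j - i) := by ring
        rw [e] at h2 h3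
        rcases (four_mul_eq_zero_iff P.n_two _).mp h3 with h | h | h | h
        · right; right; left
          rw [mm_mul_eq_zero_iff P.n_two] at h
          congr 1; linear_combination h
        · rw [h] at h2; exact absurd h2 hq
        · right; right; right
          have h5 : mm n * (j - i - hf n) = 0 := by
            have := mm_mul_hf (n := n) P.n_two
            linear_combination h - this
          rw [mm_mul_eq_zero_iff P.n_two] at h5
          congr 1; linear_combination h5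
        · rw [h] at h2; exact absurd h2 hq'
    have := Set.ncard_le_ncard hsub (Set.toFinite _)
    have h2 := ncard_four_le (1 : S) (P.R (hf n)) (P.SR i) (P.SR (i + hf n))
    omega
  refine ⟨k, ?_⟩
  rw [← hk]
  intro s
  constructor
  · intro hs
    rcases P.cases s with ⟨j, rfl⟩ | ⟨j, rfl⟩
    · rw [P.inQ_R_iff]; exact hR j hs
    · rw [P.inQ_SR_iff]; exact hSR j hs
  · rintro (⟨c, hc, rfl⟩ | ⟨c, hc, rfl⟩)
    · rcases (four_mul_eq_zero_iff P.n_two c).mp hc with h | h | h | h
      · rw [h, P.R_zero]; exact Q.one_mem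
      · rw [h]; exact hq
      · rw [h]; exact hz
      · rw [h, P.R_neg]; exact Q.inv_mem hq
    · have : P.SR (i + c) = P.R c * P.SR i := by rw [P.R_mul_SR, add_comm]
      rw [this]
      refine Q.mul_mem ?_ hi
      rcases (four_mul_eq_zero_iff P.n_two c).mp hc with h | h | h | h
      · rw [h, P.R_zero]; exact Q.one_mem
      · rw [h]; exact hq
      · rw [h]; exact hz
      · rw [h, P.R_neg]; exact Q.inv_mem hq

omit [Finite S] in
/-- conjugating `Q_i` by `x^j`. -/
theorem inQ_conj_R (i j : ZMod (2 ^ n)) (x : S) :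
    P.InQ i ((P.R j)⁻¹ * x * P.R j) ↔ P.InQ (i + 2 * (1 - qt n) * j) x := by
  unfold InQ
  simp only [conj_eq_iff, P.R_conj_R, P.R_conj_SR]
  constructor
  · rintro (⟨c, hc, h⟩ | ⟨c, hc, h⟩)
    · left; exact ⟨c, hc, h⟩
    · right; refine ⟨c, hc, ?_⟩
      rw [h]; congr 1; ring
  · rintro (⟨c, hc, h⟩ | ⟨c, hc, h⟩)
    · left; exact ⟨c, hc, h⟩
    · right; refine ⟨c, hc, ?_⟩
      rw [h]; congr 1; ring

omit [Finite S] in
theorem inQ_shift (i c₀ : ZMod (2 ^ n)) (hc₀ : 4 * c₀ = 0) (s : S) :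
    P.InQ (i + c₀) s ↔ P.InQ i s := by
  unfold InQ
  constructor
  · rintro (⟨c, hc, h⟩ | ⟨c, hc, h⟩)
    · left; exact ⟨c, hc, h⟩
    · right; refine ⟨c₀ + c, by linear_combination hc₀ + hc, ?_⟩
      rw [h]; congr 1; ring
  · rintro (⟨c, hc, h⟩ | ⟨c, hc, h⟩)
    · left; exact ⟨c, hc, h⟩
    · right; refine ⟨c - c₀, by linear_combination hc - hc₀, ?_⟩
      rw [h]; congr 1; ring

omit [Finite S] in
/-- the hypotheses of `quat_mem` for a subgroup isomorphic to `Q₈`. -/
theorem quat_hyps (Q : Subgroup S) (e : Q ≃* QuaternionGroup 2) :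
    Nat.card Q = 8 ∧ (∀ g ∈ Q, (g * g) * (g * g) = 1) ∧
    (∀ g ∈ Q, ∀ g' ∈ Q, g * g = 1 → g ≠ 1 → g' * g' = 1 → g' ≠ 1 → g = g') := by
  have d1 : ∀ g : QuaternionGroup 2, (g * g) * (g * g) = 1 := by decide
  have d2 : ∀ g g' : QuaternionGroup 2, g * g = 1 → g ≠ 1 → g' * g' = 1 → g' ≠ 1 → g = g' := by
    decide
  refine ⟨?_, ?_, ?_⟩
  · rw [Nat.card_congr e.toEquiv, Nat.card_eq_fintype_card, QuaternionGroup.card]
  · intro g hg
    have := d1 (e ⟨g, hg⟩)
    rw [← map_mul, ← map_mul, e.map_eq_one_iff] at this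
    exact congrArg Subtype.val this
  · intro g hg g' hg' h1 h2 h3 h4
    have := d2 (e ⟨g, hg⟩) (e ⟨g', hg'⟩)
      (by rw [← map_mul, e.map_eq_one_iff]; exact Subtype.ext h1)
      (by rw [Ne, e.map_eq_one_iff]; intro h; exact h2 (congrArg Subtype.val h))
      (by rw [← map_mul, e.map_eq_one_iff]; exact Subtype.ext h3)
      (by rw [Ne, e.map_eq_one_iff]; intro h; exact h4 (congrArg Subtype.val h))
    exact congrArg Subtype.val (e.injective this)

include P in
/-- any two `Q₈`-subgroups are conjugate. -/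
theorem quat_conj (Q₁ Q₂ : Subgroup S) (e₁ : Nonempty (Q₁ ≃* QuaternionGroup 2))
    (e₂ : Nonempty (Q₂ ≃* QuaternionGroup 2)) :
    ∃ s : S, Q₁.map (MulAut.conj s).toMonoidHom = Q₂ := by
  obtain ⟨e₁⟩ := e₁
  obtain ⟨e₂⟩ := e₂
  obtain ⟨a1, a2, a3⟩ := quat_hyps Q₁ e₁
  obtain ⟨b1, b2, b3⟩ := quat_hyps Q₂ e₂
  obtain ⟨k₁, hk₁⟩ := P.quat_mem Q₁ a1 a2 a3
  obtain ⟨k₂, hk₂⟩ := P.quat_mem Q₂ b1 b2 b3
  refine ⟨P.R (uinv n * (k₂ - k₁)), ?_⟩
  ext x
  rw [Cfsg.Agent.Lib.H6.mem_map_conj_iff, hk₁, hk₂, P.inQ_conj_R]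
  have : 2 * k₁ + 1 + 2 * (1 - qt n) * (uinv n * (k₂ - k₁)) = 2 * k₂ + 1 := by
    have := unit_mul_uinv P.hn
    linear_combination 2 * (k₂ - k₁) * this
  rw [this]

include P in
/-- `C_S(Q) = Z(Q)` for a `Q₈`-subgroup. -/
theorem quat_centralizer (Q : Subgroup S) (e : Nonempty (Q ≃* QuaternionGroup 2)) :
    Subgroup.centralizer (Q : Set S) = (Subgroup.center Q).map Q.subtype := by
  obtain ⟨e⟩ := e
  obtain ⟨a1, a2, a3⟩ := quat_hyps Q e
  obtain ⟨k, hk⟩ := P.quat_mem Q a1 a2 a3
  have hqQ : P.R (qt n) ∈ Q := by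
    rw [hk, P.inQ_R_iff]; exact four_mul_qt P.n_two
  have hiQ : P.SR (2 * k + 1) ∈ Q := by
    rw [hk, P.inQ_SR_iff, sub_self, mul_zero]
  have hzQ : P.R (hf n) ∈ Q := by
    rw [hk, P.inQ_R_iff]; exact four_mul_hf P.n_two
  -- elements commuting with R qt and SR i
  have key : ∀ c : S, c * P.R (qt n) = P.R (qt n) * c → c * P.SR (2 * k + 1) = P.SR (2 * k + 1) * c →
      c = 1 ∨ c = P.R (hf n) := by
    intro c h1 h2
    rcases P.cases c with ⟨j, rfl⟩ | ⟨j, rfl⟩
    · rw [P.R_mul_SR, P.SR_mul_R, P.SR_eq_SR_iff] at h2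
      have h3 : 2 * (1 - qt n) * j = 0 := by
        have := one_sub_mm (n := n) P.n_two
        linear_combination h2 - j * this
      rcases (two_unit_mul_eq_zero_iff P.hn j).mp h3 with h | h
      · left; rw [h, P.R_zero]
      · right; rw [h]
    · exfalso
      rw [P.SR_mul_R, P.R_mul_SR, P.SR_eq_SR_iff, mm_mul_qt P.hn] at h1
      apply qt_ne_neg_qt (n := n) P.n_two
      linear_combination - h1
  apply le_antisymm
  · intro c hc
    rw [Subgroup.mem_centralizer_iff] at hc
    have hc' := key c (hc _ hqQ).symm (hc _ hiQ).symm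
    have hcQ : c ∈ Q := by
      rcases hc' with rfl | rfl
      · exact Q.one_mem
      · exact hzQ
    refine ⟨⟨c, hcQ⟩, ?_, rfl⟩
    rw [SetLike.mem_coe, Subgroup.mem_center_iff]
    intro g
    apply Subtype.ext
    exact hc g.1 g.2
  · rintro _ ⟨z, hz, rfl⟩
    rw [SetLike.mem_coe, Subgroup.mem_center_iff] at hz
    have h1 := congrArg Subtype.val (hz ⟨_, hqQ⟩)
    have h2 := congrArg Subtype.val (hz ⟨_, hiQ⟩)
    simp only [Subgroup.coe_mul] at h1 h2
    have hc' := key z.1 h1.symm h2.symm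
    rw [Subgroup.mem_centralizer_iff]
    intro g _
    show g * (z : S) = (z : S) * g
    rcases hc' with h | h
    · rw [h, mul_one, one_mul]
    · rw [h]; exact (P.R_hf_comm g).symm

include P in
/-- `|N_S(Q) : Q| = 2` for a `Q₈`-subgroup. -/
theorem quat_relIndex (Q : Subgroup S) (e : Nonempty (Q ≃* QuaternionGroup 2)) :
    Q.relIndex (Subgroup.normalizer (Q : Set S)) = 2 := by
  obtain ⟨e⟩ := e
  obtain ⟨a1, a2, a3⟩ := quat_hyps Q e
  obtain ⟨k, hk⟩ := P.quat_mem Q a1 a2 a3
  have hiQ : P.SR (2 * k + 1) ∈ Q := by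
    rw [hk, P.inQ_SR_iff, sub_self, mul_zero]
  -- for `8 d = 0`: `4 d = 0` xor `4 d = hf`
  have hx : ∀ d : ZMod (2 ^ n), 8 * d = 0 → Xor (4 * d = hf n) (4 * d = 0) := by
    intro d hd
    have h1 : 2 * (4 * d) = 0 := by linear_combination hd
    rcases (two_mul_eq_zero_iff P.n_pos _).mp h1 with h | h
    · right; exact ⟨h, fun h' => hf_ne_zero P.n_pos (h'.symm.trans h)⟩
    · left; exact ⟨h, fun h' => hf_ne_zero P.n_pos (h.symm.trans h')⟩
  rw [Subgroup.relIndex_eq_two_iff]
  refine ⟨P.R (e8 n), ?_, ?_⟩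
  · rw [Subgroup.mem_normalizer_iff]
    intro h
    have e : P.R (e8 n) * h * (P.R (e8 n))⁻¹ = (P.R (- e8 n))⁻¹ * h * P.R (- e8 n) := by
      rw [P.R_neg, inv_inv]
    rw [e, hk, hk, P.inQ_conj_R]
    symm
    apply P.inQ_shift
    have h1 := two_mul_e8 (n := n) P.hn
    have h2 := four_mul_qt (n := n) P.n_two
    have h3 := hf_mul_qt (n := n) P.hn
    have h4 := two_mul_qt (n := n) P.n_two
    linear_combination (-4 + 4 * qt n) * h1 - h2 + 2 * h3 + 2 * qt n * h4
  · intro b hb
    rw [Subgroup.mem_normalizer_iff] at hb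
    have hb1 := (hb _).mp hiQ
    rw [hk] at hb1
    rw [hk, hk]
    rcases P.cases b with ⟨j, rfl⟩ | ⟨j, rfl⟩
    · rw [P.R_conj_SR, P.inQ_SR_iff] at hb1
      have h8 : 8 * j = 0 := by
        have h1 : (1 - qt n) * (8 * j) = 0 := by linear_combination hb1
        exact (unit_mul_eq_zero_iff P.hn _).mp h1
      rw [P.R_mul_R, P.inQ_R_iff, P.inQ_R_iff]
      have h2 : 4 * (j + e8 n) = 0 ↔ 4 * j = hf n := by
        have h1 := four_mul_e8 (n := n) P.hn
        have h3 := hf_add_hf (n := n) P.n_pos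
        constructor
        · intro h; linear_combination h - h1 - h3
        · intro h; linear_combination h + h1 + h3
      rw [h2]
      exact hx j h8
    · rw [P.SR_conj_SR, P.inQ_SR_iff] at hb1
      have h8 : 8 * (j - (2 * k + 1)) = 0 := by
        have h0 := one_sub_mm (n := n) P.n_two
        have h1 : (1 - qt n) * (8 * (j - (2 * k + 1))) = 0 := by
          linear_combination hb1 - 4 * (j - (2 * k + 1)) * h0
        exact (unit_mul_eq_zero_iff P.hn _).mp h1
      rw [P.SR_mul_R, P.inQ_SR_iff, P.inQ_SR_iff]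
      have h2 : 4 * (j + mm n * e8 n - (2 * k + 1)) = 0 ↔ 4 * (j - (2 * k + 1)) = hf n := by
        have h1 := four_mul_e8 (n := n) P.hn
        have h3 := hf_add_hf (n := n) P.n_pos
        have h4 := mm_mul_hf (n := n) P.n_two
        constructor
        · intro h; linear_combination h - mm n * h1 - h4 - h3
        · intro h; linear_combination h + mm n * h1 + h4 + h3
      rw [h2]
      exact hx _ h8

end Pres

end Cfsg.Agent.Lib.H6.QD
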