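import Mathlib
import Cfsg.Agent.Lib.H6.QD3

/-! Quasi-dihedral groups: the three classes of elements of order four in a quaternion
subgroup (helper6). -/

set_option autoImplicit false

namespace Cfsg.Agent.Lib.H6.QD

section Arith3

variable {n : ℕ}

theorem two_mul_eq_hf_iff (hn : 2 ≤ n) (c : ZMod (2 ^ n)) :
    2 * c = hf n ↔ c = qt n ∨ c = qt n + hf n := by
  have h1 : 2 * c = hf n ↔ 2 * (c - qt n) = 0 := by
    rw [← two_mul_qt hn]
    constructor
    · intro h; linear_combination h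
    · intro h; linear_combination h
  rw [h1, two_mul_eq_zero_iff (by omega)]
  constructor
  · rintro (h | h)
    · left; linear_combination h
    · right; linear_combination h
  · rintro (h | h)
    · left; linear_combination h
    · right; linear_combination h

theorem hf_mul_of_two_mul_eq_hf (hn : 3 ≤ n) {c : ZMod (2 ^ n)} (hc : 2 * c = hf n) :
    hf n * c = 0 := by
  rcases (two_mul_eq_hf_iff (by omega) c).mp hc with rfl | rfl
  · exact hf_mul_qt hn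
  · rw [mul_add, hf_mul_qt hn, hf_mul_hf (by omega), add_zero]

theorem hf_mul_of_two_mul_eq_zero (hn : 2 ≤ n) {c : ZMod (2 ^ n)} (hc : 2 * c = 0) :
    hf n * c = 0 := by
  rcases (two_mul_eq_zero_iff (by omega) c).mp hc with rfl | rfl
  · rw [mul_zero]
  · exact hf_mul_hf hn

theorem four_mul_cases (hn : 2 ≤ n) {c : ZMod (2 ^ n)} (hc : 4 * c = 0) :
    2 * c = 0 ∨ 2 * c = hf n := by
  have : 2 * (2 * c) = 0 := by linear_combination hc
  exact (two_mul_eq_zero_iff (by omega) (2 * c)).mp this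

theorem qt_add_hf (hn : 2 ≤ n) : qt n + hf n = - qt n := by
  have := two_mul_qt hn
  have h2 := hf_add_hf (n := n) (by omega)
  linear_combination this + h2

end Arith3

namespace Pres

variable {S : Type*} [Group S] {n : ℕ} (P : Pres S n)

/-- type `A`: the elements `a^{±1}` with `a = x^(2^(n-2))`. -/
def TA (s : S) : Prop := ∃ c, 2 * c = hf n ∧ s = P.R c
/-- type `B₁`: the elements `b₁^{±1}` with `b₁ = x^j y`. -/
def TB1 (j : ZMod (2 ^ n)) (s : S) : Prop := ∃ c, 2 * c = 0 ∧ s = P.SR (j + c)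
/-- type `B₂`: the elements `(a b₁)^{±1}`. -/
def TB2 (j : ZMod (2 ^ n)) (s : S) : Prop := ∃ c, 2 * c = hf n ∧ s = P.SR (j + c)

variable {j : ZMod (2 ^ n)}

theorem TA_R_qt : P.TA (P.R (qt n)) := ⟨qt n, two_mul_qt P.n_two, rfl⟩

theorem TB1_SR : P.TB1 j (P.SR j) := ⟨0, mul_zero _, by rw [add_zero]⟩

theorem inQ_cases {s : S} (h : P.InQ j s) :
    (∃ c, 2 * c = 0 ∧ s = P.R c) ∨ P.TA s ∨ P.TB1 j s ∨ P.TB2 j s := by
  rcases h with ⟨c, hc, rfl⟩ | ⟨c, hc, rfl⟩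
  · rcases four_mul_cases P.n_two hc with h | h
    · left; exact ⟨c, h, rfl⟩
    · right; left; exact ⟨c, h, rfl⟩
  · rcases four_mul_cases P.n_two hc with h | h
    · right; right; left; exact ⟨c, h, rfl⟩
    · right; right; right; exact ⟨c, h, rfl⟩

theorem inQ_of_TA {s : S} (h : P.TA s) : P.InQ j s := by
  obtain ⟨c, hc, rfl⟩ := h
  left
  refine ⟨c, ?_, rfl⟩
  have := two_mul_hf (n := n) P.n_pos
  linear_combination 2 * hc + this

theorem inQ_of_TB1 {s : S} (h : P.TB1 j s) : P.InQ j s := by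
  obtain ⟨c, hc, rfl⟩ := h
  right
  exact ⟨c, by linear_combination 2 * hc, rfl⟩

theorem inQ_of_TB2 {s : S} (h : P.TB2 j s) : P.InQ j s := by
  obtain ⟨c, hc, rfl⟩ := h
  right
  refine ⟨c, ?_, rfl⟩
  have := two_mul_hf (n := n) P.n_pos
  linear_combination 2 * hc + this

theorem sq_of_TA {s : S} (h : P.TA s) : s * s = P.R (hf n) := by
  obtain ⟨c, hc, rfl⟩ := h
  rw [P.R_mul_R, ← two_mul, hc]

theorem sq_of_TB1 (hj : hf n * j = hf n) {s : S} (h : P.TB1 j s) : s * s = P.R (hf n) := by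
  obtain ⟨c, hc, rfl⟩ := h
  rw [P.SR_sq, mul_add, hj, hf_mul_of_two_mul_eq_zero P.n_two hc, add_zero]

theorem sq_of_TB2 (hj : hf n * j = hf n) {s : S} (h : P.TB2 j s) : s * s = P.R (hf n) := by
  obtain ⟨c, hc, rfl⟩ := h
  rw [P.SR_sq, mul_add, hj, hf_mul_of_two_mul_eq_hf P.hn hc, add_zero]

theorem not_TA_of_TB1 {s : S} (h : P.TB1 j s) : ¬ P.TA s := by
  obtain ⟨c, -, rfl⟩ := h
  rintro ⟨c', -, h⟩
  exact P.SR_ne_R _ _ h

theorem not_TA_of_TB2 {s : S} (h : P.TB2 j s) : ¬ P.TA s := by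
  obtain ⟨c, -, rfl⟩ := h
  rintro ⟨c', -, h⟩
  exact P.SR_ne_R _ _ h

theorem not_TB2_of_TB1 {s : S} (h : P.TB1 j s) : ¬ P.TB2 j s := by
  obtain ⟨c, hc, rfl⟩ := h
  rintro ⟨c', hc', h⟩
  rw [P.SR_eq_SR_iff] at h
  have : c = c' := by linear_combination h
  rw [this, hc'] at hc
  exact hf_ne_zero P.n_pos hc

theorem TA_mul_TB1 {u v : S} (hu : P.TA u) (hv : P.TB1 j v) : P.TB2 j (u * v) := by
  obtain ⟨c, hc, rfl⟩ := hu
  obtain ⟨c', hc', rfl⟩ := hv
  refine ⟨c + c', by linear_combination hc + hc', ?_⟩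
  rw [P.R_mul_SR]; congr 1; ring

theorem TA_mul_TB2 {u v : S} (hu : P.TA u) (hv : P.TB2 j v) : P.TB1 j (u * v) := by
  obtain ⟨c, hc, rfl⟩ := hu
  obtain ⟨c', hc', rfl⟩ := hv
  refine ⟨c + c', ?_, ?_⟩
  · have := hf_add_hf (n := n) P.n_pos
    linear_combination hc + hc' + this
  · rw [P.R_mul_SR]; congr 1; ring

theorem TB2_eq {v : S} (hv : P.TB2 j v) : ∃ u, P.TA u ∧ v = u * P.SR j := by
  obtain ⟨c, hc, rfl⟩ := hv
  refine ⟨P.R c, ⟨c, hc, rfl⟩, ?_⟩
  rw [P.R_mul_SR, add_comm]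

theorem TB1_cases {v : S} (hv : P.TB1 j v) : v = P.SR j ∨ v = P.SR j * P.R (hf n) := by
  obtain ⟨c, hc, rfl⟩ := hv
  rcases (two_mul_eq_zero_iff P.n_pos c).mp hc with rfl | rfl
  · left; rw [add_zero]
  · right; rw [P.SR_mul_R_hf]

theorem TA_cases {u : S} (hu : P.TA u) : u = P.R (qt n) ∨ u = P.R (- qt n) := by
  obtain ⟨c, hc, rfl⟩ := hu
  rcases (two_mul_eq_hf_iff P.n_two c).mp hc with rfl | rfl
  · left; rfl
  · right; rw [qt_add_hf P.n_two]

variable [Finite S]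

/-- conjugation by any element preserves type `A`. -/
theorem conj_TA (s : S) {u : S} (hu : P.TA u) : P.TA (s * u * s⁻¹) := by
  obtain ⟨c, hc, rfl⟩ := hu
  rcases P.cases s with ⟨i, rfl⟩ | ⟨i, rfl⟩
  · rw [P.R_conj_R]; exact ⟨c, hc, rfl⟩
  · rw [P.SR_conj_R]
    refine ⟨mm n * c, ?_, rfl⟩
    have := mm_mul_hf (n := n) P.n_two
    linear_combination mm n * hc + this

omit [Finite S] in
/-- conjugation by an element of `Q` preserves type `B₁`. -/
theorem conj_TB1_of_inQ {q v : S} (hq : P.InQ j q) (hv : P.TB1 j v) :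
    P.TB1 j (q * v * q⁻¹) := by
  obtain ⟨c', hc', rfl⟩ := hv
  rcases hq with ⟨c, hc, rfl⟩ | ⟨c, hc, rfl⟩
  · rw [P.R_conj_SR]
    refine ⟨c' + 2 * (1 - qt n) * c, ?_, by congr 1; ring⟩
    linear_combination hc' + (1 - qt n) * hc
  · rw [P.SR_conj_SR]
    refine ⟨c + mm n * c' - mm n * c, ?_, ?_⟩
    · have h1 := one_sub_mm (n := n) P.n_two
      have h2 : 2 * (c - mm n * c) = 0 := by
        have : c - mm n * c = (1 - mm n) * c := by ring
        rw [this, h1]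
        linear_combination (1 - qt n) * hc
      linear_combination h2 + mm n * hc'
    · congr 1
      ring

omit [Finite S] in
theorem e8_conj_SR (i : ZMod (2 ^ n)) :
    P.R (e8 n) * P.SR i * (P.R (e8 n))⁻¹ = P.SR (i + (1 - qt n) * qt n) := by
  rw [P.R_conj_SR]
  congr 1
  have := two_mul_e8 (n := n) P.hn
  linear_combination (1 - qt n) * this

omit [Finite S] in
theorem e8_conj_TB1 : P.TB2 j (P.R (e8 n) * P.SR j * (P.R (e8 n))⁻¹) := by
  rw [P.e8_conj_SR]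
  refine ⟨(1 - qt n) * qt n, ?_, rfl⟩
  have := two_unit_mul_qt (n := n) P.hn
  linear_combination this

omit [Finite S] in
theorem e8_conj_inQ {s : S} (h : P.InQ j s) : P.InQ j (P.R (e8 n) * s * (P.R (e8 n))⁻¹) := by
  rcases h with ⟨c, hc, rfl⟩ | ⟨c, hc, rfl⟩
  · rw [P.R_conj_R]; left; exact ⟨c, hc, rfl⟩
  · rw [P.e8_conj_SR]
    right
    refine ⟨c + (1 - qt n) * qt n, ?_, by congr 1; ring⟩
    have := four_mul_qt (n := n) P.n_two
    linear_combination hc + (1 - qt n) * this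

omit [Finite S] in
/-- inner automorphisms of `Q` realise all sign changes on `a`, `b₁`. -/
theorem exists_inQ_conj {c₁ c₂ : ZMod (2 ^ n)} (h₁ : 2 * c₁ = hf n) (h₂ : 2 * c₂ = 0) :
    ∃ q, P.InQ j q ∧ q * P.R (qt n) * q⁻¹ = P.R c₁ ∧ q * P.SR j * q⁻¹ = P.SR (j + c₂) := by
  have hq4 := four_mul_qt (n := n) P.n_two
  have hmq := mm_mul_qt (n := n) P.hn
  have hqh := qt_add_hf (n := n) P.n_two
  have h2q := two_unit_mul_qt (n := n) P.hn
  rcases (two_mul_eq_hf_iff P.n_two c₁).mp h₁ with rfl | rfl <;>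
  rcases (two_mul_eq_zero_iff P.n_pos c₂).mp h₂ with rfl | rfl
  · refine ⟨P.R 0, Or.inl ⟨0, mul_zero _, rfl⟩, ?_, ?_⟩
    · rw [P.R_conj_R]
    · rw [P.R_conj_SR]; congr 1; ring
  · refine ⟨P.R (qt n), Or.inl ⟨qt n, hq4, rfl⟩, ?_, ?_⟩
    · rw [P.R_conj_R]
    · rw [P.R_conj_SR, h2q]
  · refine ⟨P.SR j, Or.inr ⟨0, mul_zero _, by rw [add_zero]⟩, ?_, ?_⟩
    · rw [P.SR_conj_R, hmq, hqh]
    · rw [P.SR_conj_SR]; congr 1; ring
  · refine ⟨P.SR (j + qt n), Or.inr ⟨qt n, hq4, rfl⟩, ?_, ?_⟩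
    · rw [P.SR_conj_R, hmq, hqh]
    · rw [P.SR_conj_SR]
      congr 1
      have := two_mul_qt (n := n) P.n_two
      linear_combination - hmq + this

end Pres

end Cfsg.Agent.Lib.H6.QD
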