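import Mathlib
import Cfsg.Agent.Lib.H6.QD3

/-! Maximal subgroups of quasi-dihedral groups (helper6). -/

set_option autoImplicit false

namespace Cfsg.Agent.Lib.H6.QD

theorem isCoatom_of_index_two {G : Type*} [Group G] {M : Subgroup G} (h : M.index = 2) : IsCoatom M := by
  refine ⟨?_, ?_⟩
  · intro h1
    rw [h1, Subgroup.index_top] at h
    omega
  · intro K hK
    have h1 := Subgroup.relIndex_mul_index hK.le
    rw [h] at h1
    have h2 : M.relIndex K ≠ 1 := by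
      intro h3
      rw [Subgroup.relIndex_eq_one] at h3
      exact absurd h3 (not_le_of_gt hK)
    have h3 : M.relIndex K ∣ 2 := ⟨_, h1.symm⟩
    have h4 : M.relIndex K = 2 := by
      rcases (Nat.dvd_prime Nat.prime_two).mp h3 with h5 | h5
      · exact absurd h5 h2
      · exact h5
    rw [h4] at h1
    have h5 : K.index = 1 := by omega
    exact Subgroup.index_eq_one.mp h5

namespace Pres

variable {S : Type*} [Group S] {n : ℕ} (P : Pres S n)

/-- the cyclic maximal subgroup `⟨x⟩`. -/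
def M1 : Subgroup S where
  carrier := {s | ∃ i, s = P.R i}
  mul_mem' := by
    rintro _ _ ⟨i, rfl⟩ ⟨j, rfl⟩
    exact ⟨i + j, P.R_mul_R i j⟩
  one_mem' := ⟨0, P.R_zero.symm⟩
  inv_mem' := by
    rintro _ ⟨i, rfl⟩
    exact ⟨-i, P.R_inv i⟩

/-- the dihedral maximal subgroup `⟨x², y⟩`. -/
def M3 : Subgroup S where
  carrier := {s | ∃ i, hf n * i = 0 ∧ (s = P.R i ∨ s = P.SR i)}
  mul_mem' := by
    have hm := mm_mul_hf (n := n) P.n_two
    rintro _ _ ⟨i, hi, rfl | rfl⟩ ⟨j, hj, rfl | rfl⟩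
    · exact ⟨i + j, by linear_combination hi + hj, Or.inl (P.R_mul_R i j)⟩
    · exact ⟨i + j, by linear_combination hi + hj, Or.inr (P.R_mul_SR i j)⟩
    · exact ⟨i + mm n * j, by linear_combination hi + mm n * hj, Or.inr (P.SR_mul_R i j)⟩
    · exact ⟨i + mm n * j, by linear_combination hi + mm n * hj, Or.inl (P.SR_mul_SR i j)⟩
  one_mem' := ⟨0, mul_zero _, Or.inl P.R_zero.symm⟩
  inv_mem' := by
    rintro _ ⟨i, hi, rfl | rfl⟩
    · exact ⟨-i, by linear_combination - hi, Or.inl (P.R_inv i)⟩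
    · exact ⟨- mm n * i, by linear_combination - mm n * hi, Or.inr (P.SR_inv i)⟩

/-- the generalized quaternion maximal subgroup `⟨x², x y⟩`. -/
def M2 : Subgroup S where
  carrier := {s | ∃ i, (hf n * i = 0 ∧ s = P.R i) ∨ (hf n * i = hf n ∧ s = P.SR i)}
  mul_mem' := by
    have hm := mm_mul_hf (n := n) P.n_two
    have h2 := hf_add_hf (n := n) P.n_pos
    rintro _ _ ⟨i, ⟨hi, rfl⟩ | ⟨hi, rfl⟩⟩ ⟨j, ⟨hj, rfl⟩ | ⟨hj, rfl⟩⟩
    · exact ⟨i + j, Or.inl ⟨by linear_combination hi + hj, P.R_mul_R i j⟩⟩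
    · exact ⟨i + j, Or.inr ⟨by linear_combination hi + hj, P.R_mul_SR i j⟩⟩
    · exact ⟨i + mm n * j, Or.inr ⟨by linear_combination hi + mm n * hj, P.SR_mul_R i j⟩⟩
    · exact ⟨i + mm n * j, Or.inl ⟨by linear_combination hi + mm n * hj + hm + h2, P.SR_mul_SR i j⟩⟩
  one_mem' := ⟨0, Or.inl ⟨mul_zero _, P.R_zero.symm⟩⟩
  inv_mem' := by
    have hm := mm_mul_hf (n := n) P.n_two
    have h2 := hf_add_hf (n := n) P.n_pos
    rintro _ ⟨i, ⟨hi, rfl⟩ | ⟨hi, rfl⟩⟩
    · exact ⟨-i, Or.inl ⟨by linear_combination - hi, P.R_inv i⟩⟩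
    · exact ⟨- mm n * i, Or.inr ⟨by linear_combination - mm n * hi - hm - h2, P.SR_inv i⟩⟩

theorem R_mem_M1 (i : ZMod (2 ^ n)) : P.R i ∈ P.M1 := ⟨i, rfl⟩

theorem SR_not_mem_M1 (i : ZMod (2 ^ n)) : P.SR i ∉ P.M1 := by
  rintro ⟨j, h⟩
  exact P.SR_ne_R _ _ h

theorem R_mem_M3 (i : ZMod (2 ^ n)) : P.R i ∈ P.M3 ↔ hf n * i = 0 := by
  constructor
  · rintro ⟨j, hj, h | h⟩
    · rw [P.R_eq_R_iff] at h; rw [h]; exact hj
    · exact absurd h.symm (P.SR_ne_R _ _)
  · intro h; exact ⟨i, h, Or.inl rfl⟩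

theorem SR_mem_M3 (i : ZMod (2 ^ n)) : P.SR i ∈ P.M3 ↔ hf n * i = 0 := by
  constructor
  · rintro ⟨j, hj, h | h⟩
    · exact absurd h (P.SR_ne_R _ _)
    · rw [P.SR_eq_SR_iff] at h; rw [h]; exact hj
  · intro h; exact ⟨i, h, Or.inr rfl⟩

theorem R_mem_M2 (i : ZMod (2 ^ n)) : P.R i ∈ P.M2 ↔ hf n * i = 0 := by
  constructor
  · rintro ⟨j, ⟨hj, h⟩ | ⟨hj, h⟩⟩
    · rw [P.R_eq_R_iff] at h; rw [h]; exact hj
    · exact absurd h.symm (P.SR_ne_R _ _)
  · intro h; exact ⟨i, Or.inl ⟨h, rfl⟩⟩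

theorem SR_mem_M2 (i : ZMod (2 ^ n)) : P.SR i ∈ P.M2 ↔ hf n * i = hf n := by
  constructor
  · rintro ⟨j, ⟨hj, h⟩ | ⟨hj, h⟩⟩
    · exact absurd h (P.SR_ne_R _ _)
    · rw [P.SR_eq_SR_iff] at h; rw [h]; exact hj
  · intro h; exact ⟨i, Or.inr ⟨h, rfl⟩⟩

include P in
/-- parity dichotomy. -/
theorem parity (i : ZMod (2 ^ n)) : Xor (hf n * i = hf n) (hf n * i = 0) := by
  rcases even_or_odd i with ⟨k, rfl⟩ | ⟨k, rfl⟩
  · right
    rw [hf_mul_even P.n_pos]
    exact ⟨rfl, fun h => hf_ne_zero P.n_pos h.symm⟩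
  · left
    rw [hf_mul_odd P.n_pos]
    exact ⟨rfl, hf_ne_zero P.n_pos⟩

include P in
theorem parity_succ (i : ZMod (2 ^ n)) : hf n * (i + 1) = 0 ↔ hf n * i = hf n := by
  have h2 := hf_add_hf (n := n) P.n_pos
  constructor
  · intro h; linear_combination h - h2
  · intro h; linear_combination h + h2

variable [Finite S]

theorem index_M1 : P.M1.index = 2 := by
  rw [Subgroup.index_eq_two_iff]
  refine ⟨P.SR 0, fun b => ?_⟩
  rcases P.cases b with ⟨i, rfl⟩ | ⟨i, rfl⟩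
  · right
    rw [P.R_mul_SR]
    exact ⟨P.R_mem_M1 i, P.SR_not_mem_M1 _⟩
  · left
    rw [P.SR_mul_SR]
    exact ⟨P.R_mem_M1 _, P.SR_not_mem_M1 _⟩

theorem index_M3 : P.M3.index = 2 := by
  rw [Subgroup.index_eq_two_iff]
  refine ⟨P.R 1, fun b => ?_⟩
  have hm := mm_mul_hf (n := n) P.n_two
  rcases P.cases b with ⟨i, rfl⟩ | ⟨i, rfl⟩
  · rw [P.R_mul_R, P.R_mem_M3, P.R_mem_M3, P.parity_succ]
    exact P.parity i
  · rw [P.SR_mul_R, P.SR_mem_M3, P.SR_mem_M3, mul_one]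
    have e : hf n * (i + mm n) = 0 ↔ hf n * i = hf n := by
      have h2 := hf_add_hf (n := n) P.n_pos
      constructor
      · intro h; linear_combination h - hm - h2
      · intro h; linear_combination h + hm + h2
    rw [e]
    exact P.parity i

theorem index_M2 : P.M2.index = 2 := by
  rw [Subgroup.index_eq_two_iff]
  refine ⟨P.R 1, fun b => ?_⟩
  have hm := mm_mul_hf (n := n) P.n_two
  rcases P.cases b with ⟨i, rfl⟩ | ⟨i, rfl⟩
  · rw [P.R_mul_R, P.R_mem_M2, P.R_mem_M2, P.parity_succ]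
    exact P.parity i
  · rw [P.SR_mul_R, P.SR_mem_M2, P.SR_mem_M2, mul_one]
    have e : hf n * (i + mm n) = hf n ↔ hf n * i = 0 := by
      constructor
      · intro h; linear_combination h - hm
      · intro h; linear_combination h + hm
    rw [e]
    exact (P.parity i).symm

/-- every subgroup of index 2 is one of the three. -/
theorem eq_of_index_two (M : Subgroup S) (hM : M.index = 2) : M = P.M1 ∨ M = P.M2 ∨ M = P.M3 := by
  have hmul : ∀ {a b : S}, a * b ∈ M ↔ (a ∈ M ↔ b ∈ M) := Subgroup.mul_mem_iff_of_index_two hM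
  have hsq : ∀ a : S, a * a ∈ M := by
    intro a
    have := Subgroup.sq_mem_of_index_two hM a
    rwa [pow_two] at this
  -- even rotations lie in M
  have hev : ∀ i, hf n * i = 0 → P.R i ∈ M := by
    intro i hi
    rcases even_or_odd i with ⟨k, rfl⟩ | ⟨k, rfl⟩
    · have := hsq (P.R k)
      rwa [P.R_mul_R, ← two_mul] at this
    · rw [hf_mul_odd P.n_pos] at hi
      exact absurd hi (hf_ne_zero P.n_pos)
  have hod : ∀ i, hf n * i = hf n → (P.R i ∈ M ↔ P.R 1 ∈ M) := by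
    intro i hi
    have e : P.R i = P.R (i - 1) * P.R 1 := by rw [P.R_mul_R]; congr 1; ring
    have h1 : P.R (i - 1) ∈ M := by
      apply hev
      linear_combination hi
    rw [e, hmul]
    exact ⟨fun h => h.mp h1, fun h => ⟨fun _ => h, fun _ => h1⟩⟩
  have hSR : ∀ i, P.SR i ∈ M ↔ (P.R i ∈ M ↔ P.SR 0 ∈ M) := by
    intro i
    have e : P.SR i = P.R i * P.SR 0 := by rw [P.R_mul_SR, add_zero]
    rw [e, hmul]
  by_cases hx : P.R 1 ∈ M
  · -- all rotations in M
    have hR : ∀ i, P.R i ∈ M := by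
      intro i
      rcases (P.parity i) with ⟨h, -⟩ | ⟨h, -⟩
      · exact (hod i h).mpr hx
      · exact hev i h
    have hy : P.SR 0 ∉ M := by
      intro hy
      have : M = ⊤ := by
        rw [eq_top_iff]
        intro s _
        rcases P.cases s with ⟨i, rfl⟩ | ⟨i, rfl⟩
        · exact hR i
        · rw [hSR]; exact ⟨fun _ => hy, fun _ => hR i⟩
      rw [this, Subgroup.index_top] at hM
      omega
    left
    ext s
    rcases P.cases s with ⟨i, rfl⟩ | ⟨i, rfl⟩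
    · exact ⟨fun _ => P.R_mem_M1 i, fun _ => hR i⟩
    · constructor
      · intro h
        exact absurd ((hSR i).mp h |>.mp (hR i)) hy
      · intro h
        exact absurd h (P.SR_not_mem_M1 i)
  · have hR : ∀ i, P.R i ∈ M ↔ hf n * i = 0 := by
      intro i
      constructor
      · intro h
        rcases (P.parity i) with ⟨h1, -⟩ | ⟨h1, -⟩
        · exact absurd ((hod i h1).mp h) hx
        · exact h1
      · exact hev i
    right
    by_cases hy : P.SR 0 ∈ M
    · right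
      ext s
      rcases P.cases s with ⟨i, rfl⟩ | ⟨i, rfl⟩
      · rw [hR, P.R_mem_M3]
      · rw [hSR, hR, P.SR_mem_M3]
        exact ⟨fun h => h.mpr hy, fun h => ⟨fun _ => hy, fun _ => h⟩⟩
    · left
      ext s
      rcases P.cases s with ⟨i, rfl⟩ | ⟨i, rfl⟩
      · rw [hR, P.R_mem_M2]
      · rw [hSR, hR, P.SR_mem_M2]
        constructor
        · intro h
          rcases (P.parity i) with ⟨h1, -⟩ | ⟨h1, -⟩
          · exact h1
          · exact absurd (h.mp h1) hy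
        · intro h
          constructor
          · intro h1
            exfalso
            rw [h] at h1
            exact hf_ne_zero P.n_pos h1
          · intro h1; exact absurd h1 hy

omit [Finite S] in
theorem M1_ne_M2 : P.M1 ≠ P.M2 := by
  intro h
  have h1 : P.R 1 ∈ P.M1 := P.R_mem_M1 1
  rw [h, P.R_mem_M2, mul_one] at h1
  exact hf_ne_zero P.n_pos h1

omit [Finite S] in
theorem M1_ne_M3 : P.M1 ≠ P.M3 := by
  intro h
  have h1 : P.R 1 ∈ P.M1 := P.R_mem_M1 1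
  rw [h, P.R_mem_M3, mul_one] at h1
  exact hf_ne_zero P.n_pos h1

omit [Finite S] in
theorem M2_ne_M3 : P.M2 ≠ P.M3 := by
  intro h
  have h1 : P.SR 0 ∈ P.M3 := by rw [P.SR_mem_M3, mul_zero]
  rw [← h, P.SR_mem_M2, mul_zero] at h1
  exact hf_ne_zero P.n_pos h1.symm

end Pres

end Cfsg.Agent.Lib.H6.QD
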