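import Mathlib
import Cfsg.Agent.Lib.H6.QD4

/-! The maximal subgroups of a quasi-dihedral group are cyclic, generalized quaternion, dihedral
(helper6). -/

set_option autoImplicit false

namespace Cfsg.Agent.Lib.H6.QD

/-- doubling `ZMod m → ZMod (2^n)` when `2 m = 2^n`. -/
def dbl (m n : ℕ) (hm : 2 * m = 2 ^ n) : ZMod m →+ ZMod (2 ^ n) :=
  ZMod.lift m ⟨(AddMonoidHom.mulLeft (2 : ZMod (2 ^ n))).comp (Int.castAddHom (ZMod (2 ^ n))), by
    show (2 : ZMod (2 ^ n)) * ((m : ℤ) : ZMod (2 ^ n)) = 0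
    have h1 : ((2 * m : ℕ) : ZMod (2 ^ n)) = 0 := by rw [hm]; exact ZMod.natCast_self _
    push_cast at h1 ⊢
    exact h1⟩

section Dbl

variable {m n : ℕ} (hm : 2 * m = 2 ^ n)

theorem dbl_natCast (k : ℕ) : dbl m n hm (k : ZMod m) = 2 * (k : ZMod (2 ^ n)) := by
  have := ZMod.lift_coe m (⟨(AddMonoidHom.mulLeft (2 : ZMod (2 ^ n))).comp
    (Int.castAddHom (ZMod (2 ^ n))), by
      show (2 : ZMod (2 ^ n)) * ((m : ℤ) : ZMod (2 ^ n)) = 0
      have h1 : ((2 * m : ℕ) : ZMod (2 ^ n)) = 0 := by rw [hm]; exact ZMod.natCast_self _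
      push_cast at h1 ⊢
      exact h1⟩ : {f : ℤ →+ ZMod (2 ^ n) // f m = 0}) (k : ℤ)
  simp only [Int.cast_natCast] at this
  unfold dbl
  rw [this]
  simp

theorem dbl_apply [NeZero m] (i : ZMod m) : dbl m n hm i = 2 * (i.val : ZMod (2 ^ n)) := by
  conv_lhs => rw [← ZMod.natCast_zmod_val i]
  exact dbl_natCast hm _

theorem hf_mul_dbl [NeZero m] (hn : 1 ≤ n) (i : ZMod m) : hf n * dbl m n hm i = 0 := by
  rw [dbl_apply]
  have := two_mul_hf (n := n) hn
  linear_combination (i.val : ZMod (2 ^ n)) * this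

theorem mm_mul_dbl [NeZero m] (hn : 1 ≤ n) (i : ZMod m) : mm n * dbl m n hm i = - dbl m n hm i := by
  have := hf_mul_dbl hm hn i
  unfold mm
  linear_combination this

theorem dbl_injective [NeZero m] : Function.Injective (dbl m n hm) := by
  rw [injective_iff_map_eq_zero]
  intro i hi
  rw [dbl_apply] at hi
  have h1 : ((2 * i.val : ℕ) : ZMod (2 ^ n)) = 0 := by push_cast; exact hi
  rw [ZMod.natCast_eq_zero_iff, ← hm] at h1
  have h2 : m ∣ i.val := (Nat.mul_dvd_mul_iff_left (by norm_num)).mp h1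
  have h3 := ZMod.val_lt i
  have h4 : i.val = 0 := Nat.eq_zero_of_dvd_of_lt h2 h3
  exact (ZMod.val_eq_zero i).mp h4

end Dbl

namespace Pres

variable {S : Type*} [Group S] {n : ℕ} (P : Pres S n)

include P in
theorem two_mul_pow_pred : 2 * 2 ^ (n - 1) = 2 ^ n := by
  have := P.n_pos
  rw [← pow_succ']; congr 1; omega

include P in
theorem two_mul_two_mul_pow : 2 * (2 * 2 ^ (n - 2)) = 2 ^ n := by
  have := P.n_two
  rw [← pow_succ', ← pow_succ']; congr 1; omega

/-- the map `DihedralGroup (2^(n-1)) → S`. -/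
def toFunD : DihedralGroup (2 ^ (n - 1)) → S
  | .r i => P.R (dbl _ n P.two_mul_pow_pred i)
  | .sr i => P.SR (- dbl _ n P.two_mul_pow_pred i)

/-- the homomorphism `DihedralGroup (2^(n-1)) →* S`. -/
def homD : DihedralGroup (2 ^ (n - 1)) →* S :=
  MonoidHom.mk' P.toFunD (by
    have hmd := fun i => mm_mul_dbl P.two_mul_pow_pred P.n_pos i
    rintro (i | i) (j | j)
    · show P.toFunD (DihedralGroup.r (i + j)) = _
      simp only [toFunD, map_add, P.R_mul_R]
    · show P.toFunD (DihedralGroup.sr (j - i)) = _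
      simp only [toFunD, map_sub, P.R_mul_SR]
      congr 1; ring
    · show P.toFunD (DihedralGroup.sr (i + j)) = _
      simp only [toFunD, map_add, P.SR_mul_R, hmd]
      congr 1; ring
    · show P.toFunD (DihedralGroup.r (j - i)) = _
      simp only [toFunD, map_sub, P.SR_mul_SR, mul_neg, hmd]
      congr 1; ring)

theorem homD_injective : Function.Injective P.homD := by
  rw [injective_iff_map_eq_one]
  rintro (i | i) h
  · have h1 : P.R (dbl _ n P.two_mul_pow_pred i) = 1 := h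
    rw [P.R_eq_one_iff] at h1
    have := dbl_injective P.two_mul_pow_pred (h1.trans (map_zero _).symm)
    rw [this]; rfl
  · have h1 : P.SR (- dbl _ n P.two_mul_pow_pred i) = 1 := h
    exact absurd h1 (P.SR_ne_one _)

theorem homD_mem (g : DihedralGroup (2 ^ (n - 1))) : P.homD g ∈ P.M3 := by
  rcases g with i | i
  · show P.R _ ∈ P.M3
    rw [P.R_mem_M3]; exact hf_mul_dbl _ P.n_pos i
  · show P.SR _ ∈ P.M3
    rw [P.SR_mem_M3]
    have := hf_mul_dbl P.two_mul_pow_pred P.n_pos i
    linear_combination - this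

/-- the map `QuaternionGroup (2^(n-2)) → S`. -/
def toFunQ : QuaternionGroup (2 ^ (n - 2)) → S
  | .a i => P.R (dbl _ n P.two_mul_two_mul_pow i)
  | .xa i => P.SR (1 - dbl _ n P.two_mul_two_mul_pow i)

theorem dbl_half : dbl _ n P.two_mul_two_mul_pow ((2 ^ (n - 2) : ℕ) : ZMod (2 * 2 ^ (n - 2))) = hf n := by
  rw [dbl_natCast]
  push_cast
  have := two_mul_qt (n := n) P.n_two
  unfold qt at this
  exact this

/-- the homomorphism `QuaternionGroup (2^(n-2)) →* S`. -/
def homQ : QuaternionGroup (2 ^ (n - 2)) →* S :=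
  MonoidHom.mk' P.toFunQ (by
    have hmd := fun i => mm_mul_dbl P.two_mul_two_mul_pow P.n_pos i
    have hh := P.dbl_half
    rintro (i | i) (j | j)
    · show P.toFunQ (QuaternionGroup.a (i + j)) = _
      simp only [toFunQ, map_add, P.R_mul_R]
    · show P.toFunQ (QuaternionGroup.xa (j - i)) = _
      simp only [toFunQ, map_sub, P.R_mul_SR]
      congr 1; ring
    · show P.toFunQ (QuaternionGroup.xa (i + j)) = _
      simp only [toFunQ, map_add, P.SR_mul_R, hmd]
      congr 1; ring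
    · show P.toFunQ (QuaternionGroup.a (((2 ^ (n - 2) : ℕ) : ZMod (2 * 2 ^ (n - 2))) + j - i)) = _
      simp only [toFunQ, map_sub, map_add, P.SR_mul_SR, mul_sub, mul_one, hmd, hh]
      congr 1
      unfold mm; ring)

theorem homQ_injective : Function.Injective P.homQ := by
  rw [injective_iff_map_eq_one]
  rintro (i | i) h
  · have h1 : P.R (dbl _ n P.two_mul_two_mul_pow i) = 1 := h
    rw [P.R_eq_one_iff] at h1
    have := dbl_injective P.two_mul_two_mul_pow (h1.trans (map_zero _).symm)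
    rw [this]; rfl
  · have h1 : P.SR (1 - dbl _ n P.two_mul_two_mul_pow i) = 1 := h
    exact absurd h1 (P.SR_ne_one _)

theorem homQ_mem (g : QuaternionGroup (2 ^ (n - 2))) : P.homQ g ∈ P.M2 := by
  rcases g with i | i
  · show P.R _ ∈ P.M2
    rw [P.R_mem_M2]; exact hf_mul_dbl _ P.n_pos i
  · show P.SR _ ∈ P.M2
    rw [P.SR_mem_M2]
    have := hf_mul_dbl P.two_mul_two_mul_pow P.n_pos i
    linear_combination - this

variable [Finite S]

include P in
theorem card_of_index_two (M : Subgroup S) (hM : M.index = 2) : Nat.card M = 2 ^ n := by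
  have h1 := M.card_mul_index
  rw [hM, P.card, pow_succ] at h1
  omega

/-- `M₃ ≅ D_{2^n}`. -/
theorem M3_equiv : Nonempty (P.M3 ≃* DihedralGroup (2 ^ (n - 1))) := by
  let f : DihedralGroup (2 ^ (n - 1)) →* P.M3 := P.homD.codRestrict P.M3 P.homD_mem
  have hinj : Function.Injective f := by
    intro a b h
    apply P.homD_injective
    exact congrArg Subtype.val h
  have hcard : Nat.card P.M3 ≤ Nat.card (DihedralGroup (2 ^ (n - 1))) := by
    rw [P.card_of_index_two _ P.index_M3, DihedralGroup.nat_card, P.two_mul_pow_pred]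
  have hbij := hinj.bijective_of_nat_card_le hcard
  exact ⟨(MulEquiv.ofBijective f hbij).symm⟩

/-- `M₂ ≅ Q_{2^n}`. -/
theorem M2_equiv : Nonempty (P.M2 ≃* QuaternionGroup (2 ^ (n - 2))) := by
  let f : QuaternionGroup (2 ^ (n - 2)) →* P.M2 := P.homQ.codRestrict P.M2 P.homQ_mem
  have hinj : Function.Injective f := by
    intro a b h
    apply P.homQ_injective
    exact congrArg Subtype.val h
  have hcard : Nat.card P.M2 ≤ Nat.card (QuaternionGroup (2 ^ (n - 2))) := by
    rw [P.card_of_index_two _ P.index_M2, Nat.card_eq_fintype_card, QuaternionGroup.card]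
    have := P.two_mul_two_mul_pow
    omega
  have hbij := hinj.bijective_of_nat_card_le hcard
  exact ⟨(MulEquiv.ofBijective f hbij).symm⟩

omit [Finite S] in
/-- `M₁` is cyclic. -/
theorem M1_cyclic : IsCyclic P.M1 := by
  rw [isCyclic_iff_exists_zpowers_eq_top]
  refine ⟨⟨P.R 1, P.R_mem_M1 1⟩, ?_⟩
  rw [eq_top_iff]
  rintro ⟨s, i, rfl⟩ -
  rw [Subgroup.mem_zpowers_iff]
  refine ⟨(i.val : ℤ), ?_⟩
  apply Subtype.ext
  rw [zpow_natCast, Subgroup.coe_pow]
  show P.R 1 ^ i.val = P.R i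
  rw [P.R_pow, mul_one, ZMod.natCast_zmod_val]

end Pres

end Cfsg.Agent.Lib.H6.QD
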