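import Mathlib
import Cfsg.Agent.Lib.H6.QD5
import Cfsg.Agent.Lib.H1.PGroupBasic

/-! Derived subgroup, Frattini subgroup, centre, involution closure of quasi-dihedral groups
(helper6). -/

set_option autoImplicit false
open scoped commutatorElement

namespace Cfsg.Agent.Lib.H6.QD

namespace Pres

variable {S : Type*} [Group S] {n : ℕ} (P : Pres S n)

/-- the commutator `[y, x] = x^(2^(n-1) - 2)`. -/
theorem comm_y_x : ⁅P.y, P.x⁆ = P.R (hf n - 2) := by
  rw [commutatorElement_def, ← P.R_one, P.y_conj_R, P.R_inv, P.R_mul_R]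
  congr 1
  unfold mm; ring

/-- even rotations are powers of `[y, x]`. -/
theorem even_R_eq_pow (i : ZMod (2 ^ n)) (hi : hf n * i = 0) :
    ∃ k : ℕ, P.R i = P.R (hf n - 2) ^ k := by
  rcases even_or_odd i with ⟨k, rfl⟩ | ⟨k, rfl⟩
  · refine ⟨(- uinv n * k).val, ?_⟩
    rw [P.R_pow, ZMod.natCast_zmod_val, P.R_eq_R_iff]
    have h1 := unit_mul_uinv (n := n) P.hn
    have h2 := two_mul_qt (n := n) P.n_two
    linear_combination (-2 * k) * h1 - (uinv n * k) * h2
  · rw [hf_mul_odd P.n_pos] at hi
    exact absurd hi (hf_ne_zero P.n_pos)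

variable [Finite S]

theorem mem_frattini_iff (s : S) : s ∈ frattini S ↔ ∃ i, hf n * i = 0 ∧ s = P.R i := by
  have hp : IsPGroup 2 S := IsPGroup.of_card P.card
  have : Fact (Nat.Prime 2) := ⟨Nat.prime_two⟩
  constructor
  · intro hs
    have h1 : s ∈ P.M1 := by
      have := Cfsg.Agent.Lib.H1.le_frattini_iff.mp (le_refl (frattini S)) P.M1
        (isCoatom_of_index_two P.index_M1)
      exact this hs
    have h3 : s ∈ P.M3 := by
      have := Cfsg.Agent.Lib.H1.le_frattini_iff.mp (le_refl (frattini S)) P.M3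
        (isCoatom_of_index_two P.index_M3)
      exact this hs
    obtain ⟨i, rfl⟩ := h1
    exact ⟨i, (P.R_mem_M3 i).mp h3, rfl⟩
  · rintro ⟨i, hi, rfl⟩
    have : Subgroup.zpowers (P.R i) ≤ frattini S := by
      rw [Cfsg.Agent.Lib.H1.le_frattini_iff]
      intro M hM
      rw [Subgroup.zpowers_le]
      rcases P.eq_of_index_two M (Cfsg.Agent.Lib.H1.isPGroup_coatom_index hp hM) with h | h | h
      · rw [h]; exact P.R_mem_M1 i
      · rw [h, P.R_mem_M2]; exact hi
      · rw [h, P.R_mem_M3]; exact hi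
    exact this (Subgroup.mem_zpowers _)

include P in
theorem commutator_eq_frattini : commutator S = frattini S := by
  have hp : IsPGroup 2 S := IsPGroup.of_card P.card
  have : Fact (Nat.Prime 2) := ⟨Nat.prime_two⟩
  apply le_antisymm (Cfsg.Agent.Lib.H1.isPGroup_commutator_le_frattini hp)
  intro s hs
  obtain ⟨i, hi, rfl⟩ := (P.mem_frattini_iff s).mp hs
  obtain ⟨k, hk⟩ := P.even_R_eq_pow i hi
  rw [hk, ← P.comm_y_x]
  apply Subgroup.pow_mem
  exact Subgroup.commutator_mem_commutator (Subgroup.mem_top _) (Subgroup.mem_top _)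

theorem commutator_eq_zpowers : commutator S = Subgroup.zpowers (P.R (hf n - 2)) := by
  apply le_antisymm
  · intro s hs
    rw [P.commutator_eq_frattini] at hs
    obtain ⟨i, hi, rfl⟩ := (P.mem_frattini_iff s).mp hs
    obtain ⟨k, hk⟩ := P.even_R_eq_pow i hi
    rw [hk]
    exact Subgroup.pow_mem _ (Subgroup.mem_zpowers _) _
  · rw [Subgroup.zpowers_le, ← P.comm_y_x]
    exact Subgroup.commutator_mem_commutator (Subgroup.mem_top _) (Subgroup.mem_top _)

omit [Finite S] in
theorem orderOf_comm : orderOf (P.R (hf n - 2)) = 2 ^ (n - 1) := by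
  have : Fact (Nat.Prime 2) := ⟨Nat.prime_two⟩
  have e : n - 1 = (n - 2) + 1 := by have := P.n_two; omega
  rw [e]
  have h1 := hf_mul_hf (n := n) P.n_two
  have h2 := two_mul_hf (n := n) P.n_pos
  have h3 := hf_mul_qt (n := n) P.hn
  have h4 := two_mul_qt (n := n) P.n_two
  apply orderOf_eq_prime_pow
  · rw [P.R_pow, P.R_eq_one_iff]
    push_cast
    have e2 : (2 : ZMod (2 ^ n)) ^ (n - 2) = qt n := rfl
    rw [e2]
    intro h
    apply hf_ne_zero (n := n) P.n_pos
    linear_combination - h + h3 - h4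
  · rw [P.R_pow, P.R_eq_one_iff, ← e]
    push_cast
    have e2 : (2 : ZMod (2 ^ n)) ^ (n - 1) = hf n := rfl
    rw [e2]
    linear_combination h1 - h2

include P in
theorem card_commutator : Nat.card (commutator S) = 2 ^ (n - 1) := by
  rw [P.commutator_eq_zpowers, Nat.card_zpowers, P.orderOf_comm]

include P in
theorem isCyclic_commutator : IsCyclic (commutator S) := by
  rw [P.commutator_eq_zpowers]
  infer_instance

theorem mem_center_iff' (s : S) : s ∈ Subgroup.center S ↔ s = 1 ∨ s = P.R (hf n) := by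
  constructor
  · intro hs
    rw [Subgroup.mem_center_iff] at hs
    rcases P.cases s with ⟨i, rfl⟩ | ⟨i, rfl⟩
    · have h1 := hs (P.SR 0)
      rw [P.SR_mul_R, P.R_mul_SR, P.SR_eq_SR_iff] at h1
      have h3 : 2 * (1 - qt n) * i = 0 := by
        have := one_sub_mm (n := n) P.n_two
        linear_combination - h1 - i * this
      rcases (two_unit_mul_eq_zero_iff P.hn i).mp h3 with h | h
      · left; rw [h, P.R_zero]
      · right; rw [h]
    · exfalso
      have h1 := hs (P.R (qt n))
      rw [P.SR_mul_R, P.R_mul_SR, P.SR_eq_SR_iff, mm_mul_qt P.hn] at h1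
      apply qt_ne_neg_qt (n := n) P.n_two
      linear_combination h1
  · rintro (h | h)
    · rw [h]; exact Subgroup.one_mem _
    · rw [h, Subgroup.mem_center_iff]
      intro g
      exact (P.R_hf_comm g).symm

include P in
theorem card_center : Nat.card (Subgroup.center S) = 2 := by
  have hset : ((Subgroup.center S : Subgroup S) : Set S) = {1, P.R (hf n)} := by
    ext s
    simp only [SetLike.mem_coe, Set.mem_insert_iff, Set.mem_singleton_iff]
    exact P.mem_center_iff' s
  show Nat.card ↥((Subgroup.center S : Subgroup S) : Set S) = 2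
  rw [Nat.card_coe_set_eq, hset, Set.ncard_pair]
  exact (P.R_hf_ne_one).symm

theorem closure_involutions : Subgroup.closure {x : S | orderOf x = 2} = P.M3 := by
  apply le_antisymm
  · rw [Subgroup.closure_le]
    intro s hs
    rcases (P.orderOf_eq_two_iff s).mp hs with h | ⟨k, h⟩
    · rw [h]
      show P.R (hf n) ∈ P.M3
      rw [P.R_mem_M3]; exact hf_mul_hf P.n_two
    · rw [h]
      show P.SR (2 * k) ∈ P.M3
      rw [P.SR_mem_M3]; exact hf_mul_even P.n_pos k
  · have hSR : ∀ i, hf n * i = 0 → P.SR i ∈ Subgroup.closure {x : S | orderOf x = 2} := by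
      intro i hi
      apply Subgroup.subset_closure
      rcases even_or_odd i with ⟨k, rfl⟩ | ⟨k, rfl⟩
      · exact (P.orderOf_eq_two_iff _).mpr (Or.inr ⟨k, rfl⟩)
      · rw [hf_mul_odd P.n_pos] at hi
        exact absurd hi (hf_ne_zero P.n_pos)
    rintro s ⟨i, hi, rfl | rfl⟩
    · have : P.R i = P.SR i * P.SR 0 := by rw [P.SR_mul_SR, mul_zero, add_zero]
      rw [this]
      exact Subgroup.mul_mem _ (hSR i hi) (hSR 0 (mul_zero _))
    · exact hSR i hi

end Pres

end Cfsg.Agent.Lib.H6.QD
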