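import Mathlib
import Cfsg.Agent.Lib.H6.QD6
import Cfsg.Agent.Lib.H10.SylowIn

/-! Fusion in finite groups with quasi-dihedral Sylow 2-subgroups, part 1 (helper6):
conjugacy classes of involutions and of elements of order four. -/

set_option autoImplicit false

namespace Cfsg.Agent.Lib.H6.QDF

open QD

section General

variable {G : Type*} [Group G]

theorem orderOf_conj' (c g : G) : orderOf (c * g * c⁻¹) = orderOf g := by
  have := MulEquiv.orderOf_eq (MulAut.conj c) g
  rwa [MulAut.conj_apply] at this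

theorem isConj_conj (c g : G) : IsConj g (c * g * c⁻¹) := isConj_iff.mpr ⟨c, rfl⟩

variable [Finite G]

/-- an element of 2-power order is conjugate into a given Sylow 2-subgroup. -/
theorem exists_conj_mem (S : Sylow 2 G) (g : G) (k : ℕ) (hg : orderOf g = 2 ^ k) :
    ∃ c : G, c * g * c⁻¹ ∈ (S : Subgroup G) := by
  have : Fact (Nat.Prime 2) := ⟨Nat.prime_two⟩
  have hp : IsPGroup 2 (Subgroup.zpowers g) := by
    apply IsPGroup.of_card (n := k)
    rw [Nat.card_zpowers, hg]
  obtain ⟨c, hc⟩ := Cfsg.Agent.Lib.H10.exists_map_conj_le_sylow S hp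
  refine ⟨c, hc ?_⟩
  exact ⟨g, Subgroup.mem_zpowers g, by simp [MulAut.conj_apply]⟩

/-- counting classes: if every element with property `p` is conjugate to `u` or `v`. -/
theorem card_classes (p : G → Prop) (u v : G) (hu : p u) (hv : p v)
    (h : ∀ g, p g → IsConj g u ∨ IsConj g v) :
    (IsConj u v → Nat.card {C : ConjClasses G // ∃ t : G, p t ∧ ConjClasses.mk t = C} = 1) ∧
    (¬ IsConj u v → Nat.card {C : ConjClasses G // ∃ t : G, p t ∧ ConjClasses.mk t = C} = 2) := by
  have hset : {C : ConjClasses G | ∃ t : G, p t ∧ ConjClasses.mk t = C}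
      = {ConjClasses.mk u, ConjClasses.mk v} := by
    ext C
    simp only [Set.mem_setOf_eq, Set.mem_insert_iff, Set.mem_singleton_iff]
    constructor
    · rintro ⟨t, ht, rfl⟩
      rcases h t ht with h1 | h1
      · left; exact ConjClasses.mk_eq_mk_iff_isConj.mpr h1
      · right; exact ConjClasses.mk_eq_mk_iff_isConj.mpr h1
    · rintro (rfl | rfl)
      · exact ⟨u, hu, rfl⟩
      · exact ⟨v, hv, rfl⟩
  have hcard : Nat.card {C : ConjClasses G // ∃ t : G, p t ∧ ConjClasses.mk t = C}
      = ({ConjClasses.mk u, ConjClasses.mk v} : Set (ConjClasses G)).ncard := by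
    rw [← hset]
    exact Nat.card_coe_set_eq _
  rw [hcard]
  constructor
  · intro hc
    rw [ConjClasses.mk_eq_mk_iff_isConj.mpr hc, Set.pair_eq_singleton, Set.ncard_singleton]
  · intro hc
    apply Set.ncard_pair
    intro h1
    exact hc (ConjClasses.mk_eq_mk_iff_isConj.mp h1)

end General

variable {G : Type*} [Group G] [Finite G] {S : Sylow 2 G} {n : ℕ}
  (P : QD.Pres ↥(S : Subgroup G) n)

/-- the central involution of `S`, in `G`. -/
def zG : G := (P.R (hf n) : G)
/-- a non-central involution of `S`, in `G`. -/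
def yG : G := (P.SR 0 : G)
/-- an element of order four in the cyclic maximal subgroup. -/
def aG : G := (P.R (qt n) : G)
/-- an element of order four outside the cyclic maximal subgroup. -/
def bG : G := (P.SR 1 : G)

theorem isConj_coe {s s' : ↥(S : Subgroup G)} (h : IsConj s s') : IsConj (s : G) (s' : G) := by
  obtain ⟨c, hc⟩ := isConj_iff.mp h
  refine isConj_iff.mpr ⟨(c : G), ?_⟩
  rw [← hc]; rfl

theorem isConj_SR_even (k : ZMod (2 ^ n)) : IsConj ((P.SR (2 * k) : ↥(S : Subgroup G)) : G) (yG P) := by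
  apply isConj_coe
  obtain ⟨c, hc⟩ := P.exists_conj_SR_even k 0
  rw [mul_zero] at hc
  exact isConj_iff.mpr ⟨P.R c, hc⟩

theorem isConj_SR_odd (k : ZMod (2 ^ n)) : IsConj ((P.SR (2 * k + 1) : ↥(S : Subgroup G)) : G) (bG P) := by
  apply isConj_coe
  obtain ⟨c, hc⟩ := P.exists_conj_SR_odd k 0
  rw [mul_zero, zero_add] at hc
  exact isConj_iff.mpr ⟨P.R c, hc⟩

theorem isConj_R_neg_qt : IsConj ((P.R (- qt n) : ↥(S : Subgroup G)) : G) (aG P) := by
  apply isConj_coe
  apply IsConj.symm
  refine isConj_iff.mpr ⟨P.SR 0, ?_⟩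
  rw [P.SR_conj_R, mm_mul_qt P.hn]

theorem orderOf_zG : orderOf (zG P) = 2 := by
  unfold zG
  rw [Subgroup.orderOf_coe, P.orderOf_eq_two_iff]
  left; rfl

theorem orderOf_yG : orderOf (yG P) = 2 := by
  unfold yG
  rw [Subgroup.orderOf_coe, P.orderOf_eq_two_iff]
  right; exact ⟨0, by rw [mul_zero]⟩

theorem orderOf_aG : orderOf (aG P) = 4 := by
  unfold aG
  rw [Subgroup.orderOf_coe, P.orderOf_eq_four_iff]
  left; rfl

theorem orderOf_bG : orderOf (bG P) = 4 := by
  unfold bG
  rw [Subgroup.orderOf_coe, P.orderOf_eq_four_iff]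
  right; right; exact ⟨0, by rw [mul_zero, zero_add]⟩

/-- involutions of `S` up to `G`-conjugacy. -/
theorem isConj_of_mem_of_orderOf_two (s : ↥(S : Subgroup G)) (hs : orderOf s = 2) :
    (s : G) = zG P ∨ IsConj (s : G) (yG P) := by
  rcases (P.orderOf_eq_two_iff s).mp hs with h | ⟨k, h⟩
  · left; rw [h]; rfl
  · right; rw [h]; exact isConj_SR_even P k

/-- elements of order four of `S` up to `G`-conjugacy. -/
theorem isConj_of_mem_of_orderOf_four (s : ↥(S : Subgroup G)) (hs : orderOf s = 4) :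
    ((s : G) = aG P ∨ (s : G) = (aG P)⁻¹) ∨ IsConj (s : G) (bG P) := by
  rcases (P.orderOf_eq_four_iff s).mp hs with h | h | ⟨k, h⟩
  · left; left; rw [h]; rfl
  · left; right; rw [h, P.R_neg]; rfl
  · right; rw [h]; exact isConj_SR_odd P k

theorem isConj_aG_inv : IsConj (aG P)⁻¹ (aG P) := by
  have := isConj_R_neg_qt P
  rw [P.R_neg] at this
  exact this

theorem isConj_of_orderOf_two (g : G) (hg : orderOf g = 2) :
    IsConj g (zG P) ∨ IsConj g (yG P) := by
  obtain ⟨c, hc⟩ := exists_conj_mem S g 1 (by rw [hg, pow_one])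
  have h1 : orderOf (⟨c * g * c⁻¹, hc⟩ : ↥(S : Subgroup G)) = 2 := by
    rw [← Subgroup.orderOf_coe, orderOf_conj', hg]
  rcases isConj_of_mem_of_orderOf_two P _ h1 with h | h
  · left
    have h2 : c * g * c⁻¹ = zG P := h
    rw [← h2]; exact isConj_conj c g
  · right
    exact (isConj_conj c g).trans h

theorem isConj_of_orderOf_four (g : G) (hg : orderOf g = 4) :
    IsConj g (aG P) ∨ IsConj g (bG P) := by
  obtain ⟨c, hc⟩ := exists_conj_mem S g 2 (by rw [hg]; norm_num)
  have h1 : orderOf (⟨c * g * c⁻¹, hc⟩ : ↥(S : Subgroup G)) = 4 := by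
    rw [← Subgroup.orderOf_coe, orderOf_conj', hg]
  rcases isConj_of_mem_of_orderOf_four P _ h1 with (h | h) | h
  · left
    have h2 : c * g * c⁻¹ = aG P := h
    rw [← h2]; exact isConj_conj c g
  · left
    have h2 : c * g * c⁻¹ = (aG P)⁻¹ := h
    have := isConj_conj c g
    rw [h2] at this
    exact this.trans (isConj_aG_inv P)
  · right
    exact (isConj_conj c g).trans h

theorem card_classes_two :
    (IsConj (zG P) (yG P) →
      Nat.card {C : ConjClasses G // ∃ t : G, orderOf t = 2 ∧ ConjClasses.mk t = C} = 1) ∧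
    (¬ IsConj (zG P) (yG P) →
      Nat.card {C : ConjClasses G // ∃ t : G, orderOf t = 2 ∧ ConjClasses.mk t = C} = 2) :=
  card_classes (fun g => orderOf g = 2) (zG P) (yG P) (orderOf_zG P) (orderOf_yG P)
    (isConj_of_orderOf_two P)

theorem card_classes_four :
    (IsConj (aG P) (bG P) →
      Nat.card {C : ConjClasses G // ∃ t : G, orderOf t = 4 ∧ ConjClasses.mk t = C} = 1) ∧
    (¬ IsConj (aG P) (bG P) →
      Nat.card {C : ConjClasses G // ∃ t : G, orderOf t = 4 ∧ ConjClasses.mk t = C} = 2) :=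
  card_classes (fun g => orderOf g = 4) (aG P) (bG P) (orderOf_aG P) (orderOf_bG P)
    (isConj_of_orderOf_four P)

end Cfsg.Agent.Lib.H6.QDF
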