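import Mathlib
import Cfsg.Agent.Lib.H6.QDF1
import Cfsg.Agent.Lib.H15.Conj

/-! Fusion in finite groups with quasi-dihedral Sylow 2-subgroups, part 2 (helper6):
fusion of involutions and the automizer of a four-subgroup. -/

set_option autoImplicit false

namespace Cfsg.Agent.Lib.H6.QDF

open QD Cfsg.Agent.Lib.H15

section General

variable {G : Type*} [Group G]

theorem isKleinFour_of_equiv {A B : Type*} [Group A] [Group B] (e : A ≃* B) (hA : IsKleinFour A) :
    IsKleinFour B :=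
  ⟨by rw [← Nat.card_congr e.toEquiv]; exact hA.card_four,
   by rw [← Monoid.exponent_eq_of_mulEquiv e]; exact hA.exponent_two⟩

theorem isKleinFour_subgroupOf {T S : Subgroup G} (hT : IsKleinFour T) (hTS : T ≤ S) :
    IsKleinFour (T.subgroupOf S) :=
  isKleinFour_of_equiv (Subgroup.subgroupOfEquivOfLe hTS).symm hT

theorem isKleinFour_cj {T : Subgroup G} (hT : IsKleinFour T) (g : G) : IsKleinFour (cj g T) :=
  isKleinFour_of_equiv ((MulAut.conj g).subgroupMap T) hT

/-- transfer a conjugacy statement inside a subgroup `S` to the ambient group. -/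
theorem cj_eq_of_map_subgroupOf {S A B : Subgroup G} (hA : A ≤ S) (hB : B ≤ S) (s : ↥S)
    (h : (A.subgroupOf S).map (MulAut.conj s).toMonoidHom = B.subgroupOf S) :
    cj (s : G) A = B := by
  ext x
  constructor
  · rintro ⟨a, ha, rfl⟩
    have h1 : (MulAut.conj s) ⟨a, hA ha⟩ ∈ (A.subgroupOf S).map (MulAut.conj s).toMonoidHom :=
      ⟨⟨a, hA ha⟩, Subgroup.mem_subgroupOf.mpr ha, rfl⟩
    rw [h, Subgroup.mem_subgroupOf] at h1
    simpa [MulAut.conj_apply] using h1
  · intro hx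
    have h1 : (⟨x, hB hx⟩ : ↥S) ∈ B.subgroupOf S := Subgroup.mem_subgroupOf.mpr hx
    rw [← h] at h1
    obtain ⟨a, ha, hax⟩ := h1
    refine ⟨(a : G), Subgroup.mem_subgroupOf.mp ha, ?_⟩
    have := congrArg Subtype.val hax
    simpa [MulAut.conj_apply] using this

theorem conj_mul_conj (g a b : G) : g * a * g⁻¹ * (g * b * g⁻¹) = g * (a * b) * g⁻¹ := by group

theorem conj_eq_conj_iff (g a b : G) : g * a * g⁻¹ = g * b * g⁻¹ ↔ a = b := by
  constructor
  · intro h
    have := congrArg (fun u => g⁻¹ * u * g) h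
    simpa [mul_assoc] using this
  · rintro rfl; rfl

theorem conj_conj (g h a : G) : g * (h * a * h⁻¹) * g⁻¹ = (g * h) * a * (g * h)⁻¹ := by group

end General

variable {G : Type*} [Group G] [Finite G] {S : Sylow 2 G} {n : ℕ}
  (P : QD.Pres ↥(S : Subgroup G) n)

/-- the involution `x^(2k) y`, in `G`. -/
def tG (k : ZMod (2 ^ n)) : G := ((P.SR (2 * k) : ↥(S : Subgroup G)) : G)
/-- the involution `x^(2k) y z`, in `G`. -/
def tG' (k : ZMod (2 ^ n)) : G := ((P.SR (2 * k + hf n) : ↥(S : Subgroup G)) : G)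

/-- the four-subgroup data: `T = {1, z, t, t z}` with `t = x^(2k) y`. -/
theorem kleinFour_desc (T : Subgroup G) (hT : IsKleinFour T) (hTS : T ≤ S) :
    ∃ k : ZMod (2 ^ n), ∀ g : G, g ∈ T ↔ g = 1 ∨ g = zG P ∨ g = tG P k ∨ g = tG' P k := by
  obtain ⟨k, hk⟩ := P.kleinFour_mem (T.subgroupOf S) (isKleinFour_subgroupOf hT hTS)
  refine ⟨k, fun g => ?_⟩
  constructor
  · intro hg
    have h1 : (⟨g, hTS hg⟩ : ↥(S : Subgroup G)) ∈ T.subgroupOf S := Subgroup.mem_subgroupOf.mpr hg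
    rw [hk] at h1
    rcases h1 with h | h | h | h
    · left; exact congrArg Subtype.val h
    · right; left; exact congrArg Subtype.val h
    · right; right; left; exact congrArg Subtype.val h
    · right; right; right; exact congrArg Subtype.val h
  · intro hg
    have key : ∀ s : ↥(S : Subgroup G), P.InT k s → (s : G) ∈ T := by
      intro s hs
      exact Subgroup.mem_subgroupOf.mp ((hk s).mpr hs)
    rcases hg with rfl | rfl | rfl | rfl
    · exact T.one_mem
    · exact key _ (Or.inr (Or.inl rfl))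
    · exact key _ (Or.inr (Or.inr (Or.inl rfl)))
    · exact key _ (Or.inr (Or.inr (Or.inr rfl)))

theorem zG_ne_one : zG P ≠ 1 := by
  intro h
  have := orderOf_zG P
  rw [h, orderOf_one] at this
  omega

theorem zG_mul_self : zG P * zG P = 1 := by
  have := pow_orderOf_eq_one (zG P)
  rwa [orderOf_zG, pow_two] at this

theorem zG_inv : (zG P)⁻¹ = zG P := inv_eq_of_mul_eq_one_right (zG_mul_self P)

/-- `z` commutes with `S`. -/
theorem zG_comm (s : ↥(S : Subgroup G)) : zG P * (s : G) = (s : G) * zG P := by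
  have := P.R_hf_comm s
  exact congrArg Subtype.val this

theorem SR_mul_zG (i : ZMod (2 ^ n)) :
    ((P.SR i : ↥(S : Subgroup G)) : G) * zG P = ((P.SR (i + hf n) : ↥(S : Subgroup G)) : G) := by
  have := P.SR_mul_R_hf i
  exact congrArg Subtype.val this

theorem SR_ne_zG (i : ZMod (2 ^ n)) : ((P.SR i : ↥(S : Subgroup G)) : G) ≠ zG P := by
  intro h
  exact P.SR_ne_R _ _ (Subtype.coe_injective h)

theorem SR_ne_one_G (i : ZMod (2 ^ n)) : ((P.SR i : ↥(S : Subgroup G)) : G) ≠ 1 := by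
  intro h
  have : P.SR i = 1 := Subtype.coe_injective h
  exact P.SR_ne_one i this

/-- conjugation by `a = x^(2^(n-2))` swaps `t` and `t z`. -/
theorem aG_conj_SR (i : ZMod (2 ^ n)) :
    aG P * ((P.SR i : ↥(S : Subgroup G)) : G) * (aG P)⁻¹
      = ((P.SR (i + hf n) : ↥(S : Subgroup G)) : G) := by
  have h := P.R_conj_SR (qt n) i
  have e : i + 2 * (1 - qt n) * qt n = i + hf n := by
    rw [two_unit_mul_qt P.hn]
  rw [e] at h
  exact congrArg Subtype.val h

theorem aG_conj_zG : aG P * zG P * (aG P)⁻¹ = zG P := by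
  have h := P.R_conj_R (qt n) (hf n)
  exact congrArg Subtype.val h

theorem isConj_SR_even' (k : ZMod (2 ^ n)) :
    IsConj ((P.SR (2 * k + hf n) : ↥(S : Subgroup G)) : G) (yG P) := by
  have e : 2 * k + hf n = 2 * (k + qt n) := by
    rw [← two_mul_qt P.n_two]; ring
  rw [e]
  exact isConj_SR_even P _

section tG

variable (k : ZMod (2 ^ n))

theorem tG_mul_zG : tG P k * zG P = tG' P k := SR_mul_zG P _

theorem tG'_mul_zG : tG' P k * zG P = tG P k := by
  rw [← tG_mul_zG, mul_assoc, zG_mul_self, mul_one]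

theorem zG_mul_tG : zG P * tG P k = tG P k * zG P := zG_comm P _

theorem tG_ne_one : tG P k ≠ 1 := SR_ne_one_G P _

theorem tG_ne_zG : tG P k ≠ zG P := SR_ne_zG P _

theorem tG_ne_tG' : tG P k ≠ tG' P k := by
  intro h
  have h1 : P.SR (2 * k) = P.SR (2 * k + hf n) := Subtype.coe_injective h
  rw [P.SR_eq_SR_iff] at h1
  have : hf n = 0 := by linear_combination - h1
  exact hf_ne_zero P.n_pos this

theorem aG_conj_tG : aG P * tG P k * (aG P)⁻¹ = tG' P k := aG_conj_SR P _

theorem aG_conj_tG' : aG P * tG' P k * (aG P)⁻¹ = tG P k := by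
  rw [← tG_mul_zG, ← conj_mul_conj, aG_conj_tG, aG_conj_zG, tG'_mul_zG]

theorem isConj_tG : IsConj (tG P k) (yG P) := isConj_SR_even P k

theorem isConj_tG' : IsConj (tG' P k) (yG P) := isConj_SR_even' P k

end tG

section FourGroup

variable {T : Subgroup G} {k : ZMod (2 ^ n)}

theorem four_cent_iff
    (hk : ∀ g : G, g ∈ T ↔ g = 1 ∨ g = zG P ∨ g = tG P k ∨ g = tG' P k) (g : G) :
    g ∈ Subgroup.centralizer (T : Set G) ↔ g * zG P * g⁻¹ = zG P ∧ g * tG P k * g⁻¹ = tG P k := by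
  have hzT : zG P ∈ T := (hk _).mpr (Or.inr (Or.inl rfl))
  have htT : tG P k ∈ T := (hk _).mpr (Or.inr (Or.inr (Or.inl rfl)))
  rw [Subgroup.mem_centralizer_iff]
  constructor
  · intro h
    refine ⟨?_, ?_⟩
    · rw [mul_inv_eq_iff_eq_mul]; exact (h _ hzT).symm
    · rw [mul_inv_eq_iff_eq_mul]; exact (h _ htT).symm
  · rintro ⟨h1, h2⟩ u hu
    rw [mul_inv_eq_iff_eq_mul] at h1 h2
    rcases (hk u).mp hu with rfl | rfl | rfl | rfl
    · rw [one_mul, mul_one]
    · exact h1.symm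
    · exact h2.symm
    · rw [← tG_mul_zG, mul_assoc, ← h1, ← mul_assoc, ← h2, mul_assoc]

theorem aG_mem_normalizer
    (hk : ∀ g : G, g ∈ T ↔ g = 1 ∨ g = zG P ∨ g = tG P k ∨ g = tG' P k) :
    aG P ∈ Subgroup.normalizer (T : Set G) := by
  apply mem_normalizer_of_cj_le
  rintro _ ⟨u, hu, rfl⟩
  show aG P * u * (aG P)⁻¹ ∈ T
  rcases (hk u).mp hu with rfl | rfl | rfl | rfl
  · rw [mul_one, mul_inv_cancel]; exact T.one_mem
  · rw [aG_conj_zG]; exact (hk _).mpr (Or.inr (Or.inl rfl))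
  · rw [aG_conj_tG]; exact (hk _).mpr (Or.inr (Or.inr (Or.inr rfl)))
  · rw [aG_conj_tG']; exact (hk _).mpr (Or.inr (Or.inr (Or.inl rfl)))

/-- If `z` is not fused to `y`, then `|N_G(T) : C_G(T)| = 2`. -/
theorem relIndex_two_of_not_fz (hT : IsKleinFour T) (hTS : T ≤ S)
    (hF : ¬ IsConj (zG P) (yG P)) :
    (Subgroup.centralizer (T : Set G)).relIndex (Subgroup.normalizer (T : Set G)) = 2 := by
  obtain ⟨k, hk⟩ := kleinFour_desc P T hT hTS
  have hzT : zG P ∈ T := (hk _).mpr (Or.inr (Or.inl rfl))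
  have htT : tG P k ∈ T := (hk _).mpr (Or.inr (Or.inr (Or.inl rfl)))
  have hzt : ¬ IsConj (zG P) (tG P k) := fun h => hF (h.trans (isConj_tG P k))
  have hzt' : ¬ IsConj (zG P) (tG' P k) := fun h => hF (h.trans (isConj_tG' P k))
  have hNz : ∀ g ∈ Subgroup.normalizer (T : Set G), g * zG P * g⁻¹ = zG P := by
    intro g hg
    have h1 : g * zG P * g⁻¹ ∈ T := (Subgroup.mem_normalizer_iff.mp hg _).mp hzT
    rcases (hk _).mp h1 with h | h | h | h
    · exact absurd (conj_eq_one_iff.mp h) (zG_ne_one P)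
    · exact h
    · exact absurd (h ▸ isConj_conj g (zG P)) hzt
    · exact absurd (h ▸ isConj_conj g (zG P)) hzt'
  have hNt : ∀ g ∈ Subgroup.normalizer (T : Set G),
      g * tG P k * g⁻¹ = tG P k ∨ g * tG P k * g⁻¹ = tG' P k := by
    intro g hg
    have h1 : g * tG P k * g⁻¹ ∈ T := (Subgroup.mem_normalizer_iff.mp hg _).mp htT
    rcases (hk _).mp h1 with h | h | h | h
    · exact absurd (conj_eq_one_iff.mp h) (tG_ne_one P k)
    · exfalso
      rw [← hNz g hg, conj_eq_conj_iff] at h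
      exact tG_ne_zG P k h
    · left; exact h
    · right; exact h
  have haN := aG_mem_normalizer P hk
  rw [Subgroup.relIndex_eq_two_iff]
  refine ⟨aG P, haN, ?_⟩
  intro b hb
  have hbz := hNz b hb
  have key : (b * aG P) * tG P k * (b * aG P)⁻¹ = b * tG P k * b⁻¹ * zG P := by
    rw [← conj_conj, aG_conj_tG, ← tG_mul_zG, ← conj_mul_conj, hbz]
  have keyz : (b * aG P) * zG P * (b * aG P)⁻¹ = zG P := by
    rw [← conj_conj, aG_conj_zG, hbz]
  rw [four_cent_iff P hk, four_cent_iff P hk]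
  rcases hNt b hb with h | h
  · refine Or.inr ⟨⟨hbz, h⟩, ?_⟩
    rintro ⟨-, h2⟩
    rw [key, h, tG_mul_zG] at h2
    exact tG_ne_tG' P k h2.symm
  · refine Or.inl ⟨⟨keyz, ?_⟩, ?_⟩
    · rw [key, h, tG'_mul_zG]
    · rintro ⟨-, h2⟩
      rw [h] at h2
      exact tG_ne_tG' P k h2.symm

/-- If `z` is fused to `y`, then `|N_G(T) : C_G(T)| ≠ 2`. -/
theorem relIndex_ne_two_of_fz (hT : IsKleinFour T) (hTS : T ≤ S)
    (hF : IsConj (zG P) (yG P)) :
    (Subgroup.centralizer (T : Set G)).relIndex (Subgroup.normalizer (T : Set G)) ≠ 2 := by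
  have : Fact (Nat.Prime 2) := ⟨Nat.prime_two⟩
  obtain ⟨k, hk⟩ := kleinFour_desc P T hT hTS
  have hzT : zG P ∈ T := (hk _).mpr (Or.inr (Or.inl rfl))
  have htT : tG P k ∈ T := (hk _).mpr (Or.inr (Or.inr (Or.inl rfl)))
  -- an element `g₂` with `g₂ t g₂⁻¹ = z`
  have h1 : IsConj (tG P k) (zG P) := (isConj_tG P k).trans hF.symm
  obtain ⟨g₂, hg₂⟩ := isConj_iff.mp h1
  -- `cj g₂ T ≤ C_G(z)`
  have hcomm : ∀ u ∈ T, u * tG P k = tG P k * u := by
    intro u hu
    have hzt : zG P * tG P k = tG P k * zG P := zG_mul_tG P k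
    rcases (hk u).mp hu with rfl | rfl | rfl | rfl
    · rw [one_mul, mul_one]
    · exact hzt
    · rfl
    · rw [← tG_mul_zG, mul_assoc, hzt]
  have hle : cj g₂ T ≤ Subgroup.centralizer ({zG P} : Set G) := by
    rintro _ ⟨u, hu, rfl⟩
    rw [Subgroup.mem_centralizer_singleton_iff]
    show (g₂ * u * g₂⁻¹) * zG P = zG P * (g₂ * u * g₂⁻¹)
    rw [← hg₂, conj_mul_conj, conj_mul_conj, hcomm u hu]
  have hSle : (S : Subgroup G) ≤ Subgroup.centralizer ({zG P} : Set G) := by
    intro s hs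
    rw [Subgroup.mem_centralizer_singleton_iff]
    exact (zG_comm P ⟨s, hs⟩).symm
  have hT2 : IsPGroup 2 (cj g₂ T) := by
    apply IsPGroup.of_card (n := 2)
    rw [card_cj, hT.card_four]; norm_num
  obtain ⟨m, hm, hmS⟩ := Cfsg.Agent.Lib.H10.exists_mem_map_conj_le_of_sylowIn S.2 hSle
    (Cfsg.Agent.Lib.H10.not_dvd_relIndex_of_sylow_le S hSle) hT2 hle
  rw [Subgroup.mem_centralizer_singleton_iff] at hm
  -- `g₃ = m g₂`
  have hT3 : cj (m * g₂) T ≤ S := by
    rw [← cj_cj]; exact hmS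
  have hg₃ : (m * g₂) * tG P k * (m * g₂)⁻¹ = zG P := by
    rw [← conj_conj, hg₂, mul_inv_eq_iff_eq_mul]; exact hm
  -- conjugate back to `T` inside `S`
  obtain ⟨s, hs⟩ := P.kleinFour_conj ((cj (m * g₂) T).subgroupOf S) (T.subgroupOf S)
    (isKleinFour_subgroupOf (isKleinFour_cj hT _) hT3) (isKleinFour_subgroupOf hT hTS)
  have hs' : cj (s : G) (cj (m * g₂) T) = T := cj_eq_of_map_subgroupOf hT3 hTS s hs
  rw [cj_cj] at hs'
  set h := (s : G) * (m * g₂) with hh
  have hhN : h ∈ Subgroup.normalizer (T : Set G) := mem_normalizer_iff_cj_eq.mpr hs'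
  have hht : h * tG P k * h⁻¹ = zG P := by
    rw [hh, ← conj_conj, hg₃, mul_inv_eq_iff_eq_mul]
    exact (zG_comm P s).symm
  -- now the index-two argument
  intro h2
  have haN := aG_mem_normalizer P hk
  have hidx : ((Subgroup.centralizer (T : Set G)).subgroupOf
      (Subgroup.normalizer (T : Set G))).index = 2 := h2
  have hmul := Subgroup.mul_mem_iff_of_index_two hidx
    (a := (⟨aG P, haN⟩ : ↥(Subgroup.normalizer (T : Set G)))) (b := ⟨h, hhN⟩)
  rw [Subgroup.mem_subgroupOf, Subgroup.mem_subgroupOf, Subgroup.mem_subgroupOf] at hmul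
  have ha : aG P ∉ Subgroup.centralizer (T : Set G) := by
    rw [four_cent_iff P hk]
    rintro ⟨-, h3⟩
    rw [aG_conj_tG] at h3
    exact tG_ne_tG' P k h3.symm
  have hh' : h ∉ Subgroup.centralizer (T : Set G) := by
    rw [four_cent_iff P hk]
    rintro ⟨-, h3⟩
    rw [hht] at h3
    exact tG_ne_zG P k h3.symm
  have hprod : aG P * h ∈ Subgroup.centralizer (T : Set G) := by
    apply hmul.mpr
    constructor
    · intro h3; exact absurd h3 ha
    · intro h3; exact absurd h3 hh'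
  rw [four_cent_iff P hk] at hprod
  obtain ⟨-, h3⟩ := hprod
  rw [← conj_conj, hht, aG_conj_zG] at h3
  exact tG_ne_zG P k h3.symm

end FourGroup

end Cfsg.Agent.Lib.H6.QDF
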