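import Mathlib
import Cfsg.Agent.Lib.H6.QDF2
import Cfsg.Agent.Lib.H6.QD7
import Cfsg.Agent.Lib.H1.Complement

/-! Fusion in finite groups with quasi-dihedral Sylow 2-subgroups, part 3 (helper6):
fusion of elements of order four and the automizer of a quaternion subgroup. -/

set_option autoImplicit false

namespace Cfsg.Agent.Lib.H6.QDF

open QD Cfsg.Agent.Lib.H15

variable {G : Type*} [Group G] [Finite G] {S : Sylow 2 G} {n : ℕ}
  (P : QD.Pres ↥(S : Subgroup G) n)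

/-- type `A` in `G`. -/
def GA (u : G) : Prop := ∃ s : ↥(S : Subgroup G), P.TA s ∧ (s : G) = u
/-- type `B₁` in `G`. -/
def GB1 (j : ZMod (2 ^ n)) (u : G) : Prop := ∃ s : ↥(S : Subgroup G), P.TB1 j s ∧ (s : G) = u
/-- type `B₂` in `G`. -/
def GB2 (j : ZMod (2 ^ n)) (u : G) : Prop := ∃ s : ↥(S : Subgroup G), P.TB2 j s ∧ (s : G) = u

/-- the element `b₁ = x^j y` in `G`. -/
def b1G (j : ZMod (2 ^ n)) : G := ((P.SR j : ↥(S : Subgroup G)) : G)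

theorem quat_desc (Q : Subgroup G) (hQS : Q ≤ S) (eQ : Q ≃* QuaternionGroup 2) :
    ∃ k : ZMod (2 ^ n), ∀ g : G, g ∈ Q ↔
      ∃ s : ↥(S : Subgroup G), P.InQ (2 * k + 1) s ∧ (s : G) = g := by
  have e' : Q.subgroupOf S ≃* QuaternionGroup 2 := (Subgroup.subgroupOfEquivOfLe hQS).trans eQ
  obtain ⟨a1, a2, a3⟩ := QD.Pres.quat_hyps (Q.subgroupOf S) e'
  obtain ⟨k, hk⟩ := P.quat_mem (Q.subgroupOf S) a1 a2 a3
  refine ⟨k, fun g => ?_⟩
  constructor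
  · intro hg
    refine ⟨⟨g, hQS hg⟩, ?_, rfl⟩
    rw [← hk]
    exact Subgroup.mem_subgroupOf.mpr hg
  · rintro ⟨s, hs, rfl⟩
    exact Subgroup.mem_subgroupOf.mp ((hk s).mpr hs)

section Types

variable {j : ZMod (2 ^ n)}

theorem GA_aG : GA P (aG P) := ⟨_, P.TA_R_qt, rfl⟩

theorem GB1_b1G : GB1 P j (b1G P j) := ⟨_, P.TB1_SR, rfl⟩

theorem sq_of_GA {u : G} (h : GA P u) : u * u = zG P := by
  obtain ⟨s, hs, rfl⟩ := h
  exact congrArg Subtype.val (P.sq_of_TA hs)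

theorem sq_of_GB1 (hj : hf n * j = hf n) {u : G} (h : GB1 P j u) : u * u = zG P := by
  obtain ⟨s, hs, rfl⟩ := h
  exact congrArg Subtype.val (P.sq_of_TB1 hj hs)

theorem sq_of_GB2 (hj : hf n * j = hf n) {u : G} (h : GB2 P j u) : u * u = zG P := by
  obtain ⟨s, hs, rfl⟩ := h
  exact congrArg Subtype.val (P.sq_of_TB2 hj hs)

theorem not_GA_of_GB1 {u : G} (h : GB1 P j u) : ¬ GA P u := by
  obtain ⟨s, hs, rfl⟩ := h
  rintro ⟨s', hs', h⟩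
  rw [Subtype.coe_injective h] at hs'
  exact P.not_TA_of_TB1 hs hs'

theorem not_GA_of_GB2 {u : G} (h : GB2 P j u) : ¬ GA P u := by
  obtain ⟨s, hs, rfl⟩ := h
  rintro ⟨s', hs', h⟩
  rw [Subtype.coe_injective h] at hs'
  exact P.not_TA_of_TB2 hs hs'

theorem not_GB2_of_GB1 {u : G} (h : GB1 P j u) : ¬ GB2 P j u := by
  obtain ⟨s, hs, rfl⟩ := h
  rintro ⟨s', hs', h⟩
  rw [Subtype.coe_injective h] at hs'
  exact P.not_TB2_of_TB1 hs hs'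

theorem GA_mul_GB1 {u v : G} (hu : GA P u) (hv : GB1 P j v) : GB2 P j (u * v) := by
  obtain ⟨s, hs, rfl⟩ := hu
  obtain ⟨s', hs', rfl⟩ := hv
  exact ⟨s * s', P.TA_mul_TB1 hs hs', rfl⟩

theorem GA_mul_GB2 {u v : G} (hu : GA P u) (hv : GB2 P j v) : GB1 P j (u * v) := by
  obtain ⟨s, hs, rfl⟩ := hu
  obtain ⟨s', hs', rfl⟩ := hv
  exact ⟨s * s', P.TA_mul_TB2 hs hs', rfl⟩

theorem GB2_eq {v : G} (hv : GB2 P j v) : ∃ u, GA P u ∧ v = u * b1G P j := by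
  obtain ⟨s, hs, rfl⟩ := hv
  obtain ⟨u, hu, h⟩ := P.TB2_eq hs
  exact ⟨(u : G), ⟨u, hu, rfl⟩, by rw [h]; rfl⟩

/-- conjugation by elements of `S` preserves type `A`. -/
theorem conj_GA_of_mem {s : G} (hs : s ∈ (S : Subgroup G)) {u : G} (hu : GA P u) :
    GA P (s * u * s⁻¹) := by
  obtain ⟨t, ht, rfl⟩ := hu
  exact ⟨⟨s, hs⟩ * t * ⟨s, hs⟩⁻¹, P.conj_TA _ ht, rfl⟩

theorem isConj_of_GA {u : G} (h : GA P u) : IsConj u (aG P) := by
  obtain ⟨s, hs, rfl⟩ := h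
  rcases P.TA_cases hs with rfl | rfl
  · exact IsConj.refl _
  · exact isConj_R_neg_qt P

include P in
theorem odd_of_four_mul {c : ZMod (2 ^ n)} (hc : 4 * c = 0) (k : ZMod (2 ^ n)) :
    ∃ m, 2 * k + 1 + c = 2 * m + 1 := by
  have h1 : hf n * c = 0 := by
    have := four_mul_e8 (n := n) P.hn
    rw [← this]
    linear_combination e8 n * hc
  rcases even_or_odd c with ⟨m, rfl⟩ | ⟨m, rfl⟩
  · exact ⟨k + m, by ring⟩
  · rw [hf_mul_odd P.n_pos] at h1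
    exact absurd h1 (hf_ne_zero P.n_pos)

theorem isConj_of_GB1 (k : ZMod (2 ^ n)) {u : G} (h : GB1 P (2 * k + 1) u) : IsConj u (bG P) := by
  obtain ⟨s, ⟨c, hc, rfl⟩, rfl⟩ := h
  obtain ⟨m, hm⟩ := odd_of_four_mul P (c := c) (by linear_combination 2 * hc) k
  rw [hm]
  exact isConj_SR_odd P m

theorem isConj_of_GB2 (k : ZMod (2 ^ n)) {u : G} (h : GB2 P (2 * k + 1) u) : IsConj u (bG P) := by
  obtain ⟨s, ⟨c, hc, rfl⟩, rfl⟩ := h
  have h4 : 4 * c = 0 := by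
    have := two_mul_hf (n := n) P.n_pos
    linear_combination 2 * hc + this
  obtain ⟨m, hm⟩ := odd_of_four_mul P h4 k
  rw [hm]
  exact isConj_SR_odd P m

end Types

section Quat

variable {Q : Subgroup G} {k : ZMod (2 ^ n)}

theorem mem_Q_cases
    (hQ : ∀ g : G, g ∈ Q ↔ ∃ s : ↥(S : Subgroup G), P.InQ (2 * k + 1) s ∧ (s : G) = g)
    {g : G} (hg : g ∈ Q) :
    g * g = 1 ∨ GA P g ∨ GB1 P (2 * k + 1) g ∨ GB2 P (2 * k + 1) g := by
  obtain ⟨s, hs, rfl⟩ := (hQ g).mp hg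
  rcases P.inQ_cases hs with ⟨c, hc, rfl⟩ | h | h | h
  · left
    have : P.R c * P.R c = 1 := by rw [P.R_mul_R, ← two_mul, hc, P.R_zero]
    exact congrArg Subtype.val this
  · right; left; exact ⟨s, h, rfl⟩
  · right; right; left; exact ⟨s, h, rfl⟩
  · right; right; right; exact ⟨s, h, rfl⟩

theorem mem_of_GA
    (hQ : ∀ g : G, g ∈ Q ↔ ∃ s : ↥(S : Subgroup G), P.InQ (2 * k + 1) s ∧ (s : G) = g)
    {u : G} (h : GA P u) : u ∈ Q := by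
  obtain ⟨s, hs, rfl⟩ := h
  exact (hQ _).mpr ⟨s, P.inQ_of_TA hs, rfl⟩

theorem mem_of_GB1
    (hQ : ∀ g : G, g ∈ Q ↔ ∃ s : ↥(S : Subgroup G), P.InQ (2 * k + 1) s ∧ (s : G) = g)
    {u : G} (h : GB1 P (2 * k + 1) u) : u ∈ Q := by
  obtain ⟨s, hs, rfl⟩ := h
  exact (hQ _).mpr ⟨s, P.inQ_of_TB1 hs, rfl⟩

theorem mem_of_GB2
    (hQ : ∀ g : G, g ∈ Q ↔ ∃ s : ↥(S : Subgroup G), P.InQ (2 * k + 1) s ∧ (s : G) = g)
    {u : G} (h : GB2 P (2 * k + 1) u) : u ∈ Q := by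
  obtain ⟨s, hs, rfl⟩ := h
  exact (hQ _).mpr ⟨s, P.inQ_of_TB2 hs, rfl⟩

include P in
theorem hj_odd : hf n * (2 * k + 1) = hf n := hf_mul_odd P.n_pos k

/-- the image of an element of order four of `Q` under an element of `N_G(Q)`. -/
theorem conj_types
    (hQ : ∀ g : G, g ∈ Q ↔ ∃ s : ↥(S : Subgroup G), P.InQ (2 * k + 1) s ∧ (s : G) = g)
    {g : G} (hg : g ∈ Subgroup.normalizer (Q : Set G)) {u : G} (hu : u ∈ Q)
    (hsq : u * u = zG P) :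
    GA P (g * u * g⁻¹) ∨ GB1 P (2 * k + 1) (g * u * g⁻¹) ∨ GB2 P (2 * k + 1) (g * u * g⁻¹) := by
  have h1 : g * u * g⁻¹ ∈ Q := (Subgroup.mem_normalizer_iff.mp hg u).mp hu
  rcases mem_Q_cases P hQ h1 with h | h | h | h
  · exfalso
    rw [conj_mul_conj, hsq, conj_eq_one_iff] at h
    exact zG_ne_one P h
  · left; exact h
  · right; left; exact h
  · right; right; exact h

theorem conj_GB1_of_mem
    (hQ : ∀ g : G, g ∈ Q ↔ ∃ s : ↥(S : Subgroup G), P.InQ (2 * k + 1) s ∧ (s : G) = g)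
    {q : G} (hq : q ∈ Q) {v : G} (hv : GB1 P (2 * k + 1) v) :
    GB1 P (2 * k + 1) (q * v * q⁻¹) := by
  obtain ⟨s, hs, rfl⟩ := (hQ q).mp hq
  obtain ⟨t, ht, rfl⟩ := hv
  exact ⟨s * t * s⁻¹, P.conj_TB1_of_inQ hs ht, rfl⟩

/-- elements of `Q C_G(Q)` preserve the class `B₁`. -/
theorem GB1_of_mem_sup
    (hQ : ∀ g : G, g ∈ Q ↔ ∃ s : ↥(S : Subgroup G), P.InQ (2 * k + 1) s ∧ (s : G) = g)
    {g : G} (hg : g ∈ Q ⊔ Subgroup.centralizer (Q : Set G)) :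
    GB1 P (2 * k + 1) (g * b1G P (2 * k + 1) * g⁻¹) := by
  have hnorm : Q ≤ Subgroup.normalizer ((Subgroup.centralizer (Q : Set G) : Subgroup G) : Set G) := by
    intro q hq
    apply mem_normalizer_of_cj_le
    rintro _ ⟨c, hc, rfl⟩
    show q * c * q⁻¹ ∈ Subgroup.centralizer (Q : Set G)
    have hc : c ∈ Subgroup.centralizer (Q : Set G) := hc
    rw [Subgroup.mem_centralizer_iff] at hc ⊢
    intro h hh
    have h1 : q⁻¹ * h * q ∈ Q := Q.mul_mem (Q.mul_mem (Q.inv_mem hq) hh) hq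
    have h2 := hc _ h1
    calc h * (q * c * q⁻¹) = q * ((q⁻¹ * h * q) * c) * q⁻¹ := by group
      _ = q * (c * (q⁻¹ * h * q)) * q⁻¹ := by rw [h2]
      _ = q * c * q⁻¹ * h := by group
  rw [sup_comm] at hg
  obtain ⟨c, hc, q, hq, rfl⟩ := Cfsg.Agent.Lib.H1.mem_sup_of_le_normalizer hnorm hg
  have h1 := conj_GB1_of_mem P hQ hq (GB1_b1G P (j := 2 * k + 1))
  have h2 : q * b1G P (2 * k + 1) * q⁻¹ ∈ Q := mem_of_GB1 P hQ h1
  rw [Subgroup.mem_centralizer_iff] at hc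
  have h3 := hc _ h2
  have : c * q * b1G P (2 * k + 1) * (c * q)⁻¹ = q * b1G P (2 * k + 1) * q⁻¹ := by
    calc c * q * b1G P (2 * k + 1) * (c * q)⁻¹
        = c * (q * b1G P (2 * k + 1) * q⁻¹) * c⁻¹ := by group
      _ = (q * b1G P (2 * k + 1) * q⁻¹) * c * c⁻¹ := by rw [h3]
      _ = q * b1G P (2 * k + 1) * q⁻¹ := by group
  rw [this]
  exact h1

theorem comm_R_of_four {w : G} (hw : w * aG P = aG P * w) {c : ZMod (2 ^ n)} (hc : 4 * c = 0) :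
    w * ((P.R c : ↥(S : Subgroup G)) : G) = ((P.R c : ↥(S : Subgroup G)) : G) * w := by
  have ha2 : ((P.R (hf n) : ↥(S : Subgroup G)) : G) = aG P * aG P := by
    have : P.R (hf n) = P.R (qt n) * P.R (qt n) := by
      rw [P.R_mul_R, ← two_mul, two_mul_qt P.n_two]
    rw [this]; rfl
  have ha3 : ((P.R (- qt n) : ↥(S : Subgroup G)) : G) = (aG P)⁻¹ := by
    rw [P.R_neg]; rfl
  rcases (four_mul_eq_zero_iff P.n_two c).mp hc with rfl | rfl | rfl | rfl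
  · rw [P.R_zero]; simp
  · exact hw
  · rw [ha2, ← mul_assoc, hw, mul_assoc, hw, mul_assoc]
  · rw [ha3]
    have := congrArg (fun u => (aG P)⁻¹ * u * (aG P)⁻¹) hw
    simp only [mul_assoc, mul_inv_cancel, mul_one, inv_mul_cancel_left] at this
    exact this.symm

/-- an element fixing `a` and `b₁` centralizes `Q`. -/
theorem mem_centralizer_of_fix
    (hQ : ∀ g : G, g ∈ Q ↔ ∃ s : ↥(S : Subgroup G), P.InQ (2 * k + 1) s ∧ (s : G) = g)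
    {w : G} (hwa : w * aG P = aG P * w)
    (hwb : w * b1G P (2 * k + 1) = b1G P (2 * k + 1) * w) :
    w ∈ Subgroup.centralizer (Q : Set G) := by
  rw [Subgroup.mem_centralizer_iff]
  intro h hh
  obtain ⟨s, hs, rfl⟩ := (hQ h).mp hh
  rcases hs with ⟨c, hc, rfl⟩ | ⟨c, hc, rfl⟩
  · exact (comm_R_of_four P hwa hc).symm
  · have e : ((P.SR (2 * k + 1 + c) : ↥(S : Subgroup G)) : G)
        = ((P.R c : ↥(S : Subgroup G)) : G) * b1G P (2 * k + 1) := by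
      have : P.SR (2 * k + 1 + c) = P.R c * P.SR (2 * k + 1) := by
        rw [P.R_mul_SR, add_comm]
      rw [this]; rfl
    rw [e, mul_assoc, ← hwb, ← mul_assoc, ← comm_R_of_four P hwa hc, mul_assoc]

/-- an element of `N_G(Q)` preserving the classes `A` and `B₁` lies in `Q C_G(Q)`. -/
theorem mem_sup_of_types
    (hQ : ∀ g : G, g ∈ Q ↔ ∃ s : ↥(S : Subgroup G), P.InQ (2 * k + 1) s ∧ (s : G) = g)
    {g : G} (ha : GA P (g * aG P * g⁻¹))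
    (hb : GB1 P (2 * k + 1) (g * b1G P (2 * k + 1) * g⁻¹)) :
    g ∈ Q ⊔ Subgroup.centralizer (Q : Set G) := by
  obtain ⟨s₁, ⟨c₁, hc₁, rfl⟩, h₁⟩ := ha
  obtain ⟨s₂, ⟨c₂, hc₂, rfl⟩, h₂⟩ := hb
  obtain ⟨q, hq, hqa, hqb⟩ := P.exists_inQ_conj (j := 2 * k + 1) hc₁ hc₂
  have hqa' : (q : G) * aG P * (q : G)⁻¹ = g * aG P * g⁻¹ := by
    rw [← h₁, ← hqa]; rfl
  have hqb' : (q : G) * b1G P (2 * k + 1) * (q : G)⁻¹ = g * b1G P (2 * k + 1) * g⁻¹ := by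
    rw [← h₂, ← hqb]; rfl
  have hqQ : (q : G) ∈ Q := (hQ _).mpr ⟨q, hq, rfl⟩
  have key : ∀ u : G, (q : G) * u * (q : G)⁻¹ = g * u * g⁻¹ →
      ((q : G)⁻¹ * g) * u = u * ((q : G)⁻¹ * g) := by
    intro u hu
    have : u = (q : G)⁻¹ * (g * u * g⁻¹) * (q : G) := by rw [← hu]; group
    calc ((q : G)⁻¹ * g) * u = (q : G)⁻¹ * (g * u * g⁻¹) * (q : G) * ((q : G)⁻¹ * g) := by group
      _ = u * ((q : G)⁻¹ * g) := by rw [← this]
  have hw : (q : G)⁻¹ * g ∈ Subgroup.centralizer (Q : Set G) :=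
    mem_centralizer_of_fix P hQ (key _ hqa') (key _ hqb')
  have : g = (q : G) * ((q : G)⁻¹ * g) := by group
  rw [this]
  exact Subgroup.mul_mem_sup hqQ hw

/-- the element `x^(2^(n-3))` of `N_S(Q)`. -/
def s0G : G := ((P.R (e8 n) : ↥(S : Subgroup G)) : G)

theorem s0G_mem_normalizer
    (hQ : ∀ g : G, g ∈ Q ↔ ∃ s : ↥(S : Subgroup G), P.InQ (2 * k + 1) s ∧ (s : G) = g) :
    s0G P ∈ Subgroup.normalizer (Q : Set G) := by
  apply mem_normalizer_of_cj_le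
  rintro _ ⟨u, hu, rfl⟩
  show s0G P * u * (s0G P)⁻¹ ∈ Q
  obtain ⟨s, hs, rfl⟩ := (hQ u).mp hu
  exact (hQ _).mpr ⟨P.R (e8 n) * s * (P.R (e8 n))⁻¹, P.e8_conj_inQ hs, rfl⟩

theorem s0G_conj_b1G : GB2 P (2 * k + 1) (s0G P * b1G P (2 * k + 1) * (s0G P)⁻¹) :=
  ⟨_, P.e8_conj_TB1, rfl⟩

theorem s0G_conj_GA {u : G} (hu : GA P u) : s0G P * u * (s0G P)⁻¹ = u := by
  obtain ⟨s, ⟨c, hc, rfl⟩, rfl⟩ := hu
  exact congrArg Subtype.val (P.R_conj_R (e8 n) c)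

end Quat

end Cfsg.Agent.Lib.H6.QDF
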