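import Mathlib
import Cfsg.Agent.Lib.H6.QDF3

/-! Fusion in finite groups with quasi-dihedral Sylow 2-subgroups, part 4 (helper6):
`|N_G(Q) : Q C_G(Q)|` and the fusion of elements of order four. -/

set_option autoImplicit false

namespace Cfsg.Agent.Lib.H6.QDF

open QD Cfsg.Agent.Lib.H15

theorem mem_set_normalizer_of_forall {G : Type*} [Group G] [Finite G] {X : Set G} {g : G}
    (h : ∀ u ∈ X, g * u * g⁻¹ ∈ X) : g ∈ Subgroup.normalizer X := by
  rw [Subgroup.mem_set_normalizer_iff]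
  intro u
  constructor
  · exact h u
  · intro hu
    let f : X → X := fun v => ⟨g * v * g⁻¹, h v v.2⟩
    have hinj : Function.Injective f := by
      intro v w hvw
      have : g * v * g⁻¹ = g * w * g⁻¹ := congrArg Subtype.val hvw
      exact Subtype.ext ((conj_eq_conj_iff g _ _).mp this)
    have hsurj : Function.Surjective f := Finite.injective_iff_surjective.mp hinj
    obtain ⟨v, hv⟩ := hsurj ⟨g * u * g⁻¹, hu⟩
    have : g * v * g⁻¹ = g * u * g⁻¹ := congrArg Subtype.val hv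
    rw [← (conj_eq_conj_iff g _ _).mp this]
    exact v.2

variable {G : Type*} [Group G] [Finite G] {S : Sylow 2 G} {n : ℕ}
  (P : QD.Pres ↥(S : Subgroup G) n)

/-- If `a` is not fused to `b`, then `|N_G(Q) : Q C_G(Q)| = 2`. -/
theorem relIndex_two_of_not_fa (Q : Subgroup G) (hQS : Q ≤ S) (eQ : Q ≃* QuaternionGroup 2)
    (hF : ¬ IsConj (aG P) (bG P)) :
    (Q ⊔ Subgroup.centralizer (Q : Set G)).relIndex (Subgroup.normalizer (Q : Set G)) = 2 := by
  obtain ⟨k, hQ⟩ := quat_desc P Q hQS eQ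
  have hj := hj_odd P (k := k)
  have hNA : ∀ g ∈ Subgroup.normalizer (Q : Set G), ∀ u, GA P u → GA P (g * u * g⁻¹) := by
    intro g hg u hu
    rcases conj_types P hQ hg (mem_of_GA P hQ hu) (sq_of_GA P hu) with h | h | h
    · exact h
    · exfalso
      exact hF ((isConj_of_GA P hu).symm.trans ((isConj_conj g u).trans (isConj_of_GB1 P k h)))
    · exfalso
      exact hF ((isConj_of_GA P hu).symm.trans ((isConj_conj g u).trans (isConj_of_GB2 P k h)))
  have hb1 : GB1 P (2 * k + 1) (b1G P (2 * k + 1)) := GB1_b1G P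
  have hNB : ∀ g ∈ Subgroup.normalizer (Q : Set G),
      GB1 P (2 * k + 1) (g * b1G P (2 * k + 1) * g⁻¹) ∨
        GB2 P (2 * k + 1) (g * b1G P (2 * k + 1) * g⁻¹) := by
    intro g hg
    rcases conj_types P hQ hg (mem_of_GB1 P hQ hb1) (sq_of_GB1 P hj hb1) with h | h | h
    · exfalso
      exact hF ((isConj_of_GA P h).symm.trans
        ((isConj_conj g _).symm.trans (isConj_of_GB1 P k hb1)))
    · left; exact h
    · right; exact h
  rw [Subgroup.relIndex_eq_two_iff]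
  refine ⟨s0G P, s0G_mem_normalizer P hQ, ?_⟩
  intro b hb
  obtain ⟨u, hu, hu'⟩ := GB2_eq P (s0G_conj_b1G P (k := k))
  have key : (b * s0G P) * b1G P (2 * k + 1) * (b * s0G P)⁻¹
      = (b * u * b⁻¹) * (b * b1G P (2 * k + 1) * b⁻¹) := by
    rw [← conj_conj, hu', conj_mul_conj]
  have keyA : (b * s0G P) * aG P * (b * s0G P)⁻¹ = b * aG P * b⁻¹ := by
    rw [← conj_conj, s0G_conj_GA P (GA_aG P)]
  have hbu : GA P (b * u * b⁻¹) := hNA b hb u hu
  have hba : GA P (b * aG P * b⁻¹) := hNA b hb _ (GA_aG P)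
  rcases hNB b hb with h | h
  · refine Or.inr ⟨mem_sup_of_types P hQ hba h, ?_⟩
    intro hmem
    have h1 := GB1_of_mem_sup P hQ hmem
    rw [key] at h1
    exact not_GB2_of_GB1 P h1 (GA_mul_GB1 P hbu h)
  · refine Or.inl ⟨?_, ?_⟩
    · apply mem_sup_of_types P hQ
      · rw [keyA]; exact hba
      · rw [key]; exact GA_mul_GB2 P hbu h
    · intro hmem
      exact not_GB2_of_GB1 P (GB1_of_mem_sup P hQ hmem) h

/-- If `a` is fused to `b`, then `|N_G(Q) : Q C_G(Q)| ≠ 2`. -/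
theorem relIndex_ne_two_of_fa (Q : Subgroup G) (hQS : Q ≤ S) (eQ : Q ≃* QuaternionGroup 2)
    (hF : IsConj (aG P) (bG P)) :
    (Q ⊔ Subgroup.centralizer (Q : Set G)).relIndex (Subgroup.normalizer (Q : Set G)) ≠ 2 := by
  have : Fact (Nat.Prime 2) := ⟨Nat.prime_two⟩
  obtain ⟨k, hQ⟩ := quat_desc P Q hQS eQ
  have hj := hj_odd P (k := k)
  have hb1 : GB1 P (2 * k + 1) (b1G P (2 * k + 1)) := GB1_b1G P
  have h1 : IsConj (b1G P (2 * k + 1)) (aG P) := (isConj_of_GB1 P k hb1).trans hF.symm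
  obtain ⟨g₁, hg₁⟩ := isConj_iff.mp h1
  -- `g₁` fixes `z`
  have hg₁z : g₁ * zG P * g₁⁻¹ = zG P := by
    have hz := sq_of_GB1 P hj hb1
    calc g₁ * zG P * g₁⁻¹ = g₁ * (b1G P (2 * k + 1) * b1G P (2 * k + 1)) * g₁⁻¹ := by rw [hz]
      _ = zG P := by rw [← conj_mul_conj, hg₁, sq_of_GA P (GA_aG P)]
  -- correspondence between the classes `B₁` and `A` under `g₁`
  have hBA : ∀ v, GB1 P (2 * k + 1) v → GA P (g₁ * v * g₁⁻¹) := by
    rintro _ ⟨s, hs, rfl⟩
    rcases P.TB1_cases hs with rfl | rfl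
    · have : g₁ * ((P.SR (2 * k + 1) : ↥(S : Subgroup G)) : G) * g₁⁻¹ = aG P := hg₁
      rw [this]; exact GA_aG P
    · have e : ((P.SR (2 * k + 1) * P.R (hf n) : ↥(S : Subgroup G)) : G)
          = b1G P (2 * k + 1) * zG P := rfl
      rw [e, ← conj_mul_conj, hg₁, hg₁z]
      refine ⟨P.R (qt n) * P.R (hf n), ?_, rfl⟩
      rw [P.R_mul_R]
      refine ⟨qt n + hf n, ?_, rfl⟩
      have h1 := two_mul_qt (n := n) P.n_two
      have h2 := two_mul_hf (n := n) P.n_pos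
      linear_combination h1 + h2
  have hAB : ∀ u, GA P u → ∃ v, GB1 P (2 * k + 1) v ∧ u = g₁ * v * g₁⁻¹ := by
    rintro _ ⟨s, hs, rfl⟩
    rcases P.TA_cases hs with rfl | rfl
    · exact ⟨b1G P (2 * k + 1), hb1, hg₁.symm⟩
    · refine ⟨b1G P (2 * k + 1) * zG P, ⟨P.SR (2 * k + 1) * P.R (hf n), ?_, rfl⟩, ?_⟩
      · rw [P.SR_mul_R_hf]
        exact ⟨hf n, two_mul_hf P.n_pos, rfl⟩
      · rw [← conj_mul_conj, hg₁, hg₁z]
        have : P.R (- qt n) = P.R (qt n) * P.R (hf n) := by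
          rw [P.R_mul_R, qt_add_hf P.n_two]
        rw [this]; rfl
  -- the normalizer of the class `A`
  set Na := Subgroup.normalizer {u : G | GA P u} with hNa
  have hSle : (S : Subgroup G) ≤ Na := by
    intro s hs
    apply mem_set_normalizer_of_forall
    intro u hu
    exact conj_GA_of_mem P hs hu
  have hle : cj g₁ Q ≤ Na := by
    rintro _ ⟨q, hq, rfl⟩
    apply mem_set_normalizer_of_forall
    intro u hu
    obtain ⟨v, hv, rfl⟩ := hAB u hu
    show GA P ((g₁ * q * g₁⁻¹) * (g₁ * v * g₁⁻¹) * (g₁ * q * g₁⁻¹)⁻¹)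
    have e : (g₁ * q * g₁⁻¹) * (g₁ * v * g₁⁻¹) * (g₁ * q * g₁⁻¹)⁻¹ = g₁ * (q * v * q⁻¹) * g₁⁻¹ := by
      group
    rw [e]
    exact hBA _ (conj_GB1_of_mem P hQ hq hv)
  have hcardQ : Nat.card Q = 8 := (QD.Pres.quat_hyps Q eQ).1
  have hQ2 : IsPGroup 2 (cj g₁ Q) := by
    apply IsPGroup.of_card (n := 3)
    rw [card_cj, hcardQ]; norm_num
  obtain ⟨m, hm, hmS⟩ := Cfsg.Agent.Lib.H10.exists_mem_map_conj_le_of_sylowIn S.2 hSle
    (Cfsg.Agent.Lib.H10.not_dvd_relIndex_of_sylow_le S hSle) hQ2 hle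
  have hma : GA P (m * aG P * m⁻¹) :=
    (Subgroup.mem_set_normalizer_iff.mp hm (aG P)).mp (GA_aG P)
  have hQ3 : cj (m * g₁) Q ≤ S := by
    rw [← cj_cj]; exact hmS
  have hg₃ : (m * g₁) * b1G P (2 * k + 1) * (m * g₁)⁻¹ = m * aG P * m⁻¹ := by
    rw [← conj_conj, hg₁]
  -- conjugate back to `Q` inside `S`
  have e₃ : cj (m * g₁) Q ≃* QuaternionGroup 2 :=
    ((MulAut.conj (m * g₁)).subgroupMap Q).symm.trans eQ
  obtain ⟨s, hs⟩ := P.quat_conj ((cj (m * g₁) Q).subgroupOf S) (Q.subgroupOf S)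
    ⟨(Subgroup.subgroupOfEquivOfLe hQ3).trans e₃⟩ ⟨(Subgroup.subgroupOfEquivOfLe hQS).trans eQ⟩
  have hs' : cj (s : G) (cj (m * g₁) Q) = Q := cj_eq_of_map_subgroupOf hQ3 hQS s hs
  rw [cj_cj] at hs'
  set h := (s : G) * (m * g₁) with hh
  have hhN : h ∈ Subgroup.normalizer (Q : Set G) := mem_normalizer_iff_cj_eq.mpr hs'
  have hhb : GA P (h * b1G P (2 * k + 1) * h⁻¹) := by
    rw [hh, ← conj_conj, hg₃]
    exact conj_GA_of_mem P s.2 hma
  -- the index-two argument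
  intro h2
  have hs0N := s0G_mem_normalizer P hQ
  have hidx : ((Q ⊔ Subgroup.centralizer (Q : Set G)).subgroupOf
      (Subgroup.normalizer (Q : Set G))).index = 2 := h2
  have hmul := Subgroup.mul_mem_iff_of_index_two hidx
    (a := (⟨s0G P, hs0N⟩ : ↥(Subgroup.normalizer (Q : Set G)))) (b := ⟨h, hhN⟩)
  rw [Subgroup.mem_subgroupOf, Subgroup.mem_subgroupOf, Subgroup.mem_subgroupOf] at hmul
  have h1 : s0G P ∉ Q ⊔ Subgroup.centralizer (Q : Set G) := by
    intro hmem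
    exact not_GB2_of_GB1 P (GB1_of_mem_sup P hQ hmem) (s0G_conj_b1G P)
  have h2' : h ∉ Q ⊔ Subgroup.centralizer (Q : Set G) := by
    intro hmem
    exact not_GA_of_GB1 P (GB1_of_mem_sup P hQ hmem) hhb
  have hprod : s0G P * h ∈ Q ⊔ Subgroup.centralizer (Q : Set G) := by
    apply hmul.mpr
    constructor
    · intro h3; exact absurd h3 h1
    · intro h3; exact absurd h3 h2'
  have h3 := GB1_of_mem_sup P hQ hprod
  rw [← conj_conj, s0G_conj_GA P hhb] at h3
  exact not_GA_of_GB1 P h3 hhb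

end Cfsg.Agent.Lib.H6.QDF
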