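import Mathlib
import Cfsg.Agent.Lib.H6.QDF4
import Cfsg.Agent.Lib.H6.PResidual2
import Cfsg.Agent.S1241

/-! Fusion in finite groups with quasi-dihedral Sylow 2-subgroups, part 5 (helper6):
subgroups of index two and transfer. -/

set_option autoImplicit false

namespace Cfsg.Agent.Lib.H6.QDF

open QD Cfsg.Agent.Lib.H15

variable {G : Type*} [Group G] [Finite G] {S : Sylow 2 G} {n : ℕ}
  (P : QD.Pres ↥(S : Subgroup G) n)

/-- a subgroup of index two of `G` meets `S` in a subgroup of index two. -/
theorem index_subgroupOf_sylow (S : Sylow 2 G) (H : Subgroup G) (hH : H.index = 2) :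
    (H.subgroupOf S).index = 2 := by
  have : Fact (Nat.Prime 2) := ⟨Nat.prime_two⟩
  have hn : H.Normal := Subgroup.normal_of_index_eq_two hH
  have h1 : H.relIndex S ∣ 2 := by
    have := Subgroup.relIndex_dvd_index_of_normal H S
    rwa [hH] at this
  have h2 : H.relIndex S ≠ 1 := by
    intro h
    rw [Subgroup.relIndex_eq_one] at h
    have h3 := Subgroup.relIndex_mul_index h
    rw [hH] at h3
    exact S.not_dvd_index ⟨(S : Subgroup G).relIndex H, by rw [← h3]; ring⟩
  rcases (Nat.dvd_prime Nat.prime_two).mp h1 with h | h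
  · exact absurd h h2
  · exact h

/-- If both fusions occur then `G` has no subgroup of index two. -/
theorem no_index_two (hz : IsConj (zG P) (yG P)) (ha : IsConj (aG P) (bG P))
    (H : Subgroup G) : H.index ≠ 2 := by
  intro hH
  have hn : H.Normal := Subgroup.normal_of_index_eq_two hH
  have hH' := index_subgroupOf_sylow S H hH
  have hsq : ∀ s : ↥(S : Subgroup G), s * s ∈ H.subgroupOf S := by
    intro s
    have := Subgroup.sq_mem_of_index_two hH' s
    rwa [pow_two] at this
  have hzH : zG P ∈ H := by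
    have h1 := hsq (P.R (qt n))
    rw [P.R_mul_R, ← two_mul, two_mul_qt P.n_two] at h1
    exact Subgroup.mem_subgroupOf.mp h1
  have haH : aG P ∈ H := by
    have h1 := hsq (P.R (e8 n))
    rw [P.R_mul_R, ← two_mul, two_mul_e8 P.hn] at h1
    exact Subgroup.mem_subgroupOf.mp h1
  obtain ⟨g, hg⟩ := isConj_iff.mp hz
  obtain ⟨g', hg'⟩ := isConj_iff.mp ha
  have hyH : P.SR 0 ∈ H.subgroupOf S := by
    rw [Subgroup.mem_subgroupOf]
    show yG P ∈ H
    rw [← hg]; exact hn.conj_mem _ hzH g
  have hbH : P.SR 1 ∈ H.subgroupOf S := by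
    rw [Subgroup.mem_subgroupOf]
    show bG P ∈ H
    rw [← hg']; exact hn.conj_mem _ haH g'
  have hxH : P.R 1 ∈ H.subgroupOf S := by
    have := (H.subgroupOf S).mul_mem hbH hyH
    rwa [P.SR_mul_SR, mul_zero, add_zero] at this
  have htop : H.subgroupOf S = ⊤ := by
    rw [eq_top_iff]
    intro s _
    have hR : ∀ i : ZMod (2 ^ n), P.R i ∈ H.subgroupOf S := by
      intro i
      have : P.R i = P.R 1 ^ i.val := by
        rw [P.R_pow, mul_one, ZMod.natCast_zmod_val]
      rw [this]
      exact (H.subgroupOf S).pow_mem hxH _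
    rcases P.cases s with ⟨i, rfl⟩ | ⟨i, rfl⟩
    · exact hR i
    · have : P.SR i = P.R i * P.SR 0 := by rw [P.R_mul_SR, add_zero]
      rw [this]
      exact (H.subgroupOf S).mul_mem (hR i) hyH
  rw [htop, Subgroup.index_top] at hH'
  omega

end Cfsg.Agent.Lib.H6.QDF
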