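import Mathlib
import Cfsg.Agent.Lib.H6.QDF5

/-! Fusion in finite groups with quasi-dihedral Sylow 2-subgroups, part 6 (helper6):
transfer: elements outside `O^2(G) G'`. -/

set_option autoImplicit false

namespace Cfsg.Agent.Lib.H6.QDF

open QD Cfsg.Agent.Lib.H15

section General

variable {S : Type*} [Group S]

theorem zpow_two_cases (u : S) (h2 : u * u = 1) (m : ℤ) : u ^ m = 1 ∨ u ^ m = u := by
  have h : u ^ (2 : ℤ) = 1 := by rw [zpow_two]; exact h2
  have hm : m = 2 * (m / 2) + m % 2 := (Int.mul_ediv_add_emod m 2).symm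
  have e : u ^ m = u ^ (m % 2) := by
    conv_lhs => rw [hm, zpow_add, zpow_mul, h, one_zpow, one_mul]
  rcases Int.emod_two_eq_zero_or_one m with h0 | h1
  · left; rw [e, h0, zpow_zero]
  · right; rw [e, h1, zpow_one]

theorem zpow_four_cases (u : S) (h4 : (u * u) * (u * u) = 1) (m : ℤ) :
    u ^ m = 1 ∨ u ^ m = u ∨ u ^ m = u * u ∨ u ^ m = u * u * u := by
  have h : u ^ (4 : ℤ) = 1 := by
    have : (4 : ℤ) = 2 + 2 := by norm_num
    rw [this, zpow_add, zpow_two]; exact h4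
  have hm : m = 4 * (m / 4) + m % 4 := (Int.mul_ediv_add_emod m 4).symm
  have e : u ^ m = u ^ (m % 4) := by
    conv_lhs => rw [hm, zpow_add, zpow_mul, h, one_zpow, one_mul]
  have h1 : 0 ≤ m % 4 := Int.emod_nonneg m (by norm_num)
  have h2 : m % 4 < 4 := Int.emod_lt_of_pos m (by norm_num)
  have h3 : m % 4 = 0 ∨ m % 4 = 1 ∨ m % 4 = 2 ∨ m % 4 = 3 := by omega
  rcases h3 with h0 | h0 | h0 | h0
  · left; rw [e, h0, zpow_zero]
  · right; left; rw [e, h0, zpow_one]
  · right; right; left; rw [e, h0, zpow_two]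
  · right; right; right
    rw [e, h0]
    have : (3 : ℤ) = 2 + 1 := by norm_num
    rw [this, zpow_add, zpow_two, zpow_one]

end General

end Cfsg.Agent.Lib.H6.QDF

namespace Cfsg.Agent.Lib.H6.QD.Pres

variable {S : Type*} [Group S] {n : ℕ} (P : QD.Pres S n)

theorem R_zpow (i : ZMod (2 ^ n)) (m : ℤ) : P.R i ^ m = P.R ((m : ZMod (2 ^ n)) * i) := by
  obtain ⟨k, rfl | rfl⟩ := m.eq_nat_or_neg
  · rw [zpow_natCast, P.R_pow, Int.cast_natCast]
  · rw [zpow_neg, zpow_natCast, P.R_pow, P.R_inv, Int.cast_neg, Int.cast_natCast, neg_mul]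

theorem hf_cast : ((2 ^ (n - 1) : ℕ) : ZMod (2 ^ n)) = hf n := by
  unfold hf; push_cast; rfl

end Cfsg.Agent.Lib.H6.QD.Pres

namespace Cfsg.Agent.Lib.H6.QDF

open QD Cfsg.Agent.Lib.H15

variable {G : Type*} [Group G] [Finite G] {S : Sylow 2 G} {n : ℕ}
  (P : QD.Pres ↥(S : Subgroup G) n)

include P in
/-- transfer wrapper: an element of `S` outside an index-two subgroup `M` of `S`, all of whose
powers are controlled modulo `M`, is not in `G'`. -/
theorem not_mem_commutator_of_control (M : Subgroup ↥(S : Subgroup G)) (hM : M.index = 2)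
    (s : ↥(S : Subgroup G)) (hs : s ∉ M)
    (hctrl : ∀ (m : ℤ) (c : G) (t : ↥(S : Subgroup G)),
      c * ((s ^ m : ↥(S : Subgroup G)) : G) * c⁻¹ = (t : G) → t * (s ^ m)⁻¹ ∈ M) :
    (s : G) ∉ commutator G := by
  have : Fact (Nat.Prime 2) := ⟨Nat.prime_two⟩
  have hMn : M.Normal := Subgroup.normal_of_index_eq_two hM
  apply Cfsg.Agent.S1241.result (p := 2) (S : Subgroup G) (M.map (S : Subgroup G).subtype)
  · exact Subgroup.map_subtype_le M
  · show ((M.map (S : Subgroup G).subtype).comap (S : Subgroup G).subtype).Normal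
    rw [Subgroup.comap_map_eq_self_of_injective (Subgroup.subtype_injective _)]
    exact hMn
  · intro x hx y hy
    refine ⟨⟨x, hx⟩ * ⟨y, hy⟩ * ⟨x, hx⟩⁻¹ * ⟨y, hy⟩⁻¹, ?_, rfl⟩
    have hmul := fun a b => Subgroup.mul_mem_iff_of_index_two hM (a := a) (b := b)
    show ⟨x, hx⟩ * ⟨y, hy⟩ * ⟨x, hx⟩⁻¹ * ⟨y, hy⟩⁻¹ ∈ M
    rw [mul_assoc, hmul, hmul, hmul, inv_mem_iff, inv_mem_iff]
  · rw [Nat.Prime.coprime_iff_not_dvd Nat.prime_two]
    exact S.not_dvd_index
  · exact s.2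
  · rintro ⟨m', hm', h⟩
    have : m' = s := Subtype.coe_injective h
    rw [this] at hm'
    exact hs hm'
  · have h1 : orderOf s ∣ 2 ^ (n + 1) := by
      rw [← P.card]; exact orderOf_dvd_natCard s
    obtain ⟨k, -, hk⟩ := (Nat.dvd_prime_pow Nat.prime_two).mp h1
    exact ⟨k, by rw [Subgroup.orderOf_coe]; exact hk⟩
  · intro m a h
    have h1 := hctrl m a ⟨_, h⟩ (by rw [Subgroup.coe_zpow])
    refine ⟨_, h1, ?_⟩
    simp

include P in
/-- elements of `S` outside `G'` are outside `O^2(G) G'`. -/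
theorem not_mem_sup_of_not_mem_commutator (s : ↥(S : Subgroup G))
    (hs : (s : G) ∉ commutator G) : (s : G) ∉ Cfsg.pResidual 2 G ⊔ commutator G := by
  have : Fact (Nat.Prime 2) := ⟨Nat.prime_two⟩
  intro h
  apply hs
  apply Cfsg.Agent.Lib.H6.mem_commutator_of_mem_pResidual_sup 2 (s : G) (n + 1) _ h
  have h1 : s ^ 2 ^ (n + 1) = 1 := by
    rw [← P.card]; exact pow_card_eq_one'
  have := congrArg Subtype.val h1
  simpa using this

end Cfsg.Agent.Lib.H6.QDF
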