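import Mathlib
import Cfsg.Agent.Lib.H6.QDF6

/-! Fusion in finite groups with quasi-dihedral Sylow 2-subgroups, part 7 (helper6):
`y`, `b = x y` and `x` are outside `G'` when the corresponding fusion fails. -/

set_option autoImplicit false

namespace Cfsg.Agent.Lib.H6.QDF

open QD Cfsg.Agent.Lib.H15

variable {G : Type*} [Group G] [Finite G] {S : Sylow 2 G} {n : ℕ}
  (P : QD.Pres ↥(S : Subgroup G) n)

theorem orderOf_of_conj_eq {c : G} {s t : ↥(S : Subgroup G)} (h : c * (s : G) * c⁻¹ = (t : G)) :
    orderOf t = orderOf s := by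
  rw [← Subgroup.orderOf_coe t, ← h, orderOf_conj', Subgroup.orderOf_coe]

theorem isConj_of_conj_eq {c : G} {s t : ↥(S : Subgroup G)} (h : c * (s : G) * c⁻¹ = (t : G)) :
    IsConj (s : G) (t : G) := isConj_iff.mpr ⟨c, h⟩

/-- If `z` is not fused to `y`, then `y ∉ G'`. -/
theorem yG_not_mem_commutator (hF : ¬ IsConj (zG P) (yG P)) : yG P ∉ commutator G := by
  apply not_mem_commutator_of_control P P.M2 P.index_M2 (P.SR 0)
  · rw [P.SR_mem_M2, mul_zero]
    exact fun h => hf_ne_zero P.n_pos h.symm
  · intro m c t h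
    have hsq : P.SR 0 * P.SR 0 = 1 := by rw [P.SR_zero]; exact P.y_sq
    rcases zpow_two_cases (P.SR 0) hsq m with h1 | h1
    · rw [h1] at h ⊢
      have : (t : G) = 1 := by rw [← h]; simp
      have ht : t = 1 := Subtype.coe_injective this
      rw [ht, inv_one, mul_one]; exact P.M2.one_mem
    · rw [h1] at h ⊢
      have ho : orderOf t = 2 := by
        rw [orderOf_of_conj_eq h, P.orderOf_eq_two_iff]
        right; exact ⟨0, by rw [mul_zero]⟩
      rcases (P.orderOf_eq_two_iff t).mp ho with rfl | ⟨k', rfl⟩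
      · exact absurd (isConj_of_conj_eq h).symm hF
      · rw [P.SR_inv, P.SR_mul_SR, P.R_mem_M2]
        have := two_mul_hf (n := n) P.n_pos
        have h2 := mm_mul_mm (n := n) P.n_two
        linear_combination k' * this

/-- If `a` is not fused to `b`, then `b ∉ G'`. -/
theorem bG_not_mem_commutator (hF : ¬ IsConj (aG P) (bG P)) : bG P ∉ commutator G := by
  have h2hf := two_mul_hf (n := n) P.n_pos
  have hmm := mm_mul_mm (n := n) P.n_two
  have hhh := hf_mul_hf (n := n) P.n_two
  have hmh := mm_mul_hf (n := n) P.n_two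
  apply not_mem_commutator_of_control P P.M3 P.index_M3 (P.SR 1)
  · rw [P.SR_mem_M3, mul_one]
    exact hf_ne_zero P.n_pos
  · intro m c t h
    have hsq : P.SR 1 * P.SR 1 = P.R (hf n) := by rw [P.SR_sq, mul_one]
    have h4 : (P.SR 1 * P.SR 1) * (P.SR 1 * P.SR 1) = 1 := by
      rw [hsq, P.R_mul_R, hf_add_hf P.n_pos, P.R_zero]
    have hcube : P.SR 1 * P.SR 1 * P.SR 1 = P.SR (1 + hf n) := by
      rw [hsq, P.R_mul_SR, add_comm]
    have ho4 : ∀ i, orderOf (P.SR (2 * i + 1)) = 4 := by
      intro i
      rw [P.orderOf_eq_four_iff]; right; right; exact ⟨i, rfl⟩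
    -- an element of order four conjugate to an odd reflection is an odd reflection
    have hodd : ∀ i : ZMod (2 ^ n), c * ((P.SR (2 * i + 1) : ↥(S : Subgroup G)) : G) * c⁻¹ = (t : G) →
        ∃ k', t = P.SR (2 * k' + 1) := by
      intro i hi
      have ho : orderOf t = 4 := by rw [orderOf_of_conj_eq hi, ho4]
      rcases (P.orderOf_eq_four_iff t).mp ho with rfl | rfl | ⟨k', rfl⟩
      · exfalso
        exact hF ((isConj_of_conj_eq hi).symm.trans (isConj_SR_odd P i))
      · exfalso
        exact hF ((isConj_R_neg_qt P).symm.trans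
          ((isConj_of_conj_eq hi).symm.trans (isConj_SR_odd P i)))
      · exact ⟨k', rfl⟩
    rcases zpow_four_cases (P.SR 1) h4 m with h1 | h1 | h1 | h1
    · rw [h1] at h ⊢
      have : (t : G) = 1 := by rw [← h]; simp
      have ht : t = 1 := Subtype.coe_injective this
      rw [ht, inv_one, mul_one]; exact P.M3.one_mem
    · rw [h1] at h ⊢
      have h' : c * ((P.SR (2 * 0 + 1) : ↥(S : Subgroup G)) : G) * c⁻¹ = (t : G) := by
        rw [mul_zero, zero_add]; exact h
      obtain ⟨k', rfl⟩ := hodd 0 h'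
      rw [P.SR_inv, P.SR_mul_SR, P.R_mem_M3]
      linear_combination (-hf n) * hmm + k' * h2hf
    · rw [h1, hsq] at h ⊢
      have ho : orderOf t = 2 := by
        rw [orderOf_of_conj_eq h, P.orderOf_eq_two_iff]
        left; rfl
      rcases (P.orderOf_eq_two_iff t).mp ho with rfl | ⟨k', rfl⟩
      · rw [mul_inv_cancel]; exact P.M3.one_mem
      · rw [P.R_inv, P.SR_mul_R, P.SR_mem_M3]
        linear_combination k' * h2hf - hf n * hmh - hhh
    · rw [h1, hcube] at h ⊢
      have e : 1 + hf n = 2 * qt n + 1 := by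
        rw [two_mul_qt P.n_two]; ring
      rw [e] at h
      obtain ⟨k', rfl⟩ := hodd (qt n) h
      rw [P.SR_inv, P.SR_mul_SR, P.R_mem_M3]
      linear_combination (-(hf n) * (1 + hf n)) * hmm + k' * h2hf - hhh

/-- If `a` is not fused to `b`, then `x ∉ G'`. -/
theorem xG_not_mem_commutator (hF : ¬ IsConj (aG P) (bG P)) :
    ((P.R 1 : ↥(S : Subgroup G)) : G) ∉ commutator G := by
  have h2hf := two_mul_hf (n := n) P.n_pos
  have hhh := hf_mul_hf (n := n) P.n_two
  have hmh := mm_mul_hf (n := n) P.n_two
  apply not_mem_commutator_of_control P P.M3 P.index_M3 (P.R 1)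
  · rw [P.R_mem_M3, mul_one]
    exact hf_ne_zero P.n_pos
  · intro m c t h
    rw [P.R_zpow, mul_one] at h ⊢
    generalize (m : ZMod (2 ^ n)) = i₀ at h ⊢
    rcases P.cases t with ⟨i, rfl⟩ | ⟨i, rfl⟩
    · rw [P.R_inv, P.R_mul_R, P.R_mem_M3]
      have hpow : c * ((P.R (hf n * i₀) : ↥(S : Subgroup G)) : G) * c⁻¹
          = ((P.R (hf n * i) : ↥(S : Subgroup G)) : G) := by
        have h1 := congrArg (fun u : G => u ^ (2 ^ (n - 1))) h
        simp only [conj_pow] at h1
        rw [← Subgroup.coe_pow, ← Subgroup.coe_pow, P.R_pow, P.R_pow, QD.Pres.hf_cast] at h1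
        exact h1
      rcases P.parity i₀ with ⟨h0, -⟩ | ⟨h0, -⟩
      · -- `i₀` odd
        rcases P.parity i with ⟨h1, -⟩ | ⟨h1, -⟩
        · linear_combination h1 - h0
        · exfalso
          rw [h0, h1, P.R_zero] at hpow
          have : c * zG P * c⁻¹ = 1 := hpow
          exact zG_ne_one P (conj_eq_one_iff.mp this)
      · -- `i₀` even
        rw [h0, P.R_zero] at hpow
        have h1 : ((P.R (hf n * i) : ↥(S : Subgroup G)) : G) = 1 := by
          rw [← hpow]; simp
        have h2 : P.R (hf n * i) = 1 := Subtype.coe_injective h1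
        rw [P.R_eq_one_iff] at h2
        linear_combination h2 - h0
    · -- `t` is a reflection, so has order at most four
      have h4 : 4 * i₀ = 0 := by
        have h1 := congrArg (fun u : G => u ^ 4) h
        simp only [conj_pow] at h1
        rw [← Subgroup.coe_pow, ← Subgroup.coe_pow, P.R_pow] at h1
        have h2 : P.SR i ^ 4 = 1 := by
          have : P.SR i ^ 4 = (P.SR i * P.SR i) * (P.SR i * P.SR i) := by
            rw [pow_succ, pow_succ, pow_succ, pow_one, mul_assoc]
          rw [this, P.SR_sq, P.R_mul_R, ← two_mul, P.R_eq_one_iff]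
          linear_combination i * h2hf
        rw [h2] at h1
        have h3 : ((P.R ((4 : ℕ) * i₀) : ↥(S : Subgroup G)) : G) = 1 := by
          have := congrArg (fun u : G => c⁻¹ * u * c) h1
          simpa [mul_assoc] using this
        have h5 : P.R ((4 : ℕ) * i₀) = 1 := Subtype.coe_injective h3
        rw [P.R_eq_one_iff] at h5
        push_cast at h5
        exact h5
      have hconj := isConj_of_conj_eq h
      have hord := orderOf_of_conj_eq h
      rcases (four_mul_eq_zero_iff P.n_two i₀).mp h4 with rfl | rfl | rfl | rfl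
      · exfalso
        rw [P.R_zero] at h
        have h1 : ((P.SR i : ↥(S : Subgroup G)) : G) = 1 := by rw [← h]; simp
        exact SR_ne_one_G P i h1
      · exfalso
        have ho : orderOf (P.SR i) = 4 := by
          rw [hord, P.orderOf_eq_four_iff]; left; rfl
        rcases (P.orderOf_eq_four_iff _).mp ho with h1 | h1 | ⟨k', h1⟩
        · exact P.SR_ne_R _ _ h1
        · exact P.SR_ne_R _ _ h1
        · rw [h1] at hconj
          exact hF (hconj.trans (isConj_SR_odd P k'))
      · have ho : orderOf (P.SR i) = 2 := by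
          rw [hord, P.orderOf_eq_two_iff]; left; rfl
        rcases (P.orderOf_eq_two_iff _).mp ho with h1 | ⟨k', h1⟩
        · exact absurd h1 (P.SR_ne_R _ _)
        · rw [h1, P.R_inv, P.SR_mul_R, P.SR_mem_M3]
          linear_combination k' * h2hf - hf n * hmh - hhh
      · exfalso
        have ho : orderOf (P.SR i) = 4 := by
          rw [hord, P.orderOf_eq_four_iff]; right; left; rfl
        rcases (P.orderOf_eq_four_iff _).mp ho with h1 | h1 | ⟨k', h1⟩
        · exact P.SR_ne_R _ _ h1
        · exact P.SR_ne_R _ _ h1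
        · rw [h1] at hconj
          exact hF ((isConj_R_neg_qt P).symm.trans (hconj.trans (isConj_SR_odd P k')))

end Cfsg.Agent.Lib.H6.QDF
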