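import Mathlib
import Cfsg.Agent.Lib.H6.PResidual2
import Cfsg.Agent.Lib.H6.QD4
import Cfsg.Agent.Lib.H10.PResidual
import Cfsg.Agent.Lib.H1.PGroupBasic
import Cfsg.Agent.Lib.H10.SylowIn
import Cfsg.Agent.Lib.H15.Conj

/-! The subgroup `O^2(G) G'` (helper6): index formula through a Sylow 2-subgroup, and the fact that
if it has index two then it has no subgroup of index two. -/

set_option autoImplicit false

namespace Cfsg.Agent.Lib.H6.TwoRes

variable {G : Type*} [Group G]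

/-- `O^2(G) G'`. -/
def Nsub (G : Type*) [Group G] : Subgroup G := Cfsg.pResidual 2 G ⊔ commutator G

instance Nsub_normal : (Nsub G).Normal := by
  haveI := Cfsg.Agent.Lib.H6.pResidual_normal (G := G) 2
  unfold Nsub
  infer_instance

theorem pResidual_le_Nsub : Cfsg.pResidual 2 G ≤ Nsub G := le_sup_left

theorem commutator_le_Nsub : commutator G ≤ Nsub G := le_sup_right

/-- a finite 2-group whose derived subgroup has index two has order two. -/
theorem card_eq_two_of_index_commutator {P : Type*} [Group P] [Finite P] (hP : IsPGroup 2 P)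
    (hidx : (commutator P).index = 2) : Nat.card P = 2 := by
  have : Fact (Nat.Prime 2) := ⟨Nat.prime_two⟩
  have hco : IsCoatom (commutator P) := QD.isCoatom_of_index_two hidx
  have h1 : commutator P ≤ frattini P := Cfsg.Agent.Lib.H1.isPGroup_commutator_le_frattini hP
  have h2 : frattini P ≤ commutator P := frattini_le_coatom hco
  have hne : commutator P ≠ ⊤ := hco.1
  obtain ⟨g, hg⟩ : ∃ g : P, g ∉ commutator P := by
    by_contra hcon
    push Not at hcon
    exact hne (eq_top_iff.mpr fun x _ => hcon x)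
  have htop : Subgroup.zpowers g = ⊤ := by
    rcases eq_top_or_exists_le_coatom (Subgroup.zpowers g) with h | ⟨M, hM, hle⟩
    · exact h
    · exfalso
      have h3 : commutator P ≤ M := h1.trans (frattini_le_coatom hM)
      have h4 : M = commutator P := (hco.le_iff_eq hM.1).mp h3
      exact hg (h4 ▸ hle (Subgroup.mem_zpowers g))
  have hbot : commutator P = ⊥ := by
    rw [commutator_def, eq_bot_iff, Subgroup.commutator_le]
    intro a _ b _
    rw [Subgroup.mem_bot, commutatorElement_eq_one_iff_commute]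
    have ha : a ∈ Subgroup.zpowers g := htop ▸ Subgroup.mem_top a
    have hb : b ∈ Subgroup.zpowers g := htop ▸ Subgroup.mem_top b
    obtain ⟨i, rfl⟩ := Subgroup.mem_zpowers_iff.mp ha
    obtain ⟨j, rfl⟩ := Subgroup.mem_zpowers_iff.mp hb
    exact (Commute.refl g).zpow_zpow i j
  rw [hbot, Subgroup.index_bot] at hidx
  exact hidx

variable [Finite G]

/-- `G = S · O^2(G) G'` for a Sylow 2-subgroup `S`. -/
theorem sylow_sup_Nsub (S : Sylow 2 G) : (S : Subgroup G) ⊔ Nsub G = ⊤ := by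
  have : Fact (Nat.Prime 2) := ⟨Nat.prime_two⟩
  rw [eq_top_iff]
  intro m _
  obtain ⟨s, hs, u, hu, rfl⟩ :=
    Cfsg.Agent.Lib.H10.exists_mul_of_sylow_pResidual 2 (S : Subgroup G) S.not_dvd_index m
  exact Subgroup.mul_mem_sup hs (pResidual_le_Nsub hu)

theorem index_Nsub (S : Sylow 2 G) : (Nsub G).index = ((Nsub G).subgroupOf S).index := by
  have h1 := Subgroup.relIndex_sup_left (S : Subgroup G) (Nsub G)
  rw [sup_comm, sylow_sup_Nsub S, Subgroup.relIndex_top_right] at h1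
  exact h1

/-- the index of `O^2(G) G'` is a power of two. -/
theorem index_Nsub_pow : ∃ k : ℕ, (Nsub G).index = 2 ^ k := by
  have : Fact (Nat.Prime 2) := ⟨Nat.prime_two⟩
  obtain ⟨k, hk⟩ := Cfsg.Agent.Lib.H6.index_pResidual (G := G) 2
  have h1 : (Nsub G).index ∣ 2 ^ k := hk ▸ Subgroup.index_dvd_of_le pResidual_le_Nsub
  obtain ⟨j, -, hj⟩ := (Nat.dvd_prime_pow Nat.prime_two).mp h1
  exact ⟨j, hj⟩

/-- If `O^2(G) G'` has index two in `G` then it has no subgroup of index two. -/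
theorem no_index_two_sub (hidx : (Nsub G).index = 2) (H : Subgroup ↥(Nsub G)) : H.index ≠ 2 := by
  have : Fact (Nat.Prime 2) := ⟨Nat.prime_two⟩
  intro hH
  have hRn := Cfsg.Agent.Lib.H6.pResidual_normal (G := G) 2
  -- the normal subgroup `L₀`
  have hL₀n : (Cfsg.pResidual 2 G ⊔ ⁅Nsub G, Nsub G⁆).Normal := by infer_instance
  have hsq : ∀ h : ↥(Nsub G), h * h ∈ H := by
    intro h
    have := Subgroup.sq_mem_of_index_two hH h
    rwa [pow_two] at this
  have hmul := fun a b => Subgroup.mul_mem_iff_of_index_two hH (a := a) (b := b)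
  -- `L₀ ≤ L`
  have hle : Cfsg.pResidual 2 G ⊔ ⁅Nsub G, Nsub G⁆ ≤ H.map (Nsub G).subtype := by
    apply sup_le
    · unfold Cfsg.pResidual
      rw [Subgroup.closure_le]
      intro g hg
      have hgN : g ∈ Nsub G := pResidual_le_Nsub (Subgroup.subset_closure hg)
      refine ⟨⟨g, hgN⟩, ?_, rfl⟩
      have h1 : (⟨g, hgN⟩ : ↥(Nsub G)) ^ 2 ∈ H := by rw [pow_two]; exact hsq _
      have h2 : (⟨g, hgN⟩ : ↥(Nsub G)) ^ orderOf g ∈ H := by
        have : (⟨g, hgN⟩ : ↥(Nsub G)) ^ orderOf g = 1 := by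
          apply Subtype.ext
          simp [pow_orderOf_eq_one]
        rw [this]; exact H.one_mem
      have hc : Nat.Coprime 2 (orderOf g) := Nat.Coprime.symm hg
      exact Cfsg.Agent.Lib.H6.mem_of_pow_mem_of_coprime hc h1 h2
    · rw [Subgroup.commutator_le]
      intro a ha b hb
      refine ⟨(⟨a, ha⟩ : ↥(Nsub G)) * ⟨b, hb⟩ * (⟨a, ha⟩ : ↥(Nsub G))⁻¹ * (⟨b, hb⟩ : ↥(Nsub G))⁻¹,
        ?_, rfl⟩
      show (⟨a, ha⟩ : ↥(Nsub G)) * ⟨b, hb⟩ * (⟨a, ha⟩ : ↥(Nsub G))⁻¹ * (⟨b, hb⟩ : ↥(Nsub G))⁻¹ ∈ H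
      rw [mul_assoc, hmul, hmul, hmul, inv_mem_iff, inv_mem_iff]
  -- index computations
  have hLN : H.map (Nsub G).subtype ≤ Nsub G := Subgroup.map_subtype_le H
  have hrel : (H.map (Nsub G).subtype).relIndex (Nsub G) = 2 := by
    have : (H.map (Nsub G).subtype).subgroupOf (Nsub G) = H :=
      Subgroup.comap_map_eq_self_of_injective (Subgroup.subtype_injective _) H
    rw [Subgroup.relIndex, this, hH]
  have hL₀N : Cfsg.pResidual 2 G ⊔ ⁅Nsub G, Nsub G⁆ ≤ Nsub G := hle.trans hLN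
  have hidx₀ : (Cfsg.pResidual 2 G ⊔ ⁅Nsub G, Nsub G⁆).index
      = (Cfsg.pResidual 2 G ⊔ ⁅Nsub G, Nsub G⁆).relIndex (H.map (Nsub G).subtype) * 2 * 2 := by
    rw [← Subgroup.relIndex_mul_index hL₀N, hidx,
      ← Subgroup.relIndex_mul_relIndex _ _ _ hle hLN, hrel]
  -- the quotient
  have hQ2 : IsPGroup 2 (G ⧸ (Cfsg.pResidual 2 G ⊔ ⁅Nsub G, Nsub G⁆)) := by
    obtain ⟨k, hk⟩ := Cfsg.Agent.Lib.H6.index_pResidual (G := G) 2
    have h1 : (Cfsg.pResidual 2 G ⊔ ⁅Nsub G, Nsub G⁆).index ∣ 2 ^ k :=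
      hk ▸ Subgroup.index_dvd_of_le le_sup_left
    obtain ⟨j, -, hj⟩ := (Nat.dvd_prime_pow Nat.prime_two).mp h1
    apply IsPGroup.of_card (n := j)
    rw [← hj, Subgroup.index_eq_card]
  have hcomm : (commutator (G ⧸ (Cfsg.pResidual 2 G ⊔ ⁅Nsub G, Nsub G⁆))).index = 2 := by
    have hs : Function.Surjective (QuotientGroup.mk' (Cfsg.pResidual 2 G ⊔ ⁅Nsub G, Nsub G⁆)) :=
      QuotientGroup.mk'_surjective _
    have h1 : commutator (G ⧸ (Cfsg.pResidual 2 G ⊔ ⁅Nsub G, Nsub G⁆))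
        = (commutator G).map (QuotientGroup.mk' (Cfsg.pResidual 2 G ⊔ ⁅Nsub G, Nsub G⁆)) := by
      rw [commutator_def, commutator_def, Subgroup.map_commutator,
        ← MonoidHom.range_eq_map, MonoidHom.range_eq_top.mpr hs]
    rw [h1, Subgroup.index_map, MonoidHom.range_eq_top.mpr hs, Subgroup.index_top, mul_one,
      QuotientGroup.ker_mk']
    have h2 : commutator G ⊔ (Cfsg.pResidual 2 G ⊔ ⁅Nsub G, Nsub G⁆) = Nsub G := by
      apply le_antisymm
      · exact sup_le commutator_le_Nsub hL₀N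
      · unfold Nsub
        apply sup_le
        · exact le_trans le_sup_left le_sup_right
        · exact le_sup_left
    rw [h2, hidx]
  have hcard := card_eq_two_of_index_commutator hQ2 hcomm
  have h3 : Nat.card (G ⧸ (Cfsg.pResidual 2 G ⊔ ⁅Nsub G, Nsub G⁆))
      = (Cfsg.pResidual 2 G ⊔ ⁅Nsub G, Nsub G⁆).index := (Subgroup.index_eq_card _).symm
  rw [h3, hidx₀] at hcard
  have hpos : 0 < (Cfsg.pResidual 2 G ⊔ ⁅Nsub G, Nsub G⁆).relIndex (H.map (Nsub G).subtype) :=
    Nat.pos_of_ne_zero Subgroup.index_ne_zero_of_finite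
  omega

open Cfsg.Agent.Lib.H15 in
/-- Sylow 2-subgroups of a normal subgroup `K` are isomorphic to `S ∩ K`. -/
theorem sylow_equiv_of_normal (S : Sylow 2 G) (K : Subgroup G) [hK : K.Normal] (P : Sylow 2 ↥K) :
    Nonempty (↥(P : Subgroup ↥K) ≃* ↥(K.subgroupOf S)) := by
  have : Fact (Nat.Prime 2) := ⟨Nat.prime_two⟩
  have hPG : IsPGroup 2 ((P : Subgroup ↥K).map K.subtype) := P.2.map _
  obtain ⟨g, hg⟩ := Cfsg.Agent.Lib.H10.exists_map_conj_le_sylow S hPG
  have hgK : cj g ((P : Subgroup ↥K).map K.subtype) ≤ K := by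
    rintro _ ⟨u, ⟨v, -, rfl⟩, rfl⟩
    exact hK.conj_mem _ v.2 g
  have hle : cj g ((P : Subgroup ↥K).map K.subtype) ≤ (S : Subgroup G) ⊓ K := le_inf hg hgK
  -- cardinalities
  have h2 : IsPGroup 2 (((S : Subgroup G) ⊓ K).subgroupOf K) :=
    (S.2.to_le inf_le_left).comap_subtype
  obtain ⟨P', hP'⟩ := h2.exists_le_sylow
  have hc1 : Nat.card ↥((S : Subgroup G) ⊓ K) ≤ Nat.card (P : Subgroup ↥K) := by
    rw [← Nat.card_congr (Subgroup.subgroupOfEquivOfLe (inf_le_right : (S : Subgroup G) ⊓ K ≤ K)).toEquiv,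
      Nat.card_congr (Sylow.equiv P P').toEquiv]
    exact Subgroup.card_le_of_le hP'
  have hc2 : Nat.card (cj g ((P : Subgroup ↥K).map K.subtype)) = Nat.card (P : Subgroup ↥K) := by
    rw [card_cj, Subgroup.card_map_of_injective (Subgroup.subtype_injective K)]
  have heq : cj g ((P : Subgroup ↥K).map K.subtype) = (S : Subgroup G) ⊓ K :=
    eq_of_le_of_card_le' hle (by rw [hc2]; exact hc1)
  have e1 : ↥(P : Subgroup ↥K) ≃* ↥((P : Subgroup ↥K).map K.subtype) :=
    (P : Subgroup ↥K).equivMapOfInjective K.subtype (Subgroup.subtype_injective K)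
  have e2 : ↥((P : Subgroup ↥K).map K.subtype) ≃* ↥(cj g ((P : Subgroup ↥K).map K.subtype)) :=
    (MulAut.conj g).subgroupMap _
  have e3 : ↥(cj g ((P : Subgroup ↥K).map K.subtype)) ≃* ↥((S : Subgroup G) ⊓ K) :=
    MulEquiv.subgroupCongr heq
  have e4 : ↥(K.subgroupOf S) ≃* ↥((S : Subgroup G) ⊓ K) := by
    have h : K.subgroupOf S = ((S : Subgroup G) ⊓ K).subgroupOf S := by
      rw [inf_comm, Subgroup.inf_subgroupOf_right]
    rw [h]
    exact Subgroup.subgroupOfEquivOfLe inf_le_left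
  exact ⟨((e1.trans e2).trans e3).trans e4.symm⟩

end Cfsg.Agent.Lib.H6.TwoRes
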