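import Mathlib
import Cfsg.Agent.Lib.H6.GL2S

set_option autoImplicit false

/-! The Sylow 2-subgroups of `GL(2,q)`, `q` odd (helper6): quasi-dihedral for `q ≡ 3 (mod 4)`,
wreathed for `q ≡ 1 (mod 4)`. -/

open scoped MatrixGroups
open Cfsg Cfsg.Agent.Lib.H6.GL2S

namespace Cfsg.Agent.Lib.H6.GL2Syl


theorem card_GL2' {F : Type*} [Field F] [Fintype F] :
    Nat.card (GL (Fin 2) F) =
      Fintype.card F * (Fintype.card F - 1) ^ 2 * (Fintype.card F + 1) := by
  rw [Matrix.card_GL_field, Fin.prod_univ_two]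
  simp only [Fin.val_zero, Fin.val_one, pow_zero, pow_one]
  have hq : 1 ≤ Fintype.card F := Fintype.card_pos
  obtain ⟨r, hr⟩ : ∃ r, Fintype.card F = r + 1 := ⟨Fintype.card F - 1, by omega⟩
  rw [hr, Nat.add_sub_cancel]
  have h1 : (r + 1) ^ 2 - 1 = r * (r + 2) := by
    have : (r + 1) ^ 2 = r * (r + 2) + 1 := by ring
    rw [this, Nat.add_sub_cancel]
  have h2 : (r + 1) ^ 2 - (r + 1) = r * (r + 1) := by
    have : (r + 1) ^ 2 = r * (r + 1) + (r + 1) := by ring
    rw [this, Nat.add_sub_cancel]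
  rw [h1, h2]
  ring

/-- arithmetic of the case `q ≡ 3 (mod 4)` -/
theorem arith3 {q : ℕ} (hq : q % 4 = 3) :
    ∃ m a b : ℕ, 2 ≤ m ∧ Odd a ∧ Odd b ∧ q + 1 = 2 ^ m * a ∧ q - 1 = 2 * b := by
  obtain ⟨m, a, ha, hqa⟩ := Nat.exists_eq_two_pow_mul_odd (n := q + 1) (by omega)
  refine ⟨m, a, (q - 1) / 2, ?_, ha, ?_, hqa, by omega⟩
  · obtain ⟨c, rfl⟩ := ha
    rcases m with _ | _ | m
    · simp at hqa; omega
    · simp at hqa; omega
    · omega
  · rw [Nat.odd_iff]; omega



section QDcase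

variable (F : Type*) [Field F] [Finite F] (p : ℕ) [Fact p.Prime] [CharP F p]

/-- left multiplication by units of the quadratic extension -/
noncomputable def lmulU : (FiniteField.Extension F p 2)ˣ →* (Module.End F (FiniteField.Extension F p 2))ˣ :=
  Units.map ((Algebra.lmul F (FiniteField.Extension F p 2) :
    FiniteField.Extension F p 2 →ₐ[F] Module.End F (FiniteField.Extension F p 2)) :
      FiniteField.Extension F p 2 →* Module.End F (FiniteField.Extension F p 2))

theorem lmulU_injective : Function.Injective (lmulU F p) :=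
  Units.map_injective Algebra.lmul_injective

theorem lmulU_apply (w : (FiniteField.Extension F p 2)ˣ) (v : FiniteField.Extension F p 2) :
    ((lmulU F p w : (Module.End F (FiniteField.Extension F p 2))ˣ) :
      Module.End F (FiniteField.Extension F p 2)) v = (w : FiniteField.Extension F p 2) * v := rfl

/-- the Frobenius as a unit of the endomorphism ring -/
noncomputable def frobU : (Module.End F (FiniteField.Extension F p 2))ˣ where
  val := (FiniteField.Extension.frob F p 2).toLinearMap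
  inv := (FiniteField.Extension.frob F p 2).symm.toLinearMap
  val_inv := by
    ext v
    exact (FiniteField.Extension.frob F p 2).apply_symm_apply v
  inv_val := by
    ext v
    exact (FiniteField.Extension.frob F p 2).symm_apply_apply v

theorem frobU_apply (v : FiniteField.Extension F p 2) :
    ((frobU F p : (Module.End F (FiniteField.Extension F p 2))ˣ) :
      Module.End F (FiniteField.Extension F p 2)) v = v ^ Nat.card F := by
  show (FiniteField.Extension.frob F p 2) v = _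
  rw [FiniteField.Extension.frob_apply]

theorem frobU_sq : frobU F p * frobU F p = 1 := by
  apply Units.ext
  apply LinearMap.ext
  intro v
  rw [Units.val_mul, Module.End.mul_apply, frobU_apply, frobU_apply, Units.val_one,
    Module.End.one_apply, ← pow_mul, ← pow_two, ← FiniteField.natCard_extension F p 2]
  have := Fintype.ofFinite (FiniteField.Extension F p 2)
  rw [Nat.card_eq_fintype_card, FiniteField.pow_card]

theorem frobU_conj (w : (FiniteField.Extension F p 2)ˣ) :
    frobU F p * lmulU F p w * (frobU F p)⁻¹ = (lmulU F p w) ^ Nat.card F := by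
  rw [mul_inv_eq_iff_eq_mul, ← map_pow]
  apply Units.ext
  apply LinearMap.ext
  intro v
  rw [Units.val_mul, Units.val_mul, Module.End.mul_apply, Module.End.mul_apply, frobU_apply,
    lmulU_apply, lmulU_apply, frobU_apply, mul_pow, Units.val_pow_eq_pow_val]

end QDcase



theorem qd_case {F : Type*} [Field F] [Fintype F] (P : Sylow 2 (GL (Fin 2) F))
    (hq : Fintype.card F % 4 = 3) : Cfsg.IsQuasiDihedral (P : Subgroup (GL (Fin 2) F)) := by
  obtain ⟨m, a, b, hm, ha, hb, hqa, hqb⟩ := arith3 hq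
  obtain ⟨p, hp⟩ := CharP.exists F
  have : Fact p.Prime := ⟨CharP.char_is_prime F p⟩
  have hqN : Nat.card F = Fintype.card F := Nat.card_eq_fintype_card
  have hGL := card_GL2' (F := F)
  generalize Fintype.card F = q at *
  have hqodd : Odd q := by rw [Nat.odd_iff]; omega
  -- order of the Sylow subgroup
  have hcard : Nat.card P = 2 ^ (m + 1 + 1) := by
    apply card_sylow_of_card_eq P (m := q * b ^ 2 * a)
    · rw [hGL, hqa, hqb]
      ring
    · rw [← even_iff_two_dvd, Nat.not_even_iff_odd]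
      exact (hqodd.mul (hb.pow)).mul ha
  -- the extension
  have hK : Nat.card (FiniteField.Extension F p 2)ˣ = (a * b) * 2 ^ (m + 1) := by
    rw [Nat.card_units, FiniteField.natCard_extension, hqN]
    have : q ^ 2 = (q - 1) * (q + 1) + 1 := by
      obtain ⟨r, rfl⟩ : ∃ r, q = r + 1 := ⟨q - 1, by omega⟩
      rw [Nat.add_sub_cancel]; ring
    rw [this, Nat.add_sub_cancel, hqa, hqb]
    ring
  obtain ⟨g, hg⟩ := IsCyclic.exists_ofOrder_eq_natCard (α := (FiniteField.Extension F p 2)ˣ)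
  have hab : a * b ≠ 0 := by
    have := ha.pos; have := hb.pos; positivity
  have hω : orderOf (g ^ (a * b)) = 2 ^ (m + 1) := by
    rw [orderOf_pow_of_dvd hab (by rw [hg, hK]; exact dvd_mul_right _ _), hg, hK,
      Nat.mul_div_cancel_left _ (Nat.pos_of_ne_zero hab)]
  set ω := g ^ (a * b) with hωdef
  let bs := Module.finBasisOfFinrankEq F (FiniteField.Extension F p 2)
    (FiniteField.finrank_extension F p 2)
  let Ψ : (Module.End F (FiniteField.Extension F p 2))ˣ ≃* GL (Fin 2) F :=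
    Units.mapEquiv (LinearMap.toMatrixAlgEquiv bs).toMulEquiv
  have hxo : orderOf (Ψ (lmulU F p ω)) = 2 ^ (m + 1) := by
    rw [MulEquiv.orderOf_eq, orderOf_injective (lmulU F p) (lmulU_injective F p), hω]
  have hrel : Ψ (frobU F p) * Ψ (lmulU F p ω) * (Ψ (frobU F p))⁻¹ =
      (Ψ (lmulU F p ω)) ^ (2 ^ (m + 1 - 1) - 1) := by
    rw [← map_inv, ← map_mul, ← map_mul, frobU_conj, map_pow, pow_eq_pow_iff_modEq, hxo, hqN]
    have h1 : 1 ≤ 2 ^ m := Nat.one_le_two_pow
    obtain ⟨c, rfl⟩ := ha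
    have h2 : q = 2 ^ (m + 1) * c + (2 ^ m - 1) := by
      have : 2 ^ (m + 1) = 2 * 2 ^ m := by ring
      rw [this]
      have h3 : q + 1 = 2 * 2 ^ m * c + 2 ^ m := by rw [hqa]; ring
      omega
    rw [Nat.add_sub_cancel, h2]
    show _ % _ = _ % _
    rw [Nat.mul_add_mod]
  apply isQuasiDihedral_sylow P (m + 1) (by omega) hcard (Ψ (lmulU F p ω)) (Ψ (frobU F p)) hxo
    ?_ hrel
  apply orderOf_eq_prime
  · rw [pow_two, ← map_mul, frobU_sq, map_one]
  · intro h1
    rw [h1] at hrel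
    have h2 : (Ψ (lmulU F p ω)) ^ 1 = (Ψ (lmulU F p ω)) ^ (2 ^ (m + 1 - 1) - 1) := by
      rw [← hrel]; group
    rw [pow_eq_pow_iff_modEq, hxo, Nat.add_sub_cancel] at h2
    have h3 : 4 ≤ 2 ^ m := by
      calc 4 = 2 ^ 2 := by norm_num
        _ ≤ 2 ^ m := Nat.pow_le_pow_right (by norm_num) hm
    have h4 : 2 ^ (m + 1) = 2 * 2 ^ m := by ring
    have := Nat.ModEq.eq_of_lt_of_lt h2 (by omega) (by omega)
    omega



section Wcase

variable {F : Type*} [Field F]

/-- diagonal matrices -/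
noncomputable def diagU : (Fin 2 → Fˣ) →* GL (Fin 2) F :=
  (Units.map ((Matrix.diagonalRingHom (Fin 2) F : (Fin 2 → F) →+* Matrix (Fin 2) (Fin 2) F) :
    (Fin 2 → F) →* Matrix (Fin 2) (Fin 2) F)).comp
    (MulEquiv.piUnits (M := fun _ : Fin 2 => F)).symm.toMonoidHom

theorem diagU_val (f : Fin 2 → Fˣ) :
    ((diagU f : GL (Fin 2) F) : Matrix (Fin 2) (Fin 2) F) = Matrix.diagonal (fun i => (f i : F)) :=
  rfl

theorem diagU_injective : Function.Injective (diagU (F := F)) := by
  intro f g h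
  have h1 := congrArg (fun u : GL (Fin 2) F => (u : Matrix (Fin 2) (Fin 2) F)) h
  simp only [diagU_val] at h1
  have h2 := Matrix.diagonal_injective h1
  funext i
  exact Units.ext (congrFun h2 i)

/-- the swap matrix -/
def swapU : GL (Fin 2) F where
  val := !![0, 1; 1, 0]
  inv := !![0, 1; 1, 0]
  val_inv := by
    ext i j; fin_cases i <;> fin_cases j <;> simp [Matrix.mul_apply, Fin.sum_univ_two]
  inv_val := by
    ext i j; fin_cases i <;> fin_cases j <;> simp [Matrix.mul_apply, Fin.sum_univ_two]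

theorem swapU_val : ((swapU : GL (Fin 2) F) : Matrix (Fin 2) (Fin 2) F) = !![0, 1; 1, 0] := rfl

theorem swapU_sq : (swapU : GL (Fin 2) F) * swapU = 1 := by
  apply Units.ext
  exact (swapU (F := F)).val_inv

theorem swapU_ne_one : (swapU : GL (Fin 2) F) ≠ 1 := by
  intro h
  have := congrArg (fun u : GL (Fin 2) F => (u : Matrix (Fin 2) (Fin 2) F) 0 0) h
  simp [swapU_val] at this

theorem swapU_conj (w : Fˣ) :
    (swapU : GL (Fin 2) F) * diagU (Pi.mulSingle 0 w) * swapU⁻¹ = diagU (Pi.mulSingle 1 w) := by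
  rw [mul_inv_eq_iff_eq_mul]
  apply Units.ext
  rw [Units.val_mul, Units.val_mul, diagU_val, diagU_val, swapU_val]
  ext i j; fin_cases i <;> fin_cases j <;> simp [Matrix.mul_apply, Fin.sum_univ_two]

theorem diagU_disjoint (w : Fˣ) :
    Subgroup.zpowers (diagU (Pi.mulSingle 0 w) : GL (Fin 2) F) ⊓
      Subgroup.zpowers (diagU (Pi.mulSingle 1 w)) = ⊥ := by
  rw [eq_bot_iff]
  rintro a ⟨h1, h2⟩
  rw [Subgroup.mem_bot]
  obtain ⟨i, rfl⟩ := Subgroup.mem_zpowers_iff.mp h1
  obtain ⟨j, hj⟩ := Subgroup.mem_zpowers_iff.mp h2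
  rw [← map_zpow, ← map_zpow, ← Pi.mulSingle_zpow, ← Pi.mulSingle_zpow] at hj
  have h3 := congrFun (diagU_injective hj) 0
  simp at h3
  rw [← map_zpow, ← Pi.mulSingle_zpow, ← h3]
  simp

end Wcase



/-- arithmetic of the case `q ≡ 1 (mod 4)` -/
theorem arith1 {q : ℕ} (hq : q % 4 = 1) (hq1 : 1 < q) :
    ∃ n a b : ℕ, 2 ≤ n ∧ Odd a ∧ Odd b ∧ q - 1 = 2 ^ n * a ∧ q + 1 = 2 * b := by
  obtain ⟨n, a, ha, hqa⟩ := Nat.exists_eq_two_pow_mul_odd (n := q - 1) (by omega)
  refine ⟨n, a, (q + 1) / 2, ?_, ha, ?_, hqa, by omega⟩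
  · obtain ⟨c, rfl⟩ := ha
    rcases n with _ | _ | n
    · simp at hqa; omega
    · simp at hqa; omega
    · omega
  · rw [Nat.odd_iff]; omega

theorem w_case {F : Type*} [Field F] [Fintype F] (P : Sylow 2 (GL (Fin 2) F))
    (hq : Fintype.card F % 4 = 1) : Cfsg.IsWreathed (P : Subgroup (GL (Fin 2) F)) := by
  obtain ⟨n, a, b, hn, ha, hb, hqa, hqb⟩ := arith1 hq Fintype.one_lt_card
  have hqN : Nat.card F = Fintype.card F := Nat.card_eq_fintype_card
  have hGL := card_GL2' (F := F)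
  generalize Fintype.card F = q at *
  have hqodd : Odd q := by rw [Nat.odd_iff]; omega
  have hcard : Nat.card P = 2 ^ (2 * n + 1) := by
    apply card_sylow_of_card_eq P (m := q * a ^ 2 * b)
    · rw [hGL, hqa, hqb]
      ring
    · rw [← even_iff_two_dvd, Nat.not_even_iff_odd]
      exact (hqodd.mul (ha.pow)).mul hb
  have hK : Nat.card Fˣ = a * 2 ^ n := by
    rw [Nat.card_units, hqN, hqa, mul_comm]
  obtain ⟨g, hg⟩ := IsCyclic.exists_ofOrder_eq_natCard (α := Fˣ)
  have ha0 : a ≠ 0 := ha.pos.ne'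
  have hω : orderOf (g ^ a) = 2 ^ n := by
    rw [orderOf_pow_of_dvd ha0 (by rw [hg, hK]; exact dvd_mul_right _ _), hg, hK,
      Nat.mul_div_cancel_left _ (Nat.pos_of_ne_zero ha0)]
  set ω := g ^ a with hωdef
  have hxo : orderOf (diagU (Pi.mulSingle 0 ω) : GL (Fin 2) F) = 2 ^ n := by
    rw [orderOf_injective diagU diagU_injective,
      ← hω]
    exact orderOf_injective (MonoidHom.mulSingle (fun _ : Fin 2 => Fˣ) 0)
      (Pi.mulSingle_injective (M := fun _ : Fin 2 => Fˣ) 0) ω
  apply isWreathed_sylow P n hn hcard (diagU (Pi.mulSingle 0 ω)) (diagU (Pi.mulSingle 1 ω)) swapU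
    hxo ?_ (diagU_disjoint ω) ?_ (swapU_conj ω)
  · rw [← map_mul, ← map_mul, mul_comm]
  · exact orderOf_eq_prime (by rw [pow_two, swapU_sq]) swapU_ne_one


end Cfsg.Agent.Lib.H6.GL2Syl
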