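import Mathlib
import Cfsg.Agent.Lib.H6.GL2Syl
import Cfsg.Agent.Lib.H2.Unitary3

set_option autoImplicit false
set_option linter.unusedSectionVars false

/-! The Sylow 2-subgroups of `GU(2,q)`, `q` odd (helper6): quasi-dihedral for `q ≡ 1 (mod 4)`,
wreathed for `q ≡ 3 (mod 4)`. -/

open scoped MatrixGroups
open Matrix Cfsg Cfsg.Agent.Lib.H6.GL2S Cfsg.Agent.Lib.H6.GL2Syl

namespace Cfsg.Agent.Lib.H6.GU2Syl

section

variable {F : Type*} [Field F] [Fintype F] {q : ℕ}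

theorem hermForm_two (u v : Fin 2 → F) :
    Cfsg.hermForm 2 F q u v = u 0 * (v 0) ^ q + u 1 * (v 1) ^ q := by
  simp [Cfsg.hermForm, Fin.sum_univ_two]

theorem mem_GU2_iff (g : GL (Fin 2) F) :
    g ∈ Cfsg.GU 2 F q ↔ ∀ u v : Fin 2 → F,
      Cfsg.hermForm 2 F q ((g : Matrix (Fin 2) (Fin 2) F) *ᵥ u)
        ((g : Matrix (Fin 2) (Fin 2) F) *ᵥ v) = Cfsg.hermForm 2 F q u v := Iff.rfl

theorem diagU_mulVec (f : Fin 2 → Fˣ) (u : Fin 2 → F) (i : Fin 2) :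
    (((diagU f : GL (Fin 2) F) : Matrix (Fin 2) (Fin 2) F) *ᵥ u) i = (f i : F) * u i := by
  rw [diagU_val, Matrix.mulVec_diagonal]

theorem swapU_mulVec (u : Fin 2 → F) :
    (((swapU : GL (Fin 2) F) : Matrix (Fin 2) (Fin 2) F) *ᵥ u) = ![u 1, u 0] := by
  rw [swapU_val]
  ext i; fin_cases i <;> simp [Matrix.mulVec, dotProduct, Fin.sum_univ_two]

theorem diagU_mem_GU (f : Fin 2 → Fˣ) (hf : ∀ i, (f i : F) * (f i : F) ^ q = 1) :
    diagU f ∈ Cfsg.GU 2 F q := by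
  rw [mem_GU2_iff]
  intro u v
  rw [hermForm_two, hermForm_two, diagU_mulVec, diagU_mulVec, diagU_mulVec, diagU_mulVec]
  have h0 := hf 0
  have h1 := hf 1
  rw [mul_pow, mul_pow]
  linear_combination (u 0 * v 0 ^ q) * h0 + (u 1 * v 1 ^ q) * h1

theorem swapU_mem_GU : (swapU : GL (Fin 2) F) ∈ Cfsg.GU 2 F q := by
  rw [mem_GU2_iff]
  intro u v
  rw [hermForm_two, hermForm_two, swapU_mulVec, swapU_mulVec]
  simp [add_comm]

/-- the hyperbolic hermitian form -/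
def hJ (q : ℕ) (u v : Fin 2 → F) : F := u 0 * (v 1) ^ q + u 1 * (v 0) ^ q

theorem diagU_hJ (f : Fin 2 → Fˣ) (h01 : (f 0 : F) * (f 1 : F) ^ q = 1)
    (h10 : (f 1 : F) * (f 0 : F) ^ q = 1) (u v : Fin 2 → F) :
    hJ q (((diagU f : GL (Fin 2) F) : Matrix (Fin 2) (Fin 2) F) *ᵥ u)
      (((diagU f : GL (Fin 2) F) : Matrix (Fin 2) (Fin 2) F) *ᵥ v) = hJ q u v := by
  unfold hJ
  rw [diagU_mulVec, diagU_mulVec, diagU_mulVec, diagU_mulVec, mul_pow, mul_pow]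
  linear_combination (u 0 * v 1 ^ q) * h01 + (u 1 * v 0 ^ q) * h10

theorem swapU_hJ (u v : Fin 2 → F) :
    hJ q (((swapU : GL (Fin 2) F) : Matrix (Fin 2) (Fin 2) F) *ᵥ u)
      (((swapU : GL (Fin 2) F) : Matrix (Fin 2) (Fin 2) F) *ᵥ v) = hJ q u v := by
  unfold hJ
  rw [swapU_mulVec, swapU_mulVec]
  simp [add_comm]

/-- conjugating an isometry of the hyperbolic form by a similitude to the standard form -/
theorem conj_mem_GU (B X : GL (Fin 2) F) (c : F)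
    (hB : ∀ u v : Fin 2 → F, Cfsg.hermForm 2 F q ((B : Matrix (Fin 2) (Fin 2) F) *ᵥ u)
      ((B : Matrix (Fin 2) (Fin 2) F) *ᵥ v) = c * hJ q u v)
    (hX : ∀ u v : Fin 2 → F, hJ q ((X : Matrix (Fin 2) (Fin 2) F) *ᵥ u)
      ((X : Matrix (Fin 2) (Fin 2) F) *ᵥ v) = hJ q u v) :
    B * X * B⁻¹ ∈ Cfsg.GU 2 F q := by
  rw [mem_GU2_iff]
  intro u v
  have e : ∀ w : Fin 2 → F, ((B * X * B⁻¹ : GL (Fin 2) F) : Matrix (Fin 2) (Fin 2) F) *ᵥ w =
      (B : Matrix (Fin 2) (Fin 2) F) *ᵥ ((X : Matrix (Fin 2) (Fin 2) F) *ᵥ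
        (((B⁻¹ : GL (Fin 2) F) : Matrix (Fin 2) (Fin 2) F) *ᵥ w)) := by
    intro w
    rw [Units.val_mul, Units.val_mul, Matrix.mulVec_mulVec, Matrix.mulVec_mulVec, mul_assoc]
  have e2 : ∀ w : Fin 2 → F, (B : Matrix (Fin 2) (Fin 2) F) *ᵥ
      (((B⁻¹ : GL (Fin 2) F) : Matrix (Fin 2) (Fin 2) F) *ᵥ w) = w := by
    intro w
    rw [Matrix.mulVec_mulVec, ← Units.val_mul, mul_inv_cancel, Units.val_one, Matrix.one_mulVec]
  rw [e, e, hB, hX, ← hB, e2, e2]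


theorem two_ne_zero_of_odd (hF : Fintype.card F = q ^ 2) (hq : Odd q) : (2 : F) ≠ 0 := by
  apply Ring.two_ne_zero
  intro h2
  have h := FiniteField.even_card_of_char_two h2
  rw [hF] at h
  have := (hq.pow (n := 2))
  rw [Nat.odd_iff] at this
  omega

/-- the base change from the hyperbolic form to the standard form -/
noncomputable def Bs (s : F) (hs : (2 : F) * s ≠ 0) : GL (Fin 2) F :=
  Matrix.GeneralLinearGroup.mkOfDetNeZero !![1, 1; s, -s] (by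
    rw [Matrix.det_fin_two_of]
    intro h
    apply hs
    linear_combination -h)

theorem Bs_mulVec (s : F) (hs : (2 : F) * s ≠ 0) (u : Fin 2 → F) :
    ((Bs s hs : GL (Fin 2) F) : Matrix (Fin 2) (Fin 2) F) *ᵥ u = ![u 0 + u 1, s * (u 0 - u 1)] := by
  unfold Bs
  rw [Matrix.GeneralLinearGroup.val_mkOfDetNeZero]
  ext i; fin_cases i <;> simp [Matrix.mulVec, dotProduct, Fin.sum_univ_two] <;> ring

theorem Bs_herm (hF : Fintype.card F = q ^ 2) (s : F) (hs : (2 : F) * s ≠ 0)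
    (hs1 : s * s ^ q = -1) (u v : Fin 2 → F) :
    Cfsg.hermForm 2 F q (((Bs s hs : GL (Fin 2) F) : Matrix (Fin 2) (Fin 2) F) *ᵥ u)
      (((Bs s hs : GL (Fin 2) F) : Matrix (Fin 2) (Fin 2) F) *ᵥ v) = 2 * hJ q u v := by
  rw [Bs_mulVec, Bs_mulVec, hermForm_two]
  unfold hJ
  simp only [Matrix.cons_val_zero, Matrix.cons_val_one]
  rw [mul_pow, Cfsg.Agent.Lib.H2.Herm.add_pow_q hF, Cfsg.Agent.Lib.H2.Herm.sub_pow_q hF]
  linear_combination ((u 0 - u 1) * (v 0 ^ q - v 1 ^ q)) * hs1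


/-- the torus `w ↦ diag(w, w^{-q})` -/
def tor (q : ℕ) : Fˣ →* (Fin 2 → Fˣ) where
  toFun w := ![w, (w ^ q)⁻¹]
  map_one' := by ext i; fin_cases i <;> simp
  map_mul' a b := by ext i; fin_cases i <;> simp [mul_pow, mul_comm]

theorem tor_apply (w : Fˣ) : tor q w = ![w, (w ^ q)⁻¹] := rfl

theorem tor_injective : Function.Injective (tor (F := F) q) := fun a b h => by
  have := congrFun h 0
  simpa [tor_apply] using this

theorem units_pow_q_pow_q (hF : Fintype.card F = q ^ 2) (w : Fˣ) : (w ^ q) ^ q = w := by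
  apply Units.ext
  rw [Units.val_pow_eq_pow_val, Units.val_pow_eq_pow_val, Cfsg.Agent.Lib.H2.Herm.pow_q_pow_q hF]

theorem tor_hJ (hF : Fintype.card F = q ^ 2) (w : Fˣ) (u v : Fin 2 → F) :
    hJ q (((diagU (tor q w) : GL (Fin 2) F) : Matrix (Fin 2) (Fin 2) F) *ᵥ u)
      (((diagU (tor q w) : GL (Fin 2) F) : Matrix (Fin 2) (Fin 2) F) *ᵥ v) = hJ q u v := by
  apply diagU_hJ
  · rw [tor_apply]
    simp only [Matrix.cons_val_zero, Matrix.cons_val_one]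
    rw [← Units.val_pow_eq_pow_val, ← Units.val_mul, inv_pow, units_pow_q_pow_q hF,
      mul_inv_cancel, Units.val_one]
  · rw [tor_apply]
    simp only [Matrix.cons_val_zero, Matrix.cons_val_one]
    rw [← Units.val_pow_eq_pow_val, ← Units.val_mul, inv_mul_cancel, Units.val_one]

theorem swapU_conj_diag (f : Fin 2 → Fˣ) :
    (swapU : GL (Fin 2) F) * diagU f * swapU⁻¹ = diagU ![f 1, f 0] := by
  rw [mul_inv_eq_iff_eq_mul]
  apply Units.ext
  rw [Units.val_mul, Units.val_mul, diagU_val, diagU_val, swapU_val]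
  ext i j; fin_cases i <;> fin_cases j <;> simp [Matrix.mul_apply, Fin.sum_univ_two]

theorem exists_norm_neg_one (hF : Fintype.card F = q ^ 2) (hq : Odd q) :
    ∃ s : F, s * s ^ q = -1 := by
  have h := Cfsg.Agent.Lib.H2.Herm.card_N_fiber hF (-1 : F) (neg_ne_zero.2 one_ne_zero)
    hq.neg_one_pow
  have hne : Nonempty {x : F // Cfsg.Agent.Lib.H2.Herm.N q x = -1} := by
    by_contra hcon
    rw [not_nonempty_iff] at hcon
    rw [Nat.card_of_isEmpty] at h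
    omega
  obtain ⟨s, hs⟩ := hne
  exact ⟨s, hs⟩

theorem card_GU2 (hF : Fintype.card F = q ^ 2) :
    Nat.card (Cfsg.GU 2 F q) = q * ((q + 1) * (q ^ 2 - 1)) := by
  rw [Cfsg.Agent.Lib.H2.Unitary.card_GU hF 2]
  unfold Cfsg.Agent.Lib.H2.Unitary.ordGU
  simp [Finset.prod_range_succ]

theorem sq_sub_one (q : ℕ) (hq : 1 ≤ q) : q ^ 2 - 1 = (q - 1) * (q + 1) := by
  obtain ⟨r, rfl⟩ : ∃ r, q = r + 1 := ⟨q - 1, by omega⟩
  have : (r + 1) ^ 2 = (r + 1 - 1) * (r + 1 + 1) + 1 := by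
    rw [Nat.add_sub_cancel]; ring
  rw [this, Nat.add_sub_cancel]

theorem qd_case (hF : Fintype.card F = q ^ 2) (hq : Odd q) (P : Sylow 2 (Cfsg.GU 2 F q))
    (hq1 : q % 4 = 1) : Cfsg.IsQuasiDihedral (P : Subgroup (Cfsg.GU 2 F q)) := by
  have hq2 := Cfsg.Agent.Lib.H2.Herm.two_le_q hF
  obtain ⟨m, a, b, hm, ha, hb, hqa, hqb⟩ := arith1 hq1 (by omega)
  have hcard : Nat.card P = 2 ^ (m + 1 + 1) := by
    apply card_sylow_of_card_eq P (m := q * a * b ^ 2)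
    · rw [card_GU2 hF, sq_sub_one q (by omega), hqa, hqb]
      ring
    · rw [← even_iff_two_dvd, Nat.not_even_iff_odd]
      exact (hq.mul ha).mul hb.pow
  have hK : Nat.card Fˣ = (a * b) * 2 ^ (m + 1) := by
    rw [Cfsg.Agent.Lib.H2.Herm.card_units_eq hF, hqa, hqb]
    ring
  obtain ⟨g, hg⟩ := IsCyclic.exists_ofOrder_eq_natCard (α := Fˣ)
  have hab : a * b ≠ 0 := by
    have := ha.pos; have := hb.pos; positivity
  have hω : orderOf (g ^ (a * b)) = 2 ^ (m + 1) := by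
    rw [orderOf_pow_of_dvd hab (by rw [hg, hK]; exact dvd_mul_right _ _), hg, hK,
      Nat.mul_div_cancel_left _ (Nat.pos_of_ne_zero hab)]
  set ω := g ^ (a * b) with hωdef
  obtain ⟨s, hs1⟩ := exists_norm_neg_one hF hq
  have hs0 : s ≠ 0 := by
    rintro rfl
    rw [zero_mul] at hs1
    exact one_ne_zero (neg_eq_zero.mp hs1.symm)
  have hs : (2 : F) * s ≠ 0 := mul_ne_zero (two_ne_zero_of_odd hF hq) hs0
  have hxmem : Bs s hs * diagU (tor q ω) * (Bs s hs)⁻¹ ∈ Cfsg.GU 2 F q :=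
    conj_mem_GU _ _ 2 (Bs_herm hF s hs hs1) (tor_hJ hF ω)
  have hymem : Bs s hs * swapU * (Bs s hs)⁻¹ ∈ Cfsg.GU 2 F q :=
    conj_mem_GU _ _ 2 (Bs_herm hF s hs hs1) swapU_hJ
  have hxo : orderOf (Bs s hs * diagU (tor q ω) * (Bs s hs)⁻¹) = 2 ^ (m + 1) := by
    rw [orderOf_conj', orderOf_injective diagU diagU_injective,
      orderOf_injective (tor q) tor_injective, hω]
  -- `ω ^ (2 ^ m - 1) = (ω ^ q)⁻¹`
  have hpow : ω ^ (2 ^ m - 1) = (ω ^ q)⁻¹ := by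
    symm
    apply inv_eq_of_mul_eq_one_right
    rw [← pow_add]
    apply orderOf_dvd_iff_pow_eq_one.mp
    rw [hω]
    obtain ⟨c, rfl⟩ := ha
    have h1 : 1 ≤ 2 ^ m := Nat.one_le_two_pow
    have h2 : q + (2 ^ m - 1) = 2 ^ (m + 1) * (c + 1) := by
      have h3 : q = 2 ^ m * (2 * c + 1) + 1 := by omega
      have h4 : 2 ^ m * (2 * c + 1) + 1 + (2 ^ m - 1) = 2 ^ m * (2 * c + 1) + 2 ^ m := by omega
      rw [h3, h4]
      ring
    rw [h2]
    exact dvd_mul_right _ _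
  have hrel : (Bs s hs * swapU * (Bs s hs)⁻¹) * (Bs s hs * diagU (tor q ω) * (Bs s hs)⁻¹) *
      (Bs s hs * swapU * (Bs s hs)⁻¹)⁻¹ =
      (Bs s hs * diagU (tor q ω) * (Bs s hs)⁻¹) ^ (2 ^ (m + 1 - 1) - 1) := by
    rw [conj_pow, ← map_pow, ← map_pow, Nat.add_sub_cancel]
    have h1 : (Bs s hs * swapU * (Bs s hs)⁻¹) * (Bs s hs * diagU (tor q ω) * (Bs s hs)⁻¹) *
      (Bs s hs * swapU * (Bs s hs)⁻¹)⁻¹ =
        Bs s hs * (swapU * diagU (tor q ω) * swapU⁻¹) * (Bs s hs)⁻¹ := by group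
    rw [h1, swapU_conj_diag]
    congr 3
    rw [tor_apply, tor_apply, hpow]
    simp only [Matrix.cons_val_zero, Matrix.cons_val_one]
    rw [inv_pow, inv_inv, units_pow_q_pow_q hF]
  have hyo : orderOf (Bs s hs * swapU * (Bs s hs)⁻¹) = 2 := by
    rw [orderOf_conj']
    exact orderOf_eq_prime (by rw [pow_two, swapU_sq]) swapU_ne_one
  apply isQuasiDihedral_sylow P (m + 1) (by omega) hcard ⟨_, hxmem⟩ ⟨_, hymem⟩
  · rw [Subgroup.orderOf_mk, hxo]
  · rw [Subgroup.orderOf_mk, hyo]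
  · apply Subtype.ext
    simp only [Subgroup.coe_mul, Subgroup.coe_inv, Subgroup.coe_pow]
    exact hrel


theorem zpowers_disjoint_subtype {G : Type*} [Group G] (H : Subgroup G) (a b : G) (ha : a ∈ H)
    (hb : b ∈ H) (h : Subgroup.zpowers a ⊓ Subgroup.zpowers b = ⊥) :
    Subgroup.zpowers (⟨a, ha⟩ : H) ⊓ Subgroup.zpowers (⟨b, hb⟩ : H) = ⊥ := by
  rw [eq_bot_iff]
  rintro c ⟨h1, h2⟩
  rw [Subgroup.mem_bot]
  obtain ⟨i, hi⟩ := Subgroup.mem_zpowers_iff.mp h1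
  obtain ⟨j, hj⟩ := Subgroup.mem_zpowers_iff.mp h2
  have hi' : a ^ i = (c : G) := by
    have := congrArg Subtype.val hi
    simpa using this
  have hj' : b ^ j = (c : G) := by
    have := congrArg Subtype.val hj
    simpa using this
  have hmem : (c : G) ∈ Subgroup.zpowers a ⊓ Subgroup.zpowers b :=
    ⟨hi' ▸ Subgroup.zpow_mem _ (Subgroup.mem_zpowers a) _,
      hj' ▸ Subgroup.zpow_mem _ (Subgroup.mem_zpowers b) _⟩
  rw [h, Subgroup.mem_bot] at hmem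
  exact Subtype.ext hmem

theorem w_case (hF : Fintype.card F = q ^ 2) (hq : Odd q) (P : Sylow 2 (Cfsg.GU 2 F q))
    (hq3 : q % 4 = 3) : Cfsg.IsWreathed (P : Subgroup (Cfsg.GU 2 F q)) := by
  have hq2 := Cfsg.Agent.Lib.H2.Herm.two_le_q hF
  obtain ⟨m, a, b, hm, ha, hb, hqa, hqb⟩ := arith3 hq3
  have hcard : Nat.card P = 2 ^ (2 * m + 1) := by
    apply card_sylow_of_card_eq P (m := q * a ^ 2 * b)
    · rw [card_GU2 hF, sq_sub_one q (by omega), hqa, hqb]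
      ring
    · rw [← even_iff_two_dvd, Nat.not_even_iff_odd]
      exact (hq.mul ha.pow).mul hb
  have hK : Nat.card Fˣ = (2 * a * b) * 2 ^ m := by
    rw [Cfsg.Agent.Lib.H2.Herm.card_units_eq hF, hqa, hqb]
    ring
  obtain ⟨g, hg⟩ := IsCyclic.exists_ofOrder_eq_natCard (α := Fˣ)
  have hab : 2 * a * b ≠ 0 := by
    have := ha.pos; have := hb.pos; positivity
  have hω : orderOf (g ^ (2 * a * b)) = 2 ^ m := by
    rw [orderOf_pow_of_dvd hab (by rw [hg, hK]; exact dvd_mul_right _ _), hg, hK,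
      Nat.mul_div_cancel_left _ (Nat.pos_of_ne_zero hab)]
  set ω := g ^ (2 * a * b) with hωdef
  have hnorm : (ω : F) * (ω : F) ^ q = 1 := by
    rw [← pow_succ', ← Units.val_pow_eq_pow_val, hqa]
    have : ω ^ (2 ^ m * a) = 1 := by
      apply orderOf_dvd_iff_pow_eq_one.mp
      rw [hω]; exact dvd_mul_right _ _
    rw [this, Units.val_one]
  have hxmem : diagU (Pi.mulSingle 0 ω) ∈ Cfsg.GU 2 F q := by
    apply diagU_mem_GU
    intro i
    fin_cases i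
    · simpa using hnorm
    · simp
  have hymem : diagU (Pi.mulSingle 1 ω) ∈ Cfsg.GU 2 F q := by
    apply diagU_mem_GU
    intro i
    fin_cases i
    · simp
    · simpa using hnorm
  have hxo : orderOf (diagU (Pi.mulSingle 0 ω) : GL (Fin 2) F) = 2 ^ m := by
    rw [orderOf_injective diagU diagU_injective, ← hω]
    exact orderOf_injective (MonoidHom.mulSingle (fun _ : Fin 2 => Fˣ) 0)
      (Pi.mulSingle_injective (M := fun _ : Fin 2 => Fˣ) 0) ω
  apply isWreathed_sylow P m hm hcard ⟨_, hxmem⟩ ⟨_, hymem⟩ ⟨swapU, swapU_mem_GU⟩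
  · rw [Subgroup.orderOf_mk, hxo]
  · apply Subtype.ext
    simp only [Subgroup.coe_mul]
    rw [← map_mul, ← map_mul, mul_comm]
  · exact zpowers_disjoint_subtype _ _ _ hxmem hymem (diagU_disjoint ω)
  · rw [Subgroup.orderOf_mk]
    exact orderOf_eq_prime (by rw [pow_two, swapU_sq]) swapU_ne_one
  · apply Subtype.ext
    simp only [Subgroup.coe_mul, Subgroup.coe_inv]
    exact swapU_conj ω

end

end Cfsg.Agent.Lib.H6.GU2Syl
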