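import Mathlib
import Cfsg.Agent.Lib.H25.S3777P2Defs
import Cfsg.Agent.Lib.H6.S3777Sub

/-!
# S3777, `P2` step: the pieces (RES), (PAIR), (T1), (T2) in the exact shapes of helper25's cut
(helper6; wrappers around `Lib/H6/S3777Sub.lean`)
-/

set_option autoImplicit false

namespace Cfsg.Agent.Lib.H6.S3777P2W

open Cfsg.Agent.Lib.H5.S3777 Cfsg.Agent.Lib.H25.S3777P2 Cfsg.Agent.Lib.H6.S3777Sub

universe u

/-- (T1) -/
theorem t1 : T1Stmt.{u} := fun _ _ K => card_commutator_subtype K

/-- (T2) -/
theorem t2 : T2Stmt.{u} := fun _ _ _ K k => index_centralizer_le K k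

/-- (RES) -/
theorem res : ResStmt.{u} := by
  intro G _ K M
  rw [inf_comm]
  exact residual_iff_inf K M

/-- two subgroups of the same finite nonzero index, one inside the other, are equal -/
theorem eq_of_le_of_index_eq {G : Type u} [Group G] [Finite G] (H K : Subgroup G) (hHK : H ≤ K)
    (hidx : H.index = K.index) : H = K := by
  apply le_antisymm hHK
  rw [← Subgroup.relIndex_eq_one]
  have h1 := Subgroup.relIndex_mul_index hHK
  rw [hidx] at h1
  have h0 : K.index ≠ 0 := Subgroup.index_ne_zero_of_finite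
  have : H.relIndex K * K.index = 1 * K.index := by rw [h1, one_mul]
  exact Nat.eq_of_mul_eq_mul_right (Nat.pos_of_ne_zero h0) this

/-- the relative index of `M` in another normal subgroup `K` of the same prime index -/
theorem relIndex_eq_prime {G : Type u} [Group G] [Finite G] {p : ℕ} [hp : Fact p.Prime]
    (M K : Subgroup G) (hM : M.index = p) (hKn : K.Normal) (hK : K.index = p) (hne : K ≠ M) :
    M.relIndex K = p := by
  have hd : K.relIndex M ∣ p := hK ▸ Subgroup.relIndex_dvd_index_of_normal (H := K) (K := M)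
  have hKM : K.relIndex M = p := by
    rcases (Nat.dvd_prime hp.out).1 hd with h1 | h1
    · exfalso
      have hle : M ≤ K := Subgroup.relIndex_eq_one.1 h1
      exact hne (eq_of_le_of_index_eq M K hle (by rw [hM, hK])).symm
    · exact h1
  have e1 : (K ⊓ M).relIndex M * M.index = (K ⊓ M).index :=
    Subgroup.relIndex_mul_index inf_le_right
  have e2 : (M ⊓ K).relIndex K * K.index = (M ⊓ K).index :=
    Subgroup.relIndex_mul_index inf_le_right
  rw [Subgroup.inf_relIndex_right] at e1 e2
  rw [inf_comm M K, ← e1, hKM, hM, hK] at e2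
  have hp0 : 0 < p := hp.out.pos
  exact Nat.eq_of_mul_eq_mul_right hp0 e2

/-- (PAIR) -/
theorem pair : PairStmt.{u} := by
  intro p _ G _ _ M K f hM hKn hK hne
  refine ⟨relIndex_eq_prime M K hM.idx hKn hK hne, ?_⟩
  intro y hy
  have hy' : (y : G) ∉ M := fun h => hy (Subgroup.mem_subgroupOf.2 h)
  exact (index_centralizer_le K y).trans (hM.out (y : G) hy')

end Cfsg.Agent.Lib.H6.S3777P2W
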