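import Mathlib
import Cfsg.Agent.Lib.H3.DF0
import Cfsg.Agent.Lib.H12.BQG4a

/-!
# S4316, piece D8 (helper6): `|C_G(B) : C_{C_G(B)}(T)| ≤ m ^ (q^3 m)`

Core: `card_HB_le_mul_centralizer_TT_aux` takes the pieces D4a, D6a, D7 as hypotheses; the exact-sig
wrapper is `Cfsg/Agent/Lib/H6/DFD8.lean` (imports the landed pieces).
-/

set_option autoImplicit false

universe u

namespace Cfsg.Agent.Lib.H6.DF

open Subgroup Cfsg.Agent.Lib.H3.DF
open scoped commutatorElement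

variable {Γ : Type u} [Group Γ] [Finite Γ]

/-- The generating set: all `k ∈ K_c ∩ C_G(B')`, `c ∈ A`, `c ≠ 1`, `B'` a plane through `c`. -/
noncomputable def d8Set (q : ℕ) (G A : Subgroup Γ) : Finset Γ := by
  classical
  exact (Set.toFinite {k : Γ | ∃ c ∈ A, c ≠ 1 ∧ ∃ B' : Subgroup Γ, IsPlane q A B' ∧ c ∈ B' ∧
    k ∈ Kc G c ∧ k ∈ HB G B'}).toFinset

theorem mem_d8Set {q : ℕ} {G A : Subgroup Γ} {k : Γ} :
    k ∈ d8Set q G A ↔ ∃ c ∈ A, c ≠ 1 ∧ ∃ B' : Subgroup Γ, IsPlane q A B' ∧ c ∈ B' ∧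
      k ∈ Kc G c ∧ k ∈ HB G B' := by
  classical
  unfold d8Set
  rw [Set.Finite.mem_toFinset]
  rfl

/-- `|S| ≤ q^3 m`. -/
theorem card_d8Set_le {q m : ℕ} {G A : Subgroup Γ} (h : DHyp q m G A) :
    (d8Set q G A).card ≤ q ^ 3 * m := by
  classical
  -- S ⊆ ⋃_{c ∈ nz A} (K_c as a finset)
  have hsub : d8Set q G A ⊆
      (Cfsg.Agent.Lib.H16.nz A).biUnion
        (fun c => (Set.toFinite ((Kc G c : Subgroup Γ) : Set Γ)).toFinset) := by
    intro k hk
    rw [mem_d8Set] at hk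
    obtain ⟨c, hcA, hc1, B', _, _, hkK, _⟩ := hk
    rw [Finset.mem_biUnion]
    refine ⟨c, Cfsg.Agent.Lib.H16.mem_nz.mpr ⟨hc1, hcA⟩, ?_⟩
    rw [Set.Finite.mem_toFinset]
    exact hkK
  refine (Finset.card_le_card hsub).trans ?_
  refine Finset.card_biUnion_le.trans ?_
  have h1 : ∀ c ∈ Cfsg.Agent.Lib.H16.nz A,
      ((Set.toFinite ((Kc G c : Subgroup Γ) : Set Γ)).toFinset).card ≤ m := by
    intro c hc
    rw [Cfsg.Agent.Lib.H16.mem_nz] at hc
    have h2 : ((Set.toFinite ((Kc G c : Subgroup Γ) : Set Γ)).toFinset).card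
        = Nat.card ↥(Kc G c) := by
      rw [← Set.ncard_eq_toFinset_card]
      exact (Nat.card_coe_set_eq ((Kc G c : Subgroup Γ) : Set Γ)).symm
    rw [h2]
    exact h.small c hc.2 hc.1
  refine (Finset.sum_le_card_nsmul _ _ m h1).trans ?_
  rw [Cfsg.Agent.Lib.H16.card_nz, h.e3.card, smul_eq_mul]
  exact Nat.mul_le_mul_right m (Nat.sub_le _ _)

/-- `1 ≤ m`. -/
theorem one_le_m {q m : ℕ} [Fact q.Prime] {G A : Subgroup Γ} (h : DHyp q m G A) : 1 ≤ m := by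
  have hq : q.Prime := Fact.out
  have hA : 1 < Nat.card A := by
    rw [h.e3.card]
    exact Nat.one_lt_pow (by norm_num) hq.one_lt
  have : Nontrivial A := (Finite.one_lt_card_iff_nontrivial).mp hA
  obtain ⟨a, ha⟩ := exists_ne (1 : A)
  have ha1 : (a : Γ) ≠ 1 := fun h0 => ha (Subtype.ext h0)
  have := h.small a a.2 ha1
  exact le_trans Nat.card_pos this

/-- D8, parametrised by D4a (`hD4a`), D6a (`hD6a`: `A` normalizes `K_c`, `K_c ≤ G_c`) and D7 (`hD7`). -/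
theorem card_HB_le_mul_centralizer_TT_aux {q m : ℕ} [Fact q.Prime] {G A : Subgroup Γ}
    (h : DHyp q m G A) {B : Subgroup Γ}
    (hD4a : ∀ {c : Γ}, c ∈ A → c ≠ 1 → ∀ X W : Subgroup Γ, X ≤ Gc G c →
      A ≤ normalizer (X : Set Γ) →
      (∀ B', IsPlane q A B' → c ∈ B' → X ⊓ HB G B' ≤ W) → X ≤ W)
    (hD6a : ∀ c ∈ A, A ≤ normalizer (Kc G c : Set Γ))
    (hD7 : ∀ {B' : Subgroup Γ}, IsPlane q A B' → ∀ {k : Γ}, k ∈ HB G B' →
      Nat.card ↥(HB G B) ≤ m * Nat.card ↥(HB G B ⊓ centralizer {k})) :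
    Nat.card ↥(HB G B) ≤ dJ q m * Nat.card ↥(HB G B ⊓ centralizer (TT G A : Set Γ)) := by
  classical
  have hm : 1 ≤ m := one_le_m h
  -- step (b): G4a
  have hb := Cfsg.Agent.Lib.H12.BQ.card_le_pow_mul_card_inf_centralizer (HB G B) (d8Set q G A) m
    (by
      intro k hk
      rw [mem_d8Set] at hk
      obtain ⟨c, _, _, B', hB', _, _, hkH⟩ := hk
      exact hD7 hB' hkH)
  -- step (d): TT ≤ closure S
  have hKG : ∀ c : Γ, Kc G c ≤ Gc G c := fun c => Subgroup.commutator_le_self _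
  have hT : TT G A ≤ closure ((d8Set q G A : Finset Γ) : Set Γ) := by
    unfold TT
    refine iSup₂_le ?_
    intro c hc
    rw [Cfsg.Agent.Lib.H16.mem_nz] at hc
    refine hD4a hc.2 hc.1 (Kc G c) _ (hKG c) (hD6a c hc.2) ?_
    intro B' hB' hcB' k hk
    refine subset_closure ?_
    rw [Finset.mem_coe, mem_d8Set]
    exact ⟨c, hc.2, hc.1, B', hB', hcB', hk.1, hk.2⟩
  have hcent : centralizer ((d8Set q G A : Finset Γ) : Set Γ) ≤ centralizer (TT G A : Set Γ) := by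
    rw [← Subgroup.centralizer_closure]
    exact Subgroup.centralizer_le hT
  have hle : Nat.card ↥(HB G B ⊓ centralizer ((d8Set q G A : Finset Γ) : Set Γ))
      ≤ Nat.card ↥(HB G B ⊓ centralizer (TT G A : Set Γ)) :=
    Subgroup.card_le_of_le (inf_le_inf_left _ hcent)
  have hpow : m ^ (d8Set q G A).card ≤ dJ q m := by
    unfold dJ
    exact Nat.pow_le_pow_right hm (card_d8Set_le h)
  exact hb.trans (Nat.mul_le_mul hpow hle)

end Cfsg.Agent.Lib.H6.DF
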