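import Mathlib
import Cfsg.Agent.Lib.H26.EssDefs

/-!
# S5188-P2a (helper6, for helper26): abelian group of order `p⁴` with an element of order `≥ p³`
has a characteristic chain of orders `p, p², p³`.
-/

set_option autoImplicit false

namespace Cfsg.Agent.Lib.H6.Ess

open Cfsg.Agent.Lib.H26.Ess

/-- the set of `n`-th powers in a commutative group, as a subgroup -/
def p2aPow {G : Type*} [Group G] (hcomm : ∀ a b : G, a * b = b * a) (n : ℕ) : Subgroup G where
  carrier := {y | ∃ z : G, z ^ n = y}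
  one_mem' := ⟨1, one_pow n⟩
  mul_mem' := by
    rintro a b ⟨z, rfl⟩ ⟨w, rfl⟩
    exact ⟨z * w, (Commute.mul_pow (hcomm z w) n)⟩
  inv_mem' := by
    rintro a ⟨z, rfl⟩
    exact ⟨z⁻¹, inv_pow z n⟩

theorem mem_p2aPow {G : Type*} [Group G] (hcomm : ∀ a b : G, a * b = b * a) (n : ℕ) (y : G) :
    y ∈ p2aPow hcomm n ↔ ∃ z : G, z ^ n = y := Iff.rfl

/-- the elements killed by `n` in a commutative group, as a subgroup -/
def p2aKer {G : Type*} [Group G] (hcomm : ∀ a b : G, a * b = b * a) (n : ℕ) : Subgroup G where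
  carrier := {y | y ^ n = 1}
  one_mem' := one_pow n
  mul_mem' := by
    intro a b ha hb
    show (a * b) ^ n = 1
    rw [Commute.mul_pow (hcomm a b) n, ha, hb, one_mul]
  inv_mem' := by
    intro a ha
    show a⁻¹ ^ n = 1
    rw [inv_pow, ha, inv_one]

theorem mem_p2aKer {G : Type*} [Group G] (hcomm : ∀ a b : G, a * b = b * a) (n : ℕ) (y : G) :
    y ∈ p2aKer hcomm n ↔ y ^ n = 1 := Iff.rfl

theorem p2aPow_aut {G : Type*} [Group G] (hcomm : ∀ a b : G, a * b = b * a) (n : ℕ)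
    (α : MulAut G) (x : G) (hx : x ∈ p2aPow hcomm n) : α x ∈ p2aPow hcomm n := by
  obtain ⟨z, rfl⟩ := hx
  exact ⟨α z, (map_pow α z n).symm⟩

theorem p2aKer_aut {G : Type*} [Group G] (hcomm : ∀ a b : G, a * b = b * a) (n : ℕ)
    (α : MulAut G) (x : G) (hx : x ∈ p2aKer hcomm n) : α x ∈ p2aKer hcomm n := by
  show (α x) ^ n = 1
  rw [← map_pow, (hx : x ^ n = 1), map_one]

/-- `|ker| * |image| = |G|` for the power map -/
theorem p2a_card_mul {G : Type*} [Group G] [Finite G] (hcomm : ∀ a b : G, a * b = b * a) (n : ℕ) :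
    Nat.card (p2aKer hcomm n) * Nat.card (p2aPow hcomm n) = Nat.card G := by
  letI : CommGroup G := { ‹Group G› with mul_comm := hcomm }
  let f : G →* G := powMonoidHom n
  have hker : f.ker = p2aKer hcomm n := by
    ext y
    rw [MonoidHom.mem_ker, mem_p2aKer]
    rfl
  have hran : f.range = p2aPow hcomm n := by
    ext y
    rw [MonoidHom.mem_range, mem_p2aPow]
    rfl
  rw [← hker, ← hran, ← Subgroup.index_ker, Subgroup.card_mul_index]

/-- if every `n`-th power lies in `zpowers w` and `w` is an `n`-th power, then the `n`-th powers are `zpowers w` -/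
theorem p2aPow_eq_zpowers {G : Type*} [Group G] (hcomm : ∀ a b : G, a * b = b * a) (n : ℕ) (w : G)
    (hw : ∃ z : G, z ^ n = w) (hall : ∀ y : G, y ^ n ∈ Subgroup.zpowers w) :
    p2aPow hcomm n = Subgroup.zpowers w := by
  apply le_antisymm
  · rintro y ⟨z, rfl⟩
    exact hall z
  · rw [Subgroup.zpowers_le]
    exact hw

/-- in a group generated by `y`, the `n`-th powers are `zpowers (y ^ n)` -/
theorem p2a_pow_mem_of_top {G : Type*} [Group G] (y : G) (htop : Subgroup.zpowers y = ⊤) (n : ℕ) (z : G) :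
    z ^ n ∈ Subgroup.zpowers (y ^ n) := by
  have hz : z ∈ Subgroup.zpowers y := htop ▸ Subgroup.mem_top z
  obtain ⟨k, rfl⟩ := Subgroup.mem_zpowers_iff.1 hz
  refine Subgroup.mem_zpowers_iff.2 ⟨k, ?_⟩
  rw [← zpow_natCast, ← zpow_natCast, ← zpow_mul, ← zpow_mul, mul_comm]

theorem p2a_card_zpowers {G : Type*} [Group G] {p : ℕ} (hp : p.Prime) (x : G) (e : ℕ)
    (hoe : orderOf x = p ^ e) (j : ℕ) (hj : j ≤ e) :
    Nat.card (Subgroup.zpowers (x ^ (p ^ j))) = p ^ (e - j) := by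
  rw [Nat.card_zpowers, orderOf_pow_of_dvd (pow_ne_zero j hp.ne_zero)
    (by rw [hoe]; exact pow_dvd_pow p hj), hoe, Nat.pow_div hj hp.pos]

theorem abelian_chain {G : Type*} [Group G] [Finite G] {p : ℕ} [Fact p.Prime]
    (hcomm : ∀ a b : G, a * b = b * a) (hcard : Nat.card G = p ^ 4) (hexp : ∃ x : G, x ^ (p ^ 2) ≠ 1) :
    HasCharChain p G := by
  have hp : p.Prime := Fact.out
  have hp0 : p ≠ 0 := hp.ne_zero
  -- orders of elements
  have hordpow : ∀ (y : G) (f : ℕ), y ^ (p ^ f) ≠ 1 → y ^ (p ^ (f + 1)) = 1 → orderOf y = p ^ (f + 1) := by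
    intro y f h1 h2
    obtain ⟨e, he, hoe⟩ := (Nat.dvd_prime_pow hp).1 (orderOf_dvd_of_pow_eq_one h2)
    have : e = f + 1 := by
      by_contra hne
      apply h1
      apply orderOf_dvd_iff_pow_eq_one.1
      rw [hoe]
      exact pow_dvd_pow p (by omega)
    rw [hoe, this]
  have hall4 : ∀ y : G, y ^ (p ^ 4) = 1 := by
    intro y
    rw [← hcard]
    exact pow_card_eq_one'
  by_cases hcyc : ∃ y : G, y ^ (p ^ 3) ≠ 1
  · -- cyclic case
    obtain ⟨y, hy⟩ := hcyc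
    have hoy : orderOf y = p ^ 4 := hordpow y 3 hy (hall4 y)
    have htop : Subgroup.zpowers y = ⊤ := by
      apply Subgroup.eq_top_of_card_eq
      rw [Nat.card_zpowers, hoy, hcard]
    have hE : ∀ n : ℕ, p2aPow hcomm n = Subgroup.zpowers (y ^ n) := fun n =>
      p2aPow_eq_zpowers hcomm n (y ^ n) ⟨y, rfl⟩ (fun z => p2a_pow_mem_of_top y htop n z)
    refine ⟨p2aPow hcomm (p ^ 3), p2aPow hcomm (p ^ 2), p2aPow hcomm (p ^ 1), ?_, ?_, ?_, ?_, ?_,
      fun α x hx => p2aPow_aut hcomm _ α x hx, fun α x hx => p2aPow_aut hcomm _ α x hx,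
      fun α x hx => p2aPow_aut hcomm _ α x hx⟩
    · rintro _ ⟨z, rfl⟩
      exact ⟨z ^ p, by rw [← pow_mul, ← pow_succ']⟩
    · rintro _ ⟨z, rfl⟩
      exact ⟨z ^ p, by rw [← pow_mul, ← pow_succ']⟩
    · rw [hE, p2a_card_zpowers hp y 4 hoy 3 (by norm_num)]
      norm_num
    · rw [hE, p2a_card_zpowers hp y 4 hoy 2 (by norm_num)]
    · rw [hE, p2a_card_zpowers hp y 4 hoy 1 (by norm_num)]
  · -- exponent p^3
    push_neg at hcyc
    obtain ⟨x, hx⟩ := hexp
    have hox : orderOf x = p ^ 3 := hordpow x 2 hx (hcyc x)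
    have hindex : (Subgroup.zpowers x).index = p := by
      have h1 := Subgroup.card_mul_index (Subgroup.zpowers x)
      rw [Nat.card_zpowers, hox, hcard] at h1
      have h2 : p ^ 3 * p = p ^ 4 := by ring
      exact Nat.eq_of_mul_eq_mul_left (pow_pos hp.pos 3) (h1.trans h2.symm)
    have hmem : ∀ y : G, y ^ p ∈ Subgroup.zpowers x := by
      intro y
      letI : CommGroup G := { ‹Group G› with mul_comm := hcomm }
      have := Subgroup.pow_index_mem (Subgroup.zpowers x) y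
      rwa [hindex] at this
    -- y^p = (x^p)^m
    have hkey : ∀ y : G, ∃ m : ℤ, y ^ p = (x ^ p) ^ m := by
      intro y
      obtain ⟨k, hk⟩ := Subgroup.mem_zpowers_iff.1 (hmem y)
      have h1 : x ^ (k * ((p ^ 2 : ℕ) : ℤ)) = 1 := by
        rw [zpow_mul, hk, zpow_natCast, ← pow_mul, ← pow_succ']
        exact hcyc y
      have h2 : ((orderOf x : ℕ) : ℤ) ∣ k * ((p ^ 2 : ℕ) : ℤ) := orderOf_dvd_iff_zpow_eq_one.2 h1
      rw [hox] at h2
      have h3 : ((p : ℕ) : ℤ) ∣ k := by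
        have h4 : ((p : ℤ)) * ((p ^ 2 : ℕ) : ℤ) ∣ k * ((p ^ 2 : ℕ) : ℤ) := by
          have : ((p ^ 3 : ℕ) : ℤ) = (p : ℤ) * ((p ^ 2 : ℕ) : ℤ) := by push_cast; ring
          rwa [this] at h2
        exact Int.dvd_of_mul_dvd_mul_right (by exact_mod_cast pow_ne_zero 2 hp0) h4
      obtain ⟨m, rfl⟩ := h3
      exact ⟨m, by rw [← hk, zpow_mul, zpow_natCast]⟩
    have hmem1 : ∀ y : G, y ^ (p ^ 1) ∈ Subgroup.zpowers (x ^ (p ^ 1)) := by
      intro y
      obtain ⟨m, hm⟩ := hkey y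
      rw [pow_one]
      exact Subgroup.mem_zpowers_iff.2 ⟨m, hm.symm⟩
    have hmem2 : ∀ y : G, y ^ (p ^ 2) ∈ Subgroup.zpowers (x ^ (p ^ 2)) := by
      intro y
      obtain ⟨m, hm⟩ := hkey y
      refine Subgroup.mem_zpowers_iff.2 ⟨m, ?_⟩
      rw [pow_two, pow_mul y, hm, pow_mul x, ← zpow_natCast ((x ^ p) ^ m) p, ← zpow_mul, mul_comm, zpow_mul,
        zpow_natCast]
    have hE1 : p2aPow hcomm (p ^ 1) = Subgroup.zpowers (x ^ (p ^ 1)) :=
      p2aPow_eq_zpowers hcomm _ _ ⟨x, rfl⟩ hmem1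
    have hE2 : p2aPow hcomm (p ^ 2) = Subgroup.zpowers (x ^ (p ^ 2)) :=
      p2aPow_eq_zpowers hcomm _ _ ⟨x, rfl⟩ hmem2
    have hc1 : Nat.card (p2aPow hcomm (p ^ 2)) = p := by
      rw [hE2, p2a_card_zpowers hp x 3 hox 2 (by norm_num)]
      norm_num
    refine ⟨p2aPow hcomm (p ^ 2), p2aPow hcomm (p ^ 1), p2aKer hcomm (p ^ 2), ?_, ?_, hc1, ?_, ?_,
      fun α x hx => p2aPow_aut hcomm _ α x hx, fun α x hx => p2aPow_aut hcomm _ α x hx,
      fun α x hx => p2aKer_aut hcomm _ α x hx⟩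
    · rintro _ ⟨z, rfl⟩
      exact ⟨z ^ p, by rw [← pow_mul, pow_one, pow_two]⟩
    · rintro _ ⟨z, rfl⟩
      show (z ^ p ^ 1) ^ p ^ 2 = 1
      rw [← pow_mul, ← pow_add]
      exact hcyc z
    · rw [hE1, p2a_card_zpowers hp x 3 hox 1 (by norm_num)]
    · have h := p2a_card_mul hcomm (p ^ 2)
      rw [hc1, hcard] at h
      have h2 : p ^ 3 * p = p ^ 4 := by ring
      exact Nat.eq_of_mul_eq_mul_right hp.pos (h.trans h2.symm)

end Cfsg.Agent.Lib.H6.Ess
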