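import Mathlib
import Cfsg.Agent.Lib.H26.EssDefs
import Cfsg.Agent.Lib.H6.EssP2a

/-!
# S5188-P2b (helper6, for helper26): abelian group of order `p⁴` and exponent `p²`:
type `(2,1,1)`, or type `(2,2)` (and then every element of order dividing `p` is a `p`-th power).
-/

set_option autoImplicit false

namespace Cfsg.Agent.Lib.H6.Ess

open Cfsg.Agent.Lib.H26.Ess

/-- `b` of order dividing the prime `p`, `b ∉ A`, `b ^ k ∈ A` with `k < p` forces `k = 0` -/
theorem p2b_indep {G : Type*} [Group G] {p : ℕ} (hp : p.Prime) (A : Subgroup G) (b : G) (hb : b ^ p = 1)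
    (hbA : b ∉ A) (k : ℕ) (hk : k < p) (h : b ^ k ∈ A) : k = 0 := by
  by_contra hk0
  apply hbA
  haveI : Fact p.Prime := ⟨hp⟩
  have hkz : (k : ZMod p) ≠ 0 := by
    intro h0
    rw [ZMod.natCast_eq_zero_iff] at h0
    exact hk0 (Nat.eq_zero_of_dvd_of_lt h0 hk)
  set u : ℕ := ((k : ZMod p)⁻¹).val with hu
  have h1 : ((k * u : ℕ) : ZMod p) = ((1 : ℕ) : ZMod p) := by
    rw [Nat.cast_mul, hu, ZMod.natCast_zmod_val, mul_inv_cancel₀ hkz, Nat.cast_one]
  have h2 : (k * u) % p = 1 % p := (ZMod.natCast_eq_natCast_iff' _ _ _).1 h1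
  have h3 : b ^ (k * u) = b := by
    rw [pow_eq_pow_mod (k * u) hb, h2, Nat.mod_eq_of_lt hp.one_lt, pow_one]
  rw [← h3, pow_mul]
  exact A.pow_mem h u

/-- the power homomorphism `Multiplicative (ZMod n) →* G`, `i ↦ x ^ i.val`, for `x ^ n = 1` in a commutative group -/
noncomputable def p2bHom {G : Type*} [Group G] (n : ℕ) [NeZero n] (x : G) (hx : x ^ n = 1) :
    Multiplicative (ZMod n) →* G where
  toFun i := x ^ (Multiplicative.toAdd i).val
  map_one' := by
    show x ^ ((0 : ZMod n)).val = 1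
    rw [ZMod.val_zero, pow_zero]
  map_mul' i j := by
    show x ^ (Multiplicative.toAdd i + Multiplicative.toAdd j).val = _
    rw [ZMod.val_add, ← pow_eq_pow_mod _ hx, pow_add]

theorem p2bHom_apply {G : Type*} [Group G] (n : ℕ) [NeZero n] (x : G) (hx : x ^ n = 1)
    (i : Multiplicative (ZMod n)) : p2bHom n x hx i = x ^ (Multiplicative.toAdd i).val := rfl

/-- two-factor version -/
noncomputable def p2bHom2 {G : Type*} [Group G] (hcomm : ∀ a b : G, a * b = b * a) (m n : ℕ) [NeZero m] [NeZero n]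
    (x y : G) (hx : x ^ m = 1) (hy : y ^ n = 1) : Multiplicative (ZMod m × ZMod n) →* G where
  toFun t := x ^ (Multiplicative.toAdd t).1.val * y ^ (Multiplicative.toAdd t).2.val
  map_one' := by
    show x ^ ((0 : ZMod m × ZMod n)).1.val * y ^ ((0 : ZMod m × ZMod n)).2.val = 1
    simp
  map_mul' s t := by
    show x ^ ((Multiplicative.toAdd s).1 + (Multiplicative.toAdd t).1).val *
      y ^ ((Multiplicative.toAdd s).2 + (Multiplicative.toAdd t).2).val = _
    rw [ZMod.val_add, ZMod.val_add, ← pow_eq_pow_mod _ hx, ← pow_eq_pow_mod _ hy, pow_add, pow_add]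
    letI : CommGroup G := { ‹Group G› with mul_comm := hcomm }
    exact mul_mul_mul_comm _ _ _ _

theorem p2bHom2_apply {G : Type*} [Group G] (hcomm : ∀ a b : G, a * b = b * a) (m n : ℕ) [NeZero m] [NeZero n]
    (x y : G) (hx : x ^ m = 1) (hy : y ^ n = 1) (t : Multiplicative (ZMod m × ZMod n)) :
    p2bHom2 hcomm m n x y hx hy t =
      x ^ (Multiplicative.toAdd t).1.val * y ^ (Multiplicative.toAdd t).2.val := rfl

/-- three-factor version -/
noncomputable def p2bHom3 {G : Type*} [Group G] (hcomm : ∀ a b : G, a * b = b * a) (m n k : ℕ)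
    [NeZero m] [NeZero n] [NeZero k]
    (x y z : G) (hx : x ^ m = 1) (hy : y ^ n = 1) (hz : z ^ k = 1) :
    Multiplicative (ZMod m × ZMod n × ZMod k) →* G where
  toFun t := x ^ (Multiplicative.toAdd t).1.val *
    (y ^ (Multiplicative.toAdd t).2.1.val * z ^ (Multiplicative.toAdd t).2.2.val)
  map_one' := by
    show x ^ ((0 : ZMod m × ZMod n × ZMod k)).1.val *
      (y ^ ((0 : ZMod m × ZMod n × ZMod k)).2.1.val * z ^ ((0 : ZMod m × ZMod n × ZMod k)).2.2.val) = 1
    simp
  map_mul' s t := by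
    show x ^ ((Multiplicative.toAdd s).1 + (Multiplicative.toAdd t).1).val *
      (y ^ ((Multiplicative.toAdd s).2.1 + (Multiplicative.toAdd t).2.1).val *
        z ^ ((Multiplicative.toAdd s).2.2 + (Multiplicative.toAdd t).2.2).val) = _
    rw [ZMod.val_add, ZMod.val_add, ZMod.val_add, ← pow_eq_pow_mod _ hx, ← pow_eq_pow_mod _ hy,
      ← pow_eq_pow_mod _ hz, pow_add, pow_add, pow_add]
    letI : CommGroup G := { ‹Group G› with mul_comm := hcomm }
    rw [mul_mul_mul_comm (y ^ _) (y ^ _) (z ^ _) (z ^ _)]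
    exact mul_mul_mul_comm _ _ _ _

theorem p2bHom3_apply {G : Type*} [Group G] (hcomm : ∀ a b : G, a * b = b * a) (m n k : ℕ)
    [NeZero m] [NeZero n] [NeZero k]
    (x y z : G) (hx : x ^ m = 1) (hy : y ^ n = 1) (hz : z ^ k = 1)
    (t : Multiplicative (ZMod m × ZMod n × ZMod k)) :
    p2bHom3 hcomm m n k x y z hx hy hz t = x ^ (Multiplicative.toAdd t).1.val *
      (y ^ (Multiplicative.toAdd t).2.1.val * z ^ (Multiplicative.toAdd t).2.2.val) := rfl

/-- a bijective hom gives a `MulEquiv` (in the other direction) -/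
theorem p2b_equiv_of_injective {M G : Type*} [Group M] [Group G] [Finite M] [Finite G] (f : M →* G)
    (hf : Function.Injective f) (hc : Nat.card M = Nat.card G) : Nonempty (G ≃* M) := by
  have hb : Function.Bijective f := (Nat.bijective_iff_injective_and_card f).2 ⟨hf, hc⟩
  exact ⟨(MulEquiv.ofBijective f hb).symm⟩

/-- independence of `u ≠ 1` and `v ∉ ⟨u⟩`, both killed by `p` -/
theorem p2b_two_indep {G : Type*} [Group G] {p : ℕ} (hp : p.Prime) (u v : G) (hup : u ^ p = 1)
    (hvp : v ^ p = 1) (hu1 : u ≠ 1) (hv : v ∉ Subgroup.zpowers u) (i j : ℕ) (h : u ^ i * v ^ j = 1) :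
    p ∣ i ∧ p ∣ j := by
  have hj : j % p = 0 := by
    apply p2b_indep hp (Subgroup.zpowers u) v hvp hv (j % p) (Nat.mod_lt _ hp.pos)
    rw [← pow_eq_pow_mod j hvp, eq_inv_of_mul_eq_one_right h]
    exact (Subgroup.zpowers u).inv_mem ((Subgroup.zpowers u).pow_mem (Subgroup.mem_zpowers u) i)
  have hvj : v ^ j = 1 := by rw [pow_eq_pow_mod j hvp, hj, pow_zero]
  have hui : u ^ i = 1 := by rwa [hvj, mul_one] at h
  have hi : i % p = 0 := by
    apply p2b_indep hp ⊥ u hup (by rwa [Subgroup.mem_bot]) (i % p) (Nat.mod_lt _ hp.pos)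
    rw [← pow_eq_pow_mod i hup, hui]
    exact Subgroup.one_mem _
  exact ⟨Nat.dvd_of_mod_eq_zero hi, Nat.dvd_of_mod_eq_zero hj⟩

theorem p2b_card_mult (α : Type*) : Nat.card (Multiplicative α) = Nat.card α :=
  Nat.card_congr Multiplicative.toAdd

theorem abelian_exp_sq {G : Type*} [Group G] [Finite G] {p : ℕ} [Fact p.Prime]
    (hcomm : ∀ a b : G, a * b = b * a) (hcard : Nat.card G = p ^ 4)
    (h2 : ∀ x : G, x ^ (p ^ 2) = 1) (h1 : ∃ x : G, x ^ p ≠ 1) :
    Nonempty (G ≃* Multiplicative (ZMod (p ^ 2) × ZMod p × ZMod p)) ∨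
      (Nonempty (G ≃* Multiplicative (ZMod (p ^ 2) × ZMod (p ^ 2))) ∧
        ∀ x : G, x ^ p = 1 → ∃ y : G, y ^ p = x) := by
  have hp : p.Prime := Fact.out
  haveI : NeZero p := ⟨hp.ne_zero⟩
  haveI : NeZero (p ^ 2) := ⟨pow_ne_zero 2 hp.ne_zero⟩
  obtain ⟨x, hx⟩ := h1
  have hmulpow : ∀ (a b : G) (n : ℕ), (a * b) ^ n = a ^ n * b ^ n := fun a b n =>
    Commute.mul_pow (hcomm a b) n
  have hle : p2aPow hcomm p ≤ p2aKer hcomm p := by
    rintro _ ⟨z, rfl⟩
    show (z ^ p) ^ p = 1
    rw [← pow_mul, ← pow_two]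
    exact h2 z
  have hmul : Nat.card (p2aKer hcomm p) * Nat.card (p2aPow hcomm p) = p ^ 4 := by
    rw [p2a_card_mul, hcard]
  obtain ⟨a, -, hAg⟩ := (Nat.dvd_prime_pow hp).1 (hcard ▸ Subgroup.card_subgroup_dvd_card (p2aPow hcomm p))
  obtain ⟨c, -, hOm⟩ := (Nat.dvd_prime_pow hp).1 (hcard ▸ Subgroup.card_subgroup_dvd_card (p2aKer hcomm p))
  have hac : c + a = 4 := by
    rw [hAg, hOm, ← pow_add] at hmul
    exact Nat.pow_right_injective hp.two_le hmul
  have hca : a ≤ c := by
    have := Subgroup.card_le_of_le hle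
    rw [hAg, hOm] at this
    exact (Nat.pow_le_pow_iff_right hp.one_lt).1 this
  obtain ⟨u, hu⟩ : ∃ u : G, u = x ^ p := ⟨_, rfl⟩
  have hu1 : u ≠ 1 := by rw [hu]; exact hx
  have huA : u ∈ p2aPow hcomm p := ⟨x, hu.symm⟩
  have hup : u ^ p = 1 := by rw [hu, ← pow_mul, ← pow_two]; exact h2 x
  have hou : orderOf u = p := orderOf_eq_prime hup hu1
  have hcu : Nat.card (Subgroup.zpowers u) = p := by rw [Nat.card_zpowers, hou]
  have ha1 : 1 ≤ a := by
    by_contra h0
    have ha0 : a = 0 := by omega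
    rw [ha0, pow_zero] at hAg
    have := (Subgroup.card_eq_one.1 hAg)
    rw [this, Subgroup.mem_bot] at huA
    exact hu1 huA
  have hox2 : ∀ i : ℕ, x ^ i = 1 → p ^ 2 ∣ i := by
    intro i hi
    have : orderOf x = p ^ 2 := by
      obtain ⟨e, he, hoe⟩ := (Nat.dvd_prime_pow hp).1 (orderOf_dvd_of_pow_eq_one (h2 x))
      have : e = 2 := by
        by_contra hne
        apply hx
        apply orderOf_dvd_iff_pow_eq_one.1
        rw [hoe]
        calc p ^ e ∣ p ^ 1 := pow_dvd_pow p (by omega)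
          _ = p := pow_one p
      rw [hoe, this]
    rw [← this]
    exact orderOf_dvd_of_pow_eq_one hi
  rcases Nat.lt_or_ge a 2 with hlt | hge
  · -- type (2,1,1)
    left
    have ha : a = 1 := by omega
    have hc : c = 3 := by omega
    rw [hc] at hOm
    -- a' in Om outside <u>
    have huOm : Subgroup.zpowers u ≤ p2aKer hcomm p := by
      rw [Subgroup.zpowers_le]
      exact hup
    obtain ⟨a', ha'Om, ha'u⟩ : ∃ a' ∈ p2aKer hcomm p, a' ∉ Subgroup.zpowers u := by
      by_contra hcon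
      push_neg at hcon
      have hle' : p2aKer hcomm p ≤ Subgroup.zpowers u := hcon
      have := Subgroup.card_le_of_le hle'
      rw [hOm, hcu] at this
      have : p ^ 3 ≤ p ^ 1 := by rwa [pow_one]
      have := (Nat.pow_le_pow_iff_right hp.one_lt).1 this
      omega
    have ha'p : a' ^ p = 1 := ha'Om
    set g := p2bHom2 hcomm p p u a' hup ha'p with hg
    have hcardg : Nat.card g.range ≤ p ^ 2 := by
      have h1 := Nat.card_le_card_of_surjective g.rangeRestrict g.rangeRestrict_surjective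
      rw [p2b_card_mult, Nat.card_prod, Nat.card_zmod] at h1
      rwa [pow_two]
    have hgOm : g.range ≤ p2aKer hcomm p := by
      rintro _ ⟨t, rfl⟩
      show (g t) ^ p = 1
      rw [hg, p2bHom2_apply, hmulpow, ← pow_mul, ← pow_mul, mul_comm _ p, mul_comm _ p, pow_mul, pow_mul,
        hup, ha'p, one_pow, one_pow, one_mul]
    obtain ⟨b, hbOm, hbg⟩ : ∃ b ∈ p2aKer hcomm p, b ∉ g.range := by
      by_contra hcon
      push_neg at hcon
      have hle' : p2aKer hcomm p ≤ g.range := hcon
      have := (Subgroup.card_le_of_le hle').trans hcardg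
      rw [hOm] at this
      have := (Nat.pow_le_pow_iff_right hp.one_lt).1 this
      omega
    have hbp : b ^ p = 1 := hbOm
    have hgmem : ∀ i j : ℕ, u ^ i * a' ^ j ∈ g.range := by
      intro i j
      refine ⟨Multiplicative.ofAdd ((i : ZMod p), (j : ZMod p)), ?_⟩
      rw [hg, p2bHom2_apply]
      show u ^ ((i : ZMod p)).val * a' ^ ((j : ZMod p)).val = _
      rw [ZMod.val_natCast, ZMod.val_natCast, ← pow_eq_pow_mod i hup, ← pow_eq_pow_mod j ha'p]
    apply p2b_equiv_of_injective (p2bHom3 hcomm (p ^ 2) p p x a' b (h2 x) ha'p hbp)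
    · rw [injective_iff_map_eq_one]
      intro t ht
      rw [p2bHom3_apply] at ht
      set i := (Multiplicative.toAdd t).1.val with hi
      set j := (Multiplicative.toAdd t).2.1.val with hj
      set k := (Multiplicative.toAdd t).2.2.val with hk
      have hjlt : j < p := ZMod.val_lt _
      have hklt : k < p := ZMod.val_lt _
      have hilt : i < p ^ 2 := ZMod.val_lt _
      -- raise to p
      have hpi : u ^ i = 1 := by
        have h3 := congrArg (fun w => w ^ p) ht
        simp only [one_pow] at h3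
        rw [hmulpow, hmulpow, ← pow_mul a', ← pow_mul b, mul_comm j p, mul_comm k p, pow_mul a', pow_mul b,
          ha'p, hbp, one_pow, one_pow, mul_one, mul_one, ← pow_mul, mul_comm i p, pow_mul, ← hu] at h3
        exact h3
      obtain ⟨i', hi'⟩ : p ∣ i := by
        rw [← hou]
        exact orderOf_dvd_of_pow_eq_one hpi
      have hxi : x ^ i = u ^ i' := by rw [hi', pow_mul, ← hu]
      rw [hxi] at ht
      have hi'lt : i' < p := by
        have : p * i' < p * p := by rw [← hi', ← pow_two]; exact hilt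
        exact Nat.lt_of_mul_lt_mul_left this
      -- k = 0
      have hk0 : k = 0 := by
        apply p2b_indep hp g.range b hbp hbg k hklt
        have : b ^ k = (u ^ i' * a' ^ j)⁻¹ := by
          rw [← mul_assoc] at ht
          exact eq_inv_of_mul_eq_one_right ht
        rw [this]
        exact g.range.inv_mem (hgmem i' j)
      rw [hk0, pow_zero, mul_one] at ht
      have hj0 : j = 0 := by
        apply p2b_indep hp (Subgroup.zpowers u) a' ha'p ha'u j hjlt
        rw [eq_inv_of_mul_eq_one_right ht]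
        exact (Subgroup.zpowers u).inv_mem ((Subgroup.zpowers u).pow_mem (Subgroup.mem_zpowers u) i')
      rw [hj0, pow_zero, mul_one] at ht
      have hi'0 : i' = 0 := by
        apply p2b_indep hp ⊥ u hup (by rw [Subgroup.mem_bot]; exact hu1) i' hi'lt
        rw [ht]
        exact Subgroup.one_mem _
      have hi0 : i = 0 := by rw [hi', hi'0, mul_zero]
      -- conclude t = 1
      have e1 : (Multiplicative.toAdd t).1 = 0 := (ZMod.val_eq_zero _).1 (hi ▸ hi0)
      have e2 : (Multiplicative.toAdd t).2.1 = 0 := (ZMod.val_eq_zero _).1 (hj ▸ hj0)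
      have e3 : (Multiplicative.toAdd t).2.2 = 0 := (ZMod.val_eq_zero _).1 (hk ▸ hk0)
      have : Multiplicative.toAdd t = 0 := Prod.ext e1 (Prod.ext e2 e3)
      exact Multiplicative.toAdd.injective this
    · rw [p2b_card_mult, Nat.card_prod, Nat.card_prod, Nat.card_zmod, Nat.card_zmod, hcard]
      ring
  · -- type (2,2)
    right
    have ha : a = 2 := by omega
    have hc : c = 2 := by omega
    rw [ha] at hAg
    rw [hc] at hOm
    have heq : p2aPow hcomm p = p2aKer hcomm p :=
      Subgroup.eq_of_le_of_card_ge hle (by rw [hAg, hOm])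
    have hroot : ∀ z : G, z ^ p = 1 → ∃ y : G, y ^ p = z := by
      intro z hz
      have : z ∈ p2aPow hcomm p := by rw [heq]; exact hz
      exact this
    refine ⟨?_, hroot⟩
    obtain ⟨v, hvA, hvu⟩ : ∃ v ∈ p2aPow hcomm p, v ∉ Subgroup.zpowers u := by
      by_contra hcon
      push_neg at hcon
      have hle' : p2aPow hcomm p ≤ Subgroup.zpowers u := hcon
      have := Subgroup.card_le_of_le hle'
      rw [hAg, hcu] at this
      have : p ^ 2 ≤ p ^ 1 := by rwa [pow_one]
      have := (Nat.pow_le_pow_iff_right hp.one_lt).1 this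
      omega
    obtain ⟨y, hy⟩ := hvA
    have hvp : v ^ p = 1 := by rw [← hy, ← pow_mul, ← pow_two]; exact h2 y
    apply p2b_equiv_of_injective (p2bHom2 hcomm (p ^ 2) (p ^ 2) x y (h2 x) (h2 y))
    · rw [injective_iff_map_eq_one]
      intro t ht
      rw [p2bHom2_apply] at ht
      set i := (Multiplicative.toAdd t).1.val with hi
      set j := (Multiplicative.toAdd t).2.val with hj
      have hilt : i < p ^ 2 := ZMod.val_lt _
      have hjlt : j < p ^ 2 := ZMod.val_lt _
      have h3 : u ^ i * v ^ j = 1 := by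
        have h3 := congrArg (fun w => w ^ p) ht
        simp only [one_pow] at h3
        rw [hmulpow, ← pow_mul, ← pow_mul, mul_comm i p, mul_comm j p, pow_mul, pow_mul, hy, ← hu] at h3
        exact h3
      obtain ⟨⟨i', hi'⟩, ⟨j', hj'⟩⟩ := p2b_two_indep hp u v hup hvp hu1 hvu i j h3
      have h4 : u ^ i' * v ^ j' = 1 := by
        rw [hi', hj', pow_mul, pow_mul, hy, ← hu] at ht
        exact ht
      obtain ⟨⟨i'', hi''⟩, ⟨j'', hj''⟩⟩ := p2b_two_indep hp u v hup hvp hu1 hvu i' j' h4
      have hi0 : i = 0 := by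
        rw [hi', hi'', ← mul_assoc, ← pow_two] at hilt ⊢
        rcases Nat.eq_zero_or_pos i'' with h0 | hpos
        · rw [h0, mul_zero]
        · exfalso
          have : p ^ 2 * 1 ≤ p ^ 2 * i'' := Nat.mul_le_mul_left _ hpos
          omega
      have hj0 : j = 0 := by
        rw [hj', hj'', ← mul_assoc, ← pow_two] at hjlt ⊢
        rcases Nat.eq_zero_or_pos j'' with h0 | hpos
        · rw [h0, mul_zero]
        · exfalso
          have : p ^ 2 * 1 ≤ p ^ 2 * j'' := Nat.mul_le_mul_left _ hpos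
          omega
      have e1 : (Multiplicative.toAdd t).1 = 0 := (ZMod.val_eq_zero _).1 (hi ▸ hi0)
      have e2 : (Multiplicative.toAdd t).2 = 0 := (ZMod.val_eq_zero _).1 (hj ▸ hj0)
      have : Multiplicative.toAdd t = 0 := Prod.ext e1 e2
      exact Multiplicative.toAdd.injective this
    · rw [p2b_card_mult, Nat.card_prod, Nat.card_zmod, hcard]
      ring

end Cfsg.Agent.Lib.H6.Ess
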