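import Mathlib
import Cfsg.Agent.Lib.H6.TwoRes

/-! Cyclic Sylow 2-subgroups and normal 2-complements (helper6). -/

set_option autoImplicit false

namespace Cfsg.Agent.Lib.H6.TwoRes

variable {G : Type*} [Group G] [Finite G]

/-- `N(P)/C(P)` embeds in `Aut(P)`. -/
theorem relIndex_centralizer_normalizer_dvd' (P : Subgroup G) :
    (Subgroup.centralizer (P : Set G)).relIndex (Subgroup.normalizer (P : Set G))
      ∣ Nat.card (MulAut P) := by
  have key := Subgroup.card_dvd_of_injective _ (QuotientGroup.kerLift_injective P.normalizerMonoidHom)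
  rwa [Subgroup.normalizerMonoidHom_ker, ← Subgroup.index, ← Subgroup.relIndex] at key

/-- Burnside: a cyclic Sylow 2-subgroup is central in its normalizer. -/
theorem normalizer_le_centralizer_of_cyclic_sylow (P : Sylow 2 G) (hc : IsCyclic ↥(P : Subgroup G)) :
    Subgroup.normalizer ((P : Subgroup G) : Set G) ≤ Subgroup.centralizer ((P : Subgroup G) : Set G) := by
  have : Fact (Nat.Prime 2) := ⟨Nat.prime_two⟩
  rw [← Subgroup.relIndex_eq_one]
  -- the relative index is a power of two
  have h1 := relIndex_centralizer_normalizer_dvd' (P : Subgroup G)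
  rw [IsCyclic.card_mulAut] at h1
  obtain ⟨k, hk⟩ := IsPGroup.iff_card.mp P.2
  have h2 : ∃ j, (Nat.card ↥(P : Subgroup G)).totient = 2 ^ j := by
    rw [hk]
    rcases Nat.eq_zero_or_pos k with rfl | hk0
    · exact ⟨0, by simp⟩
    · exact ⟨k - 1, by rw [Nat.totient_prime_pow Nat.prime_two hk0]; simp⟩
  obtain ⟨j, hj⟩ := h2
  rw [hj] at h1
  obtain ⟨i, -, hi⟩ := (Nat.dvd_prime_pow Nat.prime_two).mp h1
  -- the relative index is odd
  have hPc : (P : Subgroup G) ≤ Subgroup.centralizer ((P : Subgroup G) : Set G) :=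
    Subgroup.le_centralizer_iff_isMulCommutative.mpr inferInstance
  have hPn : (P : Subgroup G) ≤ Subgroup.normalizer ((P : Subgroup G) : Set G) :=
    Subgroup.le_normalizer
  have h3 := Subgroup.relIndex_mul_relIndex (P : Subgroup G)
    (Subgroup.centralizer ((P : Subgroup G) : Set G) ⊓ Subgroup.normalizer ((P : Subgroup G) : Set G))
    (Subgroup.normalizer ((P : Subgroup G) : Set G)) (le_inf hPc hPn) inf_le_right
  rw [Subgroup.inf_relIndex_right] at h3
  have h4 := Subgroup.relIndex_mul_index hPn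
  have hodd : ¬ 2 ∣ (Subgroup.centralizer ((P : Subgroup G) : Set G)).relIndex
      (Subgroup.normalizer ((P : Subgroup G) : Set G)) := by
    intro hd
    apply P.not_dvd_index
    rw [← h4, ← h3]
    exact Dvd.dvd.mul_right (Dvd.dvd.mul_left hd _) _
  rw [hi] at hodd ⊢
  rcases Nat.eq_zero_or_pos i with rfl | hi0
  · simp
  · exact absurd (dvd_pow_self 2 hi0.ne') hodd

/-- A finite group with a cyclic Sylow 2-subgroup: `O^2(G)` has odd order. -/
theorem odd_card_pResidual_of_cyclic_sylow (P : Sylow 2 G) (hc : IsCyclic ↥(P : Subgroup G)) :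
    Odd (Nat.card (Cfsg.pResidual 2 G)) := by
  have : Fact (Nat.Prime 2) := ⟨Nat.prime_two⟩
  have hP := normalizer_le_centralizer_of_cyclic_sylow P hc
  have hcompl := MonoidHom.ker_transferSylow_isComplement' P hP
  have hcard := hcompl.card_mul_card
  obtain ⟨k, hk⟩ := IsPGroup.iff_card.mp P.2
  -- the kernel has odd order
  have hKodd : Odd (Nat.card (MonoidHom.transferSylow P hP).ker) := by
    rw [Nat.odd_iff, ← Nat.two_dvd_ne_zero]
    intro hd
    apply P.not_dvd_index
    have h1 := (P : Subgroup G).card_mul_index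
    have h2 : (P : Subgroup G).index = Nat.card (MonoidHom.transferSylow P hP).ker := by
      have hpos : 0 < Nat.card ↥(P : Subgroup G) := Nat.card_pos
      have : Nat.card ↥(P : Subgroup G) * (P : Subgroup G).index
          = Nat.card ↥(P : Subgroup G) * Nat.card (MonoidHom.transferSylow P hP).ker := by
        rw [h1, ← hcard]; ring
      exact Nat.eq_of_mul_eq_mul_left hpos this
    rw [h2]; exact Nat.dvd_of_mod_eq_zero (by omega)
  -- `O^2(G)` lies in the kernel
  have hle : Cfsg.pResidual 2 G ≤ (MonoidHom.transferSylow P hP).ker := by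
    unfold Cfsg.pResidual
    rw [Subgroup.closure_le]
    intro g hg
    have hg' : Nat.Coprime (orderOf g) 2 := hg
    rw [SetLike.mem_coe, MonoidHom.mem_ker, ← orderOf_eq_one_iff]
    have h1 : orderOf (MonoidHom.transferSylow P hP g) ∣ orderOf g := orderOf_map_dvd _ g
    have h2 : orderOf (MonoidHom.transferSylow P hP g) ∣ 2 ^ k := by
      rw [← hk]; exact orderOf_dvd_natCard _
    have h3 : Nat.Coprime (orderOf g) (2 ^ k) := Nat.Coprime.pow_right k hg'
    exact Nat.eq_one_of_dvd_coprimes h3 h1 h2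
  have hdvd : Nat.card (Cfsg.pResidual 2 G) ∣ Nat.card (MonoidHom.transferSylow P hP).ker :=
    Subgroup.card_dvd_of_le hle
  exact Odd.of_dvd_nat hKodd hdvd

/-- odd-order elements of `G` lying in `N` generate `O^2(N)`. -/
theorem pResidual_le_map (N : Subgroup G) (hN : Cfsg.pResidual 2 G ≤ N) :
    Cfsg.pResidual 2 G ≤ (Cfsg.pResidual 2 ↥N).map N.subtype := by
  conv_lhs => unfold Cfsg.pResidual
  rw [Subgroup.closure_le]
  intro g hg
  have hgN : g ∈ N := hN (Subgroup.subset_closure hg)
  refine ⟨⟨g, hgN⟩, Subgroup.subset_closure ?_, rfl⟩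
  show Nat.Coprime (orderOf (⟨g, hgN⟩ : ↥N)) 2
  rw [← Subgroup.orderOf_coe]
  exact hg

/-- If `O^2(G)` has odd order then `G` has a normal 2-complement. -/
theorem hasNormalPComplement_of_odd (S : Sylow 2 G) (hodd : Odd (Nat.card (Cfsg.pResidual 2 G))) :
    Cfsg.HasNormalPComplement 2 G := by
  have : Fact (Nat.Prime 2) := ⟨Nat.prime_two⟩
  have hn := Cfsg.Agent.Lib.H6.pResidual_normal (G := G) 2
  refine ⟨S, Cfsg.pResidual 2 G, hn, ?_⟩
  obtain ⟨k, hk⟩ := IsPGroup.iff_card.mp S.2
  obtain ⟨j, hj⟩ := Cfsg.Agent.Lib.H6.index_pResidual (G := G) 2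
  have hW := (Cfsg.pResidual 2 G).card_mul_index
  have hS := (S : Subgroup G).card_mul_index
  rw [hj] at hW
  rw [hk] at hS
  have hc1 : Nat.Coprime (Nat.card (Cfsg.pResidual 2 G)) 2 := Nat.Coprime.symm
    ((Nat.Prime.coprime_iff_not_dvd Nat.prime_two).mpr (by
      intro hd
      rw [Nat.odd_iff] at hodd
      omega))
  have hc2 : Nat.Coprime (S : Subgroup G).index 2 := Nat.Coprime.symm
    ((Nat.Prime.coprime_iff_not_dvd Nat.prime_two).mpr S.not_dvd_index)
  have hjk : 2 ^ j = 2 ^ k := by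
    apply Nat.dvd_antisymm
    · have h1 : 2 ^ j ∣ 2 ^ k * (S : Subgroup G).index := by
        rw [hS, ← hW]; exact Dvd.intro_left _ rfl
      exact (Nat.Coprime.pow_left j hc2.symm).dvd_of_dvd_mul_right h1
    · have h1 : 2 ^ k ∣ Nat.card (Cfsg.pResidual 2 G) * 2 ^ j := by
        rw [hW, ← hS]; exact Dvd.intro _ rfl
      exact (Nat.Coprime.pow_left k hc1.symm).dvd_of_dvd_mul_left h1
  apply Subgroup.isComplement'_of_coprime
  · rw [hk, ← hjk]; exact hW
  · rw [hk]; exact Nat.Coprime.pow_right k hc1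

end Cfsg.Agent.Lib.H6.TwoRes
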