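import Mathlib
import Cfsg.Prelude.Def_Characters
import Cfsg.Prelude.Def_Solvable
import Cfsg.Agent.Lib.H26.RODefs
import Cfsg.Agent.Lib.H24.InvOverD
import Cfsg.Agent.Lib.L0.CharOps

/-!
# S4581, piece GEN: characters of the image of a surjective homomorphism = characters trivial on the kernel
-/

set_option autoImplicit false

universe u

namespace Cfsg.Agent.Lib.H6.RO

open Cfsg Cfsg.Agent.Lib.H24.Glaub Cfsg.Agent.Lib.H26.RO

/-- `charDegree` only depends on the value at `1` -/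
theorem charDegree_congr_one {A B : Type*} [Group A] [Group B] (χ : A → ℂ) (ψ : B → ℂ) (h : χ 1 = ψ 1) :
    charDegree χ = charDegree ψ := by
  unfold charDegree
  rw [h]

/-- GEN.  Characters of the image of a surjective homomorphism = characters trivial on the kernel;
all conditions of `CC` are transported. -/
theorem card_cc_surj (ρ : Prop) {A B : Type u} [Group A] [Group B] [Finite A] (f : A →* B)
    (hf : Function.Surjective f) (a : A) (ζ : ℂ) :
    Nat.card (CC ρ B (f a) ζ) =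
      Nat.card {χ : IrrCharacter A // χ ∈ CC ρ A a ζ ∧
        ∀ x ∈ f.ker, (χ : A → ℂ) x = (χ : A → ℂ) 1} := by
  -- the inflation map
  let Φ : CC ρ B (f a) ζ → {χ : IrrCharacter A // χ ∈ CC ρ A a ζ ∧
      ∀ x ∈ f.ker, (χ : A → ℂ) x = (χ : A → ℂ) 1} := fun ψ =>
    ⟨⟨((ψ : IrrCharacter B) : B → ℂ) ∘ f,
        Cfsg.Agent.Lib.L0.isIrrCharacter_comp_of_surjective f hf (ψ : IrrCharacter B).2⟩, by
      obtain ⟨⟨ψ, hψi⟩, hodd, hreal, hval⟩ := ψ
      refine ⟨⟨?_, ?_, ?_⟩, ?_⟩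
      · rw [charDegree_congr_one (ψ ∘ f) ψ (by simp)]
        exact hodd
      · intro hρ x
        exact hreal hρ (f x)
      · intro k
        show ψ (f (a ^ k)) = ζ ^ k * ψ (f 1)
        rw [map_pow, map_one]
        exact hval k
      · intro x hx
        show ψ (f x) = ψ (f 1)
        rw [MonoidHom.mem_ker.mp hx, map_one]⟩
  have hΦ : ∀ ψ : CC ρ B (f a) ζ, ∀ x : A,
      (((Φ ψ : {χ : IrrCharacter A // χ ∈ CC ρ A a ζ ∧
        ∀ x ∈ f.ker, (χ : A → ℂ) x = (χ : A → ℂ) 1}) : IrrCharacter A) : A → ℂ) x =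
        ((ψ : IrrCharacter B) : B → ℂ) (f x) := fun ψ x => rfl
  apply Nat.card_congr
  refine Equiv.ofBijective Φ ⟨?_, ?_⟩
  · intro ψ₁ ψ₂ h
    apply Subtype.ext
    apply Subtype.ext
    funext y
    obtain ⟨x, rfl⟩ := hf y
    rw [← hΦ ψ₁ x, ← hΦ ψ₂ x, h]
  · rintro ⟨χ, ⟨hodd, hreal, hval⟩, hker⟩
    obtain ⟨ψ, hψ⟩ := Cfsg.Agent.Lib.H24.InvOver.exists_deflation_of_surjective f hf χ
      (fun z hz => hker z (MonoidHom.mem_ker.mpr hz))
    have h1 : (ψ : B → ℂ) 1 = (χ : A → ℂ) 1 := by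
      rw [← hψ 1, map_one]
    refine ⟨⟨ψ, ?_, ?_, ?_⟩, ?_⟩
    · rw [charDegree_congr_one (ψ : B → ℂ) (χ : A → ℂ) h1]
      exact hodd
    · intro hρ y
      obtain ⟨x, rfl⟩ := hf y
      rw [hψ x]
      exact hreal hρ x
    · intro k
      rw [← map_pow, hψ, h1]
      exact hval k
    · apply Subtype.ext
      apply Subtype.ext
      funext x
      rw [hΦ]
      exact hψ x

end Cfsg.Agent.Lib.H6.RO
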