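import Mathlib
import Cfsg.Prelude.Def_Characters
import Cfsg.Prelude.Def_Solvable
import Cfsg.Agent.Lib.H26.RODefs
import Cfsg.Agent.Lib.H6.ROGEN
import Cfsg.Agent.Lib.H20.Casolo6

/-!
# S4581, piece QSTEP: from the induction hypothesis for `H / M` to the characters of `H` and of `N_H(P)` trivial on `M`
-/

set_option autoImplicit false

universe u

namespace Cfsg.Agent.Lib.H6.RO

open Cfsg Cfsg.Agent.Lib.H24.Glaub Cfsg.Agent.Lib.H26.RO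

section amb

variable {Γ : Type u} [Group Γ]

/-- `N.subgroupOf H` is the normalizer of `P.subgroupOf H` in `↥H` -/
theorem mem_normalizer_subgroupOf_iff (H P N : Subgroup Γ) (hPH : P ≤ H) (hN : IsNormIn H P N) (h : ↥H) :
    h ∈ Subgroup.normalizer ((P.subgroupOf H : Subgroup ↥H) : Set ↥H) ↔ (h : Γ) ∈ N := by
  rw [hN, Subgroup.mem_normalizer_iff]
  constructor
  · intro hh
    refine ⟨h.2, fun x => ⟨fun hx => ?_, fun hx => ?_⟩⟩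
    · have := (hh ⟨x, hPH hx⟩).mp (Subgroup.mem_subgroupOf.mpr hx)
      exact Subgroup.mem_subgroupOf.mp this
    · have hxH : x ∈ H := by
        have h1 : (h : Γ) * x * (h : Γ)⁻¹ ∈ H := hPH hx
        have : x = (h : Γ)⁻¹ * ((h : Γ) * x * (h : Γ)⁻¹) * (h : Γ) := by group
        rw [this]
        exact H.mul_mem (H.mul_mem (H.inv_mem h.2) h1) h.2
      have := (hh ⟨x, hxH⟩).mpr (Subgroup.mem_subgroupOf.mpr hx)
      exact Subgroup.mem_subgroupOf.mp this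
  · rintro ⟨-, hh⟩ x
    rw [Subgroup.mem_subgroupOf, Subgroup.mem_subgroupOf]
    exact hh x

variable [Finite Γ]

/-- QSTEP. -/
theorem qstep (ρ : Prop) (n : ℕ) (hIH : MainAt.{u} ρ n) (H P N M : Subgroup Γ)
    (hcard : Nat.card H ≤ n * Nat.card M) (hsolv : Group.IsSolvable H) (hPH : P ≤ H)
    (hP : IsPGroup 2 P) (hsyl : ¬ 2 ∣ P.relIndex H) (hN : IsNormIn H P N) (hflag : ρ ∨ N = P)
    (hMH : M ≤ H) (hMn : ∀ h ∈ H, ∀ m ∈ M, h * m * h⁻¹ ∈ M)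
    (hM : Odd (Nat.card M) ∨ M ≤ P)
    (z : Γ) (hzH : z ∈ H) (hzN : z ∈ N) (hzc : ∀ h ∈ H, h * z * h⁻¹ * z⁻¹ ∈ M)
    (hz2 : ∃ k : ℕ, z ^ 2 ^ k = 1) (ζ : ℂ) :
    Nat.card {χ : IrrCharacter ↥H // χ ∈ CC ρ ↥H ⟨z, hzH⟩ ζ ∧
        ∀ m : ↥H, (m : Γ) ∈ M → (χ : ↥H → ℂ) m = (χ : ↥H → ℂ) 1} =
      Nat.card {ξ : IrrCharacter ↥N // ξ ∈ CC ρ ↥N ⟨z, hzN⟩ ζ ∧
        ∀ m : ↥N, (m : Γ) ∈ M → (ξ : ↥N → ℂ) m = (ξ : ↥N → ℂ) 1} := by
  classical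
  have : Fact (Nat.Prime 2) := ⟨Nat.prime_two⟩
  have hMnorm : (M.subgroupOf H).Normal := ⟨fun m hm h => by
    rw [Subgroup.mem_subgroupOf] at hm ⊢
    simpa using hMn h h.2 m hm⟩
  have hNH : N ≤ H := fun g hg => ((hN g).mp hg).1
  -- the quotient
  obtain ⟨π, hπdef⟩ : ∃ π : ↥H →* ↥H ⧸ M.subgroupOf H, π = QuotientGroup.mk' (M.subgroupOf H) := ⟨_, rfl⟩
  have hπs : Function.Surjective π := by rw [hπdef]; exact QuotientGroup.mk'_surjective _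
  have hπk : π.ker = M.subgroupOf H := by rw [hπdef]; exact QuotientGroup.ker_mk' _
  have hπ1 : ∀ h : ↥H, π h = 1 ↔ (h : Γ) ∈ M := by
    intro h
    rw [← MonoidHom.mem_ker, hπk, Subgroup.mem_subgroupOf]
  obtain ⟨PH, hPHdef⟩ : ∃ PH : Subgroup ↥H, PH = P.subgroupOf H := ⟨_, rfl⟩
  obtain ⟨P', hP'def⟩ : ∃ P' : Subgroup (↥H ⧸ M.subgroupOf H), P' = PH.map π := ⟨_, rfl⟩
  obtain ⟨N', hN'def⟩ : ∃ N' : Subgroup (↥H ⧸ M.subgroupOf H),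
    N' = Subgroup.normalizer ((P' : Subgroup (↥H ⧸ M.subgroupOf H)) : Set (↥H ⧸ M.subgroupOf H)) := ⟨_, rfl⟩
  have hPHp : IsPGroup 2 PH := by rw [hPHdef]; exact hP.comap_subtype
  have hP'p : IsPGroup 2 P' := by rw [hP'def]; exact hPHp.map π
  -- the image of the normalizer
  have hmapN : (Subgroup.normalizer ((PH : Subgroup ↥H) : Set ↥H)).map π = N' := by
    rw [hN'def, hP'def]
    rcases hM with hodd | hMP
    · apply Cfsg.Agent.Lib.H20.Casolo.map_normalizer_eq 2 π hπs _ hPHp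
      rw [hπk, Nat.card_congr (Subgroup.subgroupOfEquivOfLe hMH).toEquiv]
      exact hodd.coprime_two_right
    · apply le_antisymm (Subgroup.le_normalizer_map π)
      intro y' hy'
      obtain ⟨y, rfl⟩ := hπs y'
      refine ⟨y, ?_, rfl⟩
      have h1 : y ∈ (Subgroup.normalizer ((PH.map π : Subgroup (↥H ⧸ M.subgroupOf H)) :
          Set (↥H ⧸ M.subgroupOf H))).comap π := hy'
      rw [Subgroup.comap_normalizer_eq_of_surjective _ hπs, Subgroup.comap_map_eq] at h1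
      have h2 : PH ⊔ π.ker = PH := by
        rw [sup_eq_left, hπk, hPHdef]
        intro x hx
        exact Subgroup.mem_subgroupOf.mpr (hMP (Subgroup.mem_subgroupOf.mp hx))
      rwa [h2] at h1
  have hmemN' : ∀ h : ↥H, (h : Γ) ∈ N → π h ∈ N' := by
    intro h hh
    rw [← hmapN]
    refine ⟨h, ?_, rfl⟩
    rw [hPHdef]
    exact (mem_normalizer_subgroupOf_iff H P N hPH hN h).mpr hh
  -- the induction hypothesis
  have hcard' : Nat.card ↥(⊤ : Subgroup (↥H ⧸ M.subgroupOf H)) ≤ n := by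
    rw [Subgroup.card_top, ← Subgroup.index_eq_card]
    have h1 := Subgroup.card_mul_index (M.subgroupOf H)
    rw [Nat.card_congr (Subgroup.subgroupOfEquivOfLe hMH).toEquiv] at h1
    have hpos : 0 < Nat.card M := Nat.card_pos
    rw [← h1, mul_comm n] at hcard
    exact Nat.le_of_mul_le_mul_left hcard hpos
  have hsolvH : Group.IsSolvable ↥H := hsolv
  have hsolv' : Group.IsSolvable ↥(⊤ : Subgroup (↥H ⧸ M.subgroupOf H)) := inferInstance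
  have hsyl' : ¬ 2 ∣ P'.relIndex ⊤ := by
    rw [Subgroup.relIndex_top_right, hP'def]
    intro h2
    apply hsyl
    have h3 := Subgroup.index_map_dvd PH hπs
    rw [hPHdef] at h3 h2
    exact dvd_trans h2 h3
  have hNormIn' : IsNormIn (⊤ : Subgroup (↥H ⧸ M.subgroupOf H)) P' N' := by
    intro g
    rw [hN'def, Subgroup.mem_normalizer_iff]
    exact ⟨fun h => ⟨Subgroup.mem_top g, h⟩, fun h => h.2⟩
  have hflag' : ρ ∨ N' = P' := by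
    rcases hflag with h | h
    · exact Or.inl h
    · right
      rw [← hmapN, hP'def]
      congr 1
      ext x
      rw [hPHdef, mem_normalizer_subgroupOf_iff H P N hPH hN x, h, Subgroup.mem_subgroupOf]
  obtain ⟨z', hz'def⟩ : ∃ z' : ↥H ⧸ M.subgroupOf H, z' = π ⟨z, hzH⟩ := ⟨_, rfl⟩
  have hz'N : z' ∈ N' := by rw [hz'def]; exact hmemN' ⟨z, hzH⟩ hzN
  have hz'c : ∀ h ∈ (⊤ : Subgroup (↥H ⧸ M.subgroupOf H)), h * z' = z' * h := by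
    intro h' _
    obtain ⟨h, rfl⟩ := hπs h'
    have h1 : π (h * ⟨z, hzH⟩ * h⁻¹ * (⟨z, hzH⟩ : ↥H)⁻¹) = 1 := by
      rw [hπ1]
      simpa using hzc h h.2
    rw [hz'def]
    rw [map_mul, map_mul, map_mul, map_inv, map_inv] at h1
    calc π h * π ⟨z, hzH⟩ = (π h * π ⟨z, hzH⟩ * (π h)⁻¹ * (π ⟨z, hzH⟩)⁻¹) * π ⟨z, hzH⟩ * π h := by group
      _ = π ⟨z, hzH⟩ * π h := by rw [h1, one_mul]
  have hz'2 : ∃ k : ℕ, z' ^ 2 ^ k = 1 := by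
    obtain ⟨k, hk⟩ := hz2
    refine ⟨k, ?_⟩
    rw [hz'def, ← map_pow]
    have : (⟨z, hzH⟩ : ↥H) ^ 2 ^ k = 1 := Subtype.ext (by simpa using hk)
    rw [this, map_one]
  have hmain := hIH (↥H ⧸ M.subgroupOf H) ⊤ P' N' hcard' hsolv' le_top hP'p hsyl' hNormIn' hflag' z'
    (Subgroup.mem_top z') hz'N hz'c hz'2 ζ
  -- the two homomorphisms
  obtain ⟨f₁, hf₁def⟩ : ∃ f₁ : ↥H →* ↥(⊤ : Subgroup (↥H ⧸ M.subgroupOf H)),
    f₁ = (Subgroup.topEquiv : ↥(⊤ : Subgroup (↥H ⧸ M.subgroupOf H)) ≃* _).symm.toMonoidHom.comp π := ⟨_, rfl⟩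
  have hf₁v : ∀ h : ↥H, ((f₁ h : ↥(⊤ : Subgroup (↥H ⧸ M.subgroupOf H))) : ↥H ⧸ M.subgroupOf H) = π h := by
    intro h
    rw [hf₁def]
    rfl
  have hf₁s : Function.Surjective f₁ := by
    intro y
    obtain ⟨h, hh⟩ := hπs (y : ↥H ⧸ M.subgroupOf H)
    exact ⟨h, Subtype.ext (by rw [hf₁v, hh])⟩
  have hf₁k : ∀ h : ↥H, h ∈ f₁.ker ↔ (h : Γ) ∈ M := by
    intro h
    rw [MonoidHom.mem_ker, ← hπ1, ← hf₁v]
    exact ⟨fun e => by rw [e]; rfl, fun e => Subtype.ext e⟩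
  obtain ⟨f₂, hf₂def⟩ : ∃ f₂ : ↥N →* ↥N',
    f₂ = MonoidHom.codRestrict (π.comp (Subgroup.inclusion hNH)) N' (fun x => hmemN' _ x.2) := ⟨_, rfl⟩
  have hf₂v : ∀ x : ↥N, ((f₂ x : ↥N') : ↥H ⧸ M.subgroupOf H) = π ⟨(x : Γ), hNH x.2⟩ := by
    intro x
    rw [hf₂def]
    rfl
  have hf₂s : Function.Surjective f₂ := by
    intro y
    have hy : (y : ↥H ⧸ M.subgroupOf H) ∈ (Subgroup.normalizer ((PH : Subgroup ↥H) : Set ↥H)).map π := by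
      rw [hmapN]; exact y.2
    obtain ⟨h, hh, hhy⟩ := hy
    have hh' : h ∈ Subgroup.normalizer ((PH : Subgroup ↥H) : Set ↥H) := hh
    rw [hPHdef, mem_normalizer_subgroupOf_iff H P N hPH hN h] at hh'
    refine ⟨⟨(h : Γ), hh'⟩, Subtype.ext ?_⟩
    rw [hf₂v]
    exact hhy
  have hf₂k : ∀ x : ↥N, x ∈ f₂.ker ↔ (x : Γ) ∈ M := by
    intro x
    rw [MonoidHom.mem_ker, ← hπ1 ⟨(x : Γ), hNH x.2⟩, ← hf₂v]
    exact ⟨fun e => by rw [e]; rfl, fun e => Subtype.ext e⟩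
  have hz1 : f₁ ⟨z, hzH⟩ = ⟨z', Subgroup.mem_top z'⟩ := Subtype.ext ((hf₁v _).trans hz'def.symm)
  have hz2' : f₂ ⟨z, hzN⟩ = ⟨z', hz'N⟩ := Subtype.ext ((hf₂v _).trans hz'def.symm)
  have g1 := card_cc_surj ρ f₁ hf₁s ⟨z, hzH⟩ ζ
  have g2 := card_cc_surj ρ f₂ hf₂s ⟨z, hzN⟩ ζ
  rw [hz1] at g1
  rw [hz2'] at g2
  have e1 : Nat.card {χ : IrrCharacter ↥H // χ ∈ CC ρ ↥H ⟨z, hzH⟩ ζ ∧
        ∀ m : ↥H, (m : Γ) ∈ M → (χ : ↥H → ℂ) m = (χ : ↥H → ℂ) 1} =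
      Nat.card {χ : IrrCharacter ↥H // χ ∈ CC ρ ↥H ⟨z, hzH⟩ ζ ∧
        ∀ x ∈ f₁.ker, (χ : ↥H → ℂ) x = (χ : ↥H → ℂ) 1} := by
    apply Nat.card_congr
    apply Equiv.subtypeEquivRight
    intro χ
    constructor
    · rintro ⟨h1, h2⟩
      exact ⟨h1, fun x hx => h2 x ((hf₁k x).mp hx)⟩
    · rintro ⟨h1, h2⟩
      exact ⟨h1, fun x hx => h2 x ((hf₁k x).mpr hx)⟩
  have e2 : Nat.card {ξ : IrrCharacter ↥N // ξ ∈ CC ρ ↥N ⟨z, hzN⟩ ζ ∧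
        ∀ m : ↥N, (m : Γ) ∈ M → (ξ : ↥N → ℂ) m = (ξ : ↥N → ℂ) 1} =
      Nat.card {ξ : IrrCharacter ↥N // ξ ∈ CC ρ ↥N ⟨z, hzN⟩ ζ ∧
        ∀ x ∈ f₂.ker, (ξ : ↥N → ℂ) x = (ξ : ↥N → ℂ) 1} := by
    apply Nat.card_congr
    apply Equiv.subtypeEquivRight
    intro ξ
    constructor
    · rintro ⟨h1, h2⟩
      exact ⟨h1, fun x hx => h2 x ((hf₂k x).mp hx)⟩
    · rintro ⟨h1, h2⟩
      exact ⟨h1, fun x hx => h2 x ((hf₂k x).mpr hx)⟩
  rw [e1, e2, ← g1, ← g2]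
  exact hmain

end amb

end Cfsg.Agent.Lib.H6.RO
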