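import Mathlib

/-! Additive maps of a finite field of characteristic 2 as combinations of automorphisms (helper6). -/

set_option autoImplicit false

namespace Cfsg.Agent.Lib.H6.FieldAut

open Module

variable {F : Type*} [Field F] [Fintype F] [CharP F 2]

/-- linear independence of the automorphisms. -/
theorem aut_linearIndependent :
    LinearIndependent F (fun σ : F ≃+* F => ((σ : F →+* F) : F → F)) := by
  have h := linearIndependent_monoidHom F F
  have hinj : Function.Injective (fun σ : F ≃+* F => ((σ : F →+* F) : F →* F)) := by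
    intro σ τ hστ
    ext x
    exact DFunLike.congr_fun hστ x
  exact h.comp _ hinj

section

attribute [local instance] ZMod.algebra

/-- A ring automorphism as a `ZMod 2`-algebra automorphism. -/
noncomputable def toAlgEquiv (σ : F ≃+* F) : F ≃ₐ[ZMod 2] F :=
  AlgEquiv.ofRingEquiv (f := σ) (fun x => by
    have : (σ : F →+* F).comp (algebraMap (ZMod 2) F) = algebraMap (ZMod 2) F :=
      Subsingleton.elim _ _
    exact DFunLike.congr_fun this x)

theorem exists_coeff :
    ∃ (s : Finset (F ≃+* F)) (ι : Type) (_ : Fintype ι) (u v : ι → F), ∀ f : F →+ F, ∀ x : F,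
      f x = ∑ σ ∈ s, (∑ i, σ (u i) * f (v i)) * σ x := by
  classical
  let b := Module.finBasis (ZMod 2) F
  have hnd := traceForm_nondegenerate (ZMod 2) F
  let d := (Algebra.traceForm (ZMod 2) F).dualBasis hnd b
  let e : (F ≃ₐ[ZMod 2] F) → (F ≃+* F) := fun σ => σ.toRingEquiv
  have he : Function.Injective e := by
    intro σ τ h
    ext x
    exact DFunLike.congr_fun h x
  refine ⟨Finset.univ.image e, Fin (finrank (ZMod 2) F), inferInstance, fun i => b i, fun i => d i, ?_⟩
  intro f x
  have hx : x = ∑ i, (Algebra.trace (ZMod 2) F (x * b i)) • d i := by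
    conv_lhs => rw [← d.sum_repr x]
    apply Finset.sum_congr rfl
    intro i _
    rw [LinearMap.BilinForm.dualBasis_repr_apply, Algebra.traceForm_apply]
  have hf : f x = ∑ i, (Algebra.trace (ZMod 2) F (x * b i)) • f (d i) := by
    conv_lhs => rw [hx]
    rw [map_sum]
    apply Finset.sum_congr rfl
    intro i _
    exact map_smul (f.toZModLinearMap 2) _ _
  rw [hf, Finset.sum_image (fun a _ b _ h => he h)]
  have htr : ∀ y : F, algebraMap (ZMod 2) F (Algebra.trace (ZMod 2) F y)
      = ∑ σ : F ≃ₐ[ZMod 2] F, σ y := fun y => trace_eq_sum_automorphisms y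
  simp_rw [Algebra.smul_def, htr, Finset.sum_mul]
  rw [Finset.sum_comm]
  apply Finset.sum_congr rfl
  intro σ _
  apply Finset.sum_congr rfl
  intro i _
  show σ (x * b i) * f (d i) = σ (b i) * f (d i) * σ x
  rw [map_mul]
  ring

end

/-- every additive endomorphism is a combination of automorphisms. -/
theorem exists_comb (f : F →+ F) :
    ∃ (s : Finset (F ≃+* F)) (c : (F ≃+* F) → F), ∀ x : F, f x = ∑ σ ∈ s, c σ * σ x := by
  obtain ⟨s, ι, _, u, v, h⟩ := exists_coeff (F := F)
  exact ⟨s, fun σ => ∑ i, σ (u i) * f (v i), fun x => h f x⟩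

/-- every biadditive map is a combination of `σ x * τ y`. -/
theorem exists_comb₂ (B : F →+ F →+ F) :
    ∃ (s : Finset ((F ≃+* F) × (F ≃+* F))) (c : (F ≃+* F) × (F ≃+* F) → F),
      ∀ x y : F, B x y = ∑ p ∈ s, c p * (p.1 x * p.2 y) := by
  obtain ⟨s, ι, _, u, v, h⟩ := exists_coeff (F := F)
  refine ⟨s ×ˢ s, fun p => ∑ i, p.2 (u i) * ∑ j, p.1 (u j) * B (v j) (v i), ?_⟩
  intro x y
  rw [h (B x) y, Finset.sum_product_right]
  apply Finset.sum_congr rfl
  intro τ _
  have h2 : ∀ i, B x (v i) = ∑ σ ∈ s, (∑ j, σ (u j) * B (v j) (v i)) * σ x := by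
    intro i
    exact h (B.flip (v i)) x
  simp_rw [h2, Finset.mul_sum, Finset.sum_mul, Finset.mul_sum]
  rw [Finset.sum_comm]
  apply Finset.sum_congr rfl
  intro σ _
  apply Finset.sum_congr rfl
  intro i _
  rw [Finset.sum_mul]
  apply Finset.sum_congr rfl
  intro j _
  ring

section Quad

attribute [local instance] ZMod.algebra

/-- a map which is quadratic over the prime field is the diagonal of a biadditive map. -/
theorem exists_biadditive_of_quadratic (q : F → F)
    (hq : ∀ x y z : F, q (x + y + z) + q (x + y) + q (x + z) + q (y + z) + q x + q y + q z = 0) :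
    ∃ B : F →+ F →+ F, ∀ x, q x = B x x := by
  have h2 : (2 : F) = 0 := CharTwo.two_eq_zero
  have hq0 : q 0 = 0 := by
    have := hq 0 0 0
    simp only [add_zero] at this
    linear_combination this - 3 * q 0 * h2
  have hadd : ∀ x y z : F, q (x + y + z) + q (x + y) + q z
      = (q (x + z) + q x + q z) + (q (y + z) + q y + q z) := by
    intro x y z
    linear_combination hq x y z + (-(q (x + z)) - q (y + z) - q x - q y - q z) * h2
  have h01 : ∀ c : ZMod 2, c = 0 ∨ c = 1 := by decide
  have hsm' : ∀ (c : ZMod 2) (x y : F), q (c • x + y) + q (c • x) + q y = c • (q (x + y) + q x + q y) := by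
    intro c x y
    rcases h01 c with rfl | rfl
    · rw [zero_smul, zero_smul, zero_add, hq0]
      linear_combination q y * h2
    · rw [one_smul, one_smul]
  let B : F →ₗ[ZMod 2] F →ₗ[ZMod 2] F :=
    LinearMap.mk₂ (ZMod 2) (fun x y => q (x + y) + q x + q y)
      (fun x y z => hadd x y z)
      (fun c x y => hsm' c x y)
      (fun x y z => by
        have := hadd y z x
        rw [add_comm x (y + z), add_comm x y, add_comm x z]
        linear_combination this)
      (fun c x y => by
        have := hsm' c y x
        rw [add_comm x (c • y), add_comm x y, add_right_comm (q (c • y + x)), add_right_comm (q (y + x))]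
        exact this)
  let Q : QuadraticMap (ZMod 2) F F :=
    { toFun := q
      toFun_smul := by
        intro a x
        rcases h01 a with rfl | rfl
        · rw [zero_smul, mul_zero, zero_smul, hq0]
        · rw [one_smul, mul_one, one_smul]
      exists_companion' := ⟨B, fun x y => by
        show q (x + y) = q x + q y + (q (x + y) + q x + q y)
        linear_combination (-(q x) - q y) * h2⟩ }
  obtain ⟨B', hB'⟩ := LinearMap.BilinMap.toQuadraticMap_surjective Q
  refine ⟨AddMonoidHom.mk' (fun x => (B' x).toAddMonoidHom) (fun x y => by ext z; simp), ?_⟩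
  intro x
  have : Q x = B' x x := by
    rw [← hB', LinearMap.BilinMap.toQuadraticMap_apply]
  exact this

end Quad

end Cfsg.Agent.Lib.H6.FieldAut
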