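import Mathlib
import Cfsg.Prelude.Def_Blocks
import Cfsg.Agent.Lib.H23.CharGalois
import Cfsg.Agent.Lib.H24.CharOrth
import Cfsg.Agent.Lib.H22.MaxClass2

/-!
# S4923, piece BRIDGE (helper6): Galois correspondence for the field of values at `g`

`ℚ(χ(g) : χ ∈ Irr G) = ℚ(w)` inside `ℂ` iff the stabiliser of `w` in the cyclotomic Galois group is
`{σ : g ^ k_σ ~ g}`.
-/

set_option autoImplicit false

namespace Cfsg.Agent.Lib.H6.FV

open Cfsg.Agent.Lib.H23

section general

variable {F E : Type*} [Field F] [Field E] [Algebra F E]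

/-- an automorphism fixes `F(S)` pointwise iff it fixes `S` pointwise -/
theorem fv_mem_fixingSubgroup_adjoin (S : Set E) (σ : Gal(E/F)) :
    σ ∈ (IntermediateField.adjoin F S).fixingSubgroup ↔ ∀ s ∈ S, σ s = s := by
  constructor
  · intro h s hs
    exact (IntermediateField.mem_fixingSubgroup_iff _ σ).mp h s
      (IntermediateField.subset_adjoin F S hs)
  · intro h
    rw [← Subgroup.zpowers_le, ← IntermediateField.le_iff_le, IntermediateField.adjoin_le_iff]
    intro s hs
    rw [SetLike.mem_coe, IntermediateField.mem_fixedField_iff]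
    intro τ hτ
    obtain ⟨i, rfl⟩ := Subgroup.mem_zpowers_iff.mp hτ
    have hfix : ∀ n : ℕ, (σ ^ n) s = s := by
      intro n
      induction n with
      | zero => simp
      | succ n ih => rw [pow_succ, AlgEquiv.mul_apply, h s hs, ih]
    have hfix' : ∀ n : ℕ, (σ ^ n)⁻¹ s = s := by
      intro n
      have h1 := hfix n
      calc (σ ^ n)⁻¹ s = (σ ^ n)⁻¹ ((σ ^ n) s) := by rw [h1]
        _ = s := by rw [← AlgEquiv.mul_apply, inv_mul_cancel, AlgEquiv.one_apply]
    rcases Int.eq_nat_or_neg i with ⟨n, rfl | rfl⟩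
    · rw [zpow_natCast]; exact hfix n
    · rw [zpow_neg, zpow_natCast]; exact hfix' n

/-- Galois correspondence: two intermediate fields with the same fixing subgroup are equal -/
theorem fv_eq_of_fixingSubgroup_eq [FiniteDimensional F E] [IsGalois F E]
    {K₁ K₂ : IntermediateField F E} (h : K₁.fixingSubgroup = K₂.fixingSubgroup) : K₁ = K₂ := by
  rw [← IsGalois.fixedField_fixingSubgroup K₁, ← IsGalois.fixedField_fixingSubgroup K₂, h]

end general

/-- **BRIDGE** (Galois correspondence for the field of values at `g`). -/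
theorem bridge {G : Type*} [Group G] [Finite G] (m : ℕ) [NeZero m] (g : G) (hg : g ^ m = 1)
    (w : CyclotomicField m ℚ) :
    IntermediateField.adjoin ℚ {z : ℂ | ∃ χ : Cfsg.IrrCharacter G, (χ : G → ℂ) g = z} =
        IntermediateField.adjoin ℚ ({cycEmb m w} : Set ℂ) ↔
      ∀ σ : Gal(CyclotomicField m ℚ/ℚ), σ w = w ↔ IsConj (g ^ (cycPow m σ).val) g := by
  classical
  have := Fintype.ofFinite G
  -- cyclotomic preimages of the character values
  have hex : ∀ χ : Cfsg.IrrCharacter G, ∃ x : CyclotomicField m ℚ,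
      ∀ σ : Gal(CyclotomicField m ℚ/ℚ),
        cycEmb m (σ x) = (χ : G → ℂ) (g ^ (cycPow m σ).val) := by
    intro χ
    obtain ⟨n, ρ, -, hρ⟩ := χ.2
    obtain ⟨x, hx⟩ := exists_cyc_char m ρ g hg
    refine ⟨x, fun σ => ?_⟩
    rw [hx σ, hρ]
  choose x hx using hex
  have hx1 : ∀ χ : Cfsg.IrrCharacter G, cycEmb m (x χ) = (χ : G → ℂ) g := by
    intro χ
    have h1 := hx χ 1
    rw [AlgEquiv.one_apply] at h1
    rw [h1]
    have hk : cycPow m (1 : Gal(CyclotomicField m ℚ/ℚ)) = 1 := by simp [cycPow]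
    rw [hk, pow_val_one_eq m g hg]
  -- the two fields inside the cyclotomic field
  have himg : (cycEmb m) '' (Set.range x) =
      {z : ℂ | ∃ χ : Cfsg.IrrCharacter G, (χ : G → ℂ) g = z} := by
    ext z
    constructor
    · rintro ⟨_, ⟨χ, rfl⟩, rfl⟩
      exact ⟨χ, (hx1 χ).symm⟩
    · rintro ⟨χ, rfl⟩
      exact ⟨x χ, ⟨χ, rfl⟩, hx1 χ⟩
  have himg2 : (cycEmb m) '' ({w} : Set (CyclotomicField m ℚ)) = {cycEmb m w} :=
    Set.image_singleton
  rw [← himg, ← himg2, ← IntermediateField.adjoin_map, ← IntermediateField.adjoin_map,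
    (IntermediateField.map_injective (cycEmb m)).eq_iff]
  -- fixing subgroups
  have hfix1 : ∀ σ : Gal(CyclotomicField m ℚ/ℚ),
      σ ∈ (IntermediateField.adjoin ℚ (Set.range x)).fixingSubgroup ↔
        IsConj (g ^ (cycPow m σ).val) g := by
    intro σ
    rw [fv_mem_fixingSubgroup_adjoin, Cfsg.Agent.Lib.H24.isConj_iff_forall_irr_eq]
    constructor
    · intro h χ
      have h1 := h (x χ) ⟨χ, rfl⟩
      rw [← hx χ σ, h1, hx1]
    · rintro h _ ⟨χ, rfl⟩
      apply cycEmb_injective m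
      rw [hx χ σ, h χ, hx1]
  have hfix2 : ∀ σ : Gal(CyclotomicField m ℚ/ℚ),
      σ ∈ (IntermediateField.adjoin ℚ ({w} : Set (CyclotomicField m ℚ))).fixingSubgroup ↔
        σ w = w := by
    intro σ
    rw [fv_mem_fixingSubgroup_adjoin]
    simp
  constructor
  · intro h σ
    rw [← hfix1 σ, ← hfix2 σ, h]
  · intro h
    apply fv_eq_of_fixingSubgroup_eq
    ext σ
    rw [hfix1 σ, hfix2 σ]
    exact (h σ).symm

end Cfsg.Agent.Lib.H6.FV
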