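import Mathlib

/-!
# `[M, y]` for an abelian `M` and `y` of coprime order (helper6)

`M` a commutative subgroup of `G` normalised by `y`, `y ^ s = 1`, `M` without `s`-torsion.  Then there is a
`y`-invariant subgroup `N ≤ M` containing all commutators `y m y⁻¹ m⁻¹` (`m ∈ M`) on which `y` acts
fixed-point-freely.  (`N` is the kernel of the norm `∑ θ^i`, `θ` = conjugation by `y`, computed in the ring
`AddMonoid.End (Additive M)`.)
-/

set_option autoImplicit false

namespace Cfsg.Agent.Lib.H6.CommFpf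

open Finset

theorem comm_fpf {G : Type*} [Group G] (M : Subgroup G)
    (hMc : ∀ a ∈ M, ∀ b ∈ M, a * b = b * a) (y : G) (s : ℕ) (hys : y ^ s = 1)
    (hyM : ∀ m ∈ M, y * m * y⁻¹ ∈ M) (htor : ∀ m ∈ M, m ^ s = 1 → m = 1) :
    ∃ N : Subgroup G, N ≤ M ∧ (∀ m ∈ M, y * m * y⁻¹ * m⁻¹ ∈ N) ∧
      (∀ n ∈ N, y * n * y⁻¹ ∈ N) ∧ (∀ n ∈ N, y * n * y⁻¹ = n → n = 1) := by
  classical
  let iC : CommGroup M :=
    { (inferInstance : Group M) with mul_comm := fun a b => Subtype.ext (hMc a a.2 b b.2) }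
  let θ : AddMonoid.End (Additive M) :=
    AddMonoidHom.mk'
      (fun a => Additive.ofMul (⟨y * ((Additive.toMul a : M) : G) * y⁻¹,
        hyM _ (Additive.toMul a).2⟩ : M))
      (by
        intro a b
        apply Additive.toMul.injective
        apply Subtype.ext
        show y * (((Additive.toMul a * Additive.toMul b : M)) : G) * y⁻¹
          = (y * ((Additive.toMul a : M) : G) * y⁻¹) * (y * ((Additive.toMul b : M) : G) * y⁻¹)
        rw [Subgroup.coe_mul]; group)
  have hθ : ∀ a : Additive M,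
      ((Additive.toMul (θ a) : M) : G) = y * ((Additive.toMul a : M) : G) * y⁻¹ := fun _ => rfl
  have hθpow : ∀ (i : ℕ) (a : Additive M),
      ((Additive.toMul ((θ ^ i) a) : M) : G) = y ^ i * ((Additive.toMul a : M) : G) * (y ^ i)⁻¹ := by
    intro i
    induction i with
    | zero => intro a; simp
    | succ i ih =>
      intro a
      rw [pow_succ']
      show ((Additive.toMul (θ ((θ ^ i) a)) : M) : G) = _
      rw [hθ, ih, pow_succ']
      group
  have hθs : θ ^ s = 1 := by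
    have key : ∀ a : Additive M, (θ ^ s) a = a := by
      intro a
      apply Additive.toMul.injective
      apply Subtype.ext
      rw [hθpow, hys]
      simp
    exact AddMonoidHom.ext key
  let ν : AddMonoid.End (Additive M) := ∑ i ∈ range s, θ ^ i
  have hνγ : ν * (θ - 1) = 0 := by
    show (∑ i ∈ range s, θ ^ i) * (θ - 1) = 0
    rw [geom_sum_mul, hθs, sub_self]
  have hcomm : Commute ν θ :=
    Commute.sum_left _ _ _ (fun i _ => (Commute.refl θ).pow_left i)
  have hsumapply : ∀ (n : ℕ) (a : Additive M),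
      (∑ i ∈ range n, θ ^ i) a = ∑ i ∈ range n, (θ ^ i) a := by
    intro n a
    induction n with
    | zero => simp
    | succ n ih => rw [Finset.sum_range_succ, Finset.sum_range_succ, ← ih]; rfl
  have hνapply : ∀ a : Additive M, ν a = ∑ i ∈ range s, (θ ^ i) a := fun a => hsumapply s a
  let N : Subgroup G :=
    { carrier := {n | ∃ hn : n ∈ M, ν (Additive.ofMul (⟨n, hn⟩ : M)) = 0}
      one_mem' := ⟨M.one_mem, by
        have : (Additive.ofMul (⟨1, M.one_mem⟩ : M)) = 0 := rfl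
        rw [this, map_zero]⟩
      mul_mem' := by
        rintro a b ⟨ha, hνa⟩ ⟨hb, hνb⟩
        refine ⟨M.mul_mem ha hb, ?_⟩
        have : (Additive.ofMul (⟨a * b, M.mul_mem ha hb⟩ : M))
            = Additive.ofMul (⟨a, ha⟩ : M) + Additive.ofMul (⟨b, hb⟩ : M) := rfl
        rw [this, map_add, hνa, hνb, add_zero]
      inv_mem' := by
        rintro a ⟨ha, hνa⟩
        refine ⟨M.inv_mem ha, ?_⟩
        have : (Additive.ofMul (⟨a⁻¹, M.inv_mem ha⟩ : M)) = - Additive.ofMul (⟨a, ha⟩ : M) := rfl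
        rw [this, map_neg, hνa, neg_zero] }
  refine ⟨N, fun n hn => hn.1, ?_, ?_, ?_⟩
  · intro m hm
    have hmem : y * m * y⁻¹ * m⁻¹ ∈ M := M.mul_mem (hyM m hm) (M.inv_mem hm)
    refine ⟨hmem, ?_⟩
    have e0 : (⟨y * m * y⁻¹ * m⁻¹, hmem⟩ : M) = (⟨y * m * y⁻¹, hyM m hm⟩ : M) * (⟨m, hm⟩ : M)⁻¹ :=
      Subtype.ext rfl
    have e : (Additive.ofMul (⟨y * m * y⁻¹ * m⁻¹, hmem⟩ : M))
        = (θ - 1) (Additive.ofMul (⟨m, hm⟩ : M)) := by
      rw [e0, ← div_eq_mul_inv]
      rfl
    rw [e]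
    show (ν * (θ - 1)) (Additive.ofMul (⟨m, hm⟩ : M)) = 0
    rw [hνγ]
    rfl
  · rintro n ⟨hn, hνn⟩
    refine ⟨hyM n hn, ?_⟩
    have e : (Additive.ofMul (⟨y * n * y⁻¹, hyM n hn⟩ : M)) = θ (Additive.ofMul (⟨n, hn⟩ : M)) :=
      rfl
    rw [e]
    show (ν * θ) (Additive.ofMul (⟨n, hn⟩ : M)) = 0
    rw [hcomm.eq]
    show θ (ν (Additive.ofMul (⟨n, hn⟩ : M))) = 0
    rw [hνn, map_zero]
  · rintro n ⟨hn, hνn⟩ hfix
    apply htor n hn
    have hθfix : θ (Additive.ofMul (⟨n, hn⟩ : M)) = Additive.ofMul (⟨n, hn⟩ : M) := by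
      apply Additive.toMul.injective
      apply Subtype.ext
      exact hfix
    have hpowfix : ∀ i : ℕ, (θ ^ i) (Additive.ofMul (⟨n, hn⟩ : M)) = Additive.ofMul (⟨n, hn⟩ : M) := by
      intro i
      induction i with
      | zero => rfl
      | succ i ih =>
        rw [pow_succ]
        show (θ ^ i) (θ (Additive.ofMul (⟨n, hn⟩ : M))) = _
        rw [hθfix, ih]
    rw [hνapply, Finset.sum_congr rfl (fun i _ => hpowfix i), Finset.sum_const, Finset.card_range]
      at hνn
    have h2 := congrArg (fun z : Additive M => ((Additive.toMul z : M) : G)) hνn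
    simpa using h2

end Cfsg.Agent.Lib.H6.CommFpf
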