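import Cfsg.Agent.Lib.H27.S3814C1Defs
import Cfsg.Agent.Lib.H6.FrobActG
import Cfsg.Agent.Lib.H6.CommFpf

/-!
# S3814, Case 1, piece (12) A4 (helper6)

A bad element `y ∈ X` of prime order centralises `M`: `N = [M, y]` is a `y`-invariant subgroup of `M`
with `C_N(y) = 1`, so T1 makes `N` centralise `V`, and `K` is faithful on `V`.
-/

set_option autoImplicit false

namespace Cfsg.Agent.Lib.H6.S3814C1A4

open Cfsg.Agent.H7.S3814Defs Cfsg.Agent.H27.S3814C1

universe u

/-- the generic step: a bad `y` of prime order `s ≠ c` normalising the elementary abelian `c`-subgroup `M` of `K`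
centralises `M`. -/
theorem cent_of_bad {G : Type u} [Group G] [Finite G] {p c s : ℕ} (hp : p.Prime) (hc : c.Prime)
    (hs : s.Prime) (hcp : c ≠ p) (hsc : s ≠ c) (V K M : Subgroup G) (hVn : V.Normal)
    (hVe : ElemAb p V) (hfaith : ∀ k ∈ K, (∀ v ∈ V, k * v = v * k) → k = 1)
    (hMK : M ≤ K) (hMe : ElemAb c M) (y : G) (hy : orderOf y = s)
    (hyM : ∀ m ∈ M, y * m * y⁻¹ ∈ M) (hbad : Fpf y V) : Cent y M := by
  have htor : ∀ m ∈ M, m ^ s = 1 → m = 1 := by
    intro m hm hms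
    have h1 : orderOf m ∣ s := orderOf_dvd_of_pow_eq_one hms
    have h2 : orderOf m ∣ c := orderOf_dvd_of_pow_eq_one (hMe.2 m hm)
    have h3 : orderOf m ∣ Nat.gcd s c := Nat.dvd_gcd h1 h2
    rw [(Nat.coprime_primes hs hc).2 hsc] at h3
    exact orderOf_eq_one_iff.1 (Nat.dvd_one.1 h3)
  obtain ⟨N, hNM, hγ, hNy, hNfpf⟩ := Cfsg.Agent.Lib.H6.CommFpf.comm_fpf M hMe.1 y s
    (by rw [← hy, pow_orderOf_eq_one]) hyM htor
  -- `N` is a `c`-group
  have hNp : IsPGroup c N := by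
    intro n
    refine ⟨1, ?_⟩
    apply Subtype.ext
    rw [pow_one]
    have := hMe.2 n (hNM n.2)
    simpa using this
  have : Fact c.Prime := ⟨hc⟩
  obtain ⟨k, hk⟩ := hNp.exists_card_eq
  have hcent := Cfsg.Agent.Lib.H6.FrobActG.t1_group N V y hs hy hNy
    (fun v hv => hVn.conj_mem v hv y) (fun n _ v hv => hVn.conj_mem v hv n) hVe.1 hNfpf
    (fun v hv hvN => by
      rw [hk] at hvN
      have h1 : orderOf v ∣ c ^ k := orderOf_dvd_of_pow_eq_one hvN
      have h2 : orderOf v ∣ p := orderOf_dvd_of_pow_eq_one (hVe.2 v hv)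
      have h3 : orderOf v ∣ Nat.gcd (c ^ k) p := Nat.dvd_gcd h1 h2
      rw [Nat.Coprime.pow_left k ((Nat.coprime_primes hc hp).2 hcp)] at h3
      exact orderOf_eq_one_iff.1 (Nat.dvd_one.1 h3))
    (fun v hv hvy => hbad v hv (by
      have := congrArg (· * y) hvy
      simpa [mul_assoc] using this))
  intro m hm
  have h1 : y * m * y⁻¹ * m⁻¹ = 1 := by
    apply hfaith _ (hMK (hNM (hγ m hm)))
    intro v hv
    have := hcent _ (hγ m hm) v hv
    have h2 := congrArg (· * (y * m * y⁻¹ * m⁻¹)) this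
    simpa [mul_assoc] using h2
  have h2 : y * m * y⁻¹ = m := by
    have := congrArg (· * m) h1
    simpa [mul_assoc] using this
  have h3 := congrArg (· * y) h2
  simpa [mul_assoc] using h3

theorem a4 : A4Stmt.{u} := by
  intro G _ σ p V K c M X t t' h y hyX hyp hbad
  have := h.c0.cex.fin
  have hp : p.Prime := h.c0.cex.prime p h.c0.shape.hp
  have hyK : y ∈ K := h.compl.le hyX
  -- `orderOf y ≠ c`
  have hsc : orderOf y ≠ c := by
    intro hyc
    have h1 : orderOf (⟨y, hyX⟩ : X) = c := by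
      rw [← hyc, ← Subgroup.orderOf_coe]
    have h2 : c ∣ Nat.card X := h1 ▸ orderOf_dvd_natCard _
    have h3 := Nat.Coprime.eq_one_of_dvd h.compl.cop.symm h2
    exact h.c0.hc.one_lt.ne h3.symm
  have hyM : ∀ m ∈ M, y * m * y⁻¹ ∈ M := fun m hm =>
    ((Subgroup.mem_normalizer_iff.1 (h.c0.hMn hyK)) m).1 hm
  exact cent_of_bad hp h.c0.hc hyp h.oth.cp hsc V K M h.c0.shape.normal h.c0.shape.elem
    h.c0.shape.faithful h.c0.hMK h.c0.hMe y rfl hyM hbad

example : A4Stmt.{0} := a4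

end Cfsg.Agent.Lib.H6.S3814C1A4
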