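import Mathlib
import Cfsg.Agent.Lib.H28.CSL2Defs

/-!
# S3211 piece ISO4 (architect helper28): no element swaps `j` and `t = x₁ x₂`

`x₁ = x` from `SPow`, `x₂ = n x n⁻¹`.  If `h'` swaps `j` and `t`, then `h'` maps involutions of `C(t)`
to involutions of `C(j)`, which lie in `L₁L₂`; `c = (c y y₂)(y y₂)⁻¹` is a quotient of two involutions of
`C(t)`, so `h' c h'⁻¹ = a b ∈ L₁L₂` and `(a b)^M = h' c^M h'⁻¹ = t`, whence `a^M ∈ {x₁, x₁ j}` has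
square `j`, against `npow`.
-/

set_option autoImplicit false

namespace Cfsg.Agent.Lib.H6.CSL2

open Cfsg.Agent.Lib.H28.CSL2

variable {G : Type*} [Group G] {L₁ L₂ : Subgroup G} {j n : G}

/-- (local copy of ISO1) the coset `L₁L₂n` contains no involution. -/
theorem iso4_no_inv (h : Cfg L₁ L₂ j n) {a b : G} (ha : a ∈ L₁) (hb : b ∈ L₂) :
    (a * b * n) * (a * b * n) ≠ 1 := by
  intro hcon
  have hjj := h.s1.jj
  have ha₂ : n * a * n⁻¹ ∈ L₂ := h.n12 a ha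
  have hb₁ : n * b * n⁻¹ ∈ L₁ := h.n21 b hb
  have e1 : (a * b * n) * (a * b * n) = a * b * (n * a * n⁻¹) * (n * b * n⁻¹) * (n * n) := by
    group
  rw [e1, h.nn] at hcon
  generalize ha₂def : n * a * n⁻¹ = a₂ at ha₂ hcon
  have hc1 : (n * b * n⁻¹) * (b * a₂) = (b * a₂) * (n * b * n⁻¹) :=
    h.comm _ hb₁ (b * a₂) (L₂.mul_mem hb ha₂)
  have e2 : a * b * a₂ * (n * b * n⁻¹) = (a * (n * b * n⁻¹)) * (b * a₂) := by
    calc a * b * a₂ * (n * b * n⁻¹) = a * ((b * a₂) * (n * b * n⁻¹)) := by group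
      _ = a * ((n * b * n⁻¹) * (b * a₂)) := by rw [hc1]
      _ = (a * (n * b * n⁻¹)) * (b * a₂) := by group
  rw [e2] at hcon
  have ha' : a * (n * b * n⁻¹) ∈ L₁ := L₁.mul_mem ha hb₁
  have hb' : b * a₂ ∈ L₂ := L₂.mul_mem hb ha₂
  -- `n a' n⁻¹ = a₂ b`
  have e3 : n * (a * (n * b * n⁻¹)) * n⁻¹ = a₂ * b := by
    have h1 : n * (n * b * n⁻¹) * n⁻¹ = (n * n) * b * (n * n)⁻¹ := by group
    rw [h.nn] at h1
    have hbj : j * b * j⁻¹ = b := by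
      have := h.s2.cen b hb
      rw [← this]; group
    calc n * (a * (n * b * n⁻¹)) * n⁻¹ = (n * a * n⁻¹) * (n * (n * b * n⁻¹) * n⁻¹) := by group
      _ = a₂ * b := by rw [h1, hbj, ha₂def]
  generalize ha'def : a * (n * b * n⁻¹) = a' at ha' hcon e3
  have ha'2 : a' ∈ L₂ := by
    have : a' = (b * a₂ * j)⁻¹ :=
      eq_inv_of_mul_eq_one_left (by rw [← mul_assoc]; exact hcon)
    rw [this]
    exact L₂.inv_mem (L₂.mul_mem hb' h.s2.jL)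
  have hmeet := h.meet a' ha' ha'2
  have hna' : n * a' * n⁻¹ = a' := by
    rcases hmeet with h1 | h1
    · rw [h1]; group
    · rw [h1, h.nj]; group
  have hba' : b * a' * b⁻¹ = a' := by
    rcases hmeet with h1 | h1
    · rw [h1]; group
    · rw [h1, h.s2.cen b hb]; group
  have hb'a' : b * a₂ = a' := by
    calc b * a₂ = b * (a₂ * b) * b⁻¹ := by group
      _ = b * a' * b⁻¹ := by rw [← e3, hna']
      _ = a' := hba'
  have ha'a' : a' * a' = 1 := by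
    rcases hmeet with h1 | h1
    · rw [h1]; group
    · rw [h1]; exact hjj
  rw [hb'a', ha'a', one_mul] at hcon
  exact h.s1.jne hcon

/-- **ISO4**. -/
theorem cfg_no_swap (h : Cfg L₁ L₂ j n) {M : ℕ} (hP : SPow L₁ j M) :
    ∃ x₁ ∈ L₁, ∃ x₂ ∈ L₂, x₁ * x₁ = j ∧ x₂ * x₂ = j ∧
      ∀ h' : G, h' * j * h'⁻¹ = x₁ * x₂ → h' * (x₁ * x₂) * h'⁻¹ = j → False := by
  obtain ⟨x, hx, c, hc, y, hy, hxx, hcx, hcM, hyx⟩ := hP.ex
  have hjj := h.s1.jj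
  have hnjn : n * j * n⁻¹ = j := by rw [h.nj]; group
  have hx₂ : n * x * n⁻¹ ∈ L₂ := h.n12 x hx
  have hx₂x₂ : (n * x * n⁻¹) * (n * x * n⁻¹) = j := by
    calc (n * x * n⁻¹) * (n * x * n⁻¹) = n * (x * x) * n⁻¹ := by group
      _ = j := by rw [hxx, hnjn]
  refine ⟨x, hx, n * x * n⁻¹, hx₂, hxx, hx₂x₂, ?_⟩
  intro h' hj' ht'
  have hy₂ : n * y * n⁻¹ ∈ L₂ := h.n12 y hy
  have hyy : y * y = j := h.s1.invt x hx y hy hxx hyx
  have hy₂y₂ : (n * y * n⁻¹) * (n * y * n⁻¹) = j := by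
    calc (n * y * n⁻¹) * (n * y * n⁻¹) = n * (y * y) * n⁻¹ := by group
      _ = j := by rw [hyy, hnjn]
  have hy₂x₂ : (n * y * n⁻¹) * (n * x * n⁻¹) * (n * y * n⁻¹)⁻¹ = (n * x * n⁻¹)⁻¹ := by
    calc (n * y * n⁻¹) * (n * x * n⁻¹) * (n * y * n⁻¹)⁻¹ = n * (y * x * y⁻¹) * n⁻¹ := by group
      _ = (n * x * n⁻¹)⁻¹ := by rw [hyx]; group
  generalize hx₂def : n * x * n⁻¹ = x₂ at hx₂ hx₂x₂ hj' ht' hy₂x₂
  generalize hy₂def : n * y * n⁻¹ = y₂ at hy₂ hy₂y₂ hy₂x₂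
  have hxx₂ : Commute x x₂ := h.comm x hx x₂ hx₂
  have htt : (x * x₂) * (x * x₂) = 1 := by
    calc x * x₂ * (x * x₂) = x * (x₂ * x) * x₂ := by group
      _ = x * (x * x₂) * x₂ := by rw [hxx₂.eq]
      _ = (x * x) * (x₂ * x₂) := by group
      _ = 1 := by rw [hxx, hx₂x₂, hjj]
  generalize htdef : x * x₂ = t at hj' ht' htt
  have htinv : t⁻¹ = t := inv_eq_of_mul_eq_one_left htt
  have hyy₂ : Commute y y₂ := h.comm y hy y₂ hy₂
  -- `w₂ = y y₂` is an involution commuting with `t`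
  have hw₂sq : (y * y₂) * (y * y₂) = 1 := by
    calc (y * y₂) * (y * y₂) = y * (y₂ * y) * y₂ := by group
      _ = y * (y * y₂) * y₂ := by rw [hyy₂.eq]
      _ = (y * y) * (y₂ * y₂) := by group
      _ = 1 := by rw [hyy, hy₂y₂, hjj]
  have hw₂t : (y * y₂) * t = t * (y * y₂) := by
    have hy₂x : Commute y₂ x := (h.comm x hx y₂ hy₂).symm
    have hyx₂ : Commute y x₂⁻¹ := (show Commute y x₂ from h.comm y hy x₂ hx₂).inv_right
    have e : (y * y₂) * t * (y * y₂)⁻¹ = t⁻¹ := by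
      calc (y * y₂) * t * (y * y₂)⁻¹ = y * (y₂ * x) * x₂ * y₂⁻¹ * y⁻¹ := by rw [← htdef]; group
        _ = y * (x * y₂) * x₂ * y₂⁻¹ * y⁻¹ := by rw [hy₂x.eq]
        _ = (y * x * y⁻¹) * (y * (y₂ * x₂ * y₂⁻¹) * y⁻¹) := by group
        _ = x⁻¹ * (y * x₂⁻¹ * y⁻¹) := by rw [hyx, hy₂x₂]
        _ = x⁻¹ * (x₂⁻¹ * y * y⁻¹) := by rw [hyx₂.eq]
        _ = t⁻¹ := by rw [← htdef, hxx₂.eq]; group
    rw [htinv] at e
    calc (y * y₂) * t = ((y * y₂) * t * (y * y₂)⁻¹) * (y * y₂) := by group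
      _ = t * (y * y₂) := by rw [e]
  -- `w₁ = c y y₂` is an involution commuting with `t`
  have hcy : (c * y) * (c * y) = j := by
    apply h.s1.invt x hx (c * y) (L₁.mul_mem hc hy) hxx
    have hcxi : Commute c x⁻¹ := (show Commute c x from hcx).inv_right
    calc (c * y) * x * (c * y)⁻¹ = c * (y * x * y⁻¹) * c⁻¹ := by group
      _ = c * x⁻¹ * c⁻¹ := by rw [hyx]
      _ = x⁻¹ := by rw [hcxi.eq]; group
  have hcy₂ : Commute (c * y) y₂ := h.comm (c * y) (L₁.mul_mem hc hy) y₂ hy₂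
  have hw₁sq : (c * y * y₂) * (c * y * y₂) = 1 := by
    calc (c * y * y₂) * (c * y * y₂) = (c * y) * (y₂ * (c * y)) * y₂ := by group
      _ = (c * y) * ((c * y) * y₂) * y₂ := by rw [hcy₂.eq]
      _ = ((c * y) * (c * y)) * (y₂ * y₂) := by group
      _ = 1 := by rw [hcy, hy₂y₂, hjj]
  have hct : c * t = t * c := by
    have h1 : Commute c x := hcx
    have h2 : Commute c x₂ := h.comm c hc x₂ hx₂
    rw [← htdef]
    exact (h1.mul_right h2).eq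
  have hw₁t : (c * y * y₂) * t = t * (c * y * y₂) := by
    calc (c * y * y₂) * t = c * ((y * y₂) * t) := by group
      _ = c * (t * (y * y₂)) := by rw [hw₂t]
      _ = (c * t) * (y * y₂) := by group
      _ = (t * c) * (y * y₂) := by rw [hct]
      _ = t * (c * y * y₂) := by group
  -- conjugates by `h'` of involutions of `C(t)` lie in `L₁L₂`
  have hform : ∀ w : G, w * w = 1 → w * t = t * w →
      ∃ a ∈ L₁, ∃ b ∈ L₂, h' * w * h'⁻¹ = a * b := by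
    intro w hww hwt
    have hsq : (h' * w * h'⁻¹) * (h' * w * h'⁻¹) = 1 := by
      calc (h' * w * h'⁻¹) * (h' * w * h'⁻¹) = h' * (w * w) * h'⁻¹ := by group
        _ = 1 := by rw [hww]; group
    have hcj : (h' * w * h'⁻¹) * j = j * (h' * w * h'⁻¹) := by
      calc h' * w * h'⁻¹ * j = h' * w * h'⁻¹ * (h' * t * h'⁻¹) := by rw [ht']
        _ = h' * (w * t) * h'⁻¹ := by group
        _ = h' * (t * w) * h'⁻¹ := by rw [hwt]
        _ = h' * t * h'⁻¹ * (h' * w * h'⁻¹) := by group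
        _ = j * (h' * w * h'⁻¹) := by rw [ht']
    obtain ⟨a, ha, b, hb, hab | hab⟩ := h.cover _ hcj
    · exact ⟨a, ha, b, hb, hab⟩
    · exfalso
      rw [hab] at hsq
      exact iso4_no_inv h ha hb hsq
  obtain ⟨a₁, ha₁, b₁, hb₁, e₁⟩ := hform (c * y * y₂) hw₁sq hw₁t
  obtain ⟨a₂, ha₂, b₂, hb₂, e₂⟩ := hform (y * y₂) hw₂sq hw₂t
  have ha : a₁ * a₂⁻¹ ∈ L₁ := L₁.mul_mem ha₁ (L₁.inv_mem ha₂)
  have hb : b₁ * b₂⁻¹ ∈ L₂ := L₂.mul_mem hb₁ (L₂.inv_mem hb₂)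
  have hc' : h' * c * h'⁻¹ = (a₁ * a₂⁻¹) * (b₁ * b₂⁻¹) := by
    have h1 : h' * c * h'⁻¹ = (h' * (c * y * y₂) * h'⁻¹) * (h' * (y * y₂) * h'⁻¹)⁻¹ := by group
    have hcm : Commute a₂⁻¹ (b₁ * b₂⁻¹) := h.comm a₂⁻¹ (L₁.inv_mem ha₂) _ hb
    rw [h1, e₁, e₂]
    calc a₁ * b₁ * (a₂ * b₂)⁻¹ = a₁ * ((b₁ * b₂⁻¹) * a₂⁻¹) := by group
      _ = a₁ * (a₂⁻¹ * (b₁ * b₂⁻¹)) := by rw [hcm.eq]
      _ = (a₁ * a₂⁻¹) * (b₁ * b₂⁻¹) := by group
  generalize a₁ * a₂⁻¹ = a at ha hc'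
  generalize b₁ * b₂⁻¹ = b at hb hc'
  have hab : Commute a b := h.comm a ha b hb
  have hpow : a ^ M * b ^ M = t := by
    rw [← hab.mul_pow, ← hc', conj_pow, hcM, hj']
  have hu1 : x⁻¹ * a ^ M ∈ L₁ := L₁.mul_mem (L₁.inv_mem hx) (L₁.pow_mem ha M)
  have hu2 : x⁻¹ * a ^ M ∈ L₂ := by
    have : x⁻¹ * a ^ M = x₂ * (b ^ M)⁻¹ := by
      calc x⁻¹ * a ^ M = x⁻¹ * (a ^ M * b ^ M) * (b ^ M)⁻¹ := by group
        _ = x⁻¹ * t * (b ^ M)⁻¹ := by rw [hpow]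
        _ = x₂ * (b ^ M)⁻¹ := by rw [← htdef]; group
    rw [this]
    exact L₂.mul_mem hx₂ (L₂.inv_mem (L₂.pow_mem hb M))
  rcases h.meet _ hu1 hu2 with h1 | h1
  · have hx' : a ^ M = x := by
      calc a ^ M = x * (x⁻¹ * a ^ M) := by group
        _ = x := by rw [h1, mul_one]
    apply hP.npow a ha
    rw [hx', hxx]
  · have hx' : a ^ M = x * j := by
      calc a ^ M = x * (x⁻¹ * a ^ M) := by group
        _ = x * j := by rw [h1]
    apply hP.npow a ha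
    rw [hx']
    have hxj : x * j = j * x := h.s1.cen x hx
    calc (x * j) * (x * j) = x * (j * x) * j := by group
      _ = x * (x * j) * j := by rw [hxj]
      _ = (x * x) * (j * j) := by group
      _ = j := by rw [hxx, hjj, mul_one]

end Cfsg.Agent.Lib.H6.CSL2
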