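import Mathlib
import Cfsg.Agent.Lib.H12.CYDefs

/-!
# S1950 (helper6): the FUS block of helper12's signatures, EXACT statements

`pow_val_mul`, `pow_natCast_val`, `orderOf_pow_val`, `fusE_zero_not_mem`, `fusE_one_mem`, `fusE_mul_mem`,
`fusE_inv_mem`, `isConj_pow_iff` (same names and statements as `tools/blueprints/S1950_sigs_h12.lean`;
namespace `Cfsg.Agent.Lib.H6.CYS` because `H6.CY` already has core lemmas with two of these names), plus the
conversion `strN_eq_card_filter` between `strN E a b c` and the count `#{j ∈ E | ∃ t ∈ E, j a + b = c t}` used by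
the landed cores `H15.CY.four_identity`, `H6.CY.star_identity`, `H8` EQUI.
-/

set_option autoImplicit false

namespace Cfsg.Agent.Lib.H6.CYS

open Cfsg.Agent.Lib.H12.CY

variable {G : Type*} [Group G] [Finite G] {p : ℕ} [Fact p.Prime]

theorem pow_p_eq_one {z : G} (hz : orderOf z = p) : z ^ p = 1 := by
  rw [← hz]; exact pow_orderOf_eq_one z

theorem val_one_eq : ((1 : ZMod p)).val = 1 := by
  have hp : p.Prime := Fact.out
  have : Fact (1 < p) := ⟨hp.one_lt⟩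
  exact ZMod.val_one p

theorem pow_val_mul {z : G} (hz : orderOf z = p) (a b : ZMod p) : (z ^ a.val) ^ b.val = z ^ (a * b).val := by
  rw [← pow_mul, ZMod.val_mul, ← pow_eq_pow_mod _ (pow_p_eq_one hz)]

theorem pow_natCast_val {z : G} (hz : orderOf z = p) (n : ℕ) : z ^ ((n : ZMod p)).val = z ^ n := by
  rw [ZMod.val_natCast, ← pow_eq_pow_mod _ (pow_p_eq_one hz)]

theorem orderOf_pow_val {z : G} (hz : orderOf z = p) {a : ZMod p} (ha : a ≠ 0) : orderOf (z ^ a.val) = p := by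
  have hp : p.Prime := Fact.out
  have hcop : Nat.Coprime (orderOf z) a.val := by
    rw [hz, Nat.Prime.coprime_iff_not_dvd hp]
    intro hd
    apply ha
    have h0 := (ZMod.natCast_eq_zero_iff a.val p).2 hd
    rwa [ZMod.natCast_zmod_val] at h0
  rw [Nat.Coprime.orderOf_pow hcop, hz]

theorem fusE_zero_not_mem (z : G) : (0 : ZMod p) ∉ fusE p z := by
  intro h
  exact (mem_fusE.1 h).1 rfl

theorem fusE_one_mem {z : G} (hz : orderOf z = p) : (1 : ZMod p) ∈ fusE p z := by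
  refine mem_fusE.2 ⟨one_ne_zero, ?_⟩
  rw [val_one_eq, pow_one]

theorem fusE_mul_mem {z : G} (hz : orderOf z = p) {s t : ZMod p} (hs : s ∈ fusE p z) (ht : t ∈ fusE p z) :
    s * t ∈ fusE p z := by
  obtain ⟨hs0, hsc⟩ := mem_fusE.1 hs
  obtain ⟨ht0, htc⟩ := mem_fusE.1 ht
  refine mem_fusE.2 ⟨mul_ne_zero hs0 ht0, ?_⟩
  obtain ⟨g, hg⟩ := isConj_iff.1 hsc
  have h1 : IsConj ((z ^ s.val) ^ t.val) (z ^ t.val) := by
    refine isConj_iff.2 ⟨g, ?_⟩
    rw [← conj_pow, hg]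
  rw [pow_val_mul hz] at h1
  exact h1.trans htc

theorem fusE_inv_mem {z : G} (hz : orderOf z = p) {s : ZMod p} (hs : s ∈ fusE p z) : s⁻¹ ∈ fusE p z := by
  obtain ⟨hs0, hsc⟩ := mem_fusE.1 hs
  refine mem_fusE.2 ⟨inv_ne_zero hs0, ?_⟩
  obtain ⟨g, hg⟩ := isConj_iff.1 hsc
  have h1 : IsConj ((z ^ s.val) ^ (s⁻¹).val) (z ^ (s⁻¹).val) := by
    refine isConj_iff.2 ⟨g, ?_⟩
    rw [← conj_pow, hg]
  rw [pow_val_mul hz, mul_inv_cancel₀ hs0, val_one_eq, pow_one] at h1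
  exact h1.symm

theorem isConj_pow_iff {z : G} (hz : orderOf z = p) {a c : ZMod p} (ha : a ≠ 0) (hc : c ≠ 0) :
    IsConj (z ^ a.val) (z ^ c.val) ↔ a * c⁻¹ ∈ fusE p z := by
  constructor
  · intro h
    obtain ⟨g, hg⟩ := isConj_iff.1 h
    refine mem_fusE.2 ⟨mul_ne_zero ha (inv_ne_zero hc), ?_⟩
    refine isConj_iff.2 ⟨g, ?_⟩
    have h1 : g * (z ^ a.val) ^ (c⁻¹).val * g⁻¹ = (z ^ c.val) ^ (c⁻¹).val := by
      rw [← hg, conj_pow]
    rw [pow_val_mul hz, pow_val_mul hz, mul_inv_cancel₀ hc, val_one_eq, pow_one] at h1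
    exact h1
  · intro h
    obtain ⟨_, hconj⟩ := mem_fusE.1 h
    obtain ⟨g, hg⟩ := isConj_iff.1 hconj
    refine isConj_iff.2 ⟨g, ?_⟩
    have h1 : g * (z ^ (a * c⁻¹).val) ^ c.val * g⁻¹ = z ^ c.val := by
      rw [← conj_pow, hg]
    have h2 : a * c⁻¹ * c = a := by rw [mul_assoc, inv_mul_cancel₀ hc, mul_one]
    rw [pow_val_mul hz, h2] at h1
    exact h1

/-- `strN E a b c = #{j ∈ E | ∃ t ∈ E, j a + b = c t}` for a subgroup `E` of `F_p^×` (`r = j⁻¹`). -/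
theorem strN_eq_card_filter (E : Finset (ZMod p)) (h0 : (0 : ZMod p) ∉ E)
    (hmul : ∀ s ∈ E, ∀ t ∈ E, s * t ∈ E) (hinv : ∀ s ∈ E, s⁻¹ ∈ E) (a b c : ZMod p) (hc : c ≠ 0)
    [DecidablePred (fun j : ZMod p => ∃ t ∈ E, j * a + b = c * t)] :
    strN E a b c = (E.filter (fun j : ZMod p => ∃ t ∈ E, j * a + b = c * t)).card := by
  unfold strN
  have hne : ∀ r ∈ E, r ≠ 0 := fun r hr h => h0 (h ▸ hr)
  refine Finset.card_nbij' (fun r => r⁻¹) (fun j => j⁻¹) ?_ ?_ ?_ ?_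
  · intro r hr
    rw [Finset.mem_coe, Finset.mem_filter] at hr
    rw [Finset.mem_coe, Finset.mem_filter]
    obtain ⟨hrE, hr2⟩ := hr
    have hr0 := hne r hrE
    refine ⟨hinv r hrE, r⁻¹ * ((a + b * r) * c⁻¹), hmul _ (hinv r hrE) _ hr2, ?_⟩
    field_simp
  · intro j hj
    rw [Finset.mem_coe, Finset.mem_filter] at hj
    rw [Finset.mem_coe, Finset.mem_filter]
    obtain ⟨hjE, t, ht, hjt⟩ := hj
    have hj0 := hne j hjE
    refine ⟨hinv j hjE, ?_⟩
    have : (a + b * j⁻¹) * c⁻¹ = j⁻¹ * t := by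
      have h2 : a + b * j⁻¹ = j⁻¹ * (j * a + b) := by field_simp
      rw [h2, hjt]; field_simp
    rw [this]
    exact hmul _ (hinv j hjE) _ ht
  · intro r _; exact inv_inv r
  · intro j _; exact inv_inv j

end Cfsg.Agent.Lib.H6.CYS
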