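import Cfsg.Agent.Lib.H6.CYLOC
import Cfsg.Agent.Lib.H6.CYFUS
import Cfsg.Agent.Lib.H28.CYBURN

/-!
# S1950 (helper6): SECT = `sect` and ORTH = `orth`, EXACT statements of helper12's signatures

Same names and statements as `tools/blueprints/S1950_sigs_h12.lean`; namespace `Cfsg.Agent.Lib.H6.CYS`.
Built on the landed cores `H6.CY.psi_section_of_npc` (S0925(ii) + S0942 + the section count), helper28's BURN
`H28.CY.centralizer_hasNormalPComplement`, and `H6.CYS.isConj_pow_iff`.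
-/

set_option autoImplicit false

namespace Cfsg.Agent.Lib.H6.CYS

open Cfsg Cfsg.Agent.Lib.H12.CY
open scoped ComplexConjugate

variable {G : Type*} [Group G] [Finite G] {p : ℕ} [Fact p.Prime]

theorem le_centralizer_of_isCyclic (P : Sylow p G) (hP : IsCyclic ↥(P : Subgroup G))
    {s : G} (hsP : s ∈ (P : Subgroup G)) :
    (P : Subgroup G) ≤ Subgroup.centralizer ({s} : Set G) := by
  intro x hx
  rw [Subgroup.mem_centralizer_singleton_iff]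
  obtain ⟨g, hg⟩ := hP.exists_generator
  obtain ⟨m, hm⟩ := Subgroup.mem_zpowers_iff.1 (hg ⟨x, hx⟩)
  obtain ⟨n, hn⟩ := Subgroup.mem_zpowers_iff.1 (hg ⟨s, hsP⟩)
  have h := (Commute.refl g).zpow_zpow m n
  rw [hm, hn] at h
  exact congrArg Subtype.val h.eq

theorem sect (P : Sylow p G) (hP : IsCyclic ↥(P : Subgroup G)) (M : Ideal Cfsg.AlgInt) (hM : Cfsg.IsPModular p M)
    {s : G} (hsP : s ∈ (P : Subgroup G)) (hs : orderOf s = p)
    (hnpc : Cfsg.HasNormalPComplement p ↥(Subgroup.centralizer ({s} : Set G))) (w : G) :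
    ((∃ sw t : G, Cfsg.IsPPart p w sw ∧ t * s * t⁻¹ = sw) →
      ∑ᶠ χ ∈ Cfsg.principalBlock M G, conj ((χ : G → ℂ) s) * (χ : G → ℂ) w = (Nat.card ↥(P : Subgroup G) : ℂ)) ∧
    ((¬ ∃ sw t : G, Cfsg.IsPPart p w sw ∧ t * s * t⁻¹ = sw) →
      ∑ᶠ χ ∈ Cfsg.principalBlock M G, conj ((χ : G → ℂ) s) * (χ : G → ℂ) w = 0) := by
  classical
  have hap : ∃ k : ℕ, orderOf s = p ^ k := ⟨1, by rw [hs, pow_one]⟩
  have hPC := le_centralizer_of_isCyclic P hP hsP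
  have h1 := Cfsg.Agent.Lib.H6.CY.psi_section_of_npc hM s hap hnpc P hPC w
  have h2 : ∑ᶠ χ ∈ Cfsg.principalBlock M G, conj ((χ : G → ℂ) s) * (χ : G → ℂ) w =
      ∑ᶠ χ ∈ Cfsg.principalBlock M G, (χ : G → ℂ) w * (χ : G → ℂ) s⁻¹ := by
    refine finsum_mem_congr rfl fun χ _ => ?_
    rw [Cfsg.Agent.Lib.L0.isCharacter_apply_inv (Cfsg.Agent.Lib.L0.isCharacter_of_irr χ.2) s, mul_comm]
  have h3 : w ∈ Cfsg.Agent.Lib.H6.CY.pSection p s ↔
      ∃ sw t : G, Cfsg.IsPPart p w sw ∧ t * s * t⁻¹ = sw := by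
    constructor
    · rintro ⟨x, hx, hxs⟩
      obtain ⟨t, ht⟩ := isConj_iff.1 hxs.symm
      exact ⟨x, t, hx, ht⟩
    · rintro ⟨sw, t, hsw, ht⟩
      exact ⟨sw, hsw, (isConj_iff.2 ⟨t, ht⟩).symm⟩
  rw [h2, h1]
  constructor
  · intro h; rw [if_pos (h3.2 h)]
  · intro h; rw [if_neg (fun h' => h (h3.1 h'))]

theorem orth (P : Sylow p G) (hP : IsCyclic ↥(P : Subgroup G)) (M : Ideal Cfsg.AlgInt) (hM : Cfsg.IsPModular p M)
    {z : G} (hzP : z ∈ (P : Subgroup G)) (hz : orderOf z = p) {a c : ZMod p} (ha : a ≠ 0) (hc : c ≠ 0) :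
    ∑ᶠ χ ∈ Cfsg.principalBlock M G, (χ : G → ℂ) (z ^ a.val) * conj ((χ : G → ℂ) (z ^ c.val)) =
      if a * c⁻¹ ∈ fusE p z then (Nat.card ↥(P : Subgroup G) : ℂ) else 0 := by
  have hp : p.Prime := Fact.out
  have hsP : z ^ c.val ∈ (P : Subgroup G) := Subgroup.pow_mem _ hzP _
  have hs : orderOf (z ^ c.val) = p := orderOf_pow_val hz hc
  have hnpc := Cfsg.Agent.Lib.H28.CY.centralizer_hasNormalPComplement P hP (z ^ c.val) hs
  have hsect := sect P hP M hM hsP hs hnpc (z ^ a.val)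
  have h2 : ∑ᶠ χ ∈ Cfsg.principalBlock M G, (χ : G → ℂ) (z ^ a.val) * conj ((χ : G → ℂ) (z ^ c.val)) =
      ∑ᶠ χ ∈ Cfsg.principalBlock M G, conj ((χ : G → ℂ) (z ^ c.val)) * (χ : G → ℂ) (z ^ a.val) := by
    refine finsum_mem_congr rfl fun χ _ => ?_
    rw [mul_comm]
  have hwp : Cfsg.IsPPart p (z ^ a.val) (z ^ a.val) :=
    Cfsg.Agent.Lib.H6.CY.isPPart_self hp ⟨1, by rw [orderOf_pow_val hz ha, pow_one]⟩
  have h3 : (∃ sw t : G, Cfsg.IsPPart p (z ^ a.val) sw ∧ t * z ^ c.val * t⁻¹ = sw) ↔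
      a * c⁻¹ ∈ fusE p z := by
    rw [← isConj_pow_iff hz ha hc]
    constructor
    · rintro ⟨sw, t, hsw, ht⟩
      have : z ^ a.val = sw := Cfsg.Agent.Lib.H23.IsPPart.unique hp hwp hsw
      rw [this]
      exact (isConj_iff.2 ⟨t, ht⟩).symm
    · intro h
      obtain ⟨t, ht⟩ := isConj_iff.1 h.symm
      exact ⟨z ^ a.val, t, hwp, ht⟩
  rw [h2]
  by_cases h : a * c⁻¹ ∈ fusE p z
  · rw [if_pos h]; exact hsect.1 (h3.2 h)
  · rw [if_neg h]; exact hsect.2 (fun h' => h (h3.1 h'))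

end Cfsg.Agent.Lib.H6.CYS
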