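import Mathlib

set_option autoImplicit false

/-!
# Lower bounds for permutation groups by a chain of orbits
-/

namespace Cfsg.Agent.Lib.H6.CoxLB

open Equiv

/-- one step of the orbit chain: if `T ⊆ S` are sets of permutations, all members of `T` fix `x`,
and `pts` is a set of points in the orbit of `x` under the group generated by `S`, then
`|pts| * |⟨T⟩| ≤ |⟨S⟩|`. -/
theorem card_closure_ge {X : Type*} [Fintype X] [DecidableEq X] (S T : Set (Perm X))
    (hTS : T ⊆ S) (x : X) (hfix : ∀ t ∈ T, t x = x) (pts : Finset X)
    (hpts : ∀ y ∈ pts, ∃ g ∈ Subgroup.closure S, g x = y) :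
    pts.card * Nat.card (Subgroup.closure T) ≤ Nat.card (Subgroup.closure S) := by
  classical
  set Q := Subgroup.closure S with hQ
  have hTQ : Subgroup.closure T ≤ Q := Subgroup.closure_mono hTS
  have hTstab : Subgroup.closure T ≤ MulAction.stabilizer (Perm X) x := by
    rw [Subgroup.closure_le]
    intro t ht
    exact hfix t ht
  -- orbit-stabilizer in Q
  have hos := MulAction.card_orbit_mul_card_stabilizer_eq_card_group (↥Q) x
  have h1 : pts.card ≤ Nat.card (MulAction.orbit (↥Q) x) := by
    have hsub : (pts : Set X) ⊆ MulAction.orbit (↥Q) x := by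
      intro y hy
      obtain ⟨g, hg, rfl⟩ := hpts y hy
      exact ⟨⟨g, hg⟩, rfl⟩
    have := Set.ncard_le_ncard hsub (Set.toFinite _)
    rw [Set.ncard_coe_finset] at this
    rw [Nat.card_coe_set_eq]
    exact this
  have h2 : Nat.card (Subgroup.closure T) ≤ Nat.card (MulAction.stabilizer (↥Q) x) := by
    let f : Subgroup.closure T → MulAction.stabilizer (↥Q) x := fun t =>
      ⟨⟨t.1, hTQ t.2⟩, by
        rw [MulAction.mem_stabilizer_iff]
        exact hTstab t.2⟩
    apply Nat.card_le_card_of_injective f
    intro a b hab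
    apply Subtype.ext
    have := congrArg (fun z : MulAction.stabilizer (↥Q) x => ((z : ↥Q) : Perm X)) hab
    exact this
  calc pts.card * Nat.card (Subgroup.closure T)
      ≤ Nat.card (MulAction.orbit (↥Q) x) * Nat.card (MulAction.stabilizer (↥Q) x) :=
        Nat.mul_le_mul h1 h2
    _ = Nat.card Q := by
        rw [Nat.card_eq_fintype_card, Nat.card_eq_fintype_card, Nat.card_eq_fintype_card]
        exact hos

end Cfsg.Agent.Lib.H6.CoxLB
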