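import Mathlib
import Cfsg.Agent.Lib.H6.CoxLB1

set_option autoImplicit false

namespace Cfsg.Agent.Lib.H6.CoxLB

open Equiv

/-! ### pure data -/

/-- the image of the point `x` under generator `a`, read off a table -/
def actN (tbl : List (List ℕ)) (a x : ℕ) : ℕ := (tbl.getD x []).getD a x

/-- the image of a point under a word (leftmost letter applied last) -/
def actWord (tbl : List (List ℕ)) : List ℕ → ℕ → ℕ
  | [], x => x
  | a :: w, x => actN tbl a (actWord tbl w x)

def invOK (tbl : List (List ℕ)) (d n : ℕ) : Bool :=
  (List.range n).all fun a => (List.range d).all fun x =>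
    Nat.blt (actN tbl a x) d && (actN tbl a (actN tbl a x) == x)

def relOK (tbl : List (List ℕ)) (d a b m : ℕ) : Bool :=
  (List.range d).all fun x => ((fun y => actN tbl a (actN tbl b y))^[m] x == x)

def relsOK (tbl : List (List ℕ)) (d n : ℕ) (m : ℕ → ℕ → ℕ) : Bool :=
  (List.range n).all fun a => (List.range n).all fun b => relOK tbl d a b (m a b)

structure Level where
  gens : List ℕ
  x : ℕ
  words : List (List ℕ)

def levelOK (tbl : List (List ℕ)) (d n : ℕ) (prev : List ℕ) (L : Level) : Bool :=
  prev.all (fun a => L.gens.contains a) && prev.all (fun a => actN tbl a L.x == L.x) &&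
  Nat.blt L.x d && L.gens.all (fun a => Nat.blt a n) &&
  L.words.all (fun w => w.all fun a => L.gens.contains a) &&
  decide ((L.words.map fun w => actWord tbl w L.x).Nodup)

def chainOK (tbl : List (List ℕ)) (d n : ℕ) : List ℕ → List Level → Bool
  | _, [] => true
  | prev, L :: Ls => levelOK tbl d n prev L && chainOK tbl d n L.gens Ls

def chainProd : List Level → ℕ
  | [] => 1
  | L :: Ls => L.words.length * chainProd Ls

def lastGens : List ℕ → List Level → List ℕ
  | prev, [] => prev
  | _, L :: Ls => lastGens L.gens Ls

/-! ### permutations from the table -/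

section perm

variable {tbl : List (List ℕ)} {d n : ℕ}

theorem invOK_spec (hinv : invOK tbl d n = true) {a x : ℕ} (ha : a < n) (hx : x < d) :
    actN tbl a x < d ∧ actN tbl a (actN tbl a x) = x := by
  unfold invOK at hinv
  simp only [List.all_eq_true, List.mem_range, Bool.and_eq_true, Nat.blt_eq, beq_iff_eq] at hinv
  exact hinv a ha x hx

/-- the function on `Fin d` given by column `a` of the table -/
def permFun (tbl : List (List ℕ)) (d a : ℕ) : Fin d → Fin d :=
  fun x => if h : actN tbl a x < d then ⟨actN tbl a x, h⟩ else x

theorem permFun_val (hinv : invOK tbl d n = true) {a : ℕ} (ha : a < n) (x : Fin d) :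
    (permFun tbl d a x).val = actN tbl a x.val := by
  unfold permFun
  rw [dif_pos (invOK_spec hinv ha x.isLt).1]

theorem permFun_invol (hinv : invOK tbl d n = true) {a : ℕ} (ha : a < n) :
    Function.Involutive (permFun tbl d a) := by
  intro x
  apply Fin.ext
  rw [permFun_val hinv ha, permFun_val hinv ha]
  exact (invOK_spec hinv ha x.isLt).2

/-- the permutation of `Fin d` attached to generator `a` -/
def pPerm (hinv : invOK tbl d n = true) (a : ℕ) : Perm (Fin d) :=
  if ha : a < n then (permFun_invol hinv ha).toPerm else 1

theorem pPerm_val (hinv : invOK tbl d n = true) {a : ℕ} (ha : a < n) (x : Fin d) :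
    (pPerm hinv a x).val = actN tbl a x.val := by
  unfold pPerm
  rw [dif_pos ha]
  exact permFun_val hinv ha x

theorem prod_val (hinv : invOK tbl d n = true) {w : List ℕ} (hw : ∀ a ∈ w, a < n) (x : Fin d) :
    ((w.map (pPerm hinv)).prod x).val = actWord tbl w x.val := by
  induction w with
  | nil => rfl
  | cons a w ih =>
    rw [List.map_cons, List.prod_cons, Perm.mul_apply, pPerm_val hinv (hw a (by simp))]
    rw [ih (fun b hb => hw b (by simp [hb]))]
    rfl

theorem rel_of_relOK (hinv : invOK tbl d n = true) {a b m : ℕ} (ha : a < n) (hb : b < n)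
    (hrel : relOK tbl d a b m = true) : (pPerm hinv a * pPerm hinv b) ^ m = 1 := by
  unfold relOK at hrel
  simp only [List.all_eq_true, List.mem_range, beq_iff_eq] at hrel
  ext x
  rw [Perm.one_apply, ← Perm.iterate_eq_pow]
  have key : ∀ (t : ℕ) (y : Fin d), ((⇑(pPerm hinv a * pPerm hinv b))^[t] y).val =
      (fun z => actN tbl a (actN tbl b z))^[t] y.val := by
    intro t
    induction t with
    | zero => intro y; rfl
    | succ t ih =>
      intro y
      rw [Function.iterate_succ_apply, Function.iterate_succ_apply, ih, Perm.mul_apply,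
        pPerm_val hinv ha, pPerm_val hinv hb]
  rw [key, hrel x.val x.isLt]

/-- the set of permutations attached to a list of generators -/
def P (hinv : invOK tbl d n = true) (gens : List ℕ) : Set (Perm (Fin d)) :=
  {g | ∃ a ∈ gens, g = pPerm hinv a}

theorem chain_bound (hinv : invOK tbl d n = true) (Ls : List Level) (prev : List ℕ)
    (h : chainOK tbl d n prev Ls = true) :
    chainProd Ls * Nat.card (Subgroup.closure (P hinv prev)) ≤
      Nat.card (Subgroup.closure (P hinv (lastGens prev Ls))) := by
  induction Ls generalizing prev with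
  | nil => simp [chainProd, lastGens]
  | cons L Ls ih =>
    simp only [chainOK, Bool.and_eq_true] at h
    obtain ⟨hL, hLs⟩ := h
    have ih' := ih L.gens hLs
    unfold levelOK at hL
    simp only [Bool.and_eq_true, List.all_eq_true, List.contains_iff_mem, beq_iff_eq,
      Nat.blt_eq, decide_eq_true_eq] at hL
    obtain ⟨⟨⟨⟨⟨hsub, hfix⟩, hx⟩, hgens⟩, hwords⟩, hnodup⟩ := hL
    have hwn : ∀ w ∈ L.words, ∀ a ∈ w, a < n := fun w hw a ha => hgens a (hwords w hw a ha)
    -- the points
    let pt : List ℕ → Fin d := fun w => (w.map (pPerm hinv)).prod ⟨L.x, hx⟩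
    have hnd : (L.words.map pt).Nodup := by
      have h1 : (L.words.map pt).map Fin.val = L.words.map fun w => actWord tbl w L.x := by
        rw [List.map_map]
        apply List.map_congr_left
        intro w hw
        exact prod_val hinv (hwn w hw) ⟨L.x, hx⟩
      have h2 : ((L.words.map pt).map Fin.val).Nodup := by rw [h1]; exact hnodup
      exact List.Nodup.of_map _ h2
    have hstep := card_closure_ge (P hinv L.gens) (P hinv prev)
      (by
        rintro g ⟨a, ha, rfl⟩
        exact ⟨a, hsub a ha, rfl⟩)
      ⟨L.x, hx⟩
      (by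
        rintro t ⟨a, ha, rfl⟩
        apply Fin.ext
        rw [pPerm_val hinv (hgens a (hsub a ha))]
        exact hfix a ha)
      (L.words.map pt).toFinset
      (by
        intro y hy
        rw [List.mem_toFinset, List.mem_map] at hy
        obtain ⟨w, hw, rfl⟩ := hy
        refine ⟨(w.map (pPerm hinv)).prod, ?_, rfl⟩
        apply Subgroup.list_prod_mem
        intro g hg
        rw [List.mem_map] at hg
        obtain ⟨a, ha, rfl⟩ := hg
        exact Subgroup.subset_closure ⟨a, hwords w hw a ha, rfl⟩)
    rw [List.toFinset_card_of_nodup hnd, List.length_map] at hstep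
    show L.words.length * chainProd Ls * _ ≤ _
    calc L.words.length * chainProd Ls * Nat.card (Subgroup.closure (P hinv prev))
        = chainProd Ls * (L.words.length * Nat.card (Subgroup.closure (P hinv prev))) := by ring
      _ ≤ chainProd Ls * Nat.card (Subgroup.closure (P hinv L.gens)) :=
          Nat.mul_le_mul_left _ hstep
      _ ≤ _ := ih'

end perm

end Cfsg.Agent.Lib.H6.CoxLB
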