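import Mathlib
import Cfsg.Agent.Lib.H6.CoxLB1
import Cfsg.Agent.Lib.H6.CoxLB2

set_option autoImplicit false

namespace Cfsg.Agent.Lib.H6.CoxLB

open Equiv

variable {tbl : List (List ℕ)} {d n : ℕ}

theorem relsOK_spec {m : ℕ → ℕ → ℕ} (hrels : relsOK tbl d n m = true) {a b : ℕ} (ha : a < n)
    (hb : b < n) : relOK tbl d a b (m a b) = true := by
  unfold relsOK at hrels
  simp only [List.all_eq_true, List.mem_range] at hrels
  exact hrels a ha b hb

/-- the permutation representation of the Coxeter group on the points of the table -/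
noncomputable def rho (M : CoxeterMatrix (Fin n)) (hinv : invOK tbl d n = true)
    {m : ℕ → ℕ → ℕ} (hm : ∀ a b : Fin n, m a.val b.val = M.M a b)
    (hrels : relsOK tbl d n m = true) : M.Group →* Perm (Fin d) :=
  M.toCoxeterSystem.lift ⟨fun a => pPerm hinv a.val, by
    intro a b
    rw [← hm a b]
    exact rel_of_relOK hinv a.isLt b.isLt (relsOK_spec hrels a.isLt b.isLt)⟩

theorem rho_simple (M : CoxeterMatrix (Fin n)) (hinv : invOK tbl d n = true)
    {m : ℕ → ℕ → ℕ} (hm : ∀ a b : Fin n, m a.val b.val = M.M a b)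
    (hrels : relsOK tbl d n m = true) (a : Fin n) :
    rho M hinv hm hrels (M.simple a) = pPerm hinv a.val := by
  unfold rho
  rw [← M.toCoxeterSystem_simple]
  exact M.toCoxeterSystem.lift_apply_simple _ a

theorem lastGens_lt (Ls : List Level) (prev : List ℕ) (h : chainOK tbl d n prev Ls = true)
    (hprev : ∀ a ∈ prev, a < n) : ∀ a ∈ lastGens prev Ls, a < n := by
  induction Ls generalizing prev with
  | nil => exact hprev
  | cons L Ls ih =>
    simp only [chainOK, Bool.and_eq_true] at h
    obtain ⟨hL, hLs⟩ := h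
    unfold levelOK at hL
    simp only [Bool.and_eq_true, List.all_eq_true, Nat.blt_eq] at hL
    exact ih L.gens hLs hL.1.1.2

theorem closure_le_range (M : CoxeterMatrix (Fin n)) (hinv : invOK tbl d n = true)
    {m : ℕ → ℕ → ℕ} (hm : ∀ a b : Fin n, m a.val b.val = M.M a b)
    (hrels : relsOK tbl d n m = true) (gens : List ℕ) (hg : ∀ a ∈ gens, a < n) :
    Subgroup.closure (P hinv gens) ≤ (rho M hinv hm hrels).range := by
  rw [Subgroup.closure_le]
  rintro g ⟨a, ha, rfl⟩
  exact ⟨M.simple ⟨a, hg a ha⟩, rho_simple M hinv hm hrels ⟨a, hg a ha⟩⟩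

/-- the lower bound, and faithfulness of the representation when it is attained -/
theorem lb_of_checks (M : CoxeterMatrix (Fin n)) (hinv : invOK tbl d n = true)
    {m : ℕ → ℕ → ℕ} (hm : ∀ a b : Fin n, m a.val b.val = M.M a b)
    (hrels : relsOK tbl d n m = true) (Ls : List Level) (hchain : chainOK tbl d n [] Ls = true)
    [Finite M.Group] :
    chainProd Ls ≤ Nat.card M.Group ∧
      (Nat.card M.Group ≤ chainProd Ls → Function.Injective (rho M hinv hm hrels)) := by
  have h1 := chain_bound hinv Ls [] hchain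
  have hbot : Subgroup.closure (P hinv ([] : List ℕ)) = ⊥ := by
    rw [Subgroup.closure_eq_bot_iff]
    rintro g ⟨a, ha, -⟩
    simp at ha
  rw [hbot, Subgroup.card_bot, mul_one] at h1
  have hlt := lastGens_lt Ls [] hchain (by simp)
  have h2 := closure_le_range M hinv hm hrels (lastGens [] Ls) hlt
  have h3 : Nat.card (Subgroup.closure (P hinv (lastGens [] Ls))) ≤
      Nat.card (rho M hinv hm hrels).range :=
    Nat.card_le_card_of_injective _ (Subgroup.inclusion_injective h2)
  have h4 : Nat.card (rho M hinv hm hrels).range ≤ Nat.card M.Group :=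
    Nat.card_le_card_of_surjective _ (rho M hinv hm hrels).rangeRestrict_surjective
  refine ⟨h1.trans (h3.trans h4), ?_⟩
  intro hle
  have hbij := (rho M hinv hm hrels).rangeRestrict_surjective.bijective_of_nat_card_le
    (hle.trans (h1.trans h3))
  intro x y hxy
  apply hbij.1
  exact Subtype.ext hxy

end Cfsg.Agent.Lib.H6.CoxLB
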