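import Mathlib
import Cfsg.Agent.Lib.H6.CoxLB1
import Cfsg.Agent.Lib.H6.CoxLB2
import Cfsg.Agent.Lib.H6.CoxLB3

set_option autoImplicit false

namespace Cfsg.Agent.Lib.H6.CoxLB

open Equiv

/-- the `t`-th power of the word `w` fixes every point -/
def powOK (tbl : List (List ℕ)) (d : ℕ) (w : List ℕ) (t : ℕ) : Bool :=
  (List.range d).all fun x => ((actWord tbl w)^[t] x == x)

/-- the `t`-th power of the word `w` moves some point -/
def powNe (tbl : List (List ℕ)) (d : ℕ) (w : List ℕ) (t : ℕ) : Bool :=
  (List.range d).any fun x => !((actWord tbl w)^[t] x == x)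

variable {tbl : List (List ℕ)} {d n : ℕ}

theorem pow_val (hinv : invOK tbl d n = true) {w : List ℕ} (hw : ∀ a ∈ w, a < n) (t : ℕ)
    (x : Fin d) :
    (((w.map (pPerm hinv)).prod ^ t) x).val = (actWord tbl w)^[t] x.val := by
  rw [← Perm.iterate_eq_pow]
  induction t generalizing x with
  | zero => rfl
  | succ t ih =>
    rw [Function.iterate_succ_apply, Function.iterate_succ_apply, ih, prod_val hinv hw]

theorem orderOf_prod (hinv : invOK tbl d n = true) {w : List ℕ} (hw : ∀ a ∈ w, a < n) {h : ℕ}
    (hpos : 0 < h) (hpow : powOK tbl d w h = true) (qs : List ℕ)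
    (hqs : ∀ q : ℕ, q.Prime → q ∣ h → q ∈ qs)
    (hne : qs.all (fun q => powNe tbl d w (h / q)) = true) :
    orderOf ((w.map (pPerm hinv)).prod) = h := by
  apply orderOf_eq_of_pow_and_pow_div_prime hpos
  · unfold powOK at hpow
    simp only [List.all_eq_true, List.mem_range, beq_iff_eq] at hpow
    ext x
    rw [pow_val hinv hw, Perm.one_apply]
    exact hpow x.val x.isLt
  · intro q hq hqd hone
    have hmem := hqs q hq hqd
    simp only [List.all_eq_true] at hne
    have h1 := hne q hmem
    unfold powNe at h1
    simp only [List.any_eq_true, List.mem_range, Bool.not_eq_eq_eq_not, Bool.not_true,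
      beq_eq_false_iff_ne, ne_eq] at h1
    obtain ⟨x, hx, hxne⟩ := h1
    apply hxne
    have := pow_val hinv hw (h / q) ⟨x, hx⟩
    rw [hone, Perm.one_apply] at this
    exact this.symm

/-- the order of the Coxeter element, computed in a faithful permutation representation -/
theorem orderOf_coxeterElement (M : CoxeterMatrix (Fin n)) (hinv : invOK tbl d n = true)
    {m : ℕ → ℕ → ℕ} (hm : ∀ a b : Fin n, m a.val b.val = M.M a b)
    (hrels : relsOK tbl d n m = true) (Ls : List Level) (hchain : chainOK tbl d n [] Ls = true)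
    (hub : Finite M.Group ∧ Nat.card M.Group ≤ chainProd Ls) {h : ℕ}
    (hpos : 0 < h) (hpow : powOK tbl d (List.range n) h = true) (qs : List ℕ)
    (hqs : ∀ q : ℕ, q.Prime → q ∣ h → q ∈ qs)
    (hne : qs.all (fun q => powNe tbl d (List.range n) (h / q)) = true) :
    orderOf ((List.finRange n).map M.simple).prod = h := by
  obtain ⟨hfin, hle⟩ := hub
  have hinj := (lb_of_checks M hinv hm hrels Ls hchain).2 hle
  rw [← orderOf_injective (rho M hinv hm hrels) hinj, map_list_prod, List.map_map]
  have e : (List.finRange n).map (⇑(rho M hinv hm hrels) ∘ M.simple) =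
      (List.range n).map (pPerm hinv) := by
    rw [← List.map_coe_finRange_eq_range, List.map_map]
    apply List.map_congr_left
    intro a _
    exact rho_simple M hinv hm hrels a
  rw [e]
  exact orderOf_prod hinv (fun a ha => List.mem_range.mp ha) hpos hpow qs hqs hne

end Cfsg.Agent.Lib.H6.CoxLB
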