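import Mathlib
import Cfsg.Agent.Lib.H6.CoxLB2

set_option autoImplicit false

namespace Cfsg.Agent.Lib.H6.CoxLB.Data

open Cfsg.Agent.Lib.H6.CoxLB

def mLE6 : List (List ℕ) := [[1, 2, 3, 2, 2, 2], [2, 1, 2, 3, 2, 2], [3, 2, 1, 3, 2, 2], [2, 3, 3, 1, 3, 2], [2, 2, 2, 3, 1, 3], [2, 2, 2, 2, 3, 1]]

def tblE6 : List (List ℕ) :=
  [[0, 0, 0, 0, 0, 1], [1, 1, 1, 1, 2, 0], [2, 2, 2, 3, 1, 2], [3, 4, 5, 2, 3, 3],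
   [4, 3, 6, 4, 4, 4], [7, 6, 3, 5, 5, 5], [8, 5, 4, 9, 6, 6], [5, 8, 7, 7, 7, 7],
   [6, 7, 8, 10, 8, 8], [10, 9, 9, 6, 11, 9], [9, 10, 12, 8, 13, 10], [13, 11, 11, 11, 9, 14],
   [12, 12, 10, 12, 15, 12], [11, 13, 15, 13, 10, 16], [16, 14, 14, 14, 14, 11],
   [15, 15, 13, 17, 12, 18], [14, 16, 18, 16, 16, 13], [17, 19, 17, 15, 17, 20],
   [18, 18, 16, 20, 18, 15], [19, 17, 19, 19, 19, 21], [20, 21, 20, 18, 22, 17],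
   [21, 20, 21, 21, 23, 19], [22, 23, 22, 22, 20, 22], [23, 22, 23, 24, 21, 23],
   [24, 24, 25, 23, 24, 24], [26, 25, 24, 25, 25, 25], [25, 26, 26, 26, 26, 26]]

def levelsE6 : List Level :=
  [{ gens := [0], x := 5, words :=
     [[], [0]] },
   { gens := [0, 1], x := 3, words :=
     [[], [1]] },
   { gens := [0, 1, 2], x := 12, words :=
     [[], [2], [0, 2]] },
   { gens := [0, 1, 2, 3], x := 2, words :=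
     [[], [3], [1, 3], [2, 3], [2, 1, 3], [0, 2, 3], [0, 2, 1, 3], [3, 2, 1, 3], [3, 0, 2, 1, 3],
      [2, 3, 0, 2, 1, 3]] },
   { gens := [0, 1, 2, 3, 4], x := 1, words :=
     [[], [4], [3, 4], [1, 3, 4], [2, 3, 4], [2, 1, 3, 4], [0, 2, 3, 4], [0, 2, 1, 3, 4],
      [3, 2, 1, 3, 4], [3, 0, 2, 1, 3, 4], [4, 3, 2, 1, 3, 4], [2, 3, 0, 2, 1, 3, 4],
      [4, 3, 0, 2, 1, 3, 4], [4, 2, 3, 0, 2, 1, 3, 4], [3, 4, 2, 3, 0, 2, 1, 3, 4],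
      [1, 3, 4, 2, 3, 0, 2, 1, 3, 4]] },
   { gens := [0, 1, 2, 3, 4, 5], x := 0, words :=
     [[], [5], [4, 5], [3, 4, 5], [1, 3, 4, 5], [2, 3, 4, 5], [2, 1, 3, 4, 5], [0, 2, 3, 4, 5],
      [0, 2, 1, 3, 4, 5], [3, 2, 1, 3, 4, 5], [3, 0, 2, 1, 3, 4, 5], [4, 3, 2, 1, 3, 4, 5],
      [2, 3, 0, 2, 1, 3, 4, 5], [4, 3, 0, 2, 1, 3, 4, 5], [5, 4, 3, 2, 1, 3, 4, 5],
      [4, 2, 3, 0, 2, 1, 3, 4, 5], [5, 4, 3, 0, 2, 1, 3, 4, 5], [3, 4, 2, 3, 0, 2, 1, 3, 4, 5],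
      [5, 4, 2, 3, 0, 2, 1, 3, 4, 5], [1, 3, 4, 2, 3, 0, 2, 1, 3, 4, 5],
      [5, 3, 4, 2, 3, 0, 2, 1, 3, 4, 5], [5, 1, 3, 4, 2, 3, 0, 2, 1, 3, 4, 5],
      [4, 5, 3, 4, 2, 3, 0, 2, 1, 3, 4, 5], [4, 5, 1, 3, 4, 2, 3, 0, 2, 1, 3, 4, 5],
      [3, 4, 5, 1, 3, 4, 2, 3, 0, 2, 1, 3, 4, 5], [2, 3, 4, 5, 1, 3, 4, 2, 3, 0, 2, 1, 3, 4, 5],
      [0, 2, 3, 4, 5, 1, 3, 4, 2, 3, 0, 2, 1, 3, 4, 5]] }]

set_option maxRecDepth 1000000 in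
theorem invOKE6 : invOK tblE6 27 6 = true := by decide +kernel

set_option maxRecDepth 1000000 in
theorem relsOKE6 : relsOK tblE6 27 6 (fun a b => (mLE6.getD a []).getD b 0) = true := by decide +kernel

set_option maxRecDepth 1000000 in
theorem chainOKE6 : chainOK tblE6 27 6 [] levelsE6 = true := by decide +kernel

set_option maxRecDepth 1000000 in
theorem chainProdE6 : chainProd levelsE6 = 51840 := by decide +kernel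

end Cfsg.Agent.Lib.H6.CoxLB.Data
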