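import Mathlib
import Cfsg.Agent.Lib.H6.CoxLB2

set_option autoImplicit false

namespace Cfsg.Agent.Lib.H6.CoxLB.Data

open Cfsg.Agent.Lib.H6.CoxLB

def mLE7 : List (List ℕ) := [[1, 2, 3, 2, 2, 2, 2], [2, 1, 2, 3, 2, 2, 2], [3, 2, 1, 3, 2, 2, 2], [2, 3, 3, 1, 3, 2, 2], [2, 2, 2, 3, 1, 3, 2], [2, 2, 2, 2, 3, 1, 3], [2, 2, 2, 2, 2, 3, 1]]

def tblE7 : List (List ℕ) :=
  [[0, 0, 0, 0, 0, 0, 1], [1, 1, 1, 1, 1, 2, 0], [2, 2, 2, 2, 3, 1, 2], [3, 3, 3, 4, 2, 3, 3],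
   [4, 5, 6, 3, 4, 4, 4], [5, 4, 7, 5, 5, 5, 5], [8, 7, 4, 6, 6, 6, 6], [9, 6, 5, 10, 7, 7, 7],
   [6, 9, 8, 8, 8, 8, 8], [7, 8, 9, 11, 9, 9, 9], [11, 10, 10, 7, 12, 10, 10],
   [10, 11, 13, 9, 14, 11, 11], [14, 12, 12, 12, 10, 15, 12], [13, 13, 11, 13, 16, 13, 13],
   [12, 14, 16, 14, 11, 17, 14], [17, 15, 15, 15, 15, 12, 18], [16, 16, 14, 19, 13, 20, 16],
   [15, 17, 20, 17, 17, 14, 21], [21, 18, 18, 18, 18, 18, 15], [19, 22, 19, 16, 19, 23, 19],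
   [20, 20, 17, 23, 20, 16, 24], [18, 21, 24, 21, 21, 21, 17], [22, 19, 22, 22, 22, 25, 22],
   [23, 25, 23, 20, 26, 19, 27], [24, 24, 21, 27, 24, 24, 20], [25, 23, 25, 25, 28, 22, 29],
   [26, 28, 26, 26, 23, 26, 30], [27, 29, 27, 24, 30, 27, 23], [28, 26, 28, 31, 25, 28, 32],
   [29, 27, 29, 29, 32, 29, 25], [30, 32, 30, 30, 27, 33, 26], [31, 31, 34, 28, 31, 31, 35],
   [32, 30, 32, 35, 29, 36, 28], [33, 36, 33, 33, 33, 30, 33], [37, 34, 31, 34, 34, 34, 38],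
   [35, 35, 38, 32, 35, 39, 31], [36, 33, 36, 39, 36, 32, 36], [34, 37, 37, 37, 37, 37, 40],
   [40, 38, 35, 38, 38, 41, 34], [39, 39, 41, 36, 42, 35, 39], [38, 40, 40, 40, 40, 43, 37],
   [43, 41, 39, 41, 44, 38, 41], [42, 42, 44, 42, 39, 42, 42], [41, 43, 43, 43, 45, 40, 43],
   [45, 44, 42, 46, 41, 44, 44], [44, 45, 45, 47, 43, 45, 45], [47, 48, 46, 44, 46, 46, 46],
   [46, 49, 50, 45, 47, 47, 47], [49, 46, 48, 48, 48, 48, 48], [48, 47, 51, 49, 49, 49, 49],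
   [50, 51, 47, 50, 50, 50, 50], [51, 50, 49, 52, 51, 51, 51], [52, 52, 52, 51, 53, 52, 52],
   [53, 53, 53, 53, 52, 54, 53], [54, 54, 54, 54, 54, 53, 55], [55, 55, 55, 55, 55, 55, 54]]

def levelsE7 : List Level :=
  [{ gens := [0], x := 6, words :=
     [[], [0]] },
   { gens := [0, 1], x := 4, words :=
     [[], [1]] },
   { gens := [0, 1, 2], x := 13, words :=
     [[], [2], [0, 2]] },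
   { gens := [0, 1, 2, 3], x := 3, words :=
     [[], [3], [1, 3], [2, 3], [2, 1, 3], [0, 2, 3], [0, 2, 1, 3], [3, 2, 1, 3], [3, 0, 2, 1, 3],
      [2, 3, 0, 2, 1, 3]] },
   { gens := [0, 1, 2, 3, 4], x := 2, words :=
     [[], [4], [3, 4], [1, 3, 4], [2, 3, 4], [2, 1, 3, 4], [0, 2, 3, 4], [0, 2, 1, 3, 4],
      [3, 2, 1, 3, 4], [3, 0, 2, 1, 3, 4], [4, 3, 2, 1, 3, 4], [2, 3, 0, 2, 1, 3, 4],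
      [4, 3, 0, 2, 1, 3, 4], [4, 2, 3, 0, 2, 1, 3, 4], [3, 4, 2, 3, 0, 2, 1, 3, 4],
      [1, 3, 4, 2, 3, 0, 2, 1, 3, 4]] },
   { gens := [0, 1, 2, 3, 4, 5], x := 1, words :=
     [[], [5], [4, 5], [3, 4, 5], [1, 3, 4, 5], [2, 3, 4, 5], [2, 1, 3, 4, 5], [0, 2, 3, 4, 5],
      [0, 2, 1, 3, 4, 5], [3, 2, 1, 3, 4, 5], [3, 0, 2, 1, 3, 4, 5], [4, 3, 2, 1, 3, 4, 5],
      [2, 3, 0, 2, 1, 3, 4, 5], [4, 3, 0, 2, 1, 3, 4, 5], [5, 4, 3, 2, 1, 3, 4, 5],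
      [4, 2, 3, 0, 2, 1, 3, 4, 5], [5, 4, 3, 0, 2, 1, 3, 4, 5], [3, 4, 2, 3, 0, 2, 1, 3, 4, 5],
      [5, 4, 2, 3, 0, 2, 1, 3, 4, 5], [1, 3, 4, 2, 3, 0, 2, 1, 3, 4, 5],
      [5, 3, 4, 2, 3, 0, 2, 1, 3, 4, 5], [5, 1, 3, 4, 2, 3, 0, 2, 1, 3, 4, 5],
      [4, 5, 3, 4, 2, 3, 0, 2, 1, 3, 4, 5], [4, 5, 1, 3, 4, 2, 3, 0, 2, 1, 3, 4, 5],
      [3, 4, 5, 1, 3, 4, 2, 3, 0, 2, 1, 3, 4, 5], [2, 3, 4, 5, 1, 3, 4, 2, 3, 0, 2, 1, 3, 4, 5],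
      [0, 2, 3, 4, 5, 1, 3, 4, 2, 3, 0, 2, 1, 3, 4, 5]] },
   { gens := [0, 1, 2, 3, 4, 5, 6], x := 0, words :=
     [[], [6], [5, 6], [4, 5, 6], [3, 4, 5, 6], [1, 3, 4, 5, 6], [2, 3, 4, 5, 6],
      [2, 1, 3, 4, 5, 6], [0, 2, 3, 4, 5, 6], [0, 2, 1, 3, 4, 5, 6], [3, 2, 1, 3, 4, 5, 6],
      [3, 0, 2, 1, 3, 4, 5, 6], [4, 3, 2, 1, 3, 4, 5, 6], [2, 3, 0, 2, 1, 3, 4, 5, 6],
      [4, 3, 0, 2, 1, 3, 4, 5, 6], [5, 4, 3, 2, 1, 3, 4, 5, 6], [4, 2, 3, 0, 2, 1, 3, 4, 5, 6],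
      [5, 4, 3, 0, 2, 1, 3, 4, 5, 6], [6, 5, 4, 3, 2, 1, 3, 4, 5, 6],
      [3, 4, 2, 3, 0, 2, 1, 3, 4, 5, 6], [5, 4, 2, 3, 0, 2, 1, 3, 4, 5, 6],
      [6, 5, 4, 3, 0, 2, 1, 3, 4, 5, 6], [1, 3, 4, 2, 3, 0, 2, 1, 3, 4, 5, 6],
      [5, 3, 4, 2, 3, 0, 2, 1, 3, 4, 5, 6], [6, 5, 4, 2, 3, 0, 2, 1, 3, 4, 5, 6],
      [5, 1, 3, 4, 2, 3, 0, 2, 1, 3, 4, 5, 6], [4, 5, 3, 4, 2, 3, 0, 2, 1, 3, 4, 5, 6],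
      [6, 5, 3, 4, 2, 3, 0, 2, 1, 3, 4, 5, 6], [4, 5, 1, 3, 4, 2, 3, 0, 2, 1, 3, 4, 5, 6],
      [6, 5, 1, 3, 4, 2, 3, 0, 2, 1, 3, 4, 5, 6], [6, 4, 5, 3, 4, 2, 3, 0, 2, 1, 3, 4, 5, 6],
      [3, 4, 5, 1, 3, 4, 2, 3, 0, 2, 1, 3, 4, 5, 6],
      [6, 4, 5, 1, 3, 4, 2, 3, 0, 2, 1, 3, 4, 5, 6],
      [5, 6, 4, 5, 3, 4, 2, 3, 0, 2, 1, 3, 4, 5, 6],
      [2, 3, 4, 5, 1, 3, 4, 2, 3, 0, 2, 1, 3, 4, 5, 6],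
      [6, 3, 4, 5, 1, 3, 4, 2, 3, 0, 2, 1, 3, 4, 5, 6],
      [5, 6, 4, 5, 1, 3, 4, 2, 3, 0, 2, 1, 3, 4, 5, 6],
      [0, 2, 3, 4, 5, 1, 3, 4, 2, 3, 0, 2, 1, 3, 4, 5, 6],
      [6, 2, 3, 4, 5, 1, 3, 4, 2, 3, 0, 2, 1, 3, 4, 5, 6],
      [5, 6, 3, 4, 5, 1, 3, 4, 2, 3, 0, 2, 1, 3, 4, 5, 6],
      [6, 0, 2, 3, 4, 5, 1, 3, 4, 2, 3, 0, 2, 1, 3, 4, 5, 6],
      [5, 6, 2, 3, 4, 5, 1, 3, 4, 2, 3, 0, 2, 1, 3, 4, 5, 6],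
      [4, 5, 6, 3, 4, 5, 1, 3, 4, 2, 3, 0, 2, 1, 3, 4, 5, 6],
      [5, 6, 0, 2, 3, 4, 5, 1, 3, 4, 2, 3, 0, 2, 1, 3, 4, 5, 6],
      [4, 5, 6, 2, 3, 4, 5, 1, 3, 4, 2, 3, 0, 2, 1, 3, 4, 5, 6],
      [4, 5, 6, 0, 2, 3, 4, 5, 1, 3, 4, 2, 3, 0, 2, 1, 3, 4, 5, 6],
      [3, 4, 5, 6, 2, 3, 4, 5, 1, 3, 4, 2, 3, 0, 2, 1, 3, 4, 5, 6],
      [3, 4, 5, 6, 0, 2, 3, 4, 5, 1, 3, 4, 2, 3, 0, 2, 1, 3, 4, 5, 6],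
      [1, 3, 4, 5, 6, 2, 3, 4, 5, 1, 3, 4, 2, 3, 0, 2, 1, 3, 4, 5, 6],
      [1, 3, 4, 5, 6, 0, 2, 3, 4, 5, 1, 3, 4, 2, 3, 0, 2, 1, 3, 4, 5, 6],
      [2, 3, 4, 5, 6, 0, 2, 3, 4, 5, 1, 3, 4, 2, 3, 0, 2, 1, 3, 4, 5, 6],
      [2, 1, 3, 4, 5, 6, 0, 2, 3, 4, 5, 1, 3, 4, 2, 3, 0, 2, 1, 3, 4, 5, 6],
      [3, 2, 1, 3, 4, 5, 6, 0, 2, 3, 4, 5, 1, 3, 4, 2, 3, 0, 2, 1, 3, 4, 5, 6],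
      [4, 3, 2, 1, 3, 4, 5, 6, 0, 2, 3, 4, 5, 1, 3, 4, 2, 3, 0, 2, 1, 3, 4, 5, 6],
      [5, 4, 3, 2, 1, 3, 4, 5, 6, 0, 2, 3, 4, 5, 1, 3, 4, 2, 3, 0, 2, 1, 3, 4, 5, 6],
      [6, 5, 4, 3, 2, 1, 3, 4, 5, 6, 0, 2, 3, 4, 5, 1, 3, 4, 2, 3, 0, 2, 1, 3, 4, 5, 6]] }]

set_option maxRecDepth 1000000 in
theorem invOKE7 : invOK tblE7 56 7 = true := by decide +kernel

set_option maxRecDepth 1000000 in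
theorem relsOKE7 : relsOK tblE7 56 7 (fun a b => (mLE7.getD a []).getD b 0) = true := by decide +kernel

set_option maxRecDepth 1000000 in
theorem chainOKE7 : chainOK tblE7 56 7 [] levelsE7 = true := by decide +kernel

set_option maxRecDepth 1000000 in
theorem chainProdE7 : chainProd levelsE7 = 2903040 := by decide +kernel

end Cfsg.Agent.Lib.H6.CoxLB.Data
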