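import Mathlib
import Cfsg.Agent.Lib.H6.CoxUB
import Cfsg.Agent.Lib.H6.CoxLB3
import Cfsg.Agent.Lib.H6.CoxLBDataE6
import Cfsg.Agent.Lib.H6.CoxLBDataE7
import Cfsg.Agent.Lib.H6.CoxLBDataE8

set_option autoImplicit false

namespace Cfsg.Agent.Lib.H6.CoxOrders

open Cfsg.Agent.Lib.H6.CoxTC Cfsg.Agent.Lib.H6.CoxTC.Data
open Cfsg.Agent.Lib.H6.CoxLB Cfsg.Agent.Lib.H6.CoxLB.Data

theorem hmE6 : ∀ a b : Fin 6, (fun a b => (mLE6.getD a []).getD b 0) a.val b.val =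
    CoxeterMatrix.E₆.M a b := by
  intro a b; fin_cases a <;> fin_cases b <;> rfl

theorem hmE7 : ∀ a b : Fin 7, (fun a b => (mLE7.getD a []).getD b 0) a.val b.val =
    CoxeterMatrix.E₇.M a b := by
  intro a b; fin_cases a <;> fin_cases b <;> rfl

theorem hmE8 : ∀ a b : Fin 8, (fun a b => (mLE8.getD a []).getD b 0) a.val b.val =
    CoxeterMatrix.E₈.M a b := by
  intro a b; fin_cases a <;> fin_cases b <;> rfl

theorem card_E6 : Nat.card CoxeterMatrix.E₆.Group = 51840 := by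
  obtain ⟨hfin, hub⟩ := ub_E6
  have hlb := (lb_of_checks CoxeterMatrix.E₆ invOKE6 hmE6 relsOKE6 levelsE6 chainOKE6).1
  rw [chainProdE6] at hlb
  exact le_antisymm hub hlb

theorem card_E7 : Nat.card CoxeterMatrix.E₇.Group = 2903040 := by
  obtain ⟨hfin, hub⟩ := ub_E7
  have hlb := (lb_of_checks CoxeterMatrix.E₇ invOKE7 hmE7 relsOKE7 levelsE7 chainOKE7).1
  rw [chainProdE7] at hlb
  exact le_antisymm hub hlb

theorem card_E8 : Nat.card CoxeterMatrix.E₈.Group = 696729600 := by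
  obtain ⟨hfin, hub⟩ := ub_E8
  have hlb := (lb_of_checks CoxeterMatrix.E₈ invOKE8 hmE8 relsOKE8 levelsE8 chainOKE8).1
  rw [chainProdE8] at hlb
  exact le_antisymm hub hlb

end Cfsg.Agent.Lib.H6.CoxOrders
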