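import Mathlib
import Cfsg.Agent.Lib.H6.QDF7
import Cfsg.Agent.Lib.H6.TwoRes
import Cfsg.Agent.Lib.H6.QD5

/-! Fusion in finite groups with quasi-dihedral Sylow 2-subgroups, part 8 (helper6):
the intersection of `O^2(G) G'` with the Sylow 2-subgroup. -/

set_option autoImplicit false

namespace Cfsg.Agent.Lib.H6.QDF

open QD TwoRes Cfsg.Agent.Lib.H15

variable {G : Type*} [Group G] [Finite G] {S : Sylow 2 G} {n : ℕ}
  (P : QD.Pres ↥(S : Subgroup G) n)

/-- the Frattini subgroup of `S` lies in `O^2(G) G'`. -/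
theorem R_even_mem_Nsub (i : ZMod (2 ^ n)) (hi : hf n * i = 0) :
    ((P.R i : ↥(S : Subgroup G)) : G) ∈ Nsub G := by
  apply commutator_le_Nsub
  have h1 : P.R i ∈ commutator ↥(S : Subgroup G) := by
    rw [P.commutator_eq_frattini, P.mem_frattini_iff]; exact ⟨i, hi, rfl⟩
  have h2 : (commutator ↥(S : Subgroup G)).map (S : Subgroup G).subtype ≤ commutator G := by
    rw [commutator_def, commutator_def, Subgroup.map_commutator]
    exact Subgroup.commutator_mono le_top le_top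
  exact h2 ⟨_, h1, rfl⟩

theorem yG_not_mem_Nsub (hz : ¬ IsConj (zG P) (yG P)) : yG P ∉ Nsub G :=
  not_mem_sup_of_not_mem_commutator P (P.SR 0) (yG_not_mem_commutator P hz)

theorem bG_not_mem_Nsub (ha : ¬ IsConj (aG P) (bG P)) : bG P ∉ Nsub G :=
  not_mem_sup_of_not_mem_commutator P (P.SR 1) (bG_not_mem_commutator P ha)

theorem xG_not_mem_Nsub (ha : ¬ IsConj (aG P) (bG P)) :
    ((P.R 1 : ↥(S : Subgroup G)) : G) ∉ Nsub G :=
  not_mem_sup_of_not_mem_commutator P (P.R 1) (xG_not_mem_commutator P ha)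

theorem yG_mem_Nsub (hz : IsConj (zG P) (yG P)) : yG P ∈ Nsub G := by
  obtain ⟨g, hg⟩ := isConj_iff.mp hz
  rw [← hg]
  exact Nsub_normal.conj_mem _ (R_even_mem_Nsub P _ (hf_mul_hf P.n_two)) g

theorem bG_mem_Nsub (ha : IsConj (aG P) (bG P)) : bG P ∈ Nsub G := by
  obtain ⟨g, hg⟩ := isConj_iff.mp ha
  rw [← hg]
  exact Nsub_normal.conj_mem _ (R_even_mem_Nsub P _ (hf_mul_qt P.hn)) g

theorem Nsub_inf_eq_M2 (hz : ¬ IsConj (zG P) (yG P)) (ha : IsConj (aG P) (bG P)) :
    (Nsub G).subgroupOf S = P.M2 := by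
  have hle : P.M2 ≤ (Nsub G).subgroupOf S := by
    rintro s ⟨i, ⟨hi, rfl⟩ | ⟨hi, rfl⟩⟩
    · exact Subgroup.mem_subgroupOf.mpr (R_even_mem_Nsub P i hi)
    · have e : P.SR i = P.R (i - 1) * P.SR 1 := by
        rw [P.R_mul_SR]; congr 1; ring
      rw [e]
      apply Subgroup.mul_mem
      · apply Subgroup.mem_subgroupOf.mpr
        apply R_even_mem_Nsub P
        linear_combination hi
      · exact Subgroup.mem_subgroupOf.mpr (bG_mem_Nsub P ha)
  have hne : (Nsub G).subgroupOf S ≠ ⊤ := by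
    intro h
    have : P.SR 0 ∈ (Nsub G).subgroupOf S := h ▸ Subgroup.mem_top _
    exact yG_not_mem_Nsub P hz (Subgroup.mem_subgroupOf.mp this)
  exact ((isCoatom_of_index_two P.index_M2).le_iff_eq hne).mp hle

theorem Nsub_inf_eq_M3 (hz : IsConj (zG P) (yG P)) (ha : ¬ IsConj (aG P) (bG P)) :
    (Nsub G).subgroupOf S = P.M3 := by
  have hle : P.M3 ≤ (Nsub G).subgroupOf S := by
    rintro s ⟨i, hi, rfl | rfl⟩
    · exact Subgroup.mem_subgroupOf.mpr (R_even_mem_Nsub P i hi)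
    · have e : P.SR i = P.R i * P.SR 0 := by
        rw [P.R_mul_SR, add_zero]
      rw [e]
      apply Subgroup.mul_mem
      · exact Subgroup.mem_subgroupOf.mpr (R_even_mem_Nsub P i hi)
      · exact Subgroup.mem_subgroupOf.mpr (yG_mem_Nsub P hz)
  have hne : (Nsub G).subgroupOf S ≠ ⊤ := by
    intro h
    have : P.SR 1 ∈ (Nsub G).subgroupOf S := h ▸ Subgroup.mem_top _
    exact bG_not_mem_Nsub P ha (Subgroup.mem_subgroupOf.mp this)
  exact ((isCoatom_of_index_two P.index_M3).le_iff_eq hne).mp hle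

theorem mem_Nsub_iff_of_not (hz : ¬ IsConj (zG P) (yG P)) (ha : ¬ IsConj (aG P) (bG P))
    (s : ↥(S : Subgroup G)) :
    s ∈ (Nsub G).subgroupOf S ↔ ∃ i, hf n * i = 0 ∧ s = P.R i := by
  have h2 := hf_add_hf (n := n) P.n_pos
  constructor
  · intro hs
    have hR : ∀ i, hf n * i = 0 → P.R i ∈ (Nsub G).subgroupOf S := fun i hi =>
      Subgroup.mem_subgroupOf.mpr (R_even_mem_Nsub P i hi)
    rcases P.cases s with ⟨i, rfl⟩ | ⟨i, rfl⟩
    · rcases P.parity i with ⟨h0, -⟩ | ⟨h0, -⟩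
      · exfalso
        have e : P.R 1 = (P.R (i - 1))⁻¹ * P.R i := by
          rw [P.R_inv, P.R_mul_R]; congr 1; ring
        have : P.R 1 ∈ (Nsub G).subgroupOf S := by
          rw [e]
          exact Subgroup.mul_mem _ (Subgroup.inv_mem _ (hR _ (by linear_combination h0))) hs
        exact xG_not_mem_Nsub P ha (Subgroup.mem_subgroupOf.mp this)
      · exact ⟨i, h0, rfl⟩
    · exfalso
      rcases P.parity i with ⟨h0, -⟩ | ⟨h0, -⟩
      · have e : P.SR 1 = (P.R (i - 1))⁻¹ * P.SR i := by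
          rw [P.R_inv, P.R_mul_SR]; congr 1; ring
        have : P.SR 1 ∈ (Nsub G).subgroupOf S := by
          rw [e]
          exact Subgroup.mul_mem _ (Subgroup.inv_mem _ (hR _ (by linear_combination h0))) hs
        exact bG_not_mem_Nsub P ha (Subgroup.mem_subgroupOf.mp this)
      · have e : P.SR 0 = (P.R i)⁻¹ * P.SR i := by
          rw [P.R_inv, P.R_mul_SR]; congr 1; ring
        have : P.SR 0 ∈ (Nsub G).subgroupOf S := by
          rw [e]
          exact Subgroup.mul_mem _ (Subgroup.inv_mem _ (hR _ h0)) hs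
        exact yG_not_mem_Nsub P hz (Subgroup.mem_subgroupOf.mp this)
  · rintro ⟨i, hi, rfl⟩
    exact Subgroup.mem_subgroupOf.mpr (R_even_mem_Nsub P i hi)

/-- If `z` is not fused to `y` then `Z(S)` is weakly closed in `S`. -/
theorem weaklyClosed_center (hz : ¬ IsConj (zG P) (yG P)) :
    Cfsg.IsWeaklyClosed ((Subgroup.center ↥(S : Subgroup G)).map (S : Subgroup G).subtype)
      (S : Subgroup G) := by
  have hmem : ∀ u : G, u ∈ (Subgroup.center ↥(S : Subgroup G)).map (S : Subgroup G).subtype ↔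
      u = 1 ∨ u = zG P := by
    intro u
    constructor
    · rintro ⟨s, hs, rfl⟩
      rcases (P.mem_center_iff' s).mp hs with rfl | rfl
      · left; rfl
      · right; rfl
    · rintro (rfl | rfl)
      · exact Subgroup.one_mem _
      · exact ⟨P.R (hf n), (P.mem_center_iff' _).mpr (Or.inr rfl), rfl⟩
  refine ⟨Subgroup.map_subtype_le _, ?_⟩
  intro g hg
  have hzm : zG P ∈ (Subgroup.center ↥(S : Subgroup G)).map (S : Subgroup G).subtype :=
    (hmem _).mpr (Or.inr rfl)
  have h1 : g * zG P * g⁻¹ ∈ (S : Subgroup G) := hg ⟨zG P, hzm, rfl⟩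
  have ho : orderOf (⟨g * zG P * g⁻¹, h1⟩ : ↥(S : Subgroup G)) = 2 := by
    rw [← Subgroup.orderOf_coe, orderOf_conj', orderOf_zG]
  have hfix : g * zG P * g⁻¹ = zG P := by
    rcases isConj_of_mem_of_orderOf_two P _ ho with h | h
    · exact h
    · exact absurd ((isConj_conj g (zG P)).trans h) hz
  ext u
  constructor
  · rintro ⟨v, hv, rfl⟩
    rcases (hmem v).mp hv with rfl | rfl
    · simp
    · show g * zG P * g⁻¹ ∈ _
      rw [hfix]; exact hzm
  · intro hu
    rcases (hmem u).mp hu with rfl | rfl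
    · exact Subgroup.one_mem _
    · exact ⟨zG P, hzm, hfix⟩

end Cfsg.Agent.Lib.H6.QDF
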