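import Mathlib

/-!
# S4150, piece NORM (helper6): `core_of_normalized`

Degree `n = k + 4` prime, `r = k + 2` prime.  A pair (`r`-cycle `x`, `n`-cycle `y`) is conjugate to a pair
(`x3`, power of `finRotate n`) with `x3 0 = 0`, `x3 1 = 1`, `x3 2 = 3`, `x3` an `r`-cycle in `⟨x2⟩`.
-/

set_option autoImplicit false

namespace Cfsg.Agent.Lib.H6.AG

open Equiv Equiv.Perm Subgroup

/-- sign of a permutation with a single cycle of odd length -/
theorem sign_eq_one_of_cycleType_singleton {α : Type*} [Fintype α] [DecidableEq α] (f : Perm α) {r : ℕ}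
    (hf : f.cycleType = {r}) (hr : Odd r) : Perm.sign f = 1 := by
  rw [Equiv.Perm.sign_of_cycleType', hf, Multiset.map_singleton, Multiset.prod_singleton,
    hr.neg_one_pow, neg_neg]

/-- the affine normalisation on `ZMod n` -/
theorem exists_affine {n : ℕ} [Fact n.Prime] (a b : ZMod n) (hab : a ≠ b) :
    ∃ (h : Perm (ZMod n)) (c : ZMod n), c ≠ 0 ∧ h a = 0 ∧ h b = 1 ∧
      h * Equiv.addRight (1 : ZMod n) * h⁻¹ = Equiv.addRight c := by
  have hd : b - a ≠ 0 := sub_ne_zero.mpr (Ne.symm hab)
  have hc0 : (b - a)⁻¹ ≠ 0 := inv_ne_zero hd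
  let h : Perm (ZMod n) :=
    { toFun := fun i => (b - a)⁻¹ * (i - a)
      invFun := fun j => (b - a) * j + a
      left_inv := by
        intro i
        show (b - a) * ((b - a)⁻¹ * (i - a)) + a = i
        rw [← mul_assoc, mul_inv_cancel₀ hd, one_mul, sub_add_cancel]
      right_inv := by
        intro j
        show (b - a)⁻¹ * ((b - a) * j + a - a) = j
        rw [add_sub_cancel_right, ← mul_assoc, inv_mul_cancel₀ hd, one_mul] }
  have hap : ∀ i, h i = (b - a)⁻¹ * (i - a) := fun i => rfl
  refine ⟨h, (b - a)⁻¹, hc0, ?_, ?_, ?_⟩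
  · rw [hap, sub_self, mul_zero]
  · rw [hap, inv_mul_cancel₀ hd]
  · rw [mul_inv_eq_iff_eq_mul]
    ext i
    rw [Perm.mul_apply, Perm.mul_apply, Equiv.coe_addRight, Equiv.coe_addRight, hap, hap]
    ring

theorem addRight_pow_zmod {n : ℕ} (c : ZMod n) (m : ℕ) :
    (Equiv.addRight c) ^ m = Equiv.addRight ((m : ZMod n) * c) := by
  induction m with
  | zero =>
    ext i
    simp
  | succ m ih =>
    rw [pow_succ, ih]
    ext i
    rw [Perm.mul_apply, Equiv.coe_addRight, Equiv.coe_addRight, Equiv.coe_addRight]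
    push_cast
    ring

theorem addRight_one_mem_zpowers {n : ℕ} [Fact n.Prime] (c : ZMod n) (hc : c ≠ 0) :
    Equiv.addRight (1 : ZMod n) ∈ Subgroup.zpowers (Equiv.addRight c) := by
  refine ⟨((c⁻¹).val : ℤ), ?_⟩
  simp only
  rw [zpow_natCast, addRight_pow_zmod, ZMod.natCast_zmod_val, inv_mul_cancel₀ hc]

/-- core of NORM, on `ZMod n` with `n` prime, `r = n - 2` prime. -/
theorem core_zmod {n r : ℕ} [Fact n.Prime] (hr : r.Prime) (hnr : n = r + 2)
    (H : ∀ x : Perm (ZMod n), x 0 = 0 → x 1 = 1 → x 2 = 3 → x.cycleType = {r} →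
      alternatingGroup (ZMod n) ≤
        closure ({x, Equiv.addRight (1 : ZMod n)} : Set (Perm (ZMod n))))
    (x y : Perm (ZMod n)) (hx : x.cycleType = {r})
    (hy : IsConj y (Equiv.addRight (1 : ZMod n))) :
    alternatingGroup (ZMod n) ≤ closure ({x, y} : Set (Perm (ZMod n))) := by
  classical
  have hn : n.Prime := Fact.out
  have hr2 : r ≠ 2 := by
    rintro rfl
    rw [hnr] at hn
    exact absurd hn (by norm_num)
  have hr3 : 3 ≤ r := by
    have := hr.two_le
    omega
  have hn5 : 5 ≤ n := by omega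
  have hcardn : Fintype.card (ZMod n) = n := ZMod.card n
  -- distinctness of 0,1,2,3
  have hval : ∀ m : ℕ, m < n → ((m : ℕ) : ZMod n).val = m := fun m hm => ZMod.val_natCast_of_lt hm
  have hne : ∀ i j : ℕ, i < n → j < n → i ≠ j → ((i : ℕ) : ZMod n) ≠ ((j : ℕ) : ZMod n) := by
    intro i j hi hj hij h
    apply hij
    rw [← hval i hi, ← hval j hj, h]
  have h01 : (0 : ZMod n) ≠ 1 := by simp
  have h02 : (2 : ZMod n) ≠ 0 := by simpa using hne 2 0 (by omega) (by omega) (by omega)
  have h12 : (2 : ZMod n) ≠ 1 := by simpa using hne 2 1 (by omega) (by omega) (by omega)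
  have h03 : (3 : ZMod n) ≠ 0 := by simpa using hne 3 0 (by omega) (by omega) (by omega)
  have h13 : (3 : ZMod n) ≠ 1 := by simpa using hne 3 1 (by omega) (by omega) (by omega)
  have h23 : (2 : ZMod n) ≠ 3 := by simpa using hne 2 3 (by omega) (by omega) (by omega)
  -- conjugate y to the rotation
  obtain ⟨g, hg⟩ := isConj_iff.mp hy
  set x1 := g * x * g⁻¹ with hx1
  have hx1c : x1.cycleType = {r} := by rw [hx1, cycleType_conj, hx]
  -- the two fixed points of x1
  have hs1 : x1.support.card = r := by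
    rw [← sum_cycleType, hx1c, Multiset.sum_singleton]
  have hF1 : (x1.supportᶜ).card = 2 := by
    rw [Finset.card_compl, hs1, hcardn]
    omega
  obtain ⟨a, b, hab, hFab⟩ := Finset.card_eq_two.mp hF1
  have hfix : ∀ j, x1 j = j ↔ (j = a ∨ j = b) := by
    intro j
    have : j ∈ x1.supportᶜ ↔ j ∈ ({a, b} : Finset (ZMod n)) := by rw [hFab]
    rw [Finset.mem_compl, mem_support, not_not, Finset.mem_insert, Finset.mem_singleton] at this
    exact this
  obtain ⟨h, c, hc0, hha, hhb, hconj⟩ := exists_affine a b hab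
  set u := h * g with hu
  set x2 := u * x * u⁻¹ with hx2
  have hx2' : x2 = h * x1 * h⁻¹ := by rw [hx2, hu, hx1]; group
  have hx2c : x2.cycleType = {r} := by rw [hx2, cycleType_conj, hx]
  have huy : u * y * u⁻¹ = Equiv.addRight c := by
    rw [← hconj, ← hg, hu]; group
  -- x2 fixes 0 and 1
  have hx20 : x2 0 = 0 := by
    rw [hx2', ← hha, Perm.mul_apply, Perm.mul_apply, Perm.inv_def, Equiv.symm_apply_apply,
      (hfix a).2 (Or.inl rfl)]
  have hx21 : x2 1 = 1 := by
    rw [hx2', ← hhb, Perm.mul_apply, Perm.mul_apply, Perm.inv_def, Equiv.symm_apply_apply,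
      (hfix b).2 (Or.inr rfl)]
  have hs2 : x2.support.card = r := by
    rw [← sum_cycleType, hx2c, Multiset.sum_singleton]
  have hF2 : x2.supportᶜ = {0, 1} := by
    symm
    apply Finset.eq_of_subset_of_card_le
    · intro j hj
      rw [Finset.mem_insert, Finset.mem_singleton] at hj
      rw [Finset.mem_compl, mem_support, not_not]
      rcases hj with rfl | rfl
      · exact hx20
      · exact hx21
    · rw [Finset.card_compl, hs2, hcardn, Finset.card_pair h01]
      omega
  have hmoved : ∀ j : ZMod n, j ≠ 0 → j ≠ 1 → x2 j ≠ j := by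
    intro j hj0 hj1 hj
    have : j ∈ x2.supportᶜ := by rw [Finset.mem_compl, mem_support, not_not]; exact hj
    rw [hF2, Finset.mem_insert, Finset.mem_singleton] at this
    rcases this with h | h
    · exact hj0 h
    · exact hj1 h
  have hcyc2 : x2.IsCycle := by
    rw [← card_cycleType_eq_one, hx2c, Multiset.card_singleton]
  have hord2 : orderOf x2 = r := by rw [hcyc2.orderOf, hs2]
  obtain ⟨i, hi⟩ := hcyc2.exists_pow_eq (hmoved 2 h02 h12) (hmoved 3 h03 h13)
  set x3 := x2 ^ i with hx3
  have hcop : Nat.Coprime i (orderOf x2) := by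
    rw [hord2, Nat.coprime_comm, hr.coprime_iff_not_dvd]
    intro hdvd
    have : x2 ^ i = 1 := by
      rw [← hord2] at hdvd
      exact orderOf_dvd_iff_pow_eq_one.mp hdvd
    rw [hx3, this, Perm.one_apply] at hi
    exact h23 hi
  have hcyc3 : x3.IsCycle := (hcyc2.pow_iff).2 hcop
  have hs3 : x3.support = x2.support := support_pow_coprime hcop
  have hx3c : x3.cycleType = {r} := by
    rw [hcyc3.cycleType, hs3, hs2]
  have hx30 : x3 0 = 0 := pow_apply_eq_self_of_apply_eq_self hx20 i
  have hx31 : x3 1 = 1 := pow_apply_eq_self_of_apply_eq_self hx21 i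
  have hA := H x3 hx30 hx31 hi hx3c
  -- closure{x3, rot} ≤ closure{x2, addRight c} = conj of closure{x,y}
  set K := closure ({x, y} : Set (Perm (ZMod n))) with hK
  have hx2K : x2 ∈ K.map (MulAut.conj u).toMonoidHom := by
    refine ⟨x, subset_closure (by simp), ?_⟩
    simp [hx2, MulAut.conj_apply]
  have hcK : Equiv.addRight c ∈ K.map (MulAut.conj u).toMonoidHom := by
    refine ⟨y, subset_closure (by simp), ?_⟩
    simp [← huy, MulAut.conj_apply]
  have hle : closure ({x3, Equiv.addRight (1 : ZMod n)} : Set (Perm (ZMod n))) ≤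
      K.map (MulAut.conj u).toMonoidHom := by
    rw [closure_le]
    intro w hw
    rcases hw with rfl | hw
    · exact Subgroup.pow_mem _ hx2K i
    · rw [Set.mem_singleton_iff] at hw
      rw [hw]
      have h1 := addRight_one_mem_zpowers c hc0
      have h2 : Subgroup.zpowers (Equiv.addRight c) ≤ K.map (MulAut.conj u).toMonoidHom :=
        (Subgroup.zpowers_le).2 hcK
      exact h2 h1
  intro w hw
  have hw' : u * w * u⁻¹ ∈ alternatingGroup (ZMod n) := by
    have hnorm : (alternatingGroup (ZMod n)).Normal := inferInstance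
    exact hnorm.conj_mem w hw u
  obtain ⟨v, hvK, hv⟩ := hle (hA hw')
  have hvw : v = w := by
    have : u * v * u⁻¹ = u * w * u⁻¹ := by simpa [MulAut.conj_apply] using hv
    have h2 : u * v = u * w := mul_right_cancel this
    exact mul_left_cancel h2
  rw [← hvw]
  exact hvK

/-- (NORM) normalisation: `y` to `finRotate`, the two fixed points of `x` to `0, 1`
(affine maps of `ZMod n` normalise `⟨finRotate n⟩`), and a power of `x` mapping `2` to `3`. -/
theorem core_of_normalized (k : ℕ) (hn : (k + 4).Prime) (hp : (k + 2).Prime)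
    (H : ∀ x : Perm (Fin (k + 4)), x 0 = 0 → x 1 = 1 → x 2 = 3 → x.cycleType = {k + 2} →
      alternatingGroup (Fin (k + 4)) ≤
        closure ({x, finRotate (k + 4)} : Set (Perm (Fin (k + 4))))) :
    ∀ x y : Perm (Fin (k + 4)), x.cycleType = {k + 2} → y.cycleType = {k + 4} →
      closure ({x, y} : Set (Perm (Fin (k + 4)))) = alternatingGroup (Fin (k + 4)) := by
  intro x y hx hy
  have : Fact (k + 4).Prime := ⟨hn⟩
  have hk2 : k + 2 ≠ 2 := by
    intro h
    have hk : k = 0 := by omega
    subst hk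
    exact absurd hn (by norm_num)
  have hodd2 : Odd (k + 2) := hp.odd_of_ne_two hk2
  have hodd4 : Odd (k + 4) := hn.odd_of_ne_two (by omega)
  have hrot : (finRotate (k + 4) : Perm (Fin (k + 4))) =
      (Equiv.addRight (1 : ZMod (k + 4)) : Perm (ZMod (k + 4))) := by
    ext i
    rw [finRotate_apply]
    rfl
  apply le_antisymm
  · rw [closure_le]
    intro w hw
    rcases hw with rfl | hw
    · exact Equiv.Perm.mem_alternatingGroup.2 (sign_eq_one_of_cycleType_singleton _ hx hodd2)
    · rw [Set.mem_singleton_iff] at hw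
      rw [hw]
      exact Equiv.Perm.mem_alternatingGroup.2 (sign_eq_one_of_cycleType_singleton _ hy hodd4)
  · have hyc : IsConj y (finRotate (k + 4)) := by
      rw [Equiv.Perm.isConj_iff_cycleType_eq, hy]
      exact (cycleType_finRotate (n := k + 2)).symm
    have H' : ∀ x : Perm (ZMod (k + 4)), x 0 = 0 → x 1 = 1 → x 2 = 3 → x.cycleType = {k + 2} →
        alternatingGroup (ZMod (k + 4)) ≤
          closure ({x, Equiv.addRight (1 : ZMod (k + 4))} : Set (Perm (ZMod (k + 4)))) := by
      intro x' h0 h1 h2 hc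
      have := H x' h0 h1 h2 hc
      rw [hrot] at this
      exact this
    have hyc' : IsConj (y : Perm (ZMod (k + 4))) (Equiv.addRight (1 : ZMod (k + 4))) := by
      have := hyc
      rw [hrot] at this
      exact this
    exact core_zmod (n := k + 4) (r := k + 2) hp rfl H' x y hx hyc'

end Cfsg.Agent.Lib.H6.AG
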