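import Mathlib
import Cfsg.Prelude.Def_Blocks
import Cfsg.Agent.Lib.H21.AD.Defs
import Cfsg.Agent.Lib.H23.ADBR
import Cfsg.Agent.Lib.H10.APPART2
import Cfsg.Agent.Lib.H6.APPART1

/-!
# S4551 (Alperin–Dade for `p'`-index, principal blocks): the statement from the landed pieces (helper6, twin of the
final assembly)

`s4551_core` is the statement of S4551 verbatim; it unpacks `principalBlock` into `sSum ≠ 0` (Brauer, `H23.AD.br0`/`br`),
takes `Q := P`, and calls `H10.AP.exists_unique_principal_ext` (PART2) and `H6.AP.restrict_principal` (PART1).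
-/

set_option autoImplicit false

open Cfsg.Agent.Lib.H21.AD

namespace Cfsg.Agent.Lib.H6.AP

open Cfsg

/-- `sSum p ⊤ f` is the sum of `f` over the `p`-regular elements of `G` -/
theorem sSum_top_eq {G : Type*} [Group G] (p : ℕ) (f : G → ℂ) :
    sSum p (⊤ : Subgroup G) f = ∑ᶠ x : G, if p ∣ orderOf x then 0 else f x := by
  classical
  unfold sSum
  refine finsum_congr (fun g => ?_)
  by_cases hg : p ∣ orderOf g
  · rw [if_neg (fun h => h.2 hg), if_pos hg]
  · rw [if_pos ⟨Subgroup.mem_top g, hg⟩, if_neg hg]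

/-- a Sylow `p`-subgroup lies in every normal subgroup of index prime to `p` -/
theorem sylow_le_of_not_dvd_index {G : Type*} [Group G] [Finite G] (p : ℕ) [hp : Fact p.Prime]
    (N : Subgroup G) [N.Normal] (hidx : ¬ p ∣ N.index) (P : Sylow p G) : (P : Subgroup G) ≤ N := by
  rw [← Subgroup.relIndex_eq_one]
  have h1 : N.relIndex (P : Subgroup G) ∣ N.index := Subgroup.relIndex_dvd_index_of_normal N _
  have hPg : IsPGroup p (P : Subgroup G) := P.2
  obtain ⟨k, hk⟩ := hPg.index (N.subgroupOf (P : Subgroup G))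
  have hk' : N.relIndex (P : Subgroup G) = p ^ k := hk
  rcases Nat.eq_zero_or_pos k with h0 | h0
  · rw [hk', h0, pow_zero]
  · exfalso
    apply hidx
    refine dvd_trans ?_ h1
    rw [hk']
    exact dvd_pow_self p h0.ne'

/-- **S4551**, the statement verbatim, from (PART2) `H10.AP.exists_unique_principal_ext` and (PART1)
`H6.AP.restrict_principal` -/
theorem s4551_core {G : Type*} [Group G] [Finite G] (p : ℕ) [Fact p.Prime] (M : Ideal Cfsg.AlgInt)
    (hM : Cfsg.IsPModular p M) (N : Subgroup G) [N.Normal] (hidx : ¬ p ∣ N.index) (P : Sylow p G)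
    (hsup : N ⊔ Subgroup.centralizer ((P : Subgroup G) : Set G) = ⊤) :
    (∀ χ ∈ Cfsg.principalBlock M G, ∃ θ ∈ Cfsg.principalBlock M ↥N,
        ∀ n : N, (χ : G → ℂ) n = (θ : N → ℂ) n) ∧
      ∀ θ ∈ Cfsg.principalBlock M ↥N, ∃! χ : Cfsg.IrrCharacter G,
        χ ∈ Cfsg.principalBlock M G ∧ ∀ n : N, (χ : G → ℂ) n = (θ : N → ℂ) n := by
  classical
  have hp : p.Prime := Fact.out
  have hQN : (P : Subgroup G) ≤ N := sylow_le_of_not_dvd_index p N hidx P
  have hQ : ¬ p ∣ (P : Subgroup G).relIndex N := by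
    intro hd
    apply P.not_dvd_index
    rw [← Subgroup.relIndex_mul_index hQN]
    exact dvd_mul_of_dvd_left hd _
  have hcov : ∀ g : G, ∃ n ∈ N, ∃ z ∈ Subgroup.centralizer ((P : Subgroup G) : Set G), g = n * z := by
    intro g
    have hg : g ∈ N ⊔ Subgroup.centralizer ((P : Subgroup G) : Set G) := by
      rw [hsup]; exact Subgroup.mem_top g
    obtain ⟨n, hn, c, hc, h⟩ := Subgroup.mem_sup_of_normal_left.1 hg
    exact ⟨n, hn, c, hc, h.symm⟩
  -- Brauer: membership in the principal block of `G` in terms of `sSum`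
  have hbr : ∀ χ : Cfsg.IrrCharacter G, χ ∈ Cfsg.principalBlock M G ↔ sSum p ⊤ (χ : G → ℂ) ≠ 0 := by
    intro χ
    rw [Cfsg.Agent.Lib.H23.AD.br0 hM, sSum_top_eq]
  refine ⟨?_, ?_⟩
  · -- (PART1)
    intro χ hχ
    have hB := (hbr χ).1 hχ
    obtain ⟨hirr, hBN⟩ := restrict_principal hM N (P : Subgroup G) hQN hQ hcov hidx
      (Cfsg.Agent.Lib.H10.AP.hpart2 hp hM N (P : Subgroup G) hQN hQ hidx hcov) (χ : G → ℂ) χ.2 hB
    exact ⟨⟨fun n : N => (χ : G → ℂ) n, hirr⟩,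
      (Cfsg.Agent.Lib.H23.AD.br hM N (χ : G → ℂ) hirr).2 hBN, fun n => rfl⟩
  · -- (PART2)
    intro θ hθ
    obtain ⟨θ', hθdef⟩ : ∃ θ' : G → ℂ, ∀ n : N, θ' n = (θ : N → ℂ) n :=
      ⟨fun g => if h : g ∈ N then (θ : N → ℂ) ⟨g, h⟩ else 0, fun n => by simp⟩
    have hθN : (fun n : N => θ' n) = (θ : N → ℂ) := funext hθdef
    have hθirr : Cfsg.IsIrrCharacter N (fun n : N => θ' n) := by rw [hθN]; exact θ.2
    have hθB : sSum p N θ' ≠ 0 := by
      rw [← Cfsg.Agent.Lib.H23.AD.br hM N θ' hθirr]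
      have e : (⟨fun y : N => θ' y, hθirr⟩ : Cfsg.IrrCharacter N) = θ := Subtype.ext hθN
      rw [e]
      exact hθ
    obtain ⟨χ, ⟨hχ, hχB, hχN⟩, huniq⟩ := Cfsg.Agent.Lib.H10.AP.exists_unique_principal_ext hp hM N
      (P : Subgroup G) hQN hQ hidx hcov θ' hθirr hθB
    refine ⟨⟨χ, hχ⟩, ⟨(hbr ⟨χ, hχ⟩).2 hχB, fun n => (hχN n n.2).trans (hθdef n)⟩, ?_⟩
    rintro χ₂ ⟨h₂B, h₂N⟩
    apply Subtype.ext
    exact huniq (χ₂ : G → ℂ) ⟨χ₂.2, (hbr χ₂).1 h₂B, fun n hn =>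
      (h₂N ⟨n, hn⟩).trans (hθdef ⟨n, hn⟩).symm⟩

end Cfsg.Agent.Lib.H6.AP
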