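import Mathlib
import Cfsg.Prelude.Def_Blocks
import Cfsg.Prelude.Def_CharExt
import Cfsg.Agent.Lib.H21.AD.Defs
import Cfsg.Agent.Lib.H28.NT.Defs
import Cfsg.Agent.Lib.H21.AP.Defs
import Cfsg.Agent.Lib.H6.APPART1

/-!
# S4551, pieces (P1AB), (P1C), (P1D) in the exact signatures of `tools/blueprints/S4551_sigs.lean` (helper6)

Wrappers over `Lib/H6/APPART1.lean`.
-/

set_option autoImplicit false

open Cfsg.Agent.Lib.H21.AD Cfsg.Agent.Lib.H28.NT Cfsg.Agent.Lib.H21.AP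

namespace Cfsg.Agent.Lib.H6.AP

open Cfsg Cfsg.Agent.Lib.H23 Cfsg.Agent.Lib.H24 Cfsg.Agent.Lib.L0
open scoped ComplexConjugate

variable {G : Type*} [Group G] [Finite G] {p : ℕ} {M : Ideal Cfsg.AlgInt} {N Q : Subgroup G} {θ : G → ℂ}

/-- (P1AB) a character of the principal block of `G` has a constituent on `N` in the principal block of `N` -/
theorem exists_principal_constituent [N.Normal] (hM : Cfsg.IsPModular p M) (χ : G → ℂ)
    (hχ : Cfsg.IsIrrCharacter G χ) (hχB : sSum p ⊤ χ ≠ 0) :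
    ∃ θ : G → ℂ, Cfsg.IsIrrCharacter N (fun n : N => θ n) ∧ sSum p N θ ≠ 0 ∧ iSum N χ θ ≠ 0 := by
  classical
  have := Fintype.ofFinite G
  have := Fintype.ofFinite N
  have hχB' := mem_principalBlock_of_sSum_top hM χ hχ hχB
  obtain ⟨ψ, hψ⟩ := exists_constituent_restrict N (⟨χ, hχ⟩ : Cfsg.IrrCharacter G)
  have hψB := constituent_mem_principal hM N ⟨χ, hχ⟩ hχB' ψ hψ
  obtain ⟨θ', hθdef⟩ : ∃ θ' : G → ℂ, ∀ n : N, θ' n = (ψ : N → ℂ) n :=
    ⟨fun g => if h : g ∈ N then (ψ : N → ℂ) ⟨g, h⟩ else 0, fun n => by simp⟩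
  have hθN : (fun n : N => θ' n) = (ψ : N → ℂ) := funext hθdef
  have hθirr : Cfsg.IsIrrCharacter N (fun n : N => θ' n) := by rw [hθN]; exact ψ.2
  have hθB : sSum p N θ' ≠ 0 := by
    rw [← Cfsg.Agent.Lib.H23.AD.br hM N θ' hθirr]
    have e : (⟨fun y : N => θ' y, hθirr⟩ : Cfsg.IrrCharacter N) = ψ := Subtype.ext hθN
    rw [e]
    exact hψB
  refine ⟨θ', hθirr, hθB, ?_⟩
  rw [iSum_eq N χ θ', hθN]
  have hN0 : (Nat.card N : ℂ) ≠ 0 := by exact_mod_cast (Nat.card_pos (α := N)).ne'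
  exact mul_ne_zero hN0 hψ

/-- (P1C) Gallagher: `χ = β·χ'` with `β ∈ Irr(G)`, `N ≤ ker β` -/
theorem exists_gallagher [N.Normal] (χ χ' : G → ℂ) (hχ : Cfsg.IsIrrCharacter G χ)
    (hχ' : Cfsg.IsIrrCharacter G χ') (hχ'N : Cfsg.IsIrrCharacter N (fun n : N => χ' n))
    (hcon : iSum N χ χ' ≠ 0) :
    ∃ β : G → ℂ, Cfsg.IsIrrCharacter G β ∧ (∀ n ∈ N, β n = β 1) ∧ ∀ g, χ g = β g * χ' g := by
  classical
  have := Fintype.ofFinite G
  have := Fintype.ofFinite N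
  have hN : N.Normal := inferInstance
  have hψ : Cfsg.classInner (fun n : N => χ n) (fun n : N => χ' n) ≠ 0 := by
    intro h0
    apply hcon
    rw [iSum_eq N χ χ', h0, mul_zero]
  have hcf' := isClassFunction_of_isCharacter (isCharacter_of_irr hχ')
  have hψinv : ∀ (g : G) (n : N), (fun n : N => χ' n) ⟨g * n * g⁻¹, hN.conj_mem (n : G) n.2 g⟩ =
      (fun n : N => χ' n) n := by
    intro g n
    exact hcf' (n : G) g
  have h1ψ : ((fun _ : N => (1 : ℂ)) * (fun n : N => χ' n)) = (fun n : N => χ' n) := by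
    funext n
    simp
  have hbij := Cfsg.Agent.S0856.result N (fun _ : N => (1 : ℂ)) (fun n : N => χ' n)
    Cfsg.Agent.Lib.H24.isIrrCharacter_one hχ'N (fun _ _ => rfl) hψinv (by rw [h1ψ]; exact hχ'N)
    χ' hχ' (fun _ => rfl)
  have hχmem : χ ∈ {ψ' : G → ℂ | Cfsg.IsIrrCharacter G ψ' ∧
      Cfsg.classInner (Cfsg.indFun N ((fun _ : N => (1 : ℂ)) * (fun n : N => χ' n))) ψ' ≠ 0} := by
    refine ⟨hχ, ?_⟩
    rw [h1ψ, frobenius_reciprocity N _ χ (isClassFunction_of_isCharacter (isCharacter_of_irr hχ)),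
      ← classInner_conj_symm]
    intro h0
    exact hψ ((map_eq_zero _).mp h0)
  obtain ⟨β, ⟨hβirr, hβind⟩, hβχ⟩ := hbij.surjOn hχmem
  refine ⟨β, hβirr, apply_eq_one_of_over_trivial N β hβirr hβind, ?_⟩
  intro g
  rw [← hβχ]
  rfl

/-- (P1D) `β = 1` -/
theorem gallagher_trivial [N.Normal] (hp : p.Prime) (hM : Cfsg.IsPModular p M) (hQN : Q ≤ N)
    (hQ : ¬ p ∣ Q.relIndex N) (hidx : ¬ p ∣ N.index)
    (hcov : ∀ g : G, ∃ n ∈ N, ∃ z ∈ Subgroup.centralizer (Q : Set G), g = n * z)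
    (χ χ' β : G → ℂ) (hχ : Cfsg.IsIrrCharacter G χ) (hχ' : Cfsg.IsIrrCharacter G χ')
    (hβ : Cfsg.IsIrrCharacter G β) (hβN : ∀ n ∈ N, β n = β 1) (hmul : ∀ g, χ g = β g * χ' g)
    (hχB : sSum p ⊤ χ ≠ 0) (hχ'B : sSum p ⊤ χ' ≠ 0) : ∀ g, β g = 1 := by
  classical
  have hP := isPrime_of_isPModular hM
  have htop : ∀ f : G → ℂ, Cfsg.IsIrrCharacter G f →
      Cfsg.IsIrrCharacter (⊤ : Subgroup G) (fun y : (⊤ : Subgroup G) => f y) := by
    intro f hf
    exact isIrrCharacter_comp_of_surjective (Subgroup.topEquiv (G := G)).toMonoidHom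
      (Subgroup.topEquiv (G := G)).surjective hf
  have hQtop : ¬ p ∣ Q.relIndex ⊤ := by
    rw [Subgroup.relIndex_top_right, ← Subgroup.relIndex_mul_index hQN]
    intro hd
    rcases (Nat.Prime.dvd_mul hp).mp hd with h | h
    · exact hQ h
    · exact hidx h
  have hβ1 : β 1 ≠ 0 := irr_one_ne_zero ⟨β, hβ⟩
  have hχ'1 : χ' 1 ≠ 0 := irr_one_ne_zero ⟨χ', hχ'⟩
  have hcong : ∀ z ∈ Subgroup.centralizer (Q : Set G), Cfsg.MemLocalIdeal M (β z / β 1 - 1) := by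
    intro z hz
    have ha := Cfsg.Agent.Lib.H23.AD.cc hM ⊤ χ (htop χ hχ) hχB Q le_top hQtop z (Subgroup.mem_top z) hz
    have hb := Cfsg.Agent.Lib.H23.AD.cc hM ⊤ χ' (htop χ' hχ') hχ'B Q le_top hQtop z
      (Subgroup.mem_top z) hz
    have hbR : Cfsg.MemLocalRing M (χ' z / χ' 1) := by
      have h1 := memLocalRing_add (memLocalRing_of_memLocalIdeal hb) (memLocalRing_one hP.ne_top)
      rwa [sub_add_cancel] at h1
    have hbU : ¬ Cfsg.MemLocalIdeal M (χ' z / χ' 1) := by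
      intro h1
      have h2 := memLocalIdeal_sub h1 hb
      rw [sub_sub_cancel] at h2
      exact not_memLocalIdeal_one h2
    have hb0 : χ' z / χ' 1 ≠ 0 := ne_zero_of_not_memLocalIdeal hbU
    have hinv := memLocalRing_inv hbR hbU
    have h3 := memLocalIdeal_mul_right (memLocalIdeal_sub ha hb) hinv
    have h4 : (χ z / χ 1 - 1 - (χ' z / χ' 1 - 1)) * (χ' z / χ' 1)⁻¹ = β z / β 1 - 1 := by
      rw [hmul z, hmul 1]
      have hz0 : χ' z ≠ 0 := fun h => hb0 (by rw [h, zero_div])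
      field_simp
      ring
    rwa [h4] at h3
  have hβtriv := quotient_char_trivial hM N hidx (Subgroup.centralizer (Q : Set G)) hcov β hβ
    hβN hcong
  intro g
  rw [hβtriv]

end Cfsg.Agent.Lib.H6.AP
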