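import Mathlib
import Cfsg.Prelude.Def_Blocks
import Cfsg.Agent.Lib.H9.ADCore
import Cfsg.Agent.Lib.H23.ExtDet
import Cfsg.Agent.Lib.H23.BlockCovering
import Cfsg.Agent.Lib.H24.CharLinearMul
import Cfsg.Agent.Lib.H24.CharOrth

/-!
S4640 piece (FIB), general form (helper6).  `N ⊴ G` with `G ⧸ N` abelian.

* `card_twists`, `sum_twists_apply`: the dual of `G ⧸ N` (cardinality and orthogonality);
* `classInner_restrict_eq_sum_twists`: `⟨χ_N, χ_N⟩_N = ∑ β, ⟨χ β, χ⟩_G`, `β` over the linear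
  characters of `G ⧸ N`;
* `isIrr_restrict_of_free`: if no nontrivial twist fixes the irreducible `χ` then `χ_N` is
  irreducible;
* `fib`: if `B` is the set of irreducible characters of `G` over the members of `b` and the twists
  act freely on `B`, then every member of `B` restricts to a member of `b`, every member of `b` has
  exactly `|G : N|` extensions in `B`, and `|B| = |G : N| |b|`.
-/

set_option autoImplicit false

namespace Cfsg.Agent.Lib.H6.BK

universe u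

open Cfsg Cfsg.Agent.Lib.L0 Cfsg.Agent.Lib.H24 Cfsg.Agent.Lib.H23
open scoped ComplexConjugate

section dual

variable {G : Type u} [Group G] [Finite G] (N : Subgroup G) [hN : N.Normal]

/-- `G ⧸ N` is commutative when all commutators lie in `N` (same group structure). -/
@[reducible] def quotCommGroup (hab : ∀ a b : G, a * b * a⁻¹ * b⁻¹ ∈ N) : CommGroup (G ⧸ N) :=
  { (inferInstance : Group (G ⧸ N)) with
    mul_comm := by
      intro a b
      induction a using QuotientGroup.induction_on with | _ a => ?_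
      induction b using QuotientGroup.induction_on with | _ b => ?_
      rw [← QuotientGroup.mk_mul, ← QuotientGroup.mk_mul, QuotientGroup.eq]
      have := hab b⁻¹ a⁻¹
      simpa [mul_assoc] using this }

theorem finite_twists (hab : ∀ a b : G, a * b * a⁻¹ * b⁻¹ ∈ N) : Finite (G ⧸ N →* ℂˣ) := by
  let _ : CommGroup (G ⧸ N) := quotCommGroup N hab
  have hexp : NeZero (Monoid.exponent (G ⧸ N)) := ⟨Monoid.exponent_ne_zero_of_finite⟩
  exact Finite.of_equiv (G ⧸ N)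
    (CommGroup.monoidHom_mulEquiv_of_hasEnoughRootsOfUnity (G ⧸ N) ℂ).some.symm.toEquiv

theorem card_twists (hab : ∀ a b : G, a * b * a⁻¹ * b⁻¹ ∈ N) :
    Nat.card (G ⧸ N →* ℂˣ) = N.index := by
  let _ : CommGroup (G ⧸ N) := quotCommGroup N hab
  have hexp : NeZero (Monoid.exponent (G ⧸ N)) := ⟨Monoid.exponent_ne_zero_of_finite⟩
  have := CommGroup.card_monoidHom_of_hasEnoughRootsOfUnity (G ⧸ N) ℂ
  rw [this]
  rfl

theorem sum_twists_apply (hab : ∀ a b : G, a * b * a⁻¹ * b⁻¹ ∈ N) [Fintype (G ⧸ N →* ℂˣ)]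
    (g : G) [Decidable (g ∈ N)] :
    ∑ β : G ⧸ N →* ℂˣ, ((β (g : G ⧸ N) : ℂˣ) : ℂ) = if g ∈ N then (N.index : ℂ) else 0 := by
  let _ : CommGroup (G ⧸ N) := quotCommGroup N hab
  by_cases hg : g ∈ N
  · rw [if_pos hg]
    have h1 : (g : G ⧸ N) = 1 := (QuotientGroup.eq_one_iff g).2 hg
    rw [h1]
    have := Cfsg.Agent.Lib.H9.AD.sum_hom_apply_one (G ⧸ N)
    rw [this]
    rfl
  · rw [if_neg hg]
    have h1 : (g : G ⧸ N) ≠ 1 := fun h => hg ((QuotientGroup.eq_one_iff g).1 h)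
    exact Cfsg.Agent.Lib.H9.AD.sum_hom_apply_ne (G ⧸ N) (g : G ⧸ N) h1

end dual

section twist

variable {G : Type u} [Group G] [Fintype G] (N : Subgroup G) [hN : N.Normal] [Fintype N]

/-- twist counting -/
theorem classInner_restrict_eq_sum_twists (hab : ∀ a b : G, a * b * a⁻¹ * b⁻¹ ∈ N)
    [Fintype (G ⧸ N →* ℂˣ)] (χ : G → ℂ) :
    classInner (fun n : N => χ n) (fun n : N => χ n) =
      ∑ β : G ⧸ N →* ℂˣ, classInner (fun g => χ g * ((β (g : G ⧸ N) : ℂˣ) : ℂ)) χ := by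
  classical
  unfold classInner
  rw [← Finset.mul_sum, Finset.sum_comm]
  have h1 : ∀ g : G, ∑ β : G ⧸ N →* ℂˣ, χ g * ((β (g : G ⧸ N) : ℂˣ) : ℂ) * conj (χ g) =
      if g ∈ N then (N.index : ℂ) * (χ g * conj (χ g)) else 0 := by
    intro g
    have : ∀ β : G ⧸ N →* ℂˣ, χ g * ((β (g : G ⧸ N) : ℂˣ) : ℂ) * conj (χ g) =
        (χ g * conj (χ g)) * ((β (g : G ⧸ N) : ℂˣ) : ℂ) := fun β => by ring
    simp_rw [this]
    rw [← Finset.mul_sum, sum_twists_apply N hab g]
    split_ifs <;> ring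
  simp_rw [h1]
  rw [← Finset.sum_filter]
  have h2 : ∑ g ∈ Finset.univ.filter (fun g : G => g ∈ N), (N.index : ℂ) * (χ g * conj (χ g)) =
      ∑ n : N, (N.index : ℂ) * (χ n * conj (χ n)) := by
    rw [Finset.sum_subtype (p := fun g : G => g ∈ N) (Finset.univ.filter (fun g : G => g ∈ N))
      (by intro x; simp) (fun g => (N.index : ℂ) * (χ g * conj (χ g)))]
  rw [h2, ← Finset.mul_sum]
  have h3 : (Nat.card G : ℂ) = (Nat.card N : ℂ) * (N.index : ℂ) := by
    rw [← Nat.cast_mul, Subgroup.card_mul_index]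
  have hN0 : (Nat.card N : ℂ) ≠ 0 := Nat.cast_ne_zero.2 Nat.card_pos.ne'
  have hi0 : (N.index : ℂ) ≠ 0 := Nat.cast_ne_zero.2 (Subgroup.index_ne_zero_of_finite)
  rw [h3]
  field_simp

omit [Fintype N] in
/-- the twist of `χ` by `β` as a twist by a linear character of `G` -/
theorem isIrr_twist (χ : G → ℂ) (hχ : IsIrrCharacter G χ) (β : G ⧸ N →* ℂˣ) :
    IsIrrCharacter G (fun g => χ g * ((β (g : G ⧸ N) : ℂˣ) : ℂ)) :=
  isIrrCharacter_mul_hom χ hχ (β.comp (QuotientGroup.mk' N))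

theorem isIrr_restrict_of_free (hab : ∀ a b : G, a * b * a⁻¹ * b⁻¹ ∈ N)
    (χ : G → ℂ) (hχ : IsIrrCharacter G χ)
    (hfree : ∀ β : G ⧸ N →* ℂˣ, (∀ g : G, χ g * ((β (g : G ⧸ N) : ℂˣ) : ℂ) = χ g) → β = 1) :
    IsIrrCharacter N (fun n : N => χ n) := by
  classical
  have := finite_twists N hab
  have := Fintype.ofFinite (G ⧸ N →* ℂˣ)
  refine isIrrCharacter_of_classInner_self_eq_one (isCharacter_restrict N (isCharacter_of_irr hχ)) ?_
  rw [classInner_restrict_eq_sum_twists N hab χ, Finset.sum_eq_single (1 : G ⧸ N →* ℂˣ)]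
  · simp only [MonoidHom.one_apply, Units.val_one, mul_one]
    exact irr_classInner_self hχ
  · intro β _ hβ
    refine irr_classInner_ne (isIrr_twist N χ hχ β) hχ ?_
    intro h
    exact hβ (hfree β (fun g => congrFun h g))
  · intro h
    exact absurd (Finset.mem_univ _) h

end twist

section fib

variable {G : Type u} [Group G] [Fintype G] (N : Subgroup G) [hN : N.Normal] [Fintype N]

/-- (a) of `fib` for one character. -/
theorem restrict_mem_of_free (hab : ∀ a b : G, a * b * a⁻¹ * b⁻¹ ∈ N)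
    (b : Set (IrrCharacter N)) (χ : IrrCharacter G)
    (hover : ∃ θ ∈ b, classInner (fun n : N => (χ : G → ℂ) n) (θ : N → ℂ) ≠ 0)
    (hfree : ∀ β : G ⧸ N →* ℂˣ,
      (∀ g : G, (χ : G → ℂ) g * ((β (g : G ⧸ N) : ℂˣ) : ℂ) = (χ : G → ℂ) g) → β = 1) :
    ∃ θ ∈ b, ∀ n : N, (χ : G → ℂ) n = (θ : N → ℂ) n := by
  obtain ⟨θ, hθ, hne⟩ := hover
  have hirr := isIrr_restrict_of_free N hab (χ : G → ℂ) χ.2 hfree
  refine ⟨θ, hθ, ?_⟩
  by_contra hcon
  apply hne
  refine irr_classInner_ne hirr θ.2 ?_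
  intro h
  exact hcon (fun n => congrFun h n)

/-- The fibre statement: `B` = the irreducible characters of `G` over members of `b`, twists act
freely on `B`. -/
theorem fib (hab : ∀ a b : G, a * b * a⁻¹ * b⁻¹ ∈ N)
    (B : Set (IrrCharacter G)) (b : Set (IrrCharacter N))
    (hover : ∀ χ : IrrCharacter G, χ ∈ B ↔
      ∃ θ ∈ b, classInner (fun n : N => (χ : G → ℂ) n) (θ : N → ℂ) ≠ 0)
    (hfree : ∀ χ ∈ B, ∀ β : G ⧸ N →* ℂˣ,
      (∀ g : G, (χ : G → ℂ) g * ((β (g : G ⧸ N) : ℂˣ) : ℂ) = (χ : G → ℂ) g) → β = 1) :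
    (∀ χ ∈ B, ∃ θ ∈ b, ∀ n : N, (χ : G → ℂ) n = (θ : N → ℂ) n) ∧
    (∀ θ ∈ b, Nat.card {χ : IrrCharacter G // χ ∈ B ∧
      ∀ n : N, (χ : G → ℂ) n = (θ : N → ℂ) n} = N.index) ∧
    Nat.card B = N.index * Nat.card b := by
  classical
  have hA : ∀ χ ∈ B, ∃ θ ∈ b, ∀ n : N, (χ : G → ℂ) n = (θ : N → ℂ) n := fun χ hχ =>
    restrict_mem_of_free N hab b χ ((hover χ).1 hχ) (hfree χ hχ)
  have hFib : ∀ θ ∈ b, Nat.card {χ : IrrCharacter G // χ ∈ B ∧
      ∀ n : N, (χ : G → ℂ) n = (θ : N → ℂ) n} = N.index := by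
    intro θ hθ
    -- an extension `χ0` of `θ` in `B`
    obtain ⟨χ0, hχ0⟩ := exists_irr_over_restrict N θ
    have hχ0B : χ0 ∈ B := (hover χ0).2 ⟨θ, hθ, hχ0⟩
    obtain ⟨θ0, hθ0, hres0⟩ := hA χ0 hχ0B
    have hθθ0 : θ0 = θ := by
      by_contra hne
      apply hχ0
      have : (fun n : N => (χ0 : G → ℂ) n) = (θ0 : N → ℂ) := funext hres0
      rw [this]
      exact irr_classInner_ne θ0.2 θ.2 (fun h => hne (Subtype.ext h))
    subst hθθ0
    have hχ0N : IsIrrCharacter N (fun n : N => (χ0 : G → ℂ) n) := by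
      have : (fun n : N => (χ0 : G → ℂ) n) = (θ0 : N → ℂ) := funext hres0
      rw [this]; exact θ0.2
    -- the map from twists to the fibre
    have htriv : ∀ (β : G ⧸ N →* ℂˣ) (n : N), ((β ((n : G) : G ⧸ N) : ℂˣ) : ℂ) = 1 := by
      intro β n
      have : (((n : G)) : G ⧸ N) = 1 := (QuotientGroup.eq_one_iff (n : G)).2 n.2
      rw [this, map_one, Units.val_one]
    let Φ : (G ⧸ N →* ℂˣ) → {χ : IrrCharacter G // χ ∈ B ∧
        ∀ n : N, (χ : G → ℂ) n = (θ0 : N → ℂ) n} := fun β =>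
      ⟨⟨fun g => (χ0 : G → ℂ) g * ((β (g : G ⧸ N) : ℂˣ) : ℂ), isIrr_twist N _ χ0.2 β⟩, by
        have hres : ∀ n : N, (χ0 : G → ℂ) n * ((β ((n : G) : G ⧸ N) : ℂˣ) : ℂ) =
            (θ0 : N → ℂ) n := by
          intro n
          rw [htriv β n, mul_one, hres0 n]
        refine ⟨(hover _).2 ⟨θ0, hθ0, ?_⟩, hres⟩
        have : (fun n : N => (χ0 : G → ℂ) n * ((β ((n : G) : G ⧸ N) : ℂˣ) : ℂ)) =
            (θ0 : N → ℂ) := funext hres
        show classInner (fun n : N => (χ0 : G → ℂ) n * ((β ((n : G) : G ⧸ N) : ℂˣ) : ℂ))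
          (θ0 : N → ℂ) ≠ 0
        rw [this, irr_classInner_self θ0.2]
        exact one_ne_zero⟩
    have hΦ : Function.Bijective Φ := by
      constructor
      · intro β1 β2 h
        have h' : ∀ g : G, (χ0 : G → ℂ) g * ((β1 (g : G ⧸ N) : ℂˣ) : ℂ) =
            (χ0 : G → ℂ) g * ((β2 (g : G ⧸ N) : ℂˣ) : ℂ) := by
          intro g
          have := congrArg (fun x => ((x.1 : IrrCharacter G) : G → ℂ) g) h
          exact this
        have h1 : β1 * β2⁻¹ = 1 := by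
          apply hfree χ0 hχ0B
          intro g
          rw [MonoidHom.mul_apply, MonoidHom.inv_apply, Units.val_mul, ← mul_assoc, h' g,
            mul_assoc, ← Units.val_mul, mul_inv_cancel, Units.val_one, mul_one]
        exact mul_inv_eq_one.1 h1
      · rintro ⟨χ', hχ'B, hres'⟩
        obtain ⟨β, hβN, hβ⟩ := exists_hom_of_restrict_eq N χ0.2 χ'.2 hχ0N
          (fun n => by rw [hres' n, hres0 n])
        have hker : N ≤ β.ker := fun n hn => by
          rw [MonoidHom.mem_ker]; exact hβN ⟨n, hn⟩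
        refine ⟨QuotientGroup.lift N β hker, ?_⟩
        apply Subtype.ext
        apply Subtype.ext
        funext g
        show (χ0 : G → ℂ) g * ((QuotientGroup.lift N β hker (g : G ⧸ N) : ℂˣ) : ℂ) =
          (χ' : G → ℂ) g
        rw [hβ, QuotientGroup.lift_mk]
        rfl
    rw [← Nat.card_eq_of_bijective Φ hΦ, card_twists N hab]
  refine ⟨hA, hFib, ?_⟩
  -- counting
  have := Fintype.ofFinite (IrrCharacter G)
  have := Fintype.ofFinite (IrrCharacter N)
  let r : B → b := fun χ => ⟨(hA χ.1 χ.2).choose, (hA χ.1 χ.2).choose_spec.1⟩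
  have hr : ∀ χ : B, ∀ n : N, ((χ : IrrCharacter G) : G → ℂ) n = ((r χ : IrrCharacter N) : N → ℂ) n :=
    fun χ => (hA χ.1 χ.2).choose_spec.2
  have hfibre : ∀ θ : b, Nat.card {χ : B // r χ = θ} = N.index := by
    intro θ
    rw [← hFib θ.1 θ.2]
    refine Nat.card_congr ⟨fun χ => ⟨χ.1.1, χ.1.2, fun n => by rw [hr χ.1 n, χ.2]⟩,
      fun χ => ⟨⟨χ.1, χ.2.1⟩, ?_⟩, fun χ => rfl, fun χ => rfl⟩
    apply Subtype.ext
    apply Subtype.ext
    funext n
    rw [← hr ⟨χ.1, χ.2.1⟩ n]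
    exact χ.2.2 n
  rw [Nat.card_congr (Equiv.sigmaFiberEquiv r).symm, Nat.card_sigma]
  simp_rw [hfibre]
  rw [Finset.sum_const, Finset.card_univ, smul_eq_mul, mul_comm, Nat.card_eq_fintype_card]

end fib

end Cfsg.Agent.Lib.H6.BK
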