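import Mathlib
import Cfsg.Agent.Lib.H8.BQ0
import Cfsg.Agent.Lib.H4.BQG5
import Cfsg.Agent.Lib.H6.BQG7
import Cfsg.Agent.Lib.H16.BQQUOT

/-!
# S4719 Part II piece CASE A `card_le_of_abelian` (helper6): exact signature of
`tools/blueprints/S4719_Q_sigs.lean`, on G5 (helper4 `H4.BQG5`), G7 (`H6.BQG7`), QUOT (helper16 `H16.BQQUOT`).
-/

set_option autoImplicit false

universe u

namespace Cfsg.Agent.Lib.H6.BQ

open Subgroup Cfsg.Agent.Lib.H8.BQ

/-- an abelian `G ⊔ V`-invariant subgroup of `G` is a 2-group when `O(G) = 1` (G7 with `T` a Sylow 2-subgroup of `X`) -/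
theorem isPGroup_of_abelian {Γ : Type u} [Group Γ] [Finite Γ] (G V X : Subgroup Γ)
    (hfree : OddFree G V) (hXG : X ≤ G) (hGX : G ≤ normalizer (X : Set Γ))
    (hVX : V ≤ normalizer (X : Set Γ)) (hab : X ≤ centralizer (X : Set Γ)) : IsPGroup 2 X := by
  have : Fact (Nat.Prime 2) := ⟨Nat.prime_two⟩
  let S : Sylow 2 X := default
  set T : Subgroup Γ := (S : Subgroup X).map X.subtype with hTdef
  have hTX : T ≤ X := by
    rw [hTdef]
    exact Subgroup.map_subtype_le _
  have hT : IsPGroup 2 T := by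
    rw [hTdef]
    exact S.2.map _
  have hTcard : Nat.card T = 2 ^ (Nat.card X).factorization 2 := by
    rw [hTdef, Subgroup.card_map_of_injective X.subtype_injective]
    exact Sylow.card_eq_multiplicity S
  have hidx : ¬ 2 ∣ Nat.card X / Nat.card T := by
    rw [hTcard]
    exact Nat.not_dvd_ordCompl Nat.prime_two (Nat.card_pos (α := X)).ne'
  have hTc : T ≤ centralizer (X : Set Γ) := le_trans hTX hab
  have hXT := Cfsg.Agent.Lib.H6.BQ.eq_of_central_sylow G V X T hfree hXG hGX hVX hTX hT hidx hTc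
  rw [hXT]
  exact hT

theorem card_le_of_abelian {Γ : Type u} [Group Γ] [Finite Γ] (G V X : Subgroup Γ) (a n F C : ℕ)
    (hIH : QStmt.{u} a n F) (h : QHyp G V (a + 1) n) (hfree : OddFree G V)
    (hXG : X ≤ G) (hX1 : X ≠ ⊥) (hGX : G ≤ normalizer (X : Set Γ))
    (hVX : V ≤ normalizer (X : Set Γ)) (hab : X ≤ centralizer (X : Set Γ))
    (hC : Nat.card G ≤ C * Nat.card ↥(G ⊓ centralizer (X : Set Γ))) :
    Nat.card G ≤ max (C * n) (C * 2 ^ (a + 1) * F) := by
  have hp2 : IsPGroup 2 X := isPGroup_of_abelian G V X hfree hXG hGX hVX hab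
  set N : Subgroup Γ := G ⊓ centralizer (X : Set Γ) with hNdef
  have hXN : X ≤ N := le_inf hXG hab
  have hNG : N ≤ G := inf_le_left
  by_cases hex : ∃ v ∈ V, v ≠ 1 ∧ v ∈ X
  · -- some `v ≠ 1` of `V` lies in `X`
    obtain ⟨v, hvV, hv1, hvX⟩ := hex
    have hNle : N ≤ G ⊓ centralizer ({v} : Set Γ) := by
      apply le_inf hNG
      intro g hg
      have hg' : g ∈ centralizer (X : Set Γ) := hg.2
      rw [mem_centralizer_iff] at hg' ⊢
      intro z hz
      rw [Set.mem_singleton_iff] at hz
      rw [hz]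
      exact hg' v hvX
    have h1 : Nat.card N ≤ n := le_trans (Subgroup.card_le_of_le hNle) (h.cent v hvV hv1)
    calc Nat.card G ≤ C * Nat.card N := hC
      _ ≤ C * n := Nat.mul_le_mul_left _ h1
      _ ≤ _ := le_max_left _ _
  · -- `V ⊓ X = ⊥`
    have hdisj : V ⊓ X = ⊥ := by
      rw [eq_bot_iff]
      intro v hv
      rw [Subgroup.mem_bot]
      by_contra hv1
      exact hex ⟨v, hv.1, hv1, hv.2⟩
    have hcardX : ∃ k : ℕ, Nat.card X = 2 ^ k := IsPGroup.iff_card.mp hp2
    obtain ⟨k, hk⟩ := hcardX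
    have hk1 : 1 ≤ k := by
      rcases Nat.eq_zero_or_pos k with h0 | h0
      · exfalso
        apply hX1
        rw [h0, pow_zero] at hk
        exact Subgroup.card_eq_one.mp hk
      · exact h0
    have hGpos : Nat.card G ≠ 0 := (Nat.card_pos (α := G)).ne'
    have hNpos : Nat.card N ≠ 0 := (Nat.card_pos (α := N)).ne'
    have hvalN : (Nat.card N).factorization 2 ≤ a + 1 := by
      have hdvd : Nat.card N ∣ Nat.card G := Subgroup.card_dvd_of_le hNG
      have := (Nat.factorization_le_iff_dvd hNpos hGpos).mpr hdvd 2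
      exact le_trans this h.val
    have hqN : QHyp N V (a + 1) n :=
      { norm := Cfsg.Agent.Lib.H4.BQ.le_normalizer_inf_centralizer G X V h.norm hVX
        card4 := h.card4
        exp2 := h.exp2
        val := hvalN
        cent := by
          intro v hvV hv1
          refine le_trans (Subgroup.card_le_of_le ?_) (h.cent v hvV hv1)
          exact inf_le_inf_right _ hNG }
    obtain ⟨Γ', instG, instF, N', V', hq', hcard, -⟩ :=
      Cfsg.Agent.Lib.H16.BQ.exists_quotient N V X (a + 1) n hqN hXN (le_trans hNG hGX) hVX hdisj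
    have hN'pos : Nat.card N' ≠ 0 := (Nat.card_pos (α := N')).ne'
    have hXpos : Nat.card X ≠ 0 := (Nat.card_pos (α := X)).ne'
    have hval' : (Nat.card N').factorization 2 ≤ a := by
      have e : (Nat.card N).factorization 2 =
          (Nat.card N').factorization 2 + (Nat.card X).factorization 2 := by
        rw [← hcard, Nat.factorization_mul hN'pos hXpos]
        rfl
      have eX : (Nat.card X).factorization 2 = k := by
        rw [hk, Nat.Prime.factorization_pow Nat.prime_two]
        simp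
      omega
    have hq'' : QHyp N' V' a n :=
      { norm := hq'.norm, card4 := hq'.card4, exp2 := hq'.exp2, val := hval', cent := hq'.cent }
    have hF : Nat.card N' ≤ F := hIH Γ' N' V' hq''
    have hXle : Nat.card X ≤ 2 ^ (a + 1) := by
      rw [hk]
      apply Nat.pow_le_pow_right (by norm_num)
      -- k ≤ v₂|G| ≤ a + 1
      have hdvd : Nat.card X ∣ Nat.card G := Subgroup.card_dvd_of_le hXG
      have := (Nat.factorization_le_iff_dvd hXpos hGpos).mpr hdvd 2
      have eX : (Nat.card X).factorization 2 = k := by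
        rw [hk, Nat.Prime.factorization_pow Nat.prime_two]
        simp
      have := h.val
      omega
    calc Nat.card G ≤ C * Nat.card N := hC
      _ = C * (Nat.card N' * Nat.card X) := by rw [hcard]
      _ ≤ C * (F * 2 ^ (a + 1)) := Nat.mul_le_mul_left _ (Nat.mul_le_mul hF hXle)
      _ = C * 2 ^ (a + 1) * F := by ring
      _ ≤ _ := le_max_right _ _

end Cfsg.Agent.Lib.H6.BQ
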