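import Mathlib
import Cfsg.Agent.Lib.H12.CYDefs
import Cfsg.Agent.Lib.H6.CYFUS
import Cfsg.Agent.Lib.H15.CYFOUR
import Cfsg.Agent.Lib.H18.S1950RG

/-!
# S1950 (helper6): FOUR = `four_identity` and END1 = `end1`, EXACT statements of helper12's signatures

Same names and statements as `tools/blueprints/S1950_sigs_h12.lean`; namespace `Cfsg.Agent.Lib.H6.CYS`.
`four_identity` is helper15's landed core `H15.CY.four_identity` with `s = univ`, `d i = f i 0`, the two hypotheses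
converted (`a c⁻¹ ∈ E ↔ ∃ t ∈ E, a = c t`; `strN = #filter` by `CYS.strN_eq_card_filter`).
`end1`: FOUR + helper18's `RG.rank_one_rigid` (weights `p m / d ≥ 0`) + `RG.period_not_const`.
-/

set_option autoImplicit false

namespace Cfsg.Agent.Lib.H6.CYS

open Cfsg.Agent.Lib.H12.CY
open scoped ComplexConjugate

variable {p : ℕ} [Fact p.Prime]

theorem four_identity (ψ : AddChar (ZMod p) ℂ) (hψ : ψ.IsPrimitive) (E : Finset (ZMod p))
    (h0 : (0 : ZMod p) ∉ E) (h1 : (1 : ZMod p) ∈ E)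
    (hmul : ∀ s ∈ E, ∀ t ∈ E, s * t ∈ E) (hinv : ∀ s ∈ E, s⁻¹ ∈ E)
    {ι : Type*} [Fintype ι] (f : ι → ZMod p → ℂ) (q : ℂ) (hd : ∀ i, f i 0 ≠ 0)
    (hO : ∀ a c : ZMod p, a ≠ 0 → c ≠ 0 →
      ∑ i, f i a * conj (f i c) = if a * c⁻¹ ∈ E then q else 0)
    (hS : ∀ a b c : ZMod p, a ≠ 0 → b ≠ 0 → c ≠ 0 →
      (E.card : ℂ) * ∑ i, f i a * f i b * conj (f i c) / f i 0 = q * (strN E a b c : ℂ))
    (k a c : ZMod p) (ha : a ≠ 0) (hc : c ≠ 0) :
    (E.card : ℂ) * ∑ i, ((∑ b : ZMod p, f i b * ψ (-(k * b))) / f i 0) * f i a * conj (f i c) =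
      q * gper ψ E (k * a) * conj (gper ψ E (k * c)) := by
  classical
  have heC : (E.card : ℂ) ≠ 0 := by
    have : 0 < E.card := Finset.card_pos.2 ⟨1, h1⟩
    exact_mod_cast this.ne'
  have hiff : ∀ a c : ZMod p, c ≠ 0 → ((∃ t ∈ E, a = c * t) ↔ a * c⁻¹ ∈ E) := by
    intro a c hc
    constructor
    · rintro ⟨t, ht, rfl⟩
      rw [mul_comm c t, mul_assoc, mul_inv_cancel₀ hc, mul_one]; exact ht
    · intro h
      exact ⟨a * c⁻¹, h, by rw [mul_comm a, ← mul_assoc, mul_inv_cancel₀ hc, one_mul]⟩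
  have hcore := Cfsg.Agent.Lib.H15.CY.four_identity (Finset.univ : Finset ι) ψ E h0 h1 hmul hinv f
    (fun i => f i 0) (fun i _ => hd i) q
    (by
      intro a c ha hc inst
      rw [hO a c ha hc]
      exact if_congr (hiff a c hc).symm rfl rfl)
    (by
      intro a b c ha hb hc inst
      have h := hS a b c ha hb hc
      rw [strN_eq_card_filter E h0 hmul hinv a b c hc] at h
      rw [div_mul_eq_mul_div, eq_div_iff heC, ← h, mul_comm])
    k a c ha hc
  have hbr : ∀ i, f i 0 + ∑ b ∈ (Finset.univ : Finset (ZMod p)).erase 0, f i b * ψ (-(k * b)) =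
      ∑ b : ZMod p, f i b * ψ (-(k * b)) := by
    intro i
    have h := Finset.add_sum_erase (Finset.univ : Finset (ZMod p)) (fun b => f i b * ψ (-(k * b)))
      (Finset.mem_univ (0 : ZMod p))
    rw [← h]
    simp
  have hg : ∀ x : ZMod p, ∑ t ∈ E, ψ (t * k * x) = gper ψ E (k * x) := by
    intro x
    unfold gper
    refine Finset.sum_congr rfl fun t _ => ?_
    rw [mul_assoc]
  simp only [hbr, hg] at hcore
  have hsum : ∑ i, ((∑ b : ZMod p, f i b * ψ (-(k * b))) / f i 0) * f i a * conj (f i c) =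
      ∑ i, ((∑ b : ZMod p, f i b * ψ (-(k * b))) / f i 0) * (f i a * conj (f i c)) := by
    refine Finset.sum_congr rfl fun i _ => ?_
    rw [mul_assoc]
  rw [hsum, hcore]
  field_simp

theorem end1 (ψ : AddChar (ZMod p) ℂ) (hψ : ψ.IsPrimitive) (E : Finset (ZMod p))
    (h0 : (0 : ZMod p) ∉ E) (h1 : (1 : ZMod p) ∈ E)
    (hmul : ∀ s ∈ E, ∀ t ∈ E, s * t ∈ E) (hinv : ∀ s ∈ E, s⁻¹ ∈ E)
    (he2 : 2 ≤ E.card) (hep : E.card < p - 1)
    {ι : Type*} [Fintype ι] (f : ι → ZMod p → ℂ) (q : ℕ) (i₀ : ι) (hi₀ : ∀ a, f i₀ a = 1)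
    (hd : ∀ i, ∃ d : ℕ, 0 < d ∧ f i 0 = (d : ℂ))
    (hμ : ∀ i (k : ZMod p), ∃ m : ℕ, ∑ b : ZMod p, f i b * ψ (-(k * b)) = (p : ℂ) * (m : ℂ))
    (hker : ∀ i, i ≠ i₀ → f i 1 ≠ f i 0)
    (hO : ∀ a c : ZMod p, a ≠ 0 → c ≠ 0 →
      ∑ i, f i a * conj (f i c) = if a * c⁻¹ ∈ E then (q : ℂ) else 0)
    (hS : ∀ a b c : ZMod p, a ≠ 0 → b ≠ 0 → c ≠ 0 →
      (E.card : ℂ) * ∑ i, f i a * f i b * conj (f i c) / f i 0 = (q : ℂ) * (strN E a b c : ℂ)) : False := by
  classical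
  have hp : p.Prime := Fact.out
  choose d hdpos hdeq using hd
  choose m hm using hμ
  have hd0 : ∀ i, f i 0 ≠ 0 := by
    intro i
    rw [hdeq i]
    exact_mod_cast (hdpos i).ne'
  have heN : E.card ≠ 0 := by omega
  have heC : (E.card : ℂ) ≠ 0 := by exact_mod_cast heN
  -- the weights
  have hw0 : ∀ (k : ZMod p) (i : ι), (0 : ℝ) ≤ ((p * m i k : ℕ) : ℝ) / (d i : ℝ) :=
    fun k i => div_nonneg (Nat.cast_nonneg _) (Nat.cast_nonneg _)
  have hwC : ∀ (k : ZMod p) (i : ι), (((((p * m i k : ℕ) : ℝ) / (d i : ℝ) : ℝ)) : ℂ) =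
      (∑ b : ZMod p, f i b * ψ (-(k * b))) / f i 0 := by
    intro k i
    rw [hm i k, hdeq i]
    push_cast
    rfl
  have hwpos : ∀ (k : ZMod p) (i : ι), 0 < m i k → (0 : ℝ) < ((p * m i k : ℕ) : ℝ) / (d i : ℝ) := by
    intro k i h
    apply div_pos
    · exact_mod_cast Nat.mul_pos hp.pos h
    · exact_mod_cast hdpos i
  -- FOUR in weight form
  have hfour : ∀ k a c : ZMod p, a ≠ 0 → c ≠ 0 →
      ∑ i, (((((p * m i k : ℕ) : ℝ) / (d i : ℝ) : ℝ)) : ℂ) * f i a * conj (f i c) =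
        ((q : ℂ) / (E.card : ℂ)) * gper ψ E (k * a) * conj (gper ψ E (k * c)) := by
    intro k a c ha hc
    have h := four_identity ψ hψ E h0 h1 hmul hinv f (q : ℂ) hd0 hO hS k a c ha hc
    simp only [← hwC] at h
    rw [div_mul_eq_mul_div, div_mul_eq_mul_div, eq_div_iff heC, ← h, mul_comm]
  -- RANK
  have hrank : ∀ (k : ZMod p) (i : ι), 0 < m i k → ∀ a c : ZMod p, a ≠ 0 → c ≠ 0 →
      f i a * gper ψ E (k * c) = f i c * gper ψ E (k * a) := by
    intro k i hmik a c ha hc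
    exact Cfsg.Agent.Lib.H18.RG.rank_one_rigid (A := {a : ZMod p // a ≠ 0})
      (fun i => ((p * m i k : ℕ) : ℝ) / (d i : ℝ)) (hw0 k)
      (fun i a => f i a.1) (fun a => gper ψ E (k * a.1)) ((q : ℂ) / (E.card : ℂ))
      (fun a c => hfour k a.1 c.1 a.2 c.2) i (hwpos k i hmik) ⟨a, ha⟩ ⟨c, hc⟩
  -- `k = 0`: constant on the nonzero residues
  have hg0 : gper ψ E 0 = (E.card : ℂ) := by
    unfold gper
    simp
  have hconst : ∀ i, 0 < m i 0 → ∀ a : ZMod p, a ≠ 0 → f i a = f i 1 := by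
    intro i hmi a ha
    have h := hrank 0 i hmi a 1 ha one_ne_zero
    rw [zero_mul, zero_mul, hg0] at h
    exact mul_right_cancel₀ heC h
  -- `k ≠ 0` and both multiplicities positive: the constant is zero
  have hzero : ∀ i, 0 < m i 0 → ∀ k : ZMod p, k ≠ 0 → 0 < m i k → f i 1 = 0 := by
    intro i hmi k hk hmik
    by_contra hne
    apply Cfsg.Agent.Lib.H18.RG.period_not_const ψ hψ E h0 (by omega) (by omega) k hk
      (gper ψ E (k * 1))
    intro a ha
    have h := hrank k i hmik a 1 ha one_ne_zero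
    rw [hconst i hmi a ha] at h
    have h2 := mul_left_cancel₀ hne h
    rw [h2]
    unfold gper
    refine Finset.sum_congr rfl fun t _ => ?_
    rw [mul_assoc]
  have hsumψ : ∀ k : ZMod p, k ≠ 0 → ∑ b : ZMod p, ψ (-(k * b)) = 0 := by
    intro k hk
    have h := AddChar.sum_mulShift (-k) hψ
    rw [if_neg (neg_ne_zero.2 hk)] at h
    have h' : ∑ b : ZMod p, ψ (-(k * b)) = ∑ x : ZMod p, ψ (x * -k) :=
      Finset.sum_congr rfl fun b _ => by congr 1; ring
    rw [h', h]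
    simp
  -- `m i 0 > 0`, `f i 1 ≠ 0` forces `i = i₀`
  have hi : ∀ i, 0 < m i 0 → f i 1 ≠ 0 → i = i₀ := by
    intro i hmi hne
    by_contra hii
    apply hker i hii
    have hk1 : m i 1 = 0 := by
      by_contra hpos
      exact hne (hzero i hmi 1 one_ne_zero (Nat.pos_of_ne_zero hpos))
    have h := hm i 1
    rw [hk1, Nat.cast_zero, mul_zero] at h
    have h2 : ∑ b : ZMod p, f i b * ψ (-(1 * b)) = f i 0 - f i 1 := by
      have hb : ∀ b : ZMod p, f i b * ψ (-(1 * b)) =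
          f i 1 * ψ (-(1 * b)) + (if b = 0 then f i 0 - f i 1 else 0) := by
        intro b
        by_cases hb : b = 0
        · subst hb
          rw [if_pos rfl, mul_zero, neg_zero, AddChar.map_zero_eq_one]
          ring
        · rw [hconst i hmi b hb, if_neg hb, add_zero]
      rw [Finset.sum_congr rfl (fun b _ => hb b), Finset.sum_add_distrib, ← Finset.mul_sum,
        hsumψ 1 one_ne_zero, mul_zero, zero_add, Finset.sum_ite_eq' Finset.univ (0 : ZMod p),
        if_pos (Finset.mem_univ _)]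
    rw [h2] at h
    exact (sub_eq_zero.1 h).symm
  -- the identity at `k = 0`, `a = c = 1`
  have hfin := hfour 0 1 1 one_ne_zero one_ne_zero
  have hterm : ∀ i, (((((p * m i 0 : ℕ) : ℝ) / (d i : ℝ) : ℝ)) : ℂ) * f i 1 * conj (f i 1) =
      if i = i₀ then (p : ℂ) else 0 := by
    intro i
    by_cases hii : i = i₀
    · rw [if_pos hii, hwC, hii, hi₀, hi₀]
      simp [hi₀]
    · rw [if_neg hii]
      by_cases hmi : 0 < m i 0
      · have h3 : f i 1 = 0 := by
          by_contra hne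
          exact hii (hi i hmi hne)
        rw [h3]; simp
      · have h3 : m i 0 = 0 := by omega
        rw [h3]; simp
  rw [Finset.sum_congr rfl (fun i _ => hterm i), Finset.sum_ite_eq' Finset.univ i₀,
    if_pos (Finset.mem_univ _), zero_mul, hg0, Complex.conj_natCast] at hfin
  have hpq : (p : ℂ) = (q : ℂ) * (E.card : ℂ) := by
    rw [hfin]; field_simp
  have hN : p = q * E.card := by exact_mod_cast hpq
  have hdvd : E.card ∣ p := Dvd.intro_left q hN.symm
  rcases (Nat.dvd_prime hp).1 hdvd with h | h <;> omega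

end Cfsg.Agent.Lib.H6.CYS
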