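import Cfsg.Agent.Lib.H6.CYPSI
import Cfsg.Agent.S0942
import Cfsg.Agent.Lib.H28.AECONST
import Cfsg.Agent.Lib.H2.AECOUNT

/-!
# S1950 (helper6): LOCAL — the two inputs of `CY.psi_section` for a `p`-element `a` whose centralizer has a
normal `p`-complement

* `const_on_section` : every `χ ∈ B₀` is constant `= χ a` on the `p`-section of `a` (landed S0942).
* `card_section_mul` : `#section(a) * |Q| = |G|` for `C_G(a) = N ⋊ Q` (`Q` a Sylow `p`-subgroup of `C_G(a)`).
* `card_section_mul_sylow` : `#section(a) * |P| = |G|` if moreover a Sylow `p`-subgroup `P` of `G` centralizes `a`.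
* `psi_section_of_npc` : `Ψ_a = |P| * 1_{section(a)}`.
-/

set_option autoImplicit false

namespace Cfsg.Agent.Lib.H6.CY

open Cfsg Cfsg.Agent.Lib.H23

variable {G : Type*} [Group G] [Finite G] {p : ℕ} [Fact p.Prime] {M : Ideal AlgInt}

/-- every `χ ∈ B₀` is constant on the `p`-section of `a`. -/
theorem const_on_section (hM : IsPModular p M) (a : G) (hap : ∃ k : ℕ, orderOf a = p ^ k)
    (hnpc : HasNormalPComplement p ↥(Subgroup.centralizer ({a} : Set G)))
    (χ : IrrCharacter G) (hχ : χ ∈ principalBlock M G) (g : G) (hg : g ∈ pSection p a) :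
    (χ : G → ℂ) g = (χ : G → ℂ) a := by
  obtain ⟨x, ⟨y, hxy, hcomm, _, hy⟩, hconj⟩ := hg
  obtain ⟨c, hc⟩ := isConj_iff.1 hconj
  have hy'C : c * y * c⁻¹ ∈ Subgroup.centralizer ({a} : Set G) := by
    rw [Subgroup.mem_centralizer_singleton_iff]
    have h1 : x * y = y * x := hcomm
    calc c * y * c⁻¹ * a = c * y * c⁻¹ * (c * x * c⁻¹) := by rw [hc]
      _ = c * (y * x) * c⁻¹ := by group
      _ = c * (x * y) * c⁻¹ := by rw [h1]
      _ = (c * x * c⁻¹) * (c * y * c⁻¹) := by group
      _ = a * (c * y * c⁻¹) := by rw [hc]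
  have hy'ord : ¬ p ∣ orderOf (⟨c * y * c⁻¹, hy'C⟩ : ↥(Subgroup.centralizer ({a} : Set G))) := by
    rw [Subgroup.orderOf_mk]
    have : orderOf (c * y * c⁻¹) = orderOf y := by
      have := (MulAut.conj c).orderOf_eq y
      rwa [MulAut.conj_apply] at this
    rwa [this]
  have hcore : c * y * c⁻¹ ∈ centralizerPPrimeCore p a :=
    ⟨⟨c * y * c⁻¹, hy'C⟩, Cfsg.Agent.Lib.H28.AEC.mem_pPrimeCore_of_npc hnpc _ hy'ord, rfl⟩
  have h1 := Cfsg.Agent.S0942.result p M hM a hap (c * y * c⁻¹) hcore χ hχ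
  have h2 : c * g * c⁻¹ = a * (c * y * c⁻¹) := by
    rw [← hxy, ← hc]; group
  rw [← Cfsg.Agent.Lib.H24.irr_conj χ g c, h2, h1]

/-- `#section(a) * |Q| = |G|` for `C_G(a) = N ⋊ Q`. -/
theorem card_section_mul (a : G) (hap : ∃ k : ℕ, orderOf a = p ^ k)
    (Q : Sylow p ↥(Subgroup.centralizer ({a} : Set G)))
    (N : Subgroup ↥(Subgroup.centralizer ({a} : Set G))) [hNn : N.Normal]
    (hNQ : N.IsComplement' (Q : Subgroup ↥(Subgroup.centralizer ({a} : Set G)))) :
    Nat.card (pSection p a) *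
      Nat.card (Q : Subgroup ↥(Subgroup.centralizer ({a} : Set G))) = Nat.card G := by
  classical
  have hp := (Fact.out : p.Prime)
  have hcardC : Nat.card N * Nat.card (Q : Subgroup ↥(Subgroup.centralizer ({a} : Set G))) =
      Nat.card ↥(Subgroup.centralizer ({a} : Set G)) := hNQ.card_mul_card
  have hNreg : ∀ v : ↥(Subgroup.centralizer ({a} : Set G)), v ∈ N ↔ ¬ p ∣ orderOf v :=
    fun v => Cfsg.Agent.Lib.H2.AE.mem_iff_not_dvd_orderOf_of_isComplement' Q N hNQ v
  -- a chosen presentation of each element of the section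
  have hpres : ∀ g : pSection p a, ∃ hv : G × N,
      (g : G) = hv.1 * (a * ((hv.2 : ↥(Subgroup.centralizer ({a} : Set G))) : G)) * hv.1⁻¹ := by
    rintro ⟨g, u, ⟨y, huy, hcomm, _, hy⟩, hconj⟩
    obtain ⟨c, hc⟩ := isConj_iff.1 hconj
    -- `u = c⁻¹ a c`, `h = c⁻¹`, `v = c y c⁻¹`
    have hvC : c * y * c⁻¹ ∈ Subgroup.centralizer ({a} : Set G) := by
      rw [Subgroup.mem_centralizer_singleton_iff]
      have h1 : u * y = y * u := hcomm
      calc c * y * c⁻¹ * a = c * y * c⁻¹ * (c * u * c⁻¹) := by rw [hc]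
        _ = c * (y * u) * c⁻¹ := by group
        _ = c * (u * y) * c⁻¹ := by rw [h1]
        _ = (c * u * c⁻¹) * (c * y * c⁻¹) := by group
        _ = a * (c * y * c⁻¹) := by rw [hc]
    have hvord : ¬ p ∣ orderOf (⟨c * y * c⁻¹, hvC⟩ : ↥(Subgroup.centralizer ({a} : Set G))) := by
      rw [Subgroup.orderOf_mk]
      have : orderOf (c * y * c⁻¹) = orderOf y := by
        have := (MulAut.conj c).orderOf_eq y
        rwa [MulAut.conj_apply] at this
      rwa [this]
    refine ⟨(c⁻¹, ⟨⟨c * y * c⁻¹, hvC⟩, (hNreg _).2 hvord⟩), ?_⟩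
    show g = c⁻¹ * (a * (c * y * c⁻¹)) * c⁻¹⁻¹
    rw [← huy, ← hc]
    group
  choose pres hpresEq using hpres
  -- facts on a presentation
  have hppart : ∀ (h : G) (v : N),
      IsPPart p (h * (a * ((v : ↥(Subgroup.centralizer ({a} : Set G))) : G)) * h⁻¹)
        (h * a * h⁻¹) := by
    intro h v
    have hv1 : ¬ p ∣ orderOf ((v : ↥(Subgroup.centralizer ({a} : Set G))) : G) := by
      rw [Subgroup.orderOf_coe]
      exact (hNreg (v : ↥(Subgroup.centralizer ({a} : Set G)))).1 v.2
    have hcomm : Commute a ((v : ↥(Subgroup.centralizer ({a} : Set G))) : G) := by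
      have := Subgroup.mem_centralizer_singleton_iff.1
        (v : ↥(Subgroup.centralizer ({a} : Set G))).2
      exact this.symm
    have h0 : IsPPart p (a * ((v : ↥(Subgroup.centralizer ({a} : Set G))) : G)) a :=
      isPPart_mul hcomm hap hv1
    exact IsPPart.conj h0 h
  have hmem : ∀ (h : G) (v : N),
      h * (a * ((v : ↥(Subgroup.centralizer ({a} : Set G))) : G)) * h⁻¹ ∈ pSection p a := by
    intro h v
    refine ⟨h * a * h⁻¹, hppart h v, isConj_iff.2 ⟨h⁻¹, ?_⟩⟩
    group
  -- the bijection `S × C → G × N`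
  let Φ : pSection p a × ↥(Subgroup.centralizer ({a} : Set G)) → G × N :=
    fun gc => ((pres gc.1).1 * (gc.2 : G),
      ⟨gc.2⁻¹ * ((pres gc.1).2 : ↥(Subgroup.centralizer ({a} : Set G))) * gc.2, by
        have := hNn.conj_mem _ (pres gc.1).2.2 gc.2⁻¹
        rwa [inv_inv] at this⟩)
  have hΦval : ∀ gc, (Φ gc).1 * (a * (((Φ gc).2 : ↥(Subgroup.centralizer ({a} : Set G))) : G)) *
      (Φ gc).1⁻¹ = (gc.1 : G) := by
    rintro ⟨g, c⟩
    have hc : (c : G) * a = a * (c : G) := Subgroup.mem_centralizer_singleton_iff.1 c.2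
    show (pres g).1 * (c : G) * (a * ((c : G)⁻¹ * (((pres g).2 : ↥(Subgroup.centralizer ({a} : Set G))) : G) * (c : G))) *
      ((pres g).1 * (c : G))⁻¹ = (g : G)
    rw [hpresEq g]
    have h2 : (c : G) * a * (c : G)⁻¹ = a := by rw [hc]; group
    calc (pres g).1 * (c : G) * (a * ((c : G)⁻¹ * (((pres g).2 : ↥(Subgroup.centralizer ({a} : Set G))) : G) * (c : G))) *
        ((pres g).1 * (c : G))⁻¹
        = (pres g).1 * (((c : G) * a * (c : G)⁻¹) * (((pres g).2 : ↥(Subgroup.centralizer ({a} : Set G))) : G)) *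
          (pres g).1⁻¹ := by group
      _ = _ := by rw [h2]
  have hΦbij : Function.Bijective Φ := by
    constructor
    · rintro ⟨g, c⟩ ⟨g', c'⟩ heq
      have hg : g = g' := by
        apply Subtype.ext
        rw [← hΦval (g, c), ← hΦval (g', c'), heq]
      subst hg
      have h1 : (pres g).1 * (c : G) = (pres g).1 * (c' : G) := congrArg Prod.fst heq
      have h2 : (c : G) = (c' : G) := mul_left_cancel h1
      rw [Subtype.ext h2]
    · rintro ⟨h, v⟩
      have hS := hmem h v
      set g : pSection p a :=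
        ⟨h * (a * ((v : ↥(Subgroup.centralizer ({a} : Set G))) : G)) * h⁻¹, hS⟩ with hg
      have e1 : (g : G) = (pres g).1 * (a * (((pres g).2 : ↥(Subgroup.centralizer ({a} : Set G))) : G)) *
          (pres g).1⁻¹ := hpresEq g
      have pp1 := hppart h v
      have pp2 := hppart (pres g).1 (pres g).2
      rw [← e1] at pp2
      have hu : h * a * h⁻¹ = (pres g).1 * a * (pres g).1⁻¹ := IsPPart.unique hp pp1 pp2
      have hcC : (pres g).1⁻¹ * h ∈ Subgroup.centralizer ({a} : Set G) := by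
        rw [Subgroup.mem_centralizer_singleton_iff]
        calc (pres g).1⁻¹ * h * a = (pres g).1⁻¹ * (h * a * h⁻¹) * h := by group
          _ = (pres g).1⁻¹ * ((pres g).1 * a * (pres g).1⁻¹) * h := by rw [hu]
          _ = a * ((pres g).1⁻¹ * h) := by group
      refine ⟨(g, ⟨(pres g).1⁻¹ * h, hcC⟩), ?_⟩
      have hfst : (pres g).1 * ((pres g).1⁻¹ * h) = h := by group
      have hv : ((pres g).1⁻¹ * h)⁻¹ * (((pres g).2 : ↥(Subgroup.centralizer ({a} : Set G))) : G) *
          ((pres g).1⁻¹ * h) = ((v : ↥(Subgroup.centralizer ({a} : Set G))) : G) := by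
        have e2 : h * (a * ((v : ↥(Subgroup.centralizer ({a} : Set G))) : G)) * h⁻¹ =
            (pres g).1 * (a * (((pres g).2 : ↥(Subgroup.centralizer ({a} : Set G))) : G)) *
              (pres g).1⁻¹ := e1
        have e3 : h * a * h⁻¹ * (h * ((v : ↥(Subgroup.centralizer ({a} : Set G))) : G) * h⁻¹) =
            (pres g).1 * a * (pres g).1⁻¹ *
              ((pres g).1 * (((pres g).2 : ↥(Subgroup.centralizer ({a} : Set G))) : G) * (pres g).1⁻¹) := by
          have l1 : h * a * h⁻¹ * (h * ((v : ↥(Subgroup.centralizer ({a} : Set G))) : G) * h⁻¹) =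
              h * (a * ((v : ↥(Subgroup.centralizer ({a} : Set G))) : G)) * h⁻¹ := by group
          have l2 : (pres g).1 * a * (pres g).1⁻¹ *
              ((pres g).1 * (((pres g).2 : ↥(Subgroup.centralizer ({a} : Set G))) : G) * (pres g).1⁻¹) =
              (pres g).1 * (a * (((pres g).2 : ↥(Subgroup.centralizer ({a} : Set G))) : G)) *
                (pres g).1⁻¹ := by group
          rw [l1, l2, e2]
        rw [hu] at e3
        have e4 := mul_left_cancel e3
        calc ((pres g).1⁻¹ * h)⁻¹ * (((pres g).2 : ↥(Subgroup.centralizer ({a} : Set G))) : G) *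
            ((pres g).1⁻¹ * h)
            = h⁻¹ * ((pres g).1 * (((pres g).2 : ↥(Subgroup.centralizer ({a} : Set G))) : G) *
              (pres g).1⁻¹) * h := by group
          _ = h⁻¹ * (h * ((v : ↥(Subgroup.centralizer ({a} : Set G))) : G) * h⁻¹) * h := by rw [e4]
          _ = _ := by group
      apply Prod.ext
      · exact hfst
      · apply Subtype.ext
        apply Subtype.ext
        exact hv
  have hcount := Nat.card_eq_of_bijective Φ hΦbij
  rw [Nat.card_prod, Nat.card_prod] at hcount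
  have hN0 : 0 < Nat.card N := Nat.card_pos
  have : Nat.card (pSection p a) *
      Nat.card (Q : Subgroup ↥(Subgroup.centralizer ({a} : Set G))) * Nat.card N =
      Nat.card G * Nat.card N := by
    rw [← hcount, ← hcardC]; ring
  exact Nat.eq_of_mul_eq_mul_right hN0 this

/-- `#section(a) * |P| = |G|` when a Sylow `p`-subgroup `P` of `G` centralizes `a`. -/
theorem card_section_mul_sylow (a : G) (hap : ∃ k : ℕ, orderOf a = p ^ k)
    (hnpc : HasNormalPComplement p ↥(Subgroup.centralizer ({a} : Set G)))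
    (P : Sylow p G) (hPC : (P : Subgroup G) ≤ Subgroup.centralizer ({a} : Set G)) :
    Nat.card (pSection p a) * Nat.card (P : Subgroup G) = Nat.card G := by
  have hp := (Fact.out : p.Prime)
  obtain ⟨Q, N, hNn, hNQ⟩ := hnpc
  have := hNn
  have hQP : Nat.card (Q : Subgroup ↥(Subgroup.centralizer ({a} : Set G))) =
      Nat.card (P : Subgroup G) := by
    rw [Q.card_eq_multiplicity, P.card_eq_multiplicity]
    congr 1
    have h1 : Nat.card (P : Subgroup G) ∣ Nat.card ↥(Subgroup.centralizer ({a} : Set G)) :=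
      Subgroup.card_dvd_of_le hPC
    have h2 : Nat.card ↥(Subgroup.centralizer ({a} : Set G)) ∣ Nat.card G :=
      Subgroup.card_subgroup_dvd_card _
    have hC0 : Nat.card ↥(Subgroup.centralizer ({a} : Set G)) ≠ 0 := Nat.card_pos.ne'
    have hG0 : Nat.card G ≠ 0 := Nat.card_pos.ne'
    apply le_antisymm
    · exact (Nat.factorization_le_iff_dvd hC0 hG0).2 h2 p
    · rw [P.card_eq_multiplicity] at h1
      exact (hp.pow_dvd_iff_le_factorization hC0).1 h1
  rw [← hQP]
  exact card_section_mul a hap Q N hNQ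

/-- **`Ψ_a = |P| · 1_{section(a)}`** for a `p`-element `a` centralized by the Sylow `p`-subgroup `P` and with
`C_G(a)` having a normal `p`-complement. -/
theorem psi_section_of_npc (hM : IsPModular p M) (a : G) (hap : ∃ k : ℕ, orderOf a = p ^ k)
    (hnpc : HasNormalPComplement p ↥(Subgroup.centralizer ({a} : Set G)))
    (P : Sylow p G) (hPC : (P : Subgroup G) ≤ Subgroup.centralizer ({a} : Set G))
    (g : G) [Decidable (g ∈ pSection p a)] :
    ∑ᶠ χ ∈ principalBlock M G, (χ : G → ℂ) g * (χ : G → ℂ) a⁻¹ =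
      if g ∈ pSection p a then (Nat.card (P : Subgroup G) : ℂ) else 0 :=
  psi_section hM a hap (Nat.card (P : Subgroup G))
    (fun χ hχ g hg => const_on_section hM a hap hnpc χ hχ g hg)
    (card_section_mul_sylow a hap hnpc P hPC) g

/-- the cube count with the two inputs discharged. -/
theorem cube_count_of_npc [Fintype G] [DecidableEq G] (hM : IsPModular p M) (a : G)
    (hap : ∃ k : ℕ, orderOf a = p ^ k)
    (hnpc : HasNormalPComplement p ↥(Subgroup.centralizer ({a} : Set G)))
    (P : Sylow p G) (hPC : (P : Subgroup G) ≤ Subgroup.centralizer ({a} : Set G))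
    [DecidablePred (· ∈ pSection p a)] (b x : G) :
    (Nat.card (P : Subgroup G) : ℂ) *
        (((Cfsg.Agent.Lib.H9.AECS.cls b).filter (fun y => x * y ∈ pSection p a)).card : ℂ) =
      ((Cfsg.Agent.Lib.H9.AECS.cls b).card : ℂ) *
        ∑ᶠ χ ∈ principalBlock M G, (χ : G → ℂ) a⁻¹ *
          ((χ : G → ℂ) b * (χ : G → ℂ) x / (χ : G → ℂ) 1) :=
  cube_count hM a hap (Nat.card (P : Subgroup G))
    (fun χ hχ g hg => const_on_section hM a hap hnpc χ hχ g hg)
    (card_section_mul_sylow a hap hnpc P hPC) b x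

end Cfsg.Agent.Lib.H6.CY
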