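import Cfsg.Agent.Lib.H6.PermOrb
import Cfsg.Agent.Lib.H17.Sgs

set_option autoImplicit false

/-!
# Lower bounds for the order of a group from a chain of stabilisers, for tables with inverse letters

At each level the letters `xlo, …, xlo + cnt - 1` fix the base points chosen so far and connect
the `m` points of a mask containing the next base point, so the pointwise stabiliser of the
shorter list has at least `m` times as many elements as that of the longer one.
-/

namespace Cfsg.Agent.Lib.H6.Chain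

open Cfsg.Agent.Lib.H17.CosetCert Cfsg.Agent.Lib.H6.PermTab Cfsg.Agent.Lib.H17.Sgs

variable (T : ℕ → ℕ → ℕ) (R : ℕ → ℕ) (iv : ℕ → ℕ) (ng n : ℕ)

/-- **One level of the chain.** -/
theorem step' {G : Type*} [Group G] [Finite G] (φ : G →* Equiv.Perm (Fin n))
    (hg : Good T iv ng n) (bs : List ℕ) (b : ℕ) (hb : b < n) (mask xlo cnt m : ℕ)
    (hx : xlo + cnt ≤ ng)
    (hφ : ∀ x, xlo ≤ x → x < xlo + cnt → ∃ g : G, φ g = σ T iv ng n x)
    (hfix : ∀ x, xlo ≤ x → x < xlo + cnt → ∀ c ∈ bs, T x c = c)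
    (hbase : tb mask b = true)
    (hs : ∀ i < n, tb mask i = true →
      i = b ∨ ∃ x, xlo ≤ x ∧ x < xlo + cnt ∧ tb mask (T x i) = true ∧ R (T x i) < R i)
    (hcount : countBits mask n 0 = m) :
    m * Nat.card (stabL φ (b :: bs)) ≤ Nat.card (stabL φ bs) := by
  classical
  have hφ' : ∀ x, xlo ≤ x → x < xlo + cnt → ∃ g ∈ stabL φ bs, φ g = σ T iv ng n x := by
    intro x h1 h2
    obtain ⟨g, hgx⟩ := hφ x h1 h2
    refine ⟨g, ?_, hgx⟩
    intro c hc hcn
    rw [hgx]
    apply Fin.ext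
    rw [σ_apply T iv ng n hg x (by omega) ⟨c, hcn⟩]
    exact hfix x h1 h2 c hc
  have key := orb_to_root T R iv ng n φ hg (stabL φ bs) mask b xlo cnt hb hx hφ' hs
  let O : Type := {i : Fin n // tb mask i = true}
  have hsel : ∀ i : O, ∃ g : stabL φ bs, φ (g : G) i.1 = ⟨b, hb⟩ := by
    intro i
    obtain ⟨g, hgm, hgi⟩ := key i.1 i.2
    exact ⟨⟨g, hgm⟩, hgi⟩
  choose gsel hgsel using hsel
  let f : O × stabL φ (b :: bs) → stabL φ bs :=
    fun p => (gsel p.1)⁻¹ * ⟨(p.2 : G), stabL_cons_le φ b bs p.2.2⟩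
  have hval : ∀ (i : O) (h : stabL φ (b :: bs)),
      φ (((gsel i)⁻¹ * ⟨(h : G), stabL_cons_le φ b bs h.2⟩ : stabL φ bs) : G) ⟨b, hb⟩ = i.1 := by
    intro i h
    have : (((gsel i)⁻¹ * ⟨(h : G), stabL_cons_le φ b bs h.2⟩ : stabL φ bs) : G) =
        ((gsel i : G))⁻¹ * (h : G) := rfl
    rw [this, map_mul, Equiv.Perm.mul_apply, stabL_cons_fix φ b bs hb h h.2, map_inv,
      Equiv.Perm.inv_eq_iff_eq, hgsel]
  have hf : Function.Injective f := by
    rintro ⟨i, h⟩ ⟨i', h'⟩ heq
    have hi : i = i' := by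
      apply Subtype.ext
      rw [← hval i h, ← hval i' h']
      exact congrArg (fun q : stabL φ bs => φ (q : G) ⟨b, hb⟩) heq
    subst hi
    have h2 : (⟨(h : G), stabL_cons_le φ b bs h.2⟩ : stabL φ bs) =
        ⟨(h' : G), stabL_cons_le φ b bs h'.2⟩ := mul_left_cancel heq
    have h3 : (h : G) = (h' : G) := congrArg (fun q : stabL φ bs => (q : G)) h2
    exact Prod.ext rfl (Subtype.ext h3)
  have hcard := Nat.card_le_card_of_injective f hf
  rw [Nat.card_prod] at hcard
  have hO : Nat.card O = m := by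
    rw [← hcount, ← ncard_mask]
    exact (Nat.card_coe_set_eq {i : Fin n | tb mask i = true})
  rw [hO] at hcard
  exact hcard

/-- a letter that fixes a point gives an element of the stabiliser of the list -/
theorem mem_stabL_of_fix {G : Type*} [Group G] (φ : G →* Equiv.Perm (Fin n))
    (hg : Good T iv ng n) (bs : List ℕ) (x : ℕ) (hx : x < ng) (g : G)
    (hgx : φ g = σ T iv ng n x) (hfix : ∀ c ∈ bs, T x c = c) : g ∈ stabL φ bs := by
  intro c hc hcn
  rw [hgx]
  apply Fin.ext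
  rw [σ_apply T iv ng n hg x hx ⟨c, hcn⟩]
  exact hfix c hc

end Cfsg.Agent.Lib.H6.Chain
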