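import Mathlib
import Cfsg.Prelude.Def_ChevStructure
import Cfsg.Prelude.Def_ChevG2
import Cfsg.Prelude.Def_ChevB2
import Cfsg.Prelude.Def_ChevD4
import Cfsg.Prelude.Def_ChevF4
import Cfsg.Prelude.Def_ChevE6
import Cfsg.Prelude.Def_ChevE7
import Cfsg.Prelude.Def_ChevE8

set_option autoImplicit false

namespace Cfsg.Agent.Lib.H6.Chev

open Cfsg.Lie

/-- table check: every root index is positive or negative, `neg` exchanges positive and negative roots and is an
involution. -/
def signOK (D : ChevalleyDatum) : Bool :=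
  (List.range D.nroots).all fun r =>
    (decide (D.IsPosRoot r) || decide (D.IsNegRoot r)) &&
    (decide (D.neg r < D.nroots)) && (D.neg (D.neg r) == r) &&
    (!(decide (D.IsNegRoot r)) || decide (D.IsPosRoot (D.neg r))) &&
    (!(decide (D.IsPosRoot r)) || decide (D.IsNegRoot (D.neg r)))

set_option maxRecDepth 100000 in
theorem signOK_G2 : signOK chevG2 = true := by decide +kernel
set_option maxRecDepth 100000 in
theorem signOK_B2 : signOK chevB2 = true := by decide +kernel
set_option maxRecDepth 100000 in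
theorem signOK_D4 : signOK chevD4 = true := by decide +kernel
set_option maxRecDepth 100000 in
theorem signOK_F4 : signOK chevF4 = true := by decide +kernel
set_option maxRecDepth 100000 in
theorem signOK_E6 : signOK chevE6 = true := by decide +kernel
set_option maxRecDepth 100000 in
theorem signOK_E7 : signOK chevE7 = true := by decide +kernel
set_option maxRecDepth 100000 in
theorem signOK_E8 : signOK chevE8 = true := by decide +kernel

theorem signOK_of_mem {D : ChevalleyDatum}
    (hD : D ∈ [chevG2, chevB2, chevD4, chevF4, chevE6, chevE7, chevE8]) : signOK D = true := by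
  simp only [List.mem_cons, List.not_mem_nil, or_false] at hD
  rcases hD with rfl | rfl | rfl | rfl | rfl | rfl | rfl
  exacts [signOK_G2, signOK_B2, signOK_D4, signOK_F4, signOK_E6, signOK_E7, signOK_E8]

theorem signOK_spec {D : ChevalleyDatum} (h : signOK D = true) {r : ℕ} (hr : r < D.nroots) :
    (D.IsPosRoot r ∨ D.IsNegRoot r) ∧ D.neg r < D.nroots ∧ D.neg (D.neg r) = r ∧
      (D.IsNegRoot r → D.IsPosRoot (D.neg r)) ∧ (D.IsPosRoot r → D.IsNegRoot (D.neg r)) := by
  unfold signOK at h
  rw [List.all_eq_true] at h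
  have := h r (List.mem_range.mpr hr)
  simp only [Bool.and_eq_true, Bool.or_eq_true, decide_eq_true_eq, beq_iff_eq, Bool.not_eq_true',
    decide_eq_false_iff_not] at this
  obtain ⟨⟨⟨⟨h1, h2⟩, h3⟩, h4⟩, h5⟩ := this
  refine ⟨h1, h2, h3, ?_, ?_⟩
  · intro hn
    rcases h4 with h4 | h4
    · exact absurd hn h4
    · exact h4
  · intro hp
    rcases h5 with h5 | h5
    · exact absurd hp h5
    · exact h5

theorem x_of_lt {F : Type*} [Field F] (D : ChevalleyDatum) {r : ℕ} (hr : r < D.nroots) (t : F) :
    D.x F r t = D.xMat F ⟨r, hr⟩ t := by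
  unfold ChevalleyDatum.x
  rw [dif_pos hr]

theorem posUnipotent_le_group {F : Type*} [Field F] (D : ChevalleyDatum) :
    D.posUnipotent F ≤ D.group F := by
  unfold ChevalleyDatum.posUnipotent ChevalleyDatum.group
  apply Subgroup.closure_mono
  rintro g ⟨r, t, hr, hg⟩
  exact ⟨⟨r, hr.1⟩, t, by rw [hg, x_of_lt D hr.1]⟩

theorem negUnipotent_le_group {F : Type*} [Field F] (D : ChevalleyDatum) :
    D.negUnipotent F ≤ D.group F := by
  unfold ChevalleyDatum.negUnipotent ChevalleyDatum.group
  apply Subgroup.closure_mono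
  rintro g ⟨r, t, hr, hg⟩
  exact ⟨⟨r, hr.1⟩, t, by rw [hg, x_of_lt D hr.1]⟩

end Cfsg.Agent.Lib.H6.Chev
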