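import Mathlib
import Cfsg.Agent.Lib.H6.CoxLB1
import Cfsg.Agent.Lib.H6.CoxLB2
import Cfsg.Agent.Lib.H6.CoxLB3
import Cfsg.Agent.Lib.H6.CoxLB4

set_option autoImplicit false

namespace Cfsg.Agent.Lib.H6.CoxLB

open Equiv

/-- every point fixed by all generators in `J` lies in `F` -/
def fixOK (tbl : List (List ℕ)) (d : ℕ) (J F : List ℕ) : Bool :=
  (List.range d).all fun x => !(J.all fun a => actN tbl a x == x) || F.contains x

/-- the generators in `J` fix the point `0` -/
def stabOK (tbl : List (List ℕ)) (n : ℕ) (J : List ℕ) : Bool :=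
  J.all fun a => Nat.blt a n && (actN tbl a 0 == 0)

/-- the word with index `y` maps the point `0` to the point `y` -/
def transOK (tbl : List (List ℕ)) (d n : ℕ) (words : List (List ℕ)) : Bool :=
  (List.range d).all fun y =>
    (actWord tbl (words.getD y []) 0 == y) && (words.getD y []).all (fun a => Nat.blt a n)

/-- the `t`-th power of the word `w` commutes with all generators -/
def commOK (tbl : List (List ℕ)) (d n : ℕ) (w : List ℕ) (t : ℕ) : Bool :=
  (List.range d).all fun x => (List.range n).all fun a =>
    actN tbl a ((actWord tbl w)^[t] x) == (actWord tbl w)^[t] (actN tbl a x)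

variable {tbl : List (List ℕ)} {d n : ℕ}

section center

variable (M : CoxeterMatrix (Fin n)) (hinv : invOK tbl d n = true)
  {m : ℕ → ℕ → ℕ} (hm : ∀ a b : Fin n, m a.val b.val = M.M a b)
  (hrels : relsOK tbl d n m = true) (hinj : Function.Injective (rho M hinv hm hrels))
  (hd : 0 < d) {J F : List ℕ} {words : List (List ℕ)}
  (hstab : stabOK tbl n J = true) (hfix : fixOK tbl d J F = true)
  (htrans : transOK tbl d n words = true)

include hinj htrans in
/-- a central element fixing the base point is trivial -/
theorem center_eq_one_of_fix {z : M.Group} (hz : z ∈ Subgroup.center M.Group)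
    (h0 : rho M hinv hm hrels z ⟨0, hd⟩ = ⟨0, hd⟩) : z = 1 := by
  apply hinj
  rw [map_one]
  refine Equiv.ext (fun y => ?_)
  rw [Perm.one_apply]
  unfold transOK at htrans
  simp only [List.all_eq_true, List.mem_range, Bool.and_eq_true, beq_iff_eq, Nat.blt_eq] at htrans
  obtain ⟨hw1, hw2⟩ := htrans y.val y.isLt
  -- the group element carrying 0 to y
  let w : M.Group := ((words.getD y.val []).map
    (fun a => if h : a < n then M.simple ⟨a, h⟩ else 1)).prod
  have hrw : rho M hinv hm hrels w = ((words.getD y.val []).map (pPerm hinv)).prod := by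
    show rho M hinv hm hrels (((words.getD y.val []).map
      (fun a => if h : a < n then M.simple ⟨a, h⟩ else 1)).prod) = _
    rw [map_list_prod, List.map_map]
    congr 1
    apply List.map_congr_left
    intro a ha
    have han := hw2 a ha
    show rho M hinv hm hrels (if h : a < n then M.simple ⟨a, h⟩ else 1) = _
    rw [dif_pos han]
    exact rho_simple M hinv hm hrels ⟨a, han⟩
  have hy : rho M hinv hm hrels w ⟨0, hd⟩ = y := by
    apply Fin.ext
    rw [hrw, prod_val hinv hw2]
    exact hw1
  have hcomm : z * w = w * z := (Subgroup.mem_center_iff.mp hz w).symm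
  calc rho M hinv hm hrels z y
      = rho M hinv hm hrels z (rho M hinv hm hrels w ⟨0, hd⟩) := by rw [hy]
    _ = rho M hinv hm hrels (z * w) ⟨0, hd⟩ := by rw [map_mul, Perm.mul_apply]
    _ = rho M hinv hm hrels (w * z) ⟨0, hd⟩ := by rw [hcomm]
    _ = rho M hinv hm hrels w (rho M hinv hm hrels z ⟨0, hd⟩) := by
        rw [map_mul, Perm.mul_apply]
    _ = y := by rw [h0, hy]

include hstab hfix in
/-- a central element maps the base point into `F` -/
theorem center_mem_fix {z : M.Group} (hz : z ∈ Subgroup.center M.Group) :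
    (rho M hinv hm hrels z ⟨0, hd⟩).val ∈ F := by
  unfold fixOK at hfix
  simp only [List.all_eq_true, List.mem_range, Bool.or_eq_true, Bool.not_eq_eq_eq_not,
    Bool.not_true, List.contains_iff_mem] at hfix
  unfold stabOK at hstab
  simp only [List.all_eq_true, Bool.and_eq_true, Nat.blt_eq, beq_iff_eq] at hstab
  rcases hfix (rho M hinv hm hrels z ⟨0, hd⟩).val (Fin.isLt _) with h | h
  · exfalso
    rw [← Bool.not_eq_true, List.all_eq_true] at h
    apply h
    intro a ha
    rw [beq_iff_eq]
    obtain ⟨han, ha0⟩ := hstab a ha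
    have hcomm : M.simple ⟨a, han⟩ * z = z * M.simple ⟨a, han⟩ :=
      Subgroup.mem_center_iff.mp hz _
    have h1 : rho M hinv hm hrels (M.simple ⟨a, han⟩) (rho M hinv hm hrels z ⟨0, hd⟩) =
        rho M hinv hm hrels z ⟨0, hd⟩ := by
      rw [← Perm.mul_apply, ← map_mul, hcomm, map_mul, Perm.mul_apply]
      congr 1
      apply Fin.ext
      rw [rho_simple, pPerm_val hinv han]
      exact ha0
    have h2 := congrArg Fin.val h1
    rw [rho_simple, pPerm_val hinv han] at h2
    exact h2
  · exact h

include hinj htrans hstab hfix hd in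
/-- if only the base point is fixed by the stabilizing generators, the centre is trivial -/
theorem center_eq_bot (hF : F = [0]) : Subgroup.center M.Group = ⊥ := by
  rw [Subgroup.eq_bot_iff_forall]
  intro z hz
  apply center_eq_one_of_fix M hinv hm hrels hinj hd htrans hz
  have := center_mem_fix M hinv hm hrels hd hstab hfix hz
  rw [hF, List.mem_singleton] at this
  exact Fin.ext this

include hinj htrans hstab hfix hd in
/-- if two points are fixed by the stabilizing generators and `ζ` is a nontrivial central
element, the centre is `{1, ζ}` -/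
theorem center_eq_pair {x1 : ℕ} (hF : F = [0, x1]) {ζ : M.Group}
    (hζ : ζ ∈ Subgroup.center M.Group) (hζ1 : ζ ≠ 1) {z : M.Group}
    (hz : z ∈ Subgroup.center M.Group) : z = 1 ∨ z = ζ := by
  have hzF := center_mem_fix M hinv hm hrels hd hstab hfix hz
  have hζF := center_mem_fix M hinv hm hrels hd hstab hfix hζ
  rw [hF] at hzF hζF
  simp only [List.mem_cons, List.not_mem_nil, or_false] at hzF hζF
  have hζ0 : (rho M hinv hm hrels ζ ⟨0, hd⟩).val = x1 := by
    rcases hζF with h | h
    · exact absurd (center_eq_one_of_fix M hinv hm hrels hinj hd htrans hζ (Fin.ext h)) hζ1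
    · exact h
  rcases hzF with h | h
  · exact Or.inl (center_eq_one_of_fix M hinv hm hrels hinj hd htrans hz (Fin.ext h))
  · right
    have hu : ζ⁻¹ * z ∈ Subgroup.center M.Group := mul_mem (inv_mem hζ) hz
    have h1 : rho M hinv hm hrels (ζ⁻¹ * z) ⟨0, hd⟩ = ⟨0, hd⟩ := by
      rw [map_mul, Perm.mul_apply, map_inv]
      have e : rho M hinv hm hrels z ⟨0, hd⟩ = rho M hinv hm hrels ζ ⟨0, hd⟩ :=
        Fin.ext (h.trans hζ0.symm)
      rw [e]
      exact (rho M hinv hm hrels ζ).symm_apply_apply _
    have h2 := center_eq_one_of_fix M hinv hm hrels hinj hd htrans hu h1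
    exact (inv_mul_eq_one.mp h2).symm

end center

end Cfsg.Agent.Lib.H6.CoxLB
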