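import Mathlib
import Cfsg.Agent.Lib.H6.CoxLB2

set_option autoImplicit false

namespace Cfsg.Agent.Lib.H6.CoxLB.Data

open Cfsg.Agent.Lib.H6.CoxLB

def mLB2 : List (List ℕ) := [[1, 4], [4, 1]]

def tblB2 : List (List ℕ) :=
  [[0, 1], [2, 0], [1, 3], [3, 2]]

def levelsB2 : List Level :=
  [{ gens := [0], x := 1, words :=
     [[], [0]] },
   { gens := [0, 1], x := 0, words :=
     [[], [1], [0, 1], [1, 0, 1]] }]

set_option maxRecDepth 1000000 in
theorem invOKB2 : invOK tblB2 4 2 = true := by decide +kernel

set_option maxRecDepth 1000000 in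
theorem relsOKB2 : relsOK tblB2 4 2 (fun a b => (mLB2.getD a []).getD b 0) = true := by decide +kernel

set_option maxRecDepth 1000000 in
theorem chainOKB2 : chainOK tblB2 4 2 [] levelsB2 = true := by decide +kernel

set_option maxRecDepth 1000000 in
theorem chainProdB2 : chainProd levelsB2 = 8 := by decide +kernel

end Cfsg.Agent.Lib.H6.CoxLB.Data
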