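import Mathlib
import Cfsg.Agent.Lib.H6.CoxLB2

set_option autoImplicit false

namespace Cfsg.Agent.Lib.H6.CoxLB.Data

open Cfsg.Agent.Lib.H6.CoxLB

def mLD4 : List (List ℕ) := [[1, 3, 2, 2], [3, 1, 3, 3], [2, 3, 1, 2], [2, 3, 2, 1]]

def tblD4 : List (List ℕ) :=
  [[0, 0, 0, 1], [1, 2, 1, 0], [3, 1, 4, 2], [2, 3, 5, 3], [5, 4, 2, 4], [4, 6, 3, 5],
   [6, 5, 6, 7], [7, 7, 7, 6]]

def levelsD4 : List Level :=
  [{ gens := [0, 2], x := 2, words :=
     [[], [0], [2], [2, 0]] },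
   { gens := [0, 1, 2], x := 1, words :=
     [[], [1], [0, 1], [2, 1], [2, 0, 1], [1, 2, 0, 1]] },
   { gens := [0, 1, 2, 3], x := 0, words :=
     [[], [3], [1, 3], [0, 1, 3], [2, 1, 3], [2, 0, 1, 3], [1, 2, 0, 1, 3], [3, 1, 2, 0, 1, 3]] }]

set_option maxRecDepth 1000000 in
theorem invOKD4 : invOK tblD4 8 4 = true := by decide +kernel

set_option maxRecDepth 1000000 in
theorem relsOKD4 : relsOK tblD4 8 4 (fun a b => (mLD4.getD a []).getD b 0) = true := by decide +kernel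

set_option maxRecDepth 1000000 in
theorem chainOKD4 : chainOK tblD4 8 4 [] levelsD4 = true := by decide +kernel

set_option maxRecDepth 1000000 in
theorem chainProdD4 : chainProd levelsD4 = 192 := by decide +kernel

end Cfsg.Agent.Lib.H6.CoxLB.Data
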