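import Mathlib
import Cfsg.Agent.Lib.H6.CoxLB2

set_option autoImplicit false

namespace Cfsg.Agent.Lib.H6.CoxLB.Data

open Cfsg.Agent.Lib.H6.CoxLB

def mLF4 : List (List ℕ) := [[1, 3, 2, 2], [3, 1, 4, 2], [2, 4, 1, 3], [2, 2, 3, 1]]

def tblF4 : List (List ℕ) :=
  [[0, 0, 0, 1], [1, 1, 2, 0], [2, 3, 1, 2], [4, 2, 5, 3], [3, 4, 6, 4], [6, 5, 3, 7],
   [5, 8, 4, 9], [9, 7, 7, 5], [8, 6, 10, 11], [7, 11, 9, 6], [10, 10, 8, 12], [11, 9, 13, 8],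
   [12, 12, 14, 10], [13, 15, 11, 14], [14, 16, 12, 13], [17, 13, 15, 16], [18, 14, 19, 15],
   [15, 17, 17, 18], [16, 18, 20, 17], [20, 19, 16, 19], [19, 21, 18, 20], [21, 20, 22, 21],
   [22, 22, 21, 23], [23, 23, 23, 22]]

def levelsF4 : List Level :=
  [{ gens := [0], x := 3, words :=
     [[], [0]] },
   { gens := [0, 1], x := 2, words :=
     [[], [1], [0, 1]] },
   { gens := [0, 1, 2], x := 1, words :=
     [[], [2], [1, 2], [0, 1, 2], [2, 1, 2], [2, 0, 1, 2], [1, 2, 0, 1, 2], [2, 1, 2, 0, 1, 2]] },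
   { gens := [0, 1, 2, 3], x := 0, words :=
     [[], [3], [2, 3], [1, 2, 3], [0, 1, 2, 3], [2, 1, 2, 3], [2, 0, 1, 2, 3], [3, 2, 1, 2, 3],
      [1, 2, 0, 1, 2, 3], [3, 2, 0, 1, 2, 3], [2, 1, 2, 0, 1, 2, 3], [3, 1, 2, 0, 1, 2, 3],
      [3, 2, 1, 2, 0, 1, 2, 3], [2, 3, 1, 2, 0, 1, 2, 3], [2, 3, 2, 1, 2, 0, 1, 2, 3],
      [1, 2, 3, 1, 2, 0, 1, 2, 3], [1, 2, 3, 2, 1, 2, 0, 1, 2, 3],
      [0, 1, 2, 3, 1, 2, 0, 1, 2, 3], [0, 1, 2, 3, 2, 1, 2, 0, 1, 2, 3],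
      [2, 1, 2, 3, 2, 1, 2, 0, 1, 2, 3], [2, 0, 1, 2, 3, 2, 1, 2, 0, 1, 2, 3],
      [1, 2, 0, 1, 2, 3, 2, 1, 2, 0, 1, 2, 3], [2, 1, 2, 0, 1, 2, 3, 2, 1, 2, 0, 1, 2, 3],
      [3, 2, 1, 2, 0, 1, 2, 3, 2, 1, 2, 0, 1, 2, 3]] }]

set_option maxRecDepth 1000000 in
theorem invOKF4 : invOK tblF4 24 4 = true := by decide +kernel

set_option maxRecDepth 1000000 in
theorem relsOKF4 : relsOK tblF4 24 4 (fun a b => (mLF4.getD a []).getD b 0) = true := by decide +kernel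

set_option maxRecDepth 1000000 in
theorem chainOKF4 : chainOK tblF4 24 4 [] levelsF4 = true := by decide +kernel

set_option maxRecDepth 1000000 in
theorem chainProdF4 : chainProd levelsF4 = 1152 := by decide +kernel

end Cfsg.Agent.Lib.H6.CoxLB.Data
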