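import Mathlib
import Cfsg.Agent.Lib.H6.CoxLB2

set_option autoImplicit false

namespace Cfsg.Agent.Lib.H6.CoxLB.Data

open Cfsg.Agent.Lib.H6.CoxLB

def mLG2 : List (List ℕ) := [[1, 6], [6, 1]]

def tblG2 : List (List ℕ) :=
  [[0, 1], [2, 0], [1, 3], [4, 2], [3, 5], [5, 4]]

def levelsG2 : List Level :=
  [{ gens := [0], x := 1, words :=
     [[], [0]] },
   { gens := [0, 1], x := 0, words :=
     [[], [1], [0, 1], [1, 0, 1], [0, 1, 0, 1], [1, 0, 1, 0, 1]] }]

set_option maxRecDepth 1000000 in
theorem invOKG2 : invOK tblG2 6 2 = true := by decide +kernel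

set_option maxRecDepth 1000000 in
theorem relsOKG2 : relsOK tblG2 6 2 (fun a b => (mLG2.getD a []).getD b 0) = true := by decide +kernel

set_option maxRecDepth 1000000 in
theorem chainOKG2 : chainOK tblG2 6 2 [] levelsG2 = true := by decide +kernel

set_option maxRecDepth 1000000 in
theorem chainProdG2 : chainProd levelsG2 = 12 := by decide +kernel

end Cfsg.Agent.Lib.H6.CoxLB.Data
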