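import Mathlib
import Cfsg.Agent.Lib.H6.CoxTC1

set_option autoImplicit false

namespace Cfsg.Agent.Lib.H6.CoxTC.Data

open Cfsg.Agent.Lib.H6.CoxTC

def mB2_1 : List (List ℕ) := [[1]]

def repsB2_1 : List (List ℕ) :=
  [[],
   [0]]

def ctxB2_1 : Ctx :=
  { n := 1, nh := 0, N := 2, m := fun a b => (mB2_1.getD a []).getD b 0, reps := repsB2_1 }

def stepsB2_1 : List Step :=
  [.defn 0 0 1]

set_option maxRecDepth 1000000 in
theorem checkB2_1 : check ctxB2_1 stepsB2_1 = true := by decide +kernel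

def mB2_2 : List (List ℕ) := [[1, 4], [4, 1]]

def repsB2_2 : List (List ℕ) :=
  [[],
   [1],
   [1, 0],
   [1, 0, 1]]

def ctxB2_2 : Ctx :=
  { n := 2, nh := 1, N := 4, m := fun a b => (mB2_2.getD a []).getD b 0, reps := repsB2_2 }

def stepsB2_2 : List Step :=
  [.defn 0 1 1, .defn 1 0 2, .defn 2 1 3, .hgen 0, .ded 0 0 1 4]

set_option maxRecDepth 1000000 in
theorem checkB2_2 : check ctxB2_2 stepsB2_2 = true := by decide +kernel

def mG2_1 : List (List ℕ) := [[1]]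

def repsG2_1 : List (List ℕ) :=
  [[],
   [0]]

def ctxG2_1 : Ctx :=
  { n := 1, nh := 0, N := 2, m := fun a b => (mG2_1.getD a []).getD b 0, reps := repsG2_1 }

def stepsG2_1 : List Step :=
  [.defn 0 0 1]

set_option maxRecDepth 1000000 in
theorem checkG2_1 : check ctxG2_1 stepsG2_1 = true := by decide +kernel

def mG2_2 : List (List ℕ) := [[1, 6], [6, 1]]

def repsG2_2 : List (List ℕ) :=
  [[],
   [1],
   [1, 0],
   [1, 0, 1],
   [1, 0, 1, 0],
   [1, 0, 1, 0, 1]]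

def ctxG2_2 : Ctx :=
  { n := 2, nh := 1, N := 6, m := fun a b => (mG2_2.getD a []).getD b 0, reps := repsG2_2 }

def stepsG2_2 : List Step :=
  [.defn 0 1 1, .defn 1 0 2, .defn 2 1 3, .defn 3 0 4, .defn 4 1 5, .hgen 0, .ded 0 0 1 6]

set_option maxRecDepth 1000000 in
theorem checkG2_2 : check ctxG2_2 stepsG2_2 = true := by decide +kernel

def mD4_1 : List (List ℕ) := [[1]]

def repsD4_1 : List (List ℕ) :=
  [[],
   [0]]

def ctxD4_1 : Ctx :=
  { n := 1, nh := 0, N := 2, m := fun a b => (mD4_1.getD a []).getD b 0, reps := repsD4_1 }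

def stepsD4_1 : List Step :=
  [.defn 0 0 1]

set_option maxRecDepth 1000000 in
theorem checkD4_1 : check ctxD4_1 stepsD4_1 = true := by decide +kernel

def mD4_2 : List (List ℕ) := [[1, 3], [3, 1]]

def repsD4_2 : List (List ℕ) :=
  [[],
   [1],
   [1, 0]]

def ctxD4_2 : Ctx :=
  { n := 2, nh := 1, N := 3, m := fun a b => (mD4_2.getD a []).getD b 0, reps := repsD4_2 }

def stepsD4_2 : List Step :=
  [.defn 0 1 1, .defn 1 0 2, .hgen 0, .ded 0 0 1 3]

set_option maxRecDepth 1000000 in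
theorem checkD4_2 : check ctxD4_2 stepsD4_2 = true := by decide +kernel

def mD4_3 : List (List ℕ) := [[1, 3, 2], [3, 1, 3], [2, 3, 1]]

def repsD4_3 : List (List ℕ) :=
  [[],
   [2],
   [2, 1],
   [2, 1, 0]]

def ctxD4_3 : Ctx :=
  { n := 3, nh := 2, N := 4, m := fun a b => (mD4_3.getD a []).getD b 0, reps := repsD4_3 }

def stepsD4_3 : List Step :=
  [.defn 0 2 1, .defn 1 1 2, .defn 2 0 3, .hgen 0, .hgen 1, .ded 0 0 2 2, .ded 0 1 2 3,
   .ded 1 0 1 3, .ded 2 0 2 1]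

set_option maxRecDepth 1000000 in
theorem checkD4_3 : check ctxD4_3 stepsD4_3 = true := by decide +kernel

def mD4_4 : List (List ℕ) := [[1, 3, 2, 2], [3, 1, 3, 3], [2, 3, 1, 2], [2, 3, 2, 1]]

def repsD4_4 : List (List ℕ) :=
  [[],
   [3],
   [3, 1],
   [3, 1, 0],
   [3, 1, 2],
   [3, 1, 0, 2],
   [3, 1, 0, 2, 1],
   [3, 1, 0, 2, 1, 3]]

def ctxD4_4 : Ctx :=
  { n := 4, nh := 3, N := 8, m := fun a b => (mD4_4.getD a []).getD b 0, reps := repsD4_4 }

def stepsD4_4 : List Step :=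
  [.defn 0 3 1, .defn 1 1 2, .defn 2 0 3, .defn 2 2 4, .defn 3 2 5, .defn 5 1 6, .defn 6 3 7,
   .hgen 0, .hgen 1, .hgen 2, .ded 0 0 3 2, .ded 0 1 3 3, .ded 0 2 3 2, .ded 1 0 1 3, .ded 1 1 2 2,
   .ded 2 0 2 2, .ded 2 0 3 1, .ded 2 2 3 1, .ded 3 1 2 3, .ded 3 2 3 1, .ded 4 0 1 2,
   .ded 5 1 3 2, .ded 6 0 3 2, .ded 6 2 3 2]

set_option maxRecDepth 1000000 in
theorem checkD4_4 : check ctxD4_4 stepsD4_4 = true := by decide +kernel

end Cfsg.Agent.Lib.H6.CoxTC.Data
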