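import Mathlib
import Cfsg.Agent.Lib.H6.CoxLB1
import Cfsg.Agent.Lib.H6.CoxLB2
import Cfsg.Agent.Lib.H6.CoxLB3
import Cfsg.Agent.Lib.H6.CoxLB4
import Cfsg.Agent.Lib.H6.CoxLB5

set_option autoImplicit false

namespace Cfsg.Agent.Lib.H6.CoxLB

open Equiv

variable {tbl : List (List ℕ)} {d n : ℕ}

/-- the Coxeter element -/
noncomputable def coxElt (M : CoxeterMatrix (Fin n)) : M.Group :=
  ((List.finRange n).map M.simple).prod

theorem rho_coxElt (M : CoxeterMatrix (Fin n)) (hinv : invOK tbl d n = true)
    {m : ℕ → ℕ → ℕ} (hm : ∀ a b : Fin n, m a.val b.val = M.M a b)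
    (hrels : relsOK tbl d n m = true) :
    rho M hinv hm hrels (coxElt M) = ((List.range n).map (pPerm hinv)).prod := by
  unfold coxElt
  rw [map_list_prod, List.map_map, ← List.map_coe_finRange_eq_range, List.map_map]
  have e : (List.finRange n).map (⇑(rho M hinv hm hrels) ∘ M.simple) =
      (List.finRange n).map (pPerm hinv ∘ fun x : Fin n => (x : ℕ)) := by
    apply List.map_congr_left
    intro a _
    exact rho_simple M hinv hm hrels a
  rw [e]

section

variable (M : CoxeterMatrix (Fin n)) (hinv : invOK tbl d n = true)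
  {m : ℕ → ℕ → ℕ} (hm : ∀ a b : Fin n, m a.val b.val = M.M a b)
  (hrels : relsOK tbl d n m = true) (hinj : Function.Injective (rho M hinv hm hrels))

include hinj in
theorem coxElt_pow_mem_center {t : ℕ} (hcomm : commOK tbl d n (List.range n) t = true) :
    coxElt M ^ t ∈ Subgroup.center M.Group := by
  unfold commOK at hcomm
  simp only [List.all_eq_true, List.mem_range, beq_iff_eq] at hcomm
  have hrange : ∀ a ∈ List.range n, a < n := fun a ha => List.mem_range.mp ha
  have hsimple : ∀ a : Fin n, M.simple a * coxElt M ^ t = coxElt M ^ t * M.simple a := by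
    intro a
    apply hinj
    rw [map_mul, map_mul, map_pow, rho_coxElt, rho_simple]
    refine Equiv.ext (fun x => Fin.ext ?_)
    rw [Perm.mul_apply, Perm.mul_apply, pPerm_val hinv a.isLt, pow_val hinv hrange,
      pow_val hinv hrange, pPerm_val hinv a.isLt]
    exact hcomm x.val x.isLt a.val a.isLt
  rw [Subgroup.mem_center_iff]
  intro g
  have hmem : g ∈ Subgroup.centralizer {coxElt M ^ t} := by
    have htop : Subgroup.closure (Set.range M.toCoxeterSystem.simple) = ⊤ :=
      M.toCoxeterSystem.subgroup_closure_range_simple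
    have hle : Subgroup.closure (Set.range M.toCoxeterSystem.simple) ≤
        Subgroup.centralizer {coxElt M ^ t} := by
      rw [Subgroup.closure_le]
      rintro _ ⟨a, rfl⟩
      rw [M.toCoxeterSystem_simple]
      intro y hy
      rw [Set.mem_singleton_iff] at hy
      subst hy
      exact (hsimple a).symm
    rw [htop] at hle
    exact hle trivial
  exact (hmem _ rfl).symm

include hinv hm hrels in
theorem coxElt_pow_ne_one {t : ℕ} (hne : powNe tbl d (List.range n) t = true) :
    coxElt M ^ t ≠ 1 := by
  intro h1
  unfold powNe at hne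
  simp only [List.any_eq_true, List.mem_range, Bool.not_eq_eq_eq_not, Bool.not_true,
    beq_eq_false_iff_ne, ne_eq] at hne
  obtain ⟨x, hx, hxne⟩ := hne
  apply hxne
  have h2 := congrArg (fun g => (rho M hinv hm hrels g ⟨x, hx⟩).val) h1
  simp only [map_pow, map_one, Perm.one_apply] at h2
  rw [rho_coxElt, pow_val hinv (fun a ha => List.mem_range.mp ha)] at h2
  exact h2

variable (hd : 0 < d) {J F : List ℕ} {words : List (List ℕ)}
  (hstab : stabOK tbl n J = true) (hfix : fixOK tbl d J F = true)
  (htrans : transOK tbl d n words = true)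

include hinj hd hstab hfix htrans in
theorem center_card_one (hF : F = [0]) :
    Nat.card (Subgroup.center M.Group) = 1 ∧
      Subgroup.center M.Group ≤ Subgroup.zpowers (coxElt M) := by
  have h := center_eq_bot M hinv hm hrels hinj hd hstab hfix htrans hF
  rw [h]
  exact ⟨Subgroup.card_bot, bot_le⟩

include hinj hd hstab hfix htrans in
theorem center_card_two {x1 t : ℕ} (hF : F = [0, x1])
    (hcomm : commOK tbl d n (List.range n) t = true)
    (hne : powNe tbl d (List.range n) t = true) :
    Nat.card (Subgroup.center M.Group) = 2 ∧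
      Subgroup.center M.Group ≤ Subgroup.zpowers (coxElt M) := by
  have hζ := coxElt_pow_mem_center M hinv hm hrels hinj hcomm
  have hζ1 := coxElt_pow_ne_one M hinv hm hrels hne
  have hcases : ∀ z ∈ Subgroup.center M.Group, z = 1 ∨ z = coxElt M ^ t := fun z hz =>
    center_eq_pair M hinv hm hrels hinj hd hstab hfix htrans hF hζ hζ1 hz
  constructor
  · rw [Nat.card_eq_two_iff]
    refine ⟨⟨1, one_mem _⟩, ⟨coxElt M ^ t, hζ⟩, ?_, ?_⟩
    · intro e
      exact hζ1 (congrArg Subtype.val e).symm
    · ext z
      simp only [Set.mem_insert_iff, Set.mem_singleton_iff, Set.mem_univ, iff_true]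
      rcases hcases z.1 z.2 with h | h
      · exact Or.inl (Subtype.ext h)
      · exact Or.inr (Subtype.ext h)
  · intro z hz
    rcases hcases z hz with rfl | rfl
    · exact one_mem _
    · exact Subgroup.pow_mem _ (Subgroup.mem_zpowers _) _

end

end Cfsg.Agent.Lib.H6.CoxLB
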