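import Mathlib
import Cfsg.Prelude.Def_ChevStructure
import Cfsg.Agent.Lib.H6.CoxUB
import Cfsg.Agent.Lib.H6.CoxDataSmall
import Cfsg.Agent.Lib.H6.CoxLB3
import Cfsg.Agent.Lib.H6.CoxLBDataB2
import Cfsg.Agent.Lib.H6.CoxLBDataG2
import Cfsg.Agent.Lib.H6.CoxLBDataD4
import Cfsg.Agent.Lib.H6.CoxLBDataF4

set_option autoImplicit false

namespace Cfsg.Agent.Lib.H6.CoxOrders

open Cfsg.Agent.Lib.H6.CoxTC Cfsg.Agent.Lib.H6.CoxTC.Data
open Cfsg.Agent.Lib.H6.CoxLB Cfsg.Agent.Lib.H6.CoxLB.Data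

theorem ub_B2 : Finite (CoxeterMatrix.B 2).Group ∧ Nat.card (CoxeterMatrix.B 2).Group ≤ 8 := by
  have h0 := ub_zero (restrict (restrict (CoxeterMatrix.B 2)))
  have h1 := ub_step (restrict (CoxeterMatrix.B 2)) ctxB2_1 rfl rfl
    (by intro a b; fin_cases a <;> fin_cases b <;> rfl) checkB2_1 h0
  exact ub_step (CoxeterMatrix.B 2) ctxB2_2 rfl rfl
    (by intro a b; fin_cases a <;> fin_cases b <;> rfl) checkB2_2 h1

theorem ub_G2 : Finite CoxeterMatrix.G₂.Group ∧ Nat.card CoxeterMatrix.G₂.Group ≤ 12 := by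
  have h0 := ub_zero (restrict (restrict CoxeterMatrix.G₂))
  have h1 := ub_step (restrict CoxeterMatrix.G₂) ctxG2_1 rfl rfl
    (by intro a b; fin_cases a <;> fin_cases b <;> rfl) checkG2_1 h0
  exact ub_step CoxeterMatrix.G₂ ctxG2_2 rfl rfl
    (by intro a b; fin_cases a <;> fin_cases b <;> rfl) checkG2_2 h1

theorem ub_D4 : Finite Cfsg.Lie.coxeterD4.Group ∧ Nat.card Cfsg.Lie.coxeterD4.Group ≤ 192 := by
  have h0 := ub_zero (restrict (restrict (restrict (restrict Cfsg.Lie.coxeterD4))))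
  have h1 := ub_step (restrict (restrict (restrict Cfsg.Lie.coxeterD4))) ctxD4_1 rfl rfl
    (by intro a b; fin_cases a <;> fin_cases b <;> rfl) checkD4_1 h0
  have h2 := ub_step (restrict (restrict Cfsg.Lie.coxeterD4)) ctxD4_2 rfl rfl
    (by intro a b; fin_cases a <;> fin_cases b <;> rfl) checkD4_2 h1
  have h3 := ub_step (restrict Cfsg.Lie.coxeterD4) ctxD4_3 rfl rfl
    (by intro a b; fin_cases a <;> fin_cases b <;> rfl) checkD4_3 h2
  exact ub_step Cfsg.Lie.coxeterD4 ctxD4_4 rfl rfl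
    (by intro a b; fin_cases a <;> fin_cases b <;> rfl) checkD4_4 h3

theorem ub_F4 : Finite CoxeterMatrix.F₄.Group ∧ Nat.card CoxeterMatrix.F₄.Group ≤ 1152 := by
  have h0 := ub_zero (restrict (restrict (restrict (restrict CoxeterMatrix.F₄))))
  have h1 := ub_step (restrict (restrict (restrict CoxeterMatrix.F₄))) ctxF4_1 rfl rfl
    (by intro a b; fin_cases a <;> fin_cases b <;> rfl) checkF4_1 h0
  have h2 := ub_step (restrict (restrict CoxeterMatrix.F₄)) ctxF4_2 rfl rfl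
    (by intro a b; fin_cases a <;> fin_cases b <;> rfl) checkF4_2 h1
  have h3 := ub_step (restrict CoxeterMatrix.F₄) ctxF4_3 rfl rfl
    (by intro a b; fin_cases a <;> fin_cases b <;> rfl) checkF4_3 h2
  exact ub_step CoxeterMatrix.F₄ ctxF4_4 rfl rfl
    (by intro a b; fin_cases a <;> fin_cases b <;> rfl) checkF4_4 h3

theorem hmB2 : ∀ a b : Fin 2, (fun a b => (mLB2.getD a []).getD b 0) a.val b.val =
    (CoxeterMatrix.B 2).M a b := by
  intro a b; fin_cases a <;> fin_cases b <;> rfl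

theorem hmG2 : ∀ a b : Fin 2, (fun a b => (mLG2.getD a []).getD b 0) a.val b.val =
    CoxeterMatrix.G₂.M a b := by
  intro a b; fin_cases a <;> fin_cases b <;> rfl

theorem hmD4 : ∀ a b : Fin 4, (fun a b => (mLD4.getD a []).getD b 0) a.val b.val =
    Cfsg.Lie.coxeterD4.M a b := by
  intro a b; fin_cases a <;> fin_cases b <;> rfl

theorem hmF4 : ∀ a b : Fin 4, (fun a b => (mLF4.getD a []).getD b 0) a.val b.val =
    CoxeterMatrix.F₄.M a b := by
  intro a b; fin_cases a <;> fin_cases b <;> rfl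

theorem card_B2 : Nat.card (CoxeterMatrix.B 2).Group = 8 := by
  obtain ⟨hfin, hub⟩ := ub_B2
  have hlb := (lb_of_checks (CoxeterMatrix.B 2) invOKB2 hmB2 relsOKB2 levelsB2 chainOKB2).1
  rw [chainProdB2] at hlb
  exact le_antisymm hub hlb

theorem card_G2 : Nat.card CoxeterMatrix.G₂.Group = 12 := by
  obtain ⟨hfin, hub⟩ := ub_G2
  have hlb := (lb_of_checks CoxeterMatrix.G₂ invOKG2 hmG2 relsOKG2 levelsG2 chainOKG2).1
  rw [chainProdG2] at hlb
  exact le_antisymm hub hlb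

theorem card_D4 : Nat.card Cfsg.Lie.coxeterD4.Group = 192 := by
  obtain ⟨hfin, hub⟩ := ub_D4
  have hlb := (lb_of_checks Cfsg.Lie.coxeterD4 invOKD4 hmD4 relsOKD4 levelsD4 chainOKD4).1
  rw [chainProdD4] at hlb
  exact le_antisymm hub hlb

theorem card_F4 : Nat.card CoxeterMatrix.F₄.Group = 1152 := by
  obtain ⟨hfin, hub⟩ := ub_F4
  have hlb := (lb_of_checks CoxeterMatrix.F₄ invOKF4 hmF4 relsOKF4 levelsF4 chainOKF4).1
  rw [chainProdF4] at hlb
  exact le_antisymm hub hlb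

end Cfsg.Agent.Lib.H6.CoxOrders
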