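import Mathlib
import Cfsg.Prelude.Def_ChevStructure
import Cfsg.Agent.Lib.H6.InvWord

/-!
# Words in the root elements `x_r(1)` and the monomial elements `n_r`

A letter `(r, false)` is `x_r(1)`, a letter `(r, true)` is `n_r = x_r(1) x_{-r}(-1) x_r(1)`; the columns of `n_r` are the
monomial sparse vectors `fd.ncol fx r` of helper29's tower, so long words in the `n_r` stay small. Identities between such
words in characteristic `p` are checked by evaluation on the packed tables.
-/

set_option autoImplicit false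
set_option linter.unusedSectionVars false
set_option linter.unusedSimpArgs false
set_option linter.unusedVariables false

namespace Cfsg.Agent.Lib.H6.Inv

open Cfsg.Lie Matrix Cfsg.Agent.Lib.H29.Chev

variable {D : ChevalleyDatum} {fd : FD} {fx : FX} {F : Type*} [Field F]

/-- the sparse integer matrix of a letter -/
def letSM (fd : FD) (fx : FX) (q : ℕ × Bool) : SM := bif q.2 then fd.ncol fx q.1 else fd.colX q.1 1

/-- the sparse integer matrix of a word in the letters -/
def wordSM2 (fd : FD) (fx : FX) : List (ℕ × Bool) → SM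
  | [] => fun c => [(c, 1)]
  | q :: L => SM.mul (letSM fd fx q) (wordSM2 fd fx L)

/-- the dense integer matrix of a letter -/
def letZ (D : ChevalleyDatum) (fd : FD) (fx : FX) (q : ℕ × Bool) : Matrix D.Idx D.Idx ℤ :=
  bif q.2 then nZ D fd fx q.1 else XR D ℤ q.1 1

/-- `n_r` in the group, `1` out of range -/
noncomputable def nA (C : Cert2 D fd fx) (F : Type*) [Field F] (r : ℕ) : GL D.Idx F :=
  if hr : r < fd.n then C.nG r hr else 1

/-- the group element of a letter -/
noncomputable def letG (C : Cert2 D fd fx) (F : Type*) [Field F] (q : ℕ × Bool) : GL D.Idx F :=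
  bif q.2 then nA C F q.1 else C.xA q.1 1

/-- the group element of a word -/
noncomputable def wordG2 (C : Cert2 D fd fx) (F : Type*) [Field F] (L : List (ℕ × Bool)) : GL D.Idx F :=
  (L.map (letG C F)).prod

theorem nA_of_lt (C : Cert2 D fd fx) (r : ℕ) (hr : r < fd.n) : nA C F r = C.nG r hr := by
  unfold nA; rw [dif_pos hr]

theorem nA_eq_xA (C : Cert2 D fd fx) (r : ℕ) (hr : r < fd.n) :
    nA C F r = C.xA r 1 * C.xA (fd.n - 1 - r) (-1) * C.xA r 1 := by
  rw [nA_of_lt C r hr, C.xA_of_lt r hr, C.xA_of_lt (fd.n - 1 - r) (by omega)]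
  rfl

theorem nA_mem_group (C : Cert2 D fd fx) (r : ℕ) : nA C F r ∈ D.group F := by
  by_cases hr : r < fd.n
  · rw [nA_eq_xA C r hr]
    exact mul_mem (mul_mem (C.xA_mem_group _ _) (C.xA_mem_group _ _)) (C.xA_mem_group _ _)
  · unfold nA; rw [dif_neg hr]; exact one_mem _

theorem letG_mem (C : Cert2 D fd fx) (q : ℕ × Bool) : letG C F q ∈ D.group F := by
  unfold letG
  cases q.2
  · exact C.xA_mem_group _ _
  · exact nA_mem_group C _

theorem wordG2_mem (C : Cert2 D fd fx) (L : List (ℕ × Bool)) : wordG2 C F L ∈ D.group F := by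
  unfold wordG2
  apply Subgroup.list_prod_mem
  intro x hx
  obtain ⟨q, _, rfl⟩ := List.mem_map.mp hx
  exact letG_mem C q

theorem wordG2_append (C : Cert2 D fd fx) (L L' : List (ℕ × Bool)) :
    wordG2 C F (L ++ L') = wordG2 C F L * wordG2 C F L' := by
  unfold wordG2
  rw [List.map_append, List.prod_append]

theorem wordG2_nil (C : Cert2 D fd fx) : wordG2 C F [] = 1 := rfl

theorem wordG2_cons (C : Cert2 D fd fx) (q : ℕ × Bool) (L : List (ℕ × Bool)) :
    wordG2 C F (q :: L) = letG C F q * wordG2 C F L := by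
  unfold wordG2
  rw [List.map_cons, List.prod_cons]

/-- words in the `x_r(1)` only -/
theorem wordG2_xs (C : Cert2 D fd fx) (L : List ℕ) :
    wordG2 C F (L.map fun r => (r, false)) = wordG C F L := by
  unfold wordG2 wordG
  rw [List.map_map]
  rfl

theorem letZ_eq_dens (C : Cert2 D fd fx) (q : ℕ × Bool) (hq : q.1 < fd.n) :
    letZ D fd fx q = SM.dens (code D) (letSM fd fx q) := by
  unfold letZ letSM
  cases q.2
  · exact XZ_eq_dens C.agrees C.chk.pref q.1 hq 1
  · rfl

theorem letSM_bdd (C : Cert2 D fd fx) (q : ℕ × Bool) (hq : q.1 < fd.n) (c : ℕ) (hc : c < fd.l + fd.n) :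
    SV.bdd (fd.l + fd.n) (letSM fd fx q c) = true := by
  unfold letSM
  cases q.2
  · exact (fd.chkN_spec C.chk.nn q.1 c hq hc).1
  · exact (fd.chkN_spec C.chk.nn q.1 c hq hc).2.1

theorem wordSM2_bdd (C : Cert2 D fd fx) (L : List (ℕ × Bool)) (hL : ∀ q ∈ L, q.1 < fd.n) (c : ℕ)
    (hc : c < fd.l + fd.n) : SV.bdd (fd.l + fd.n) (wordSM2 fd fx L c) = true := by
  induction L with
  | nil => simp [wordSM2, SV.bdd, hc]
  | cons q L ih =>
    have ih' := ih (fun s hs => hL s (List.mem_cons_of_mem _ hs))
    show SV.bdd (fd.l + fd.n) (SM.apply (letSM fd fx q) (wordSM2 fd fx L c)) = true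
    exact bdd_apply _ _ _ (fun c' hc' => letSM_bdd C q (hL q List.mem_cons_self) c' hc') ih'

/-- the word over `ℤ` -/
theorem word2Z (C : Cert2 D fd fx) (L : List (ℕ × Bool)) (hL : ∀ q ∈ L, q.1 < fd.n) :
    (L.map (letZ D fd fx)).prod = SM.dens (code D) (wordSM2 fd fx L) := by
  induction L with
  | nil => simp [wordSM2, dens_id]
  | cons q L ih =>
    have ih' := ih (fun s hs => hL s (List.mem_cons_of_mem _ hs))
    rw [List.map_cons, List.prod_cons, ih', letZ_eq_dens C q (hL q List.mem_cons_self)]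
    rw [SM.dens_mul (code D) (code_injective D) (fd.l + fd.n) (code_surj' C)]
    · rfl
    · intro j
      exact wordSM2_bdd C L (fun s hs => hL s (List.mem_cons_of_mem _ hs)) _ (code_lt' C j)

theorem letG_val (C : Cert2 D fd fx) (q : ℕ × Bool) (hq : q.1 < fd.n) :
    ((letG C F q : GL D.Idx F) : Matrix D.Idx D.Idx F) = (letZ D fd fx q).map (Int.castRingHom F) := by
  unfold letG letZ
  cases q.2
  · simp only [cond_false]
    rw [C.xA_val, XR_map, x_eq_XR C.agrees q.1 hq]
    simp
  · simp only [cond_true]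
    rw [nA_of_lt C q.1 hq, C.nG_val]
    rfl

/-- the word over a field -/
theorem wordG2_val (C : Cert2 D fd fx) (L : List (ℕ × Bool)) (hL : ∀ q ∈ L, q.1 < fd.n) :
    ((wordG2 C F L : GL D.Idx F) : Matrix D.Idx D.Idx F) =
      (SM.dens (code D) (wordSM2 fd fx L)).map (Int.castRingHom F) := by
  rw [← word2Z C L hL]
  induction L with
  | nil => simp [wordG2]
  | cons q L ih =>
    have ih' := ih (fun s hs => hL s (List.mem_cons_of_mem _ hs))
    rw [wordG2_cons, Units.val_mul, ih', letG_val C q (hL q List.mem_cons_self), List.map_cons, List.prod_cons,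
      Matrix.map_mul]

/-- the check of an identity between words in the letters modulo `p` -/
def chkWord2 (fd : FD) (fx : FX) (p : ℕ) (L L' : List (ℕ × Bool)) : Bool :=
  (List.range (fd.l + fd.n)).all fun c => SV.eqMod p (wordSM2 fd fx L c) (wordSM2 fd fx L' c)

/-- identities between words in the `x_r(1)` and the `n_r` in characteristic `p` -/
theorem word2_eq (p : ℕ) [CharP F p] (C : Cert2 D fd fx) (L L' : List (ℕ × Bool)) (hL : ∀ q ∈ L, q.1 < fd.n)
    (hL' : ∀ q ∈ L', q.1 < fd.n) (hc : chkWord2 fd fx p L L' = true) : wordG2 C F L = wordG2 C F L' := by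
  apply Units.ext
  rw [wordG2_val C L hL, wordG2_val C L' hL']
  apply dens_map_congr p C
  intro c hc'
  simp only [chkWord2, List.all_eq_true, List.mem_range] at hc
  exact hc c hc'

end Cfsg.Agent.Lib.H6.Inv
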