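import Mathlib
import Cfsg.Prelude.Def_ChevStructure
import Cfsg.Agent.Lib.H6.InvWord2

/-!
# Long words in the `x_r(1)` and the `n_r`, evaluated with reduction modulo `p` after every letter

`wordSMn fd fx p L` is the sparse matrix of the word `L` with all coefficients reduced modulo `p` (and zeros dropped)
after each letter, so the vectors never grow; over a field of characteristic `p` it still represents the word.
-/

set_option autoImplicit false
set_option linter.unusedSectionVars false
set_option linter.unusedSimpArgs false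
set_option linter.unusedVariables false

namespace Cfsg.Agent.Lib.H6.Inv

open Cfsg.Lie Matrix Cfsg.Agent.Lib.H29.Chev

variable {D : ChevalleyDatum} {fd : FD} {fx : FX} {F : Type*} [Field F]

/-- reduce a sparse vector modulo `p`: the coefficients of the indices below `N`, zeros dropped -/
def normP (p N : ℕ) (v : SV) : SV :=
  ((List.range N).map fun i => (i, SV.getB v i % (p : ℤ))).filter fun q => !intBeq q.2 0

theorem get_filter_ne (v : SV) (i : ℕ) : SV.get (v.filter fun q => !intBeq q.2 0) i = SV.get v i := by
  induction v with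
  | nil => rfl
  | cons q v ih =>
    by_cases hq : q.2 = 0
    · have : intBeq q.2 0 = true := (intBeq_iff _ _).mpr hq
      rw [List.filter_cons_of_neg (by simp [this]), ih, SV.get_cons, hq]
      simp
    · have : intBeq q.2 0 = false := by rw [← Bool.not_eq_true, intBeq_iff]; exact hq
      rw [List.filter_cons_of_pos (by simp [this]), SV.get_cons, SV.get_cons, ih]

theorem get_normP (p N : ℕ) (v : SV) (i : ℕ) :
    SV.get (normP p N v) i = if i < N then SV.get v i % (p : ℤ) else 0 := by
  unfold normP
  rw [get_filter_ne, SV.get_range_map]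
  simp only [SV.getB_eq]

theorem normP_bdd (p N : ℕ) (v : SV) : SV.bdd N (normP p N v) = true := by
  simp only [SV.bdd, normP, List.all_eq_true, decide_eq_true_eq]
  intro q hq
  have := (List.mem_filter.mp hq).1
  obtain ⟨i, hi, rfl⟩ := List.mem_map.mp this
  exact List.mem_range.mp hi

theorem get_eq_zero_of_bdd (N : ℕ) (v : SV) (hv : SV.bdd N v = true) (i : ℕ) (hi : N ≤ i) : SV.get v i = 0 := by
  apply SV.get_eq_zero_of_not_mem
  intro h
  obtain ⟨q, hq, rfl⟩ := List.mem_map.mp h
  simp only [SV.bdd, List.all_eq_true, decide_eq_true_eq] at hv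
  have := hv q hq
  omega

theorem normP_dvd (p N : ℕ) (v : SV) (hv : SV.bdd N v = true) (i : ℕ) :
    (p : ℤ) ∣ SV.get (normP p N v) i - SV.get v i := by
  rw [get_normP]
  by_cases hi : i < N
  · rw [if_pos hi, Int.emod_def]
    exact ⟨-(SV.get v i / (p : ℤ)), by ring⟩
  · rw [if_neg hi, get_eq_zero_of_bdd N v hv i (by omega)]
    simp

/-- the sparse matrix of a word, reduced modulo `p` after every letter -/
def wordSMn (fd : FD) (fx : FX) (p : ℕ) : List (ℕ × Bool) → SM
  | [] => fun c => [(c, 1)]
  | q :: L => fun c => normP p (fd.l + fd.n) (SM.apply (letSM fd fx q) (wordSMn fd fx p L c))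

theorem wordSMn_bdd (p : ℕ) (L : List (ℕ × Bool)) (c : ℕ) (hc : c < fd.l + fd.n) :
    SV.bdd (fd.l + fd.n) (wordSMn fd fx p L c) = true := by
  cases L with
  | nil => simp [wordSMn, SV.bdd, hc]
  | cons q L => exact normP_bdd _ _ _

/-- the word over a field of characteristic `p` -/
theorem wordG2_val_n (p : ℕ) [CharP F p] (C : Cert2 D fd fx) (L : List (ℕ × Bool)) (hL : ∀ q ∈ L, q.1 < fd.n) :
    ((wordG2 C F L : GL D.Idx F) : Matrix D.Idx D.Idx F) =
      (SM.dens (code D) (wordSMn fd fx p L)).map (Int.castRingHom F) := by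
  induction L with
  | nil =>
    have : wordSMn fd fx p [] = wordSM2 fd fx [] := rfl
    rw [this, ← wordG2_val C [] (by simp)]
  | cons q L ih =>
    have ih' := ih (fun s hs => hL s (List.mem_cons_of_mem _ hs))
    have hq := hL q List.mem_cons_self
    rw [wordG2_cons, Units.val_mul, ih', letG_val C q hq, letZ_eq_dens C q hq, ← Matrix.map_mul,
      SM.dens_mul (code D) (code_injective D) (fd.l + fd.n) (code_surj' C) _ _
        (fun j => wordSMn_bdd p L _ (code_lt' C j))]
    ext a b
    simp only [Matrix.map_apply, SM.dens_apply, Int.coe_castRingHom, SM.mul]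
    symm
    apply cast_eq_of_dvd_sub p
    show (p : ℤ) ∣ SV.get (normP p (fd.l + fd.n) (SM.apply (letSM fd fx q) (wordSMn fd fx p L (code D b))))
      (code D a) - _
    apply normP_dvd
    exact bdd_apply _ _ _ (fun c' hc' => letSM_bdd C q hq c' hc') (wordSMn_bdd p L _ (code_lt' C b))

/-- the check of an identity between words modulo `p`, with reduction after every letter -/
def chkWordN (fd : FD) (fx : FX) (p : ℕ) (L L' : List (ℕ × Bool)) : Bool :=
  (List.range (fd.l + fd.n)).all fun c => SV.eqMod p (wordSMn fd fx p L c) (wordSMn fd fx p L' c)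

/-- identities between long words in the `x_r(1)` and the `n_r` in characteristic `p` -/
theorem wordN_eq (p : ℕ) [CharP F p] (C : Cert2 D fd fx) (L L' : List (ℕ × Bool)) (hL : ∀ q ∈ L, q.1 < fd.n)
    (hL' : ∀ q ∈ L', q.1 < fd.n) (hc : chkWordN fd fx p L L' = true) : wordG2 C F L = wordG2 C F L' := by
  apply Units.ext
  rw [wordG2_val_n p C L hL, wordG2_val_n p C L' hL']
  apply dens_map_congr p C
  intro c hc'
  simp only [chkWordN, List.all_eq_true, List.mem_range] at hc
  exact hc c hc'

end Cfsg.Agent.Lib.H6.Inv
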