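import Mathlib
import Cfsg.Prelude.Def_LieExceptional
import Cfsg.Agent.Lib.H6.InvWord3
import Cfsg.Agent.Lib.H6.E6InvTab
import Cfsg.Agent.Lib.H29.ChevGen45

/-!
# `E₆` in characteristic two: the moves between the frames

The table of `E6InvTab` leaves the frames `(39,44,60,71)`, `(53,65,69)`, `(44,60,71)`, `(60,71)`, `(71)`, `()`; they are
moved to the three standard ones by elements of `N` (word identities checked on the packed tables modulo two) and by the
fusion `x_39 x_44 x_60 x_71 ~ x_39 x_44 x_60` inside a subgroup of type `D₄`.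
-/

set_option autoImplicit false
set_option linter.unusedSectionVars false
set_option linter.unusedSimpArgs false
set_option linter.unusedVariables false

namespace Cfsg.Agent.Lib.H6.Inv

open Cfsg Cfsg.Lie Matrix Cfsg.Agent.Lib.H29.Chev Cfsg.Agent.Lib.H12.F4V Cfsg.Agent.Lib.H12.InvCell

section generic

variable {D : ChevalleyDatum} {fd : FD} {fx : FX} {fc : FC} {fz : FZ} {F : Type*} [Field F]

/-- the torus of a Chevalley group over a finite field of characteristic two has odd order -/
theorem odd_card_diag (C : Cert12 D fd fx fc fz) [Fintype F] [CharP F 2] :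
    Odd (Nat.card ↥(D.diagonalSubgroup F)) := by
  classical
  by_contra hodd
  rw [Nat.not_odd_iff_even, even_iff_two_dvd] at hodd
  have : Fact (Nat.Prime 2) := ⟨Nat.prime_two⟩
  obtain ⟨t, ht⟩ := exists_prime_orderOf_dvd_card' 2 hodd
  have hmem : ∀ u : GL D.Idx F, u ∈ D.diagonalSubgroup F → u ∈ (chiHom D fd F).range := by
    intro u hu
    rw [C.diag_eq_range] at hu
    exact hu
  obtain ⟨x, hx⟩ := hmem _ t.2
  have hx1 : x ^ (Fintype.card F - 1) = 1 := by
    funext i
    rw [Pi.pow_apply, Pi.one_apply, ← Fintype.card_units]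
    exact pow_card_eq_one
  have h1 : (t : GL D.Idx F) ^ (Fintype.card F - 1) = 1 := by
    rw [← hx, ← map_pow, hx1, map_one]
  have h2 : orderOf (t : GL D.Idx F) ∣ Fintype.card F - 1 := orderOf_dvd_of_pow_eq_one h1
  rw [Subgroup.orderOf_coe, ht] at h2
  obtain ⟨n, hn⟩ := FiniteField.card F 2
  rw [hn.2] at h2
  have h3 : 1 ≤ 2 ^ (n : ℕ) := Nat.one_le_two_pow
  have h4 : 2 ∣ 2 ^ (n : ℕ) := dvd_pow_self 2 n.ne_zero
  omega

/-- conjugacy inside the Chevalley group -/
def ConjIn (D : ChevalleyDatum) {F : Type*} [Field F] (a b : GL D.Idx F) : Prop :=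
  ∃ h ∈ D.group F, h * a * h⁻¹ = b

theorem ConjIn.refl (a : GL D.Idx F) : ConjIn D a a := ⟨1, one_mem _, by group⟩

theorem ConjIn.trans {a b c : GL D.Idx F} (h1 : ConjIn D a b) (h2 : ConjIn D b c) : ConjIn D a c := by
  obtain ⟨h, hh, e1⟩ := h1
  obtain ⟨k, hk, e2⟩ := h2
  refine ⟨k * h, mul_mem hk hh, ?_⟩
  rw [← e2, ← e1]
  group

/-- the product of the `x_r(1)` as a word -/
theorem lp_eq_wordG (C : Cert12 D fd fx fc fz) (L : List ℕ) :
    lp C (L.map fun r => (r, (1 : F))) = wordG C.c6.c2 F L := by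
  unfold wordG
  show ((L.map fun r => (r, (1 : F))).map fun p => C.c6.c2.xA p.1 p.2).prod = _
  rw [List.map_map]
  rfl

/-- a word identity `n · a = b · n` modulo `p` gives the conjugacy of the words `a` and `b` in the `x_r(1)` -/
theorem conjIn_of_chk (p : ℕ) [CharP F p] (C : Cert2 D fd fx) (Nw : List (ℕ × Bool)) (A B : List ℕ)
    (hN : ∀ q ∈ Nw, q.1 < fd.n) (hA : ∀ r ∈ A, r < fd.n) (hB : ∀ r ∈ B, r < fd.n)
    (hc : chkWordN fd fx p (Nw ++ A.map fun r => (r, false)) ((B.map fun r => (r, false)) ++ Nw) = true) :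
    ConjIn D (wordG C F A) (wordG C F B) := by
  have h := wordN_eq p C (F := F) (Nw ++ A.map fun r => (r, false)) ((B.map fun r => (r, false)) ++ Nw)
    (by
      intro q hq
      rcases List.mem_append.mp hq with hq | hq
      · exact hN q hq
      · obtain ⟨r, hr, rfl⟩ := List.mem_map.mp hq
        exact hA r hr)
    (by
      intro q hq
      rcases List.mem_append.mp hq with hq | hq
      · obtain ⟨r, hr, rfl⟩ := List.mem_map.mp hq
        exact hB r hr
      · exact hN q hq) hc
  rw [wordG2_append, wordG2_append, wordG2_xs, wordG2_xs] at h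
  refine ⟨wordG2 C F Nw, wordG2_mem C Nw, ?_⟩
  rw [h]
  group

end generic

variable {F : Type*} [Field F] [CharP F 2]

theorem e6_move2 : ConjIn chevE6 (wordG cert12_E6.c6.c2 F [60, 71]) (wordG cert12_E6.c6.c2 F [68, 66]) :=
  conjIn_of_chk 2 cert12_E6.c6.c2 [(42, true), (39, true), (46, true)] [60, 71] [68, 66]
    (by decide) (by decide) (by decide) (by decide +kernel)

theorem e6_move3a : ConjIn chevE6 (wordG cert12_E6.c6.c2 F [44, 60, 71]) (wordG cert12_E6.c6.c2 F [55, 65, 67]) :=
  conjIn_of_chk 2 cert12_E6.c6.c2 [(56, true), (42, true), (39, true), (46, true), (56, true)] [44, 60, 71] [55, 65, 67]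
    (by decide) (by decide) (by decide) (by decide +kernel)

theorem e6_move3b : ConjIn chevE6 (wordG cert12_E6.c6.c2 F [53, 65, 69]) (wordG cert12_E6.c6.c2 F [55, 65, 67]) :=
  conjIn_of_chk 2 cert12_E6.c6.c2 [(56, true), (42, true), (56, true)] [53, 65, 69] [55, 65, 67]
    (by decide) (by decide) (by decide) (by decide +kernel)

theorem e6_move3c : ConjIn chevE6 (wordG cert12_E6.c6.c2 F [39, 44, 60]) (wordG cert12_E6.c6.c2 F [55, 65, 67]) :=
  conjIn_of_chk 2 cert12_E6.c6.c2
    [(39, true), (37, true), (36, true), (42, true), (39, true), (37, true), (56, true), (42, true), (39, true),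
      (56, true), (42, true), (46, true), (56, true)] [39, 44, 60] [55, 65, 67]
    (by decide) (by decide) (by decide) (by decide +kernel)

/-- the fusion inside `D₄` -/
theorem e6_fuse : ConjIn chevE6 (wordG cert12_E6.c6.c2 F [39, 44, 60, 71]) (wordG cert12_E6.c6.c2 F [39, 44, 60]) :=
  conjIn_of_chk 2 cert12_E6.c6.c2 [(63, false), (51, false), (44, false), (47, false)] [39, 44, 60, 71] [39, 44, 60]
    (by decide) (by decide) (by decide) (by decide +kernel)

end Cfsg.Agent.Lib.H6.Inv
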