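import Mathlib
import Cfsg.Prelude.Def_LieExceptional
import Cfsg.Agent.Lib.H6.E6InvMoves

/-!
# `E₆` in characteristic two: every involution is conjugate to `x_71`, `x_68 x_66` or `x_55 x_65 x_67`
-/

set_option autoImplicit false
set_option linter.unusedSectionVars false
set_option linter.unusedSimpArgs false
set_option linter.unusedVariables false

namespace Cfsg.Agent.Lib.H6.Inv

open Cfsg Cfsg.Lie Matrix Cfsg.Agent.Lib.H29.Chev Cfsg.Agent.Lib.H12.F4V Cfsg.Agent.Lib.H12.InvCell

variable {F : Type*} [Field F] [CharP F 2]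

/-- **every involution of `E₆(F)`, `F` finite of characteristic two, is conjugate to one of the three** -/
theorem e6_invol_conj [Fintype F] (g : GL chevE6.Idx F) (hg : g ∈ chevE6.group F) (hg2 : g * g = 1) (hg1 : g ≠ 1) :
    ConjIn chevE6 g (wordG cert12_E6.c6.c2 F [71]) ∨ ConjIn chevE6 g (wordG cert12_E6.c6.c2 F [68, 66]) ∨
      ConjIn chevE6 g (wordG cert12_E6.c6.c2 F [55, 65, 67]) := by
  obtain ⟨k, hk, Ws, hWs, hconj⟩ :=
    exists_conj_yS cert12_E6 lowStmt_E6 (odd_card_diag cert12_E6) tabE6 tabE6_chk g hg hg2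
  have hy : yS cert12_E6 F Ws = wordG cert12_E6.c6.c2 F (Ws.map (wsRoot fdE6 fxE6)) := by
    rw [← lp_eq_wordG cert12_E6, List.map_map]
    rfl
  rw [hy] at hconj
  have hc : ConjIn chevE6 g (wordG cert12_E6.c6.c2 F (Ws.map (wsRoot fdE6 fxE6))) := hconj
  rcases tabE6_inr k hk Ws hWs with e | e | e | e | e | e <;> rw [e] at hc
  · exact Or.inr (Or.inr ((hc.trans e6_fuse).trans e6_move3c))
  · exact Or.inr (Or.inr (hc.trans e6_move3b))
  · exact Or.inr (Or.inr (hc.trans e6_move3a))
  · exact Or.inr (Or.inl (hc.trans e6_move2))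
  · exact Or.inl hc
  · exfalso
    obtain ⟨h, hh, e1⟩ := hc
    apply hg1
    have : h * g * h⁻¹ = 1 := e1
    calc g = h⁻¹ * (h * g * h⁻¹) * h := by group
      _ = 1 := by rw [this]; group

end Cfsg.Agent.Lib.H6.Inv
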