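import Mathlib
import Cfsg.Prelude.Def_Perm
import Cfsg.Agent.Lib.H2.SzAutCard

/-!
# S4025 piece SUBP (architect helper19)

`|F| = 2^r`, `r` prime: a subgroup `I ≤ AΓL(1,F)` containing the translations and transitive on the
additive subgroups of order `2` (stabilizer of `0`) is `AΓL(1,F)` or `AGL(1,F)`.
-/

set_option autoImplicit false

namespace Cfsg.Agent.Lib.H6.EOC

open Cfsg

variable {F : Type*} [Field F]

/-- `φ` is the field-automorphism part of the semi-affine map `g`. -/
def SigRel (g : Equiv.Perm F) (φ : RingAut F) : Prop :=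
  ∃ (a : Fˣ) (b : F), ∀ x, g x = (a : F) * φ x + b

theorem mem_semiaffine_iff (g : Equiv.Perm F) :
    g ∈ Cfsg.semiaffineGroup F ↔ ∃ φ : RingAut F, SigRel g φ := by
  constructor
  · rintro ⟨a, b, φ, h⟩
    exact ⟨φ, a, b, h⟩
  · rintro ⟨φ, a, b, h⟩
    exact ⟨a, b, φ, h⟩

theorem sigrel_unique {g : Equiv.Perm F} {φ ψ : RingAut F} (h1 : SigRel g φ) (h2 : SigRel g ψ) :
    φ = ψ := by
  obtain ⟨a, b, h1⟩ := h1
  obtain ⟨c, d, h2⟩ := h2
  have hb : b = d := by
    have e1 := h1 0
    have e2 := h2 0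
    rw [map_zero φ, mul_zero, zero_add] at e1
    rw [map_zero ψ, mul_zero, zero_add] at e2
    rw [← e1, ← e2]
  have ha : (a : F) = c := by
    have e1 := h1 1
    have e2 := h2 1
    rw [map_one φ, mul_one] at e1
    rw [map_one ψ, mul_one] at e2
    rw [e1, hb] at e2
    exact add_right_cancel e2
  apply RingEquiv.ext
  intro x
  have e1 := h1 x
  have e2 := h2 x
  rw [e1, hb, ha] at e2
  have e3 := add_right_cancel e2
  exact mul_left_cancel₀ c.ne_zero e3

theorem sigrel_one : SigRel (1 : Equiv.Perm F) (1 : RingAut F) :=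
  ⟨1, 0, fun x => by simp⟩

theorem sigrel_mul {g h : Equiv.Perm F} {φ ψ : RingAut F} (h1 : SigRel g φ) (h2 : SigRel h ψ) :
    SigRel (g * h) (φ * ψ) := by
  obtain ⟨a, b, h1⟩ := h1
  obtain ⟨c, d, h2⟩ := h2
  refine ⟨a * Units.map (φ : F →* F) c, (a : F) * φ d + b, fun x => ?_⟩
  simp only [Equiv.Perm.coe_mul, Function.comp_apply, h2, h1, Units.val_mul, Units.coe_map,
    MonoidHom.coe_coe, RingAut.mul_apply, map_add, map_mul, mul_add, mul_assoc, add_assoc]

theorem sigrel_pow {g : Equiv.Perm F} {φ : RingAut F} (h1 : SigRel g φ) (k : ℕ) :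
    SigRel (g ^ k) (φ ^ k) := by
  induction k with
  | zero => simpa using sigrel_one
  | succ k ih =>
    rw [pow_succ, pow_succ]
    exact sigrel_mul ih h1

/-- a semi-affine map fixing `0` is `x ↦ (g 1) * φ x`. -/
theorem sigrel_fix_zero {g : Equiv.Perm F} {φ : RingAut F} (h1 : SigRel g φ) (h0 : g 0 = 0) :
    ∀ x, g x = g 1 * φ x := by
  obtain ⟨a, b, h1⟩ := h1
  have hb : b = 0 := by
    have e1 := h1 0
    rw [map_zero φ, mul_zero, zero_add, h0] at e1
    exact e1.symm
  have ha : g 1 = a := by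
    rw [h1 1, map_one φ, mul_one, hb, add_zero]
  intro x
  rw [h1 x, hb, add_zero, ha]

/-- the additive subgroup `{0, v}` in characteristic two. -/
def pairSub (h2 : ∀ x : F, x + x = 0) (v : F) : AddSubgroup F where
  carrier := {0, v}
  zero_mem' := Or.inl rfl
  add_mem' := by
    rintro a b (rfl | rfl) (rfl | rfl)
    · left; simp
    · right; simp
    · right; simp
    · left; exact h2 _
  neg_mem' := by
    rintro a (rfl | rfl)
    · left; simp
    · right
      exact neg_eq_of_add_eq_zero_left (h2 _)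

theorem card_pairSub (h2 : ∀ x : F, x + x = 0) {v : F} (hv : v ≠ 0) :
    Nat.card (pairSub h2 v) = 2 := by
  have : Nat.card (pairSub h2 v) = ({0, v} : Set F).ncard := Nat.card_coe_set_eq _
  rw [this, Set.ncard_pair (Ne.symm hv)]

theorem two_pow_sub_one_coprime {r : ℕ} (hr : r.Prime) : Nat.Coprime (2 ^ r - 1) r := by
  rw [Nat.coprime_comm, Nat.Prime.coprime_iff_not_dvd hr]
  intro hdvd
  have : Fact r.Prime := ⟨hr⟩
  have h1 : ((2 ^ r - 1 : ℕ) : ZMod r) = 0 := (ZMod.natCast_eq_zero_iff _ _).2 hdvd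
  have h2 : ((2 ^ r - 1 : ℕ) : ZMod r) + 1 = 2 := by
    have : 2 ^ r - 1 + 1 = 2 ^ r := Nat.sub_add_cancel Nat.one_le_two_pow
    have h3 : (((2 ^ r - 1 + 1 : ℕ)) : ZMod r) = ((2 ^ r : ℕ) : ZMod r) := by rw [this]
    push_cast at h3
    rw [ZMod.pow_card] at h3
    exact h3
  rw [h1, zero_add] at h2
  have h3 : (1 : ZMod r) = 0 := by
    have h4 : (2 : ZMod r) = 1 + 1 := by norm_num
    rw [h4] at h2
    exact left_eq_add.mp h2
  exact one_ne_zero h3

/-- **SUBP**. -/
theorem subp {F : Type*} [Field F] [Finite F] (r : ℕ) (hr : r.Prime) (hF : Nat.card F = 2 ^ r)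
    (I : Subgroup (Equiv.Perm F)) (hI : I ≤ Cfsg.semiaffineGroup F)
    (htrl : ∀ b : F, ∃ g ∈ I, ∀ y, g y = y + b)
    (htr1 : ∀ A B : AddSubgroup F, Nat.card A = 2 → Nat.card B = 2 →
      ∃ g ∈ I, g 0 = 0 ∧ ∀ y, y ∈ B ↔ ∃ x ∈ A, g x = y) :
    I = Cfsg.semiaffineGroup F ∨ I = Cfsg.affineGroup F := by
  classical
  cases nonempty_fintype F
  have : Fact (Nat.Prime 2) := ⟨Nat.prime_two⟩
  have hFc : Fintype.card F = 2 ^ r := by rw [← Nat.card_eq_fintype_card]; exact hF
  -- characteristic two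
  have hchar : CharP F 2 := by
    obtain ⟨q, hq⟩ := CharP.exists F
    have hqp : Fact q.Prime := ⟨CharP.char_is_prime F q⟩
    obtain ⟨k, hk⟩ := FiniteField.card F q
    have : q = 2 := by
      have h1 : q ∣ 2 ^ r := by
        rw [← hFc, hk.2]
        exact dvd_pow_self q (PNat.ne_zero k)
      exact (Nat.prime_dvd_prime_iff_eq hqp.out Nat.prime_two).1 (hqp.out.dvd_of_dvd_pow h1)
    rw [← this]
    exact hq
  have h2 : ∀ x : F, x + x = 0 := fun x => CharTwo.add_self_eq_zero x
  -- the automorphism group has prime order `r`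
  have hAut : Nat.card (RingAut F) = r := Cfsg.Agent.Lib.H2.SzAut.card_ringAut hFc
  have : Fact (Nat.card (RingAut F)).Prime := ⟨by rw [hAut]; exact hr⟩
  -- point-transitivity of the stabilizer of `0`
  have htr : ∀ w : F, w ≠ 0 → ∃ g ∈ I, g 0 = 0 ∧ g 1 = w := by
    intro w hw
    obtain ⟨g, hgI, hg0, hg⟩ := htr1 (pairSub h2 1) (pairSub h2 w) (card_pairSub h2 one_ne_zero)
      (card_pairSub h2 hw)
    refine ⟨g, hgI, hg0, ?_⟩
    have h1 : g 1 ∈ pairSub h2 w := (hg (g 1)).2 ⟨1, Or.inr rfl, rfl⟩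
    rcases h1 with h1 | h1
    · exfalso
      have : g 1 = g 0 := by rw [hg0]; exact h1
      exact one_ne_zero (g.injective this)
    · exact h1
  -- the multiplications lie in `I` as soon as their automorphism part does
  have hSig := (I.comap (RingAut.toPerm F)).eq_bot_or_eq_top_of_prime_card
  rcases hSig with hbot | htop
  · -- `I = AGL`
    right
    -- key claim: elements of `I` fixing `0` have trivial automorphism part
    have hI0card : Nat.card (I ⊓ MulAction.stabilizer (Equiv.Perm F) (0 : F) : Subgroup (Equiv.Perm F))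
        = 2 ^ r - 1 := by
      set I0 : Subgroup (Equiv.Perm F) := I ⊓ MulAction.stabilizer (Equiv.Perm F) (0 : F) with hI0
      have hmem : ∀ g : Equiv.Perm F, g ∈ I0 ↔ g ∈ I ∧ g 0 = 0 := by
        intro g
        rw [hI0, Subgroup.mem_inf, MulAction.mem_stabilizer_iff, Equiv.Perm.smul_def]
      have horb : MulAction.orbit I0 (1 : F) = ({0} : Set F)ᶜ := by
        ext w
        constructor
        · rintro ⟨⟨g, hg⟩, rfl⟩
          show (g : Equiv.Perm F) 1 ∈ ({0} : Set F)ᶜ
          intro h0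
          have h0' : g 1 = 0 := h0
          have : g 1 = g 0 := by rw [((hmem g).1 hg).2]; exact h0'
          exact one_ne_zero (g.injective this)
        · intro hw
          have hw' : w ≠ 0 := hw
          obtain ⟨g, hgI, hg0, hg1⟩ := htr w hw'
          exact ⟨⟨g, (hmem g).2 ⟨hgI, hg0⟩⟩, hg1⟩
      have hstab : MulAction.stabilizer I0 (1 : F) = ⊥ := by
        rw [eq_bot_iff]
        rintro ⟨g, hg⟩ hg1
        rw [Subgroup.mem_bot]
        have hg1' : g 1 = 1 := hg1
        obtain ⟨hgI, hg0⟩ := (hmem g).1 hg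
        obtain ⟨φ, hφ⟩ := (mem_semiaffine_iff g).1 (hI hgI)
        have hgx := sigrel_fix_zero hφ hg0
        have hgφ : g = RingAut.toPerm F φ := by
          ext x
          rw [hgx x, hg1', one_mul]
          rfl
        have hφmem : φ ∈ I.comap (RingAut.toPerm F) := by
          rw [Subgroup.mem_comap, ← hgφ]
          exact hgI
        rw [hbot, Subgroup.mem_bot] at hφmem
        apply Subtype.ext
        show g = 1
        rw [hgφ, hφmem, map_one]
      have h1 := Subgroup.card_mul_index (MulAction.stabilizer I0 (1 : F))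
      rw [MulAction.index_stabilizer, horb, hstab, Subgroup.card_bot, one_mul,
        Set.ncard_compl, Set.ncard_singleton, hF] at h1
      exact h1.symm
    have hkey : ∀ h ∈ I, h 0 = 0 → ∀ ψ : RingAut F, SigRel h ψ → ψ = 1 := by
      intro h hhI hh0 ψ hψ
      have hmemI0 : h ∈ (I ⊓ MulAction.stabilizer (Equiv.Perm F) (0 : F) : Subgroup (Equiv.Perm F)) := by
        rw [Subgroup.mem_inf, MulAction.mem_stabilizer_iff, Equiv.Perm.smul_def]
        exact ⟨hhI, hh0⟩
      have hpow : h ^ (2 ^ r - 1) = 1 := by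
        have := pow_card_eq_one' (G := (I ⊓ MulAction.stabilizer (Equiv.Perm F) (0 : F) :
          Subgroup (Equiv.Perm F))) (x := ⟨h, hmemI0⟩)
        rw [hI0card] at this
        exact congrArg Subtype.val this
      have h1 : ψ ^ (2 ^ r - 1) = 1 := by
        have := sigrel_pow hψ (2 ^ r - 1)
        rw [hpow] at this
        exact sigrel_unique this sigrel_one
      have h3 : ψ ^ r = 1 := by
        have := pow_card_eq_one' (G := RingAut F) (x := ψ)
        rw [hAut] at this
        exact this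
      have h4 : orderOf ψ ∣ Nat.gcd (2 ^ r - 1) r :=
        Nat.dvd_gcd (orderOf_dvd_of_pow_eq_one h1) (orderOf_dvd_of_pow_eq_one h3)
      rw [two_pow_sub_one_coprime hr, Nat.dvd_one, orderOf_eq_one_iff] at h4
      exact h4
    apply le_antisymm
    · intro g hgI
      obtain ⟨φ, a, b, hg⟩ := (mem_semiaffine_iff g).1 (hI hgI)
      obtain ⟨t, htI, ht⟩ := htrl b
      have hhI : t⁻¹ * g ∈ I := I.mul_mem (I.inv_mem htI) hgI
      have hh : ∀ x, (t⁻¹ * g) x = (a : F) * φ x := by
        intro x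
        rw [Equiv.Perm.mul_apply, Equiv.Perm.inv_def, Equiv.symm_apply_eq, ht, hg x]
      have hh0 : (t⁻¹ * g) 0 = 0 := by rw [hh 0, map_zero, mul_zero]
      have hφ1 : φ = 1 := hkey _ hhI hh0 φ ⟨a, 0, fun x => by rw [hh x, add_zero]⟩
      refine ⟨a, b, fun x => ?_⟩
      rw [hg x, hφ1]
      rfl
    · rintro g ⟨a, b, hg⟩
      obtain ⟨t, htI, ht⟩ := htrl b
      obtain ⟨h, hhI, hh0, hh1⟩ := htr (a : F) a.ne_zero
      obtain ⟨ψ, hψ⟩ := (mem_semiaffine_iff h).1 (hI hhI)
      have hψ1 : ψ = 1 := hkey h hhI hh0 ψ hψ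
      have hhx := sigrel_fix_zero hψ hh0
      have : g = t * h := by
        ext x
        rw [Equiv.Perm.mul_apply, ht, hhx x, hh1, hψ1, hg x]
        rfl
      rw [this]
      exact I.mul_mem htI hhI
  · -- `I = AΓL`
    left
    apply le_antisymm hI
    intro g hg
    obtain ⟨φ, a, b, hg⟩ := (mem_semiaffine_iff g).1 hg
    obtain ⟨t, htI, ht⟩ := htrl b
    obtain ⟨h, hhI, hh0, hh1⟩ := htr (a : F) a.ne_zero
    obtain ⟨ψ, hψ⟩ := (mem_semiaffine_iff h).1 (hI hhI)
    have hhx := sigrel_fix_zero hψ hh0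
    have hmemtop : ∀ σ : RingAut F, RingAut.toPerm F σ ∈ I := by
      intro σ
      have : σ ∈ I.comap (RingAut.toPerm F) := by rw [htop]; exact Subgroup.mem_top σ
      exact this
    have : g = t * h * (RingAut.toPerm F ψ)⁻¹ * RingAut.toPerm F φ := by
      ext x
      simp only [Equiv.Perm.mul_apply]
      rw [ht, hhx, hh1, hg x]
      congr 2
      show φ x = ψ ((RingAut.toPerm F ψ)⁻¹ (RingAut.toPerm F φ x))
      have : ∀ y, ψ ((RingAut.toPerm F ψ)⁻¹ y) = y := by
        intro y
        have h5 : (RingAut.toPerm F ψ) ((RingAut.toPerm F ψ)⁻¹ y) = y := by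
          rw [Equiv.Perm.inv_def, Equiv.apply_symm_apply]
        exact h5
      rw [this]
      rfl
    rw [this]
    exact I.mul_mem (I.mul_mem (I.mul_mem htI hhI) (I.inv_mem (hmemtop ψ))) (hmemtop φ)

end Cfsg.Agent.Lib.H6.EOC
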