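/-
S2546 piece BTU (architect helper8; twin by helper6): `B = T U`, `T ∩ U = 1`, `B` normalises `U`.
-/
import Cfsg.Agent.Lib.H4.FBNLEVI

set_option autoImplicit false
set_option linter.unusedSectionVars false
set_option linter.unusedVariables false

namespace Cfsg.Agent.Lib.H6.FBN

open Matrix Cfsg.Agent.Lib.H12.DCos Cfsg.Agent.Lib.H8.FBN

variable {F : Type*} [Field F] {n : ℕ} (φ : F →+* F)

/-- the diagonal of `g⁻¹ g` for `g ∈ B` -/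
theorem inv_diag_mul_diag (b : ↥(GS (n := n) φ)) (hb : b ∈ Bs φ) (k : Fin n) :
    ((b⁻¹ : ↥(GS (n := n) φ)).1 : Matrix (Fin n) (Fin n) F) k k * (b.1 : Matrix (Fin n) (Fin n) F) k k = 1 := by
  have hb' : b⁻¹ ∈ Bs φ := (Bs φ).inv_mem hb
  have h := IsUp.mul_diag (mem_Bs.mp hb') (mem_Bs.mp hb) k
  rw [← val_mul, inv_mul_cancel, val_one, Matrix.one_apply_eq] at h
  exact h.symm

theorem Bs_eq_Ts_mul_Us (b : ↥(GS (n := n) φ)) (hb : b ∈ Bs φ) : ∃ t ∈ Ts φ, ∃ u ∈ Us φ, b = t * u := by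
  set t : ↥(GS (n := n) φ) := mkGS φ (Matrix.diagonal (fun k => (b.1 : Matrix (Fin n) (Fin n) F) k k))
    (Cfsg.Agent.Lib.H4.FBN.diag_mul_star φ b hb) with ht
  have htval : (t.1 : Matrix (Fin n) (Fin n) F) =
      Matrix.diagonal (fun k => (b.1 : Matrix (Fin n) (Fin n) F) k k) := rfl
  have htT : t ∈ Ts φ := by
    intro k l hkl
    show (t.1 : Matrix (Fin n) (Fin n) F) k l = 0
    rw [htval, Matrix.diagonal_apply_ne _ hkl]
  have htB : t ∈ Bs φ := Ts_le_Bs htT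
  refine ⟨t, htT, t⁻¹ * b, ?_, by rw [mul_inv_cancel_left]⟩
  have hB : t⁻¹ * b ∈ Bs φ := (Bs φ).mul_mem ((Bs φ).inv_mem htB) hb
  refine ⟨hB, fun k => ?_⟩
  rw [val_mul, IsUp.mul_diag (mem_Bs.mp ((Bs φ).inv_mem htB)) (mem_Bs.mp hb) k]
  have h1 := inv_diag_mul_diag φ t htB k
  rw [htval, Matrix.diagonal_apply_eq] at h1
  exact h1

theorem eq_one_of_mem_Ts_of_mem_Us (g : ↥(GS (n := n) φ)) (ht : g ∈ Ts φ) (hu : g ∈ Us φ) : g = 1 := by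
  apply ext_val
  rw [val_one]
  ext k l
  by_cases h : k = l
  · subst h
    rw [Matrix.one_apply_eq]
    exact hu.2 k
  · rw [Matrix.one_apply_ne h]
    exact ht k l h

theorem Us_conj_mem (b u : ↥(GS (n := n) φ)) (hb : b ∈ Bs φ) (hu : u ∈ Us φ) : b⁻¹ * u * b ∈ Us φ := by
  have hb' : b⁻¹ ∈ Bs φ := (Bs φ).inv_mem hb
  have huB : u ∈ Bs φ := Us_le_Bs hu
  have h1 : b⁻¹ * u ∈ Bs φ := (Bs φ).mul_mem hb' huB
  refine ⟨(Bs φ).mul_mem h1 hb, fun k => ?_⟩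
  rw [val_mul, IsUp.mul_diag (mem_Bs.mp h1) (mem_Bs.mp hb) k, val_mul,
    IsUp.mul_diag (mem_Bs.mp hb') (mem_Bs.mp huB) k, hu.2 k, mul_one]
  exact inv_diag_mul_diag φ b hb k

end Cfsg.Agent.Lib.H6.FBN
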