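/-
S2546 piece GEN-C (architect helper8; twin by helper6): the row-reduction step for `n` even and the row `l = n/2`.
-/
import Cfsg.Agent.Lib.H1.FBNGEN0

set_option autoImplicit false
set_option linter.unusedSectionVars false
set_option linter.unusedVariables false

namespace Cfsg.Agent.Lib.H6.FBN

open Matrix Cfsg.Agent.Lib.H12.DCos Cfsg.Agent.Lib.H8.FBN

variable {F : Type*} [Field F] {n : ℕ} (φ : F →+* F)

theorem star_add' (A B : Matrix (Fin n) (Fin n) F) : star φ (A + B) = star φ A + star φ B := by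
  ext k l
  rw [H8.FBN.star_apply, Matrix.add_apply, Matrix.add_apply, H8.FBN.star_apply, H8.FBN.star_apply, map_add]

theorem star_single' (a b : Fin n) (c : F) :
    star φ (Matrix.single a b c) = Matrix.single b.rev a.rev (φ c) := by
  ext k l
  rw [H8.FBN.star_apply, Matrix.single_apply, Matrix.single_apply]
  by_cases h : a = l.rev ∧ b = k.rev
  · rw [if_pos h, if_pos]
    obtain ⟨h1, h2⟩ := h
    exact ⟨by rw [h2, Fin.rev_rev], by rw [h1, Fin.rev_rev]⟩
  · rw [if_neg h, map_zero, if_neg]
    rintro ⟨h1, h2⟩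
    apply h
    exact ⟨by rw [← h2, Fin.rev_rev], by rw [← h1, Fin.rev_rev]⟩

/-- the long root element lies in `GS φ` (local copy of piece ROOT-L) -/
theorem xLm_mul_star' (a : Fin n) (ha : a ≠ a.rev) (c : F) (hc : c + φ c = 0) :
    xLm a c * star φ (xLm a c) = 1 := by
  unfold xLm
  rw [star_add', H8.FBN.star_one, star_single', Fin.rev_rev, Matrix.mul_add, Matrix.add_mul, Matrix.add_mul,
    Matrix.one_mul, Matrix.one_mul, Matrix.mul_one,
    Matrix.single_mul_single_of_ne _ _ _ _ (Ne.symm ha) _]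
  rw [add_zero, add_assoc, ← Matrix.single_add, hc, Matrix.single_zero, add_zero]

theorem xLm_apply (a : Fin n) (c : F) (i l : Fin n) :
    xLm a c i l = (if i = l then 1 else 0) + if a = i ∧ a.rev = l then c else 0 := by
  unfold xLm
  rw [Matrix.add_apply, Matrix.one_apply, Matrix.single_apply]

/-- `(xLm a c * M) i l = M i l + [i = a] c M (rev a) l` -/
theorem xLm_mul_apply (a : Fin n) (c : F) (M : Matrix (Fin n) (Fin n) F) (i l : Fin n) :
    (xLm a c * M) i l = M i l + if a = i then c * M a.rev l else 0 := by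
  unfold xLm
  rw [Matrix.add_mul, Matrix.one_mul, Matrix.add_apply]
  congr 1
  by_cases h : a = i
  · subst h
    rw [if_pos rfl, Matrix.single_mul_apply_same]
  · rw [if_neg h, Matrix.single_mul_apply_of_ne _ _ _ _ _ (Ne.symm h)]

/-- step C: `n` even, row `l = n/2` -/
theorem gen_stepC (hφ2 : ∀ x, φ (φ x) = x) (k l : ℕ) (hk : k < n / 2) (hn : n % 2 = 0) (hl : l = n / 2)
    (g : ↥(GS (n := n) φ)) (hg : Tri k (g.1 : Matrix (Fin n) (Fin n) F))
    (hz : ∀ i c : Fin n, (c : ℕ) = k → l < (i : ℕ) → (g.1 : Matrix (Fin n) (Fin n) F) i c = 0)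
    (hne : ∀ i c : Fin n, (c : ℕ) = k → (i : ℕ) = l → (g.1 : Matrix (Fin n) (Fin n) F) i c ≠ 0) :
    ∃ r ∈ Bs φ ⊔ Ns φ, Tri k (r.1 : Matrix (Fin n) (Fin n) F) ∧
      ∀ i c : Fin n, (c : ℕ) = k → l ≤ (i : ℕ) → ((r * g).1 : Matrix (Fin n) (Fin n) F) i c = 0 := by
  subst hl
  have hn0 : 0 < n / 2 := by omega
  -- the indices
  let j : Fin (n / 2) := ⟨n / 2 - 1, by omega⟩
  let a : Fin n := ⟨n / 2 - 1, by omega⟩
  let b : Fin n := ⟨n / 2, by omega⟩
  let kk : Fin n := ⟨k, by omega⟩
  have hja : (j : ℕ) = n / 2 - 1 := rfl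
  have hav : (a : ℕ) = n / 2 - 1 := rfl
  have hbv : (b : ℕ) = n / 2 := rfl
  have hkv : (kk : ℕ) = k := rfl
  have harev : a.rev = b := by
    apply Fin.ext
    rw [Fin.val_rev, hav, hbv]
    omega
  have hbrev : b.rev = a := by rw [← harev, Fin.rev_rev]
  have hab : a ≠ a.rev := by
    rw [harev]
    intro h
    have := congrArg Fin.val h
    rw [hav, hbv] at this
    omega
  have hjlast : ¬ (j : ℕ) + 1 < n / 2 := by rw [hja]; omega
  -- the pivot and the parameter
  set G : Matrix (Fin n) (Fin n) F := (g.1 : Matrix (Fin n) (Fin n) F) with hG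
  have hpiv : G b kk ≠ 0 := hne b kk hkv hbv
  set c : F := - G a kk / G b kk with hc
  -- isotropy of column `k`
  have hkrev : kk ≠ kk.rev := by
    intro h
    have := congrArg Fin.val h
    rw [Fin.val_rev, hkv] at this
    omega
  have hiso := Cfsg.Agent.Lib.H1.FBN.col_isotropic φ g kk hkrev
  rw [← hG] at hiso
  have hiso2 : φ (G b kk) * G a kk + φ (G a kk) * G b kk = 0 := by
    rw [← hiso]
    symm
    rw [Finset.sum_eq_add_of_mem a b (Finset.mem_univ _) (Finset.mem_univ _) (by rw [← harev]; exact hab)]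
    · rw [harev, hbrev]
    · intro i _ hi
      by_cases h1 : n / 2 < (i : ℕ)
      · rw [hz i kk hkv h1, mul_zero]
      · have h2 : n / 2 < ((i.rev : Fin n) : ℕ) := by
          rw [Fin.val_rev]
          have hia : (i : ℕ) ≠ n / 2 - 1 := fun h => hi.1 (Fin.ext h)
          have hib : (i : ℕ) ≠ n / 2 := fun h => hi.2 (Fin.ext h)
          omega
        rw [hz i.rev kk hkv h2, map_zero, zero_mul]
  have hφpiv : φ (G b kk) ≠ 0 := by
    intro h
    apply hpiv
    have := congrArg φ h
    rw [hφ2, map_zero] at this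
    exact this
  have hcc : c + φ c = 0 := by
    rw [hc, map_div₀, map_neg]
    field_simp
    linear_combination (-1 : F) * hiso2
  -- the root element and `r`
  have hx1 : xLm a c * star φ (xLm a c) = 1 := xLm_mul_star' φ a hab c hcc
  set x : ↥(GS (n := n) φ) := mkGS φ (xLm a c) hx1 with hx
  have hxval : (x.1 : Matrix (Fin n) (Fin n) F) = xLm a c := rfl
  have hxB : x ∈ Bs φ := by
    intro i m hmi
    show (x.1 : Matrix (Fin n) (Fin n) F) i m = 0
    rw [hxval, xLm_apply, if_neg (ne_of_gt hmi), if_neg, add_zero]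
    rintro ⟨h1, h2⟩
    rw [← h1, ← h2, harev] at hmi
    have := Fin.lt_def.mp hmi
    rw [hav, hbv] at this
    omega
  refine ⟨sRef φ j * x, ?_, ?_, ?_⟩
  · exact Subgroup.mul_mem _ ((le_sup_right : Ns φ ≤ Bs φ ⊔ Ns φ) (sRef_mem_Ns φ j))
      ((le_sup_left : Bs φ ≤ Bs φ ⊔ Ns φ) hxB)
  · -- the first `k` columns of `r` are upper triangular
    intro i m hmk hmi
    rw [sRef_mul_apply, hxval, xLm_apply]
    have hτ : ((τ j i : Fin n) : ℕ) = if (i : ℕ) = n / 2 - 1 then n / 2 else if (i : ℕ) = n / 2 then n / 2 - 1 else i := by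
      rw [τ_val, if_neg hjlast, hja]
      split_ifs <;> omega
    have hmi' := Fin.lt_def.mp hmi
    rw [if_neg, if_neg, add_zero]
    · rintro ⟨_, h2⟩
      have := congrArg Fin.val h2
      rw [harev, hbv] at this
      omega
    · intro h
      have := congrArg Fin.val h
      rw [hτ] at this
      split_ifs at this <;> omega
  · -- the entries of column `k` from the row `n/2` on vanish
    intro i m hmk hli
    have hm : m = kk := Fin.ext (by rw [hmk])
    subst hm
    rw [mul_assoc, sRef_mul_apply, val_mul, hxval, xLm_mul_apply, ← hG]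
    have hτ : ((τ j i : Fin n) : ℕ) = if (i : ℕ) = n / 2 - 1 then n / 2 else if (i : ℕ) = n / 2 then n / 2 - 1 else i := by
      rw [τ_val, if_neg hjlast, hja]
      split_ifs <;> omega
    rcases Nat.eq_or_lt_of_le hli with h | h
    · -- row `n/2`: it becomes row `a`
      have hτi : τ j i = a := by
        apply Fin.ext
        rw [hτ, hav]
        split_ifs <;> omega
      rw [hτi, if_pos rfl, harev, hc]
      field_simp
      ring
    · have hτi : τ j i = i := by
        apply Fin.ext
        rw [hτ]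
        split_ifs <;> omega
      rw [hτi, hz i kk hkv h, if_neg, add_zero]
      intro h'
      have := congrArg Fin.val h'
      rw [hav] at this
      omega

end Cfsg.Agent.Lib.H6.FBN
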