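import Mathlib
import Cfsg.Prelude.Def_Blocks
import Cfsg.Agent.Lib.H23.CharGalois
import Cfsg.Agent.Lib.H24.CharOrth
import Cfsg.Agent.Lib.H22.MaxClass2

/-!
# S4923, piece QUAD (helper6): the stabiliser of `η + η^ε` in the cyclotomic Galois group
-/

set_option autoImplicit false

namespace Cfsg.Agent.Lib.H6.FV

open Cfsg.Agent.Lib.H23

/-- **QUAD** (stabiliser of `η + η^ε` in the cyclotomic Galois group). -/
theorem quad (m : ℕ) [NeZero m] (hm : Even m) (η : CyclotomicField m ℚ) (hη : IsPrimitiveRoot η m)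
    (ε : (ZMod m)ˣ) (hε : ε * ε = 1) (hq : (η * η ^ (ε : ZMod m).val) ^ 2 = 1)
    (σ : Gal(CyclotomicField m ℚ/ℚ)) :
    σ (η + η ^ (ε : ZMod m).val) = η + η ^ (ε : ZMod m).val ↔
      (cycGalEquiv m σ = 1 ∨ cycGalEquiv m σ = ε) := by
  have hm0 : 0 < m := NeZero.pos m
  have hm2 : 1 < m := by
    obtain ⟨c, hc⟩ := hm
    omega
  have : Fact (1 < m) := ⟨hm2⟩
  have hηm : η ^ m = 1 := hη.pow_eq_one
  obtain ⟨k, hkdef⟩ : ∃ k : ℕ, k = (cycPow m σ).val := ⟨_, rfl⟩
  obtain ⟨e, hedef⟩ : ∃ e : ℕ, e = (ε : ZMod m).val := ⟨_, rfl⟩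
  rw [← hedef] at hq ⊢
  have hση : σ η = η ^ k := by rw [hkdef]; exact cycAut_pow m σ η hηm
  have hk_lt : k < m := by rw [hkdef]; exact ZMod.val_lt _
  have he_lt : e < m := by rw [hedef]; exact ZMod.val_lt _
  -- `e * e ≡ 1`
  have hee : η ^ (e * e) = η := by
    have h1 : ((e * e : ℕ) : ZMod m) = 1 := by
      rw [Nat.cast_mul, hedef, ZMod.natCast_val, ZMod.cast_id', id_eq, ← Units.val_mul, hε,
        Units.val_one]
    have h2 : (e * e) % m = 1 % m := by
      have := (ZMod.natCast_eq_natCast_iff' (e * e) 1 m).mp (by rw [h1, Nat.cast_one])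
      exact this
    rw [← Nat.mod_add_div (e * e) m, pow_add, pow_mul, hηm, one_pow, mul_one, h2,
      Nat.mod_eq_of_lt hm2, pow_one]
  constructor
  · intro h
    -- `k` is odd
    have hkodd : Odd k := by
      have hcop : Nat.Coprime k m := by
        rw [hkdef]
        exact ZMod.val_coe_unit_coprime (cycGalEquiv m σ)
      rcases Nat.even_or_odd k with hke | hko
      · exfalso
        have h2k : 2 ∣ k := even_iff_two_dvd.mp hke
        have h2m : 2 ∣ m := even_iff_two_dvd.mp hm
        have := Nat.dvd_gcd h2k h2m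
        rw [hcop] at this
        omega
      · exact hko
    set q := η * η ^ e with hqdef
    have hqk : q ^ k = q := by
      obtain ⟨j, hj⟩ := hkodd
      rw [hj, pow_succ, pow_mul, hq, one_pow, one_mul]
    set a := η ^ k with hadef
    set b := η ^ (k * e) with hbdef
    have hab : a * b = q := by
      rw [← hqk, hqdef, mul_pow, ← pow_mul, mul_comm e k]
    have hsum : a + b = η + η ^ e := by
      have h1 : σ (η + η ^ e) = a + b := by
        rw [map_add, map_pow, hση, ← pow_mul]
      rw [← h1, h]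
    have hfac : (a - η) * (a - η ^ e) = 0 := by
      have : (a - η) * (a - η ^ e) = a * a - (η + η ^ e) * a + η * η ^ e := by ring
      rw [this, ← hsum, ← hqdef, ← hab]
      ring
    have hcases : k = 1 ∨ k = e := by
      rcases mul_eq_zero.mp hfac with h1 | h1
      · left
        have h2 : η ^ k = η ^ 1 := by rw [pow_one]; exact sub_eq_zero.mp h1
        exact hη.pow_inj hk_lt hm2 h2
      · right
        have h2 : η ^ k = η ^ e := sub_eq_zero.mp h1
        exact hη.pow_inj hk_lt he_lt h2
    rcases hcases with h1 | h1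
    · left
      apply Units.ext
      apply ZMod.val_injective m
      show (cycPow m σ).val = ((1 : (ZMod m)ˣ) : ZMod m).val
      rw [← hkdef, h1, Units.val_one, ZMod.val_one]
    · right
      apply Units.ext
      apply ZMod.val_injective m
      show (cycPow m σ).val = (ε : ZMod m).val
      rw [← hkdef, h1, hedef]
  · rintro (h | h)
    · have hk1 : k = 1 := by
        rw [hkdef]
        show ((cycGalEquiv m σ : (ZMod m)ˣ) : ZMod m).val = 1
        rw [h, Units.val_one, ZMod.val_one]
      rw [map_add, map_pow, hση, hk1, pow_one]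
    · have hke : k = e := by
        rw [hkdef, hedef]
        show ((cycGalEquiv m σ : (ZMod m)ˣ) : ZMod m).val = (ε : ZMod m).val
        rw [h]
      rw [map_add, map_pow, hση, hke, ← pow_mul, hee, add_comm]

end Cfsg.Agent.Lib.H6.FV
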