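import Mathlib
import Cfsg.Prelude.Def_FischerSpaces
import Cfsg.Agent.Lib.H9.Fischer1

set_option autoImplicit false
open Cfsg Cfsg.LineSystem

namespace Cfsg.Agent.Lib.H6.FischerSp

variable {G : Type*} [Group G] {D : Set G}

/-- working hypotheses on a set of 3-transpositions -/
structure TT (D : Set G) : Prop where
  sq : ∀ d ∈ D, d * d = 1
  braid : ∀ d ∈ D, ∀ e ∈ D, ¬ Commute d e → d * e * d = e * d * e
  conj : ∀ g : G, ∀ d ∈ D, g * d * g⁻¹ ∈ D

theorem TT.of_group (hD : Cfsg.IsThreeTranspositionGroup D) : TT D := by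
  obtain ⟨⟨h1, h2⟩, h3, -⟩ := hD
  have hsq : ∀ d ∈ D, d * d = 1 := by
    intro d hd
    have := pow_orderOf_eq_one d
    rw [h1 d hd, pow_two] at this
    exact this
  refine ⟨hsq, ?_, h3⟩
  intro d hd e he hne
  have hdi : d⁻¹ = d := inv_eq_of_mul_eq_one_left (hsq d hd)
  have hei : e⁻¹ = e := inv_eq_of_mul_eq_one_left (hsq e he)
  rcases h2 d hd e he with h | h
  · exfalso
    apply hne
    show d * e = e * d
    have : d * e = (d * e)⁻¹ := by
      rw [eq_inv_iff_mul_eq_one, ← pow_two]; exact h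
    rw [this, mul_inv_rev, hdi, hei]
  · have : d * e * d = (e * d * e)⁻¹ := by
      rw [eq_inv_iff_mul_eq_one]
      rw [pow_succ, pow_two] at h
      rw [← h]; group
    rw [this, mul_inv_rev, mul_inv_rev, hdi, hei, mul_assoc]

/-- the third point of the line through `x` and `y` -/
def T (x y : G) : G := y * x * y⁻¹

theorem T_conj (g x y : G) : g * T x y * g⁻¹ = T (g * x * g⁻¹) (g * y * g⁻¹) := by
  unfold T; group

theorem commute_conj_iff (g x y : G) :
    Commute (g * x * g⁻¹) (g * y * g⁻¹) ↔ Commute x y := by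
  constructor
  · intro h
    have h' : g * x * g⁻¹ * (g * y * g⁻¹) = g * y * g⁻¹ * (g * x * g⁻¹) := h
    show x * y = y * x
    have e1 : g * x * g⁻¹ * (g * y * g⁻¹) = g * (x * y) * g⁻¹ := by group
    have e2 : g * y * g⁻¹ * (g * x * g⁻¹) = g * (y * x) * g⁻¹ := by group
    rw [e1, e2] at h'
    exact mul_left_cancel (mul_right_cancel h')
  · intro h
    have h' : x * y = y * x := h
    show g * x * g⁻¹ * (g * y * g⁻¹) = g * y * g⁻¹ * (g * x * g⁻¹)
    have e1 : g * x * g⁻¹ * (g * y * g⁻¹) = g * (x * y) * g⁻¹ := by group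
    have e2 : g * y * g⁻¹ * (g * x * g⁻¹) = g * (y * x) * g⁻¹ := by group
    rw [e1, e2, h']

namespace TT

variable (h : TT D)
include h

theorem inv_eq {d : G} (hd : d ∈ D) : d⁻¹ = d := inv_eq_of_mul_eq_one_left (h.sq d hd)

theorem T_mem {x : G} (hx : x ∈ D) (y : G) : T x y ∈ D := h.conj y x hx

theorem T_comm {x y : G} (hx : x ∈ D) (hy : y ∈ D) (hxy : ¬ Commute x y) : T x y = T y x := by
  unfold T
  rw [h.inv_eq hx, h.inv_eq hy]
  exact (h.braid x hx y hy hxy).symm

theorem not_commute_T_right {x y : G} (hx : x ∈ D) (hy : y ∈ D) (hxy : ¬ Commute x y) :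
    ¬ Commute y (T x y) := by
  intro hc
  apply hxy
  have h' : y * (y * x * y⁻¹) = y * x * y⁻¹ * y := hc
  show x * y = y * x
  have e1 : y * (y * x * y⁻¹) = (y * y) * x * y⁻¹ := by group
  have e2 : y * x * y⁻¹ * y = y * x := by group
  rw [e1, e2, h.sq y hy, one_mul, h.inv_eq hy] at h'
  exact h'

theorem not_commute_T_left {x y : G} (hx : x ∈ D) (hy : y ∈ D) (hxy : ¬ Commute x y) :
    ¬ Commute x (T x y) := by
  rw [h.T_comm hx hy hxy]
  exact h.not_commute_T_right hy hx (fun hc => hxy hc.symm)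

theorem T_T_left {x y : G} (hx : x ∈ D) (hy : y ∈ D) (hxy : ¬ Commute x y) :
    T x (T x y) = y := by
  unfold T
  have e : y⁻¹ * x * y = x * y * x := by rw [h.inv_eq hy]; exact (h.braid x hx y hy hxy).symm
  calc y * x * y⁻¹ * x * (y * x * y⁻¹)⁻¹ = y * x * (y⁻¹ * x * y) * x⁻¹ * y⁻¹ := by group
    _ = y * x * (x * y * x) * x⁻¹ * y⁻¹ := by rw [e]
    _ = y * (x * x) * y * y⁻¹ := by group
    _ = y := by rw [h.sq x hx]; group

theorem T_T_right {x y : G} (hx : x ∈ D) (hy : y ∈ D) (hxy : ¬ Commute x y) :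
    T y (T x y) = x := by
  rw [h.T_comm hx hy hxy]
  exact h.T_T_left hy hx (fun hc => hxy hc.symm)

/-- the relation: `x`, `y` do not commute and `z` is the third point of their line -/
def R (x y z : G) : Prop := ¬ Commute x y ∧ z = T x y

omit h in
theorem R_mk {x y : G} (hxy : ¬ Commute x y) : R x y (T x y) := ⟨hxy, rfl⟩

theorem R_swap {x y z : G} (hx : x ∈ D) (hy : y ∈ D) (hr : R x y z) : R y x z := by
  obtain ⟨h1, rfl⟩ := hr
  exact ⟨fun hc => h1 hc.symm, h.T_comm hx hy h1⟩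

theorem R_rot {x y z : G} (hx : x ∈ D) (hy : y ∈ D) (hr : R x y z) : R x z y := by
  obtain ⟨h1, rfl⟩ := hr
  exact ⟨h.not_commute_T_left hx hy h1, (h.T_T_left hx hy h1).symm⟩

omit h in
theorem R_mem (h : TT D) {x y z : G} (hx : x ∈ D) (hr : R x y z) : z ∈ D := by
  obtain ⟨-, rfl⟩ := hr
  exact h.T_mem hx y

theorem R_perms {x y z : G} (hx : x ∈ D) (hy : y ∈ D) (hr : R x y z) :
    R y x z ∧ R x z y ∧ R z x y ∧ R y z x ∧ R z y x := by
  have hz : z ∈ D := R_mem h hx hr
  have h1 := h.R_swap hx hy hr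
  have h2 := h.R_rot hx hy hr
  have h3 := h.R_swap hx hz h2
  have h4 := h.R_rot hy hx h1
  have h5 := h.R_swap hy hz h4
  exact ⟨h1, h2, h3, h4, h5⟩

end TT

/-- the line through two points of `D` -/
def line (x y : ↥D) : Set ↥D :=
  {z | (z : G) = x ∨ (z : G) = y ∨ (z : G) = (y : G) * x * (y : G)⁻¹}

theorem mem_lines_iff (l : Set ↥D) :
    l ∈ threeTranspositionLines D ↔ ∃ x y : ↥D, ¬ Commute (x : G) y ∧ l = line x y := Iff.rfl

theorem line_mem_lines {x y : ↥D} (hxy : ¬ Commute (x : G) y) :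
    line x y ∈ threeTranspositionLines D := ⟨x, y, hxy, rfl⟩

theorem line_eq_of_R {x y z : ↥D} (hr : TT.R (x : G) y z) : line x y = {x, y, z} := by
  ext w
  simp only [line, Set.mem_ofPred_eq, Set.mem_insert_iff, Set.mem_singleton_iff, Subtype.ext_iff,
    hr.2, T]

theorem line_eq_line_of_R {p q r x y t : ↥D} (h1 : TT.R (p : G) q r) (h2 : TT.R (x : G) y t)
    (hset : ({p, q, r} : Set ↥D) = {x, y, t}) : line x y = line p q := by
  rw [line_eq_of_R h1, line_eq_of_R h2, hset]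

theorem left_mem_line (x y : ↥D) : x ∈ line x y := Or.inl rfl
theorem right_mem_line (x y : ↥D) : y ∈ line x y := Or.inr (Or.inl rfl)

namespace TT

variable (h : TT D)
include h

/-- the third point as a member of the subtype -/
def Tm (x y : ↥D) : ↥D := ⟨T (x : G) y, h.T_mem x.2 y⟩

theorem third_mem_line (x y : ↥D) : h.Tm x y ∈ line x y := Or.inr (Or.inr rfl)

theorem line_eq_of_mem {x y p q : ↥D} (hxy : ¬ Commute (x : G) y) (hp : p ∈ line x y)
    (hq : q ∈ line x y) (hpq : p ≠ q) : ¬ Commute (p : G) q ∧ line x y = line p q := by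
  obtain ⟨t, ht⟩ : ∃ t : ↥D, (t : G) = T (x : G) y := ⟨h.Tm x y, rfl⟩
  have hr : R (x : G) y t := ⟨hxy, ht⟩
  obtain ⟨h1, h2, h3, h4, h5⟩ := h.R_perms x.2 y.2 hr
  have hp' : p = x ∨ p = y ∨ p = t := by
    rcases hp with e | e | e
    · exact Or.inl (Subtype.ext e)
    · exact Or.inr (Or.inl (Subtype.ext e))
    · exact Or.inr (Or.inr (Subtype.ext (e.trans ht.symm)))
  have hq' : q = x ∨ q = y ∨ q = t := by
    rcases hq with e | e | e
    · exact Or.inl (Subtype.ext e)
    · exact Or.inr (Or.inl (Subtype.ext e))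
    · exact Or.inr (Or.inr (Subtype.ext (e.trans ht.symm)))
  have hs : ∀ {u v w : ↥D}, R (u : G) v w →
      (∀ z : ↥D, (z = u ∨ z = v ∨ z = w) ↔ (z = x ∨ z = y ∨ z = t)) →
      ¬ Commute (u : G) v ∧ line x y = line u v := by
    intro u v w huv hz
    refine ⟨huv.1, line_eq_line_of_R huv hr ?_⟩
    ext z
    simp only [Set.mem_insert_iff, Set.mem_singleton_iff]
    exact hz z
  rcases hp' with rfl | rfl | rfl <;> rcases hq' with rfl | rfl | rfl
  · exact absurd rfl hpq
  · exact hs hr (fun z => Iff.rfl)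
  · exact hs h2 (fun z => by tauto)
  · exact hs h1 (fun z => by tauto)
  · exact absurd rfl hpq
  · exact hs h4 (fun z => by tauto)
  · exact hs h3 (fun z => by tauto)
  · exact hs h5 (fun z => by tauto)
  · exact absurd rfl hpq

theorem isPartialLinear : IsPartialLinear (threeTranspositionLines D) := by
  rintro l ⟨x, y, hxy, rfl⟩ m ⟨x', y', hxy', rfl⟩ p q hpq hpl hql hpm hqm
  exact ((h.line_eq_of_mem hxy hpl hql hpq).2).trans ((h.line_eq_of_mem hxy' hpm hqm hpq).2).symm

theorem ncard_line {x y : ↥D} (hxy : ¬ Commute (x : G) y) : (line x y).ncard = 3 := by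
  have hr : R (x : G) y (h.Tm x y) := ⟨hxy, rfl⟩
  rw [line_eq_of_R hr]
  refine Set.ncard_eq_three.mpr ⟨x, y, h.Tm x y, ?_, ?_, ?_, rfl⟩
  · rintro rfl; exact hxy (Commute.refl _)
  · intro e
    apply h.not_commute_T_left x.2 y.2 hxy
    have : (x : G) = T (x : G) y := congrArg Subtype.val e
    rw [← this]
  · intro e
    apply h.not_commute_T_right x.2 y.2 hxy
    have : (y : G) = T (x : G) y := congrArg Subtype.val e
    rw [← this]

theorem ncard_eq_three : ∀ l ∈ threeTranspositionLines D, l.ncard = 3 := by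
  rintro l ⟨x, y, hxy, rfl⟩
  exact h.ncard_line hxy

end TT

end Cfsg.Agent.Lib.H6.FischerSp
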