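import Mathlib
import Cfsg.Prelude.Def_FischerSpaces
import Cfsg.Agent.Lib.H9.Fischer1
import Cfsg.Agent.Lib.H6.FischerSp1

set_option autoImplicit false
open Cfsg Cfsg.LineSystem

namespace Cfsg.Agent.Lib.H6.FischerSp

open Cfsg.Agent.Lib.H9.Fischer (Third subset_span isSubspace_span)

variable {G : Type*} [Group G] {D : Set G}

section transfer

variable {P : Type*} {M : Set (Set P)} (h : TT D) (f : P → ↥D)
  (hM1 : ∀ μ ∈ M, ∃ p q r, Third M p q r ∧ μ = {p, q, r})
  (hM2 : ∀ p q r, Third M p q r → TT.R (f p : G) (f q) (f r))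
  (hM3 : ∀ p q, p ≠ q → (∃ r, Third M p q r) ∨ (Commute (f p : G) (f q) ∧ f p ≠ f q))

include hM2 hM3 in
theorem transfer_injective : Function.Injective f := by
  intro p q hpq
  by_contra hne
  rcases hM3 p q hne with ⟨r, hr⟩ | ⟨-, h2⟩
  · apply (hM2 p q r hr).1
    rw [hpq]
  · exact h2 hpq

include h hM2 hM3 in
theorem transfer_subspace : IsSubspace (threeTranspositionLines D) (Set.range f) := by
  rintro l ⟨x0, y0, h0, rfl⟩ x ⟨p, rfl⟩ y ⟨q, rfl⟩ hxy hxl hyl
  obtain ⟨hnc, hline⟩ := h.line_eq_of_mem h0 hxl hyl hxy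
  have hpq : p ≠ q := fun e => hxy (by rw [e])
  rcases hM3 p q hpq with ⟨r, hr⟩ | ⟨h1, -⟩
  · show line x0 y0 ⊆ Set.range f
    rw [hline, line_eq_of_R (hM2 p q r hr)]
    intro u hu
    simp only [Set.mem_insert_iff, Set.mem_singleton_iff] at hu
    rcases hu with rfl | rfl | rfl
    · exact ⟨p, rfl⟩
    · exact ⟨q, rfl⟩
    · exact ⟨r, rfl⟩
  · exact absurd h1 hnc

include h hM1 hM2 hM3 in
theorem transfer_iso :
    Isomorphic (restrict (threeTranspositionLines D) (Set.range f)) M := by
  have hinj := transfer_injective f hM2 hM3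
  refine ⟨(Equiv.ofInjective f hinj).symm, ?_⟩
  have he : ∀ (x : ↥(Set.range f)) (p : P),
      (Equiv.ofInjective f hinj).symm x = p ↔ (x : ↥D) = f p := by
    intro x p
    constructor
    · intro e
      subst e
      exact (Equiv.apply_ofInjective_symm hinj x).symm
    · intro e
      have : x = Equiv.ofInjective f hinj p := Subtype.ext e
      rw [this, Equiv.symm_apply_apply]
  intro lam
  constructor
  · rintro ⟨l, ⟨x0, y0, h0, rfl⟩, hsub, rfl⟩
    obtain ⟨p, hp⟩ := hsub (left_mem_line x0 y0)
    obtain ⟨q, hq⟩ := hsub (right_mem_line x0 y0)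
    subst hp hq
    have hpq : p ≠ q := by
      rintro rfl
      exact h0 (Commute.refl _)
    rcases hM3 p q hpq with ⟨r, hr⟩ | ⟨h1, -⟩
    · have hset : (Equiv.ofInjective f hinj).symm ''
          {x : ↥(Set.range f) | (x : ↥D) ∈ line (f p) (f q)} = {p, q, r} := by
        rw [line_eq_of_R (hM2 p q r hr)]
        ext s
        simp only [Set.mem_image, Set.mem_ofPred_eq, Set.mem_insert_iff, Set.mem_singleton_iff]
        constructor
        · rintro ⟨x, hx, rfl⟩
          rcases hx with hx | hx | hx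
          · exact Or.inl ((he x p).mpr hx)
          · exact Or.inr (Or.inl ((he x q).mpr hx))
          · exact Or.inr (Or.inr ((he x r).mpr hx))
        · rintro (rfl | rfl | rfl)
          · exact ⟨Equiv.ofInjective f hinj s, Or.inl rfl, Equiv.symm_apply_apply _ _⟩
          · exact ⟨Equiv.ofInjective f hinj s, Or.inr (Or.inl rfl), Equiv.symm_apply_apply _ _⟩
          · exact ⟨Equiv.ofInjective f hinj s, Or.inr (Or.inr rfl), Equiv.symm_apply_apply _ _⟩
      show (Equiv.ofInjective f hinj).symm ''
          {x : ↥(Set.range f) | (x : ↥D) ∈ line (f p) (f q)} ∈ M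
      rw [hset]
      exact hr.2.2.2
    · exact absurd h1 h0
  · intro hlam
    obtain ⟨p, q, r, hr, hset⟩ := hM1 _ hlam
    have hR := hM2 p q r hr
    refine ⟨line (f p) (f q), line_mem_lines hR.1, ?_, ?_⟩
    · rw [line_eq_of_R hR]
      intro u hu
      simp only [Set.mem_insert_iff, Set.mem_singleton_iff] at hu
      rcases hu with rfl | rfl | rfl
      · exact ⟨p, rfl⟩
      · exact ⟨q, rfl⟩
      · exact ⟨r, rfl⟩
    · rw [line_eq_of_R hR]
      ext x
      simp only [Set.mem_ofPred_eq, Set.mem_insert_iff, Set.mem_singleton_iff]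
      rw [← he x p, ← he x q, ← he x r]
      have : x ∈ lam ↔ (Equiv.ofInjective f hinj).symm x ∈ (Equiv.ofInjective f hinj).symm '' lam :=
        ((Equiv.ofInjective f hinj).symm.injective.mem_set_image).symm
      rw [this, hset]
      simp only [Set.mem_insert_iff, Set.mem_singleton_iff]

include h hM1 hM2 hM3 in
theorem transfer {U : Set ↥D} (hU : U ⊆ Set.range f)
    (hgen : ∀ S : Set ↥D, U ⊆ S → IsSubspace (threeTranspositionLines D) S → ∀ p, f p ∈ S) :
    Isomorphic (restrict (threeTranspositionLines D) (span (threeTranspositionLines D) U)) M := by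
  have hspan : span (threeTranspositionLines D) U = Set.range f := by
    apply Set.Subset.antisymm
    · exact Set.sInter_subset_of_mem ⟨hU, transfer_subspace h f hM2 hM3⟩
    · rintro x ⟨p, rfl⟩
      simp only [span, Set.mem_sInter, Set.mem_ofPred_eq]
      rintro S ⟨hS1, hS2⟩
      exact hgen S hS1 hS2 p
  have key : ∀ S : Set ↥D, S = Set.range f →
      Isomorphic (restrict (threeTranspositionLines D) S) M := by
    rintro S rfl
    exact transfer_iso h f hM1 hM2 hM3
  exact key _ hspan

end transfer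

end Cfsg.Agent.Lib.H6.FischerSp
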