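import Mathlib
import Cfsg.Prelude.Def_FischerSpaces
import Cfsg.Agent.Lib.H9.Fischer1
import Cfsg.Agent.Lib.H9.Fischer2
import Cfsg.Agent.Lib.H6.FischerSp1
import Cfsg.Agent.Lib.H6.FischerSp2

set_option autoImplicit false
open Cfsg Cfsg.LineSystem

namespace Cfsg.Agent.Lib.H6.FischerSp

open Cfsg.Agent.Lib.H9.Fischer (Third subset_span isSubspace_span T' da_third_iff)

variable {G : Type*} [Group G] {D : Set G}

/-- the six permutations of a triple -/
def perms6 {P : Type*} (t : P × P × P) : List (P × P × P) :=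
  [(t.1, t.2.1, t.2.2), (t.2.1, t.1, t.2.2), (t.1, t.2.2, t.2.1), (t.2.2, t.1, t.2.1),
    (t.2.1, t.2.2, t.1), (t.2.2, t.2.1, t.1)]

theorem R_of_mem_perms {P : Type*} (h : TT D) (f : P → ↥D) (base : List (P × P × P))
    (hbase : ∀ t ∈ base, TT.R (f t.1 : G) (f t.2.1) (f t.2.2)) :
    ∀ t ∈ base.flatMap perms6, TT.R (f t.1 : G) (f t.2.1) (f t.2.2) := by
  intro t ht
  rw [List.mem_flatMap] at ht
  obtain ⟨t0, ht0, ht⟩ := ht
  have hr := hbase t0 ht0
  obtain ⟨h1, h2, h3, h4, h5⟩ := h.R_perms (f t0.1).2 (f t0.2.1).2 hr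
  simp only [perms6, List.mem_cons, List.not_mem_nil, or_false] at ht
  rcases ht with rfl | rfl | rfl | rfl | rfl | rfl
  · exact hr
  · exact h1
  · exact h2
  · exact h3
  · exact h4
  · exact h5

/-! ### the dual affine plane case -/

namespace ModelA

def pa : DualAffinePoint := ⟨{2, 3}, by decide⟩
def pb : DualAffinePoint := ⟨{1, 3}, by decide⟩
def pb' : DualAffinePoint := ⟨{1, 2}, by decide⟩
def pc : DualAffinePoint := ⟨{0, 2}, by decide⟩
def pc' : DualAffinePoint := ⟨{0, 3}, by decide⟩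
def pd : DualAffinePoint := ⟨{0, 1}, by decide⟩

def baseA : List (DualAffinePoint × DualAffinePoint × DualAffinePoint) :=
  [(pa, pb, pb'), (pa, pc, pc'), (pb, pc', pd), (pb', pc, pd)]

def commA : List (DualAffinePoint × DualAffinePoint) :=
  [(pb, pc), (pc, pb), (pb', pc'), (pc', pb'), (pa, pd), (pd, pa)]

set_option maxRecDepth 100000 in
theorem decA2 : ∀ p q r : DualAffinePoint, T' p q r → (p, q, r) ∈ baseA.flatMap perms6 := by
  decide

set_option maxRecDepth 100000 in
theorem decA3 : ∀ p q : DualAffinePoint, p ≠ q → (∃ r, T' p q r) ∨ (p, q) ∈ commA := by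
  decide

set_option maxRecDepth 100000 in
theorem decA1 : ∀ i : Fin 4, ∃ p q r : DualAffinePoint, T' p q r ∧
    ∀ s : DualAffinePoint, i ∉ s.val ↔ (s = p ∨ s = q ∨ s = r) := by
  decide

set_option maxRecDepth 100000 in
theorem decA0 : ∀ p : DualAffinePoint,
    p = pa ∨ p = pb ∨ p = pb' ∨ p = pc ∨ p = pc' ∨ p = pd := by
  decide

/-- the map from the model to `D` -/
def fA (a b b' c c' d : ↥D) : DualAffinePoint → ↥D := fun s =>
  if s.val = {2, 3} then a else if s.val = {1, 3} then b else if s.val = {1, 2} then b'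
  else if s.val = {0, 2} then c else if s.val = {0, 3} then c' else d

variable (a b b' c c' d : ↥D)

theorem fA_pa : fA a b b' c c' d pa = a := by
  unfold fA; rw [if_pos (show pa.val = {2, 3} from rfl)]
theorem fA_pb : fA a b b' c c' d pb = b := by
  unfold fA; rw [if_neg (show ¬ pb.val = {2, 3} by decide), if_pos (show pb.val = {1, 3} from rfl)]
theorem fA_pb' : fA a b b' c c' d pb' = b' := by
  unfold fA
  rw [if_neg (show ¬ pb'.val = {2, 3} by decide), if_neg (show ¬ pb'.val = {1, 3} by decide),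
    if_pos (show pb'.val = {1, 2} from rfl)]
theorem fA_pc : fA a b b' c c' d pc = c := by
  unfold fA
  rw [if_neg (show ¬ pc.val = {2, 3} by decide), if_neg (show ¬ pc.val = {1, 3} by decide),
    if_neg (show ¬ pc.val = {1, 2} by decide), if_pos (show pc.val = {0, 2} from rfl)]
theorem fA_pc' : fA a b b' c c' d pc' = c' := by
  unfold fA
  rw [if_neg (show ¬ pc'.val = {2, 3} by decide), if_neg (show ¬ pc'.val = {1, 3} by decide),
    if_neg (show ¬ pc'.val = {1, 2} by decide), if_neg (show ¬ pc'.val = {0, 2} by decide),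
    if_pos (show pc'.val = {0, 3} from rfl)]
theorem fA_pd : fA a b b' c c' d pd = d := by
  unfold fA
  rw [if_neg (show ¬ pd.val = {2, 3} by decide), if_neg (show ¬ pd.val = {1, 3} by decide),
    if_neg (show ¬ pd.val = {1, 2} by decide), if_neg (show ¬ pd.val = {0, 2} by decide),
    if_neg (show ¬ pd.val = {0, 3} by decide)]

variable {a b b' c c' d}

theorem main (h : TT D) (h1 : TT.R (a : G) b b') (h2 : TT.R (a : G) c c')
    (h3 : TT.R (b : G) c' d) (h4 : TT.R (b' : G) c d)
    (k1 : Commute (b : G) c) (k1' : b ≠ c) (k2 : Commute (b' : G) c') (k2' : b' ≠ c')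
    (k3 : Commute (a : G) d) (k3' : a ≠ d) :
    Isomorphic (restrict (threeTranspositionLines D)
      (span (threeTranspositionLines D) (line a b ∪ line a c))) dualAffinePlaneTwo := by
  have hbase : ∀ t ∈ baseA, TT.R (fA a b b' c c' d t.1 : G) (fA a b b' c c' d t.2.1)
      (fA a b b' c c' d t.2.2) := by
    intro t ht
    simp only [baseA, List.mem_cons, List.not_mem_nil, or_false] at ht
    rcases ht with rfl | rfl | rfl | rfl
    · simp only [fA_pa, fA_pb, fA_pb']; exact h1
    · simp only [fA_pa, fA_pc, fA_pc']; exact h2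
    · simp only [fA_pb, fA_pc', fA_pd]; exact h3
    · simp only [fA_pb', fA_pc, fA_pd]; exact h4
  have hall := R_of_mem_perms h (fA a b b' c c' d) baseA hbase
  have hcomm : ∀ t ∈ commA, Commute (fA a b b' c c' d t.1 : G) (fA a b b' c c' d t.2) ∧
      fA a b b' c c' d t.1 ≠ fA a b b' c c' d t.2 := by
    intro t ht
    simp only [commA, List.mem_cons, List.not_mem_nil, or_false] at ht
    rcases ht with rfl | rfl | rfl | rfl | rfl | rfl
    · simp only [fA_pb, fA_pc]; exact ⟨k1, k1'⟩
    · simp only [fA_pb, fA_pc]; exact ⟨k1.symm, k1'.symm⟩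
    · simp only [fA_pb', fA_pc']; exact ⟨k2, k2'⟩
    · simp only [fA_pb', fA_pc']; exact ⟨k2.symm, k2'.symm⟩
    · simp only [fA_pa, fA_pd]; exact ⟨k3, k3'⟩
    · simp only [fA_pa, fA_pd]; exact ⟨k3.symm, k3'.symm⟩
  refine transfer h (fA a b b' c c' d) ?_ ?_ ?_ ?_ ?_
  · -- hM1
    rintro μ ⟨i, rfl⟩
    obtain ⟨p, q, r, hT, hs⟩ := decA1 i
    refine ⟨p, q, r, (da_third_iff p q r).mpr hT, ?_⟩
    ext s
    simp only [Set.mem_ofPred_eq, Set.mem_insert_iff, Set.mem_singleton_iff]
    exact hs s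
  · -- hM2
    intro p q r hT
    exact hall (p, q, r) (decA2 p q r ((da_third_iff p q r).mp hT))
  · -- hM3
    intro p q hpq
    rcases decA3 p q hpq with ⟨r, hr⟩ | hm
    · exact Or.inl ⟨r, (da_third_iff p q r).mpr hr⟩
    · exact Or.inr (hcomm (p, q) hm)
  · -- hU
    have hb' : (b' : G) = T (a : G) b := h1.2
    have hc' : (c' : G) = T (a : G) c := h2.2
    rintro x (hx | hx)
    · rcases hx with e | e | e
      · exact ⟨pa, by rw [fA_pa]; exact (Subtype.ext e).symm⟩
      · exact ⟨pb, by rw [fA_pb]; exact (Subtype.ext e).symm⟩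
      · exact ⟨pb', by rw [fA_pb']; exact (Subtype.ext (e.trans hb'.symm)).symm⟩
    · rcases hx with e | e | e
      · exact ⟨pa, by rw [fA_pa]; exact (Subtype.ext e).symm⟩
      · exact ⟨pc, by rw [fA_pc]; exact (Subtype.ext e).symm⟩
      · exact ⟨pc', by rw [fA_pc']; exact (Subtype.ext (e.trans hc'.symm)).symm⟩
  · -- hgen
    intro S hS hsub p
    have ha : a ∈ S := hS (Or.inl (left_mem_line a b))
    have hb : b ∈ S := hS (Or.inl (right_mem_line a b))
    have hb' : b' ∈ S := hS (Or.inl (Or.inr (Or.inr h1.2)))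
    have hc : c ∈ S := hS (Or.inr (right_mem_line a c))
    have hc' : c' ∈ S := hS (Or.inr (Or.inr (Or.inr h2.2)))
    have hd : d ∈ S := by
      have hne : b ≠ c' := by
        rintro rfl
        exact h3.1 (Commute.refl _)
      have := hsub (line b c') (line_mem_lines h3.1) b hb c' hc' hne (left_mem_line b c')
        (right_mem_line b c')
      exact this (Or.inr (Or.inr h3.2))
    rcases decA0 p with rfl | rfl | rfl | rfl | rfl | rfl
    · rw [fA_pa]; exact ha
    · rw [fA_pb]; exact hb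
    · rw [fA_pb']; exact hb'
    · rw [fA_pc]; exact hc
    · rw [fA_pc']; exact hc'
    · rw [fA_pd]; exact hd

end ModelA

/-- conjugating the third point back: `a * (T a c) * a⁻¹ = c` for non-commuting `a`, `c` in `D` -/
theorem TT.conj_T (h : TT D) {x y : G} (hx : x ∈ D) (hy : y ∈ D) (hxy : ¬ Commute x y) :
    x * T x y * x⁻¹ = y := by
  rw [h.T_comm hx hy hxy]
  unfold T
  have : x * (x * y * x⁻¹) * x⁻¹ = (x * x) * y * (x * x)⁻¹ := by group
  rw [this, h.sq x hx]
  group

/-- the case where some point of one line commutes with a point of the other -/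
theorem caseA (h : TT D) {a b c : ↥D} (hab : ¬ Commute (a : G) b) (hac : ¬ Commute (a : G) c)
    (hbc : Commute (b : G) c) (hc : c ∉ line a b) (hc' : h.Tm a c ∉ line a b) :
    Isomorphic (restrict (threeTranspositionLines D)
      (span (threeTranspositionLines D) (line a b ∪ line a c))) dualAffinePlaneTwo := by
  have eA : (a : G) = T (c : G) (T (a : G) c) := (h.T_T_right a.2 c.2 hac).symm
  have hbc' : ¬ Commute (b : G) (T (a : G) c) := by
    intro hc2
    apply hab
    have h3 : Commute (b : G) (T (c : G) (T (a : G) c)) := by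
      have h4 : Commute (b : G) (T (a : G) c * c * (T (a : G) c)⁻¹) :=
        (hc2.mul_right hbc).mul_right hc2.inv_right
      exact h4
    rw [← eA] at h3
    exact h3.symm
  have eb' : T (a : G) b = (a : G) * b * (a : G)⁻¹ := h.T_comm a.2 b.2 hab
  have ec' : T (a : G) c = (a : G) * c * (a : G)⁻¹ := h.T_comm a.2 c.2 hac
  have ec : (c : G) = (a : G) * T (a : G) c * (a : G)⁻¹ := (h.conj_T a.2 c.2 hac).symm
  have hb'c : ¬ Commute (T (a : G) b) (c : G) := by
    intro hc2
    apply hbc'
    rw [eb', ec] at hc2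
    exact (commute_conj_iff _ _ _).mp hc2
  have hb'c' : Commute (T (a : G) b) (T (a : G) c) := by
    rw [eb', ec']
    exact (commute_conj_iff _ _ _).mpr hbc
  have had : Commute (a : G) (T (b : G) (T (a : G) c)) := by
    have h3 : Commute (T (c : G) (T (a : G) c)) (T (b : G) (T (a : G) c)) := by
      unfold T
      exact (commute_conj_iff _ _ _).mpr hbc.symm
    rw [← eA] at h3
    exact h3
  have ed : T (T (a : G) b) (c : G) = T (b : G) (T (a : G) c) := by
    have h3 : (a : G) * T (b : G) (T (a : G) c) * (a : G)⁻¹ = T (b : G) (T (a : G) c) := by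
      have h4 : (a : G) * T (b : G) (T (a : G) c) = T (b : G) (T (a : G) c) * (a : G) := had
      rw [h4]; group
    rw [T_conj, ← eb', ← ec] at h3
    exact h3
  have hnd : (a : G) ≠ T (b : G) (T (a : G) c) := by
    intro e
    apply hc'
    have h3 : T (b : G) (T (b : G) (T (a : G) c)) = T (a : G) c :=
      h.T_T_left b.2 (h.T_mem a.2 _) hbc'
    rw [← e, ← h.T_comm a.2 b.2 hab] at h3
    have h4 : h.Tm a c = h.Tm a b := Subtype.ext h3.symm
    rw [h4]
    exact h.third_mem_line a b
  refine ModelA.main (a := a) (b := b) (b' := h.Tm a b) (c := c) (c' := h.Tm a c)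
    (d := h.Tm b (h.Tm a c)) h ⟨hab, rfl⟩ ⟨hac, rfl⟩ ⟨hbc', rfl⟩ ⟨hb'c, ed.symm⟩ hbc ?_ hb'c' ?_
    had ?_
  · rintro rfl
    exact hc (right_mem_line a b)
  · intro e
    apply hc'
    rw [← e]
    exact h.third_mem_line a b
  · intro e
    exact hnd (congrArg Subtype.val e)

end Cfsg.Agent.Lib.H6.FischerSp
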