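import Mathlib
import Cfsg.Prelude.Def_FischerSpaces
import Cfsg.Agent.Lib.H9.Fischer1
import Cfsg.Agent.Lib.H9.Fischer2
import Cfsg.Agent.Lib.H6.FischerSp1
import Cfsg.Agent.Lib.H6.FischerSp2
import Cfsg.Agent.Lib.H6.FischerSp3

set_option autoImplicit false
open Cfsg Cfsg.LineSystem

namespace Cfsg.Agent.Lib.H6.FischerSp

open Cfsg.Agent.Lib.H9.Fischer (Third subset_span isSubspace_span ag3_third)

variable {G : Type*} [Group G] {D : Set G}

/-! ### the affine plane case -/

namespace ModelB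

abbrev V := Fin 2 → ZMod 3

def baseB : List (V × V × V) :=
  [(![0,0], ![1,0], ![2,0]), (![0,0], ![0,1], ![0,2]), (![1,0], ![0,1], ![2,2]),
   (![1,0], ![0,2], ![2,1]), (![2,0], ![0,1], ![1,2]), (![2,0], ![0,2], ![1,1]),
   (![0,0], ![2,2], ![1,1]), (![0,0], ![2,1], ![1,2]), (![2,2], ![2,1], ![2,0]),
   (![1,2], ![1,1], ![1,0]), (![2,1], ![1,1], ![0,1]), (![2,2], ![1,2], ![0,2])]

set_option maxRecDepth 100000 in
theorem decB2 : ∀ p q : V, p ≠ q → (p, q, -p - q) ∈ baseB.flatMap perms6 := by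
  decide

set_option maxRecDepth 100000 in
theorem decB0 : ∀ v : V, v = ![0,0] ∨ v = ![1,0] ∨ v = ![2,0] ∨ v = ![0,1] ∨ v = ![0,2] ∨
    v = ![2,2] ∨ v = ![2,1] ∨ v = ![1,2] ∨ v = ![1,1] := by
  decide

/-- the third point of a line of the affine plane is `-p - q` -/
theorem third_eq {p q r : V} (hT : Third affinePlaneThree p q r) : r = -p - q := by
  obtain ⟨h1, h2, h3, v, w, hw, hset⟩ := hT
  have hp : p ∈ ({p, q, r} : Set V) := by simp
  have hq : q ∈ ({p, q, r} : Set V) := by simp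
  have hr : r ∈ ({p, q, r} : Set V) := by simp
  rw [hset] at hp hq hr
  obtain ⟨c1, rfl⟩ := hp
  obtain ⟨c2, rfl⟩ := hq
  obtain ⟨c3, rfl⟩ := hr
  have hc12 : c1 ≠ c2 := by rintro rfl; exact h3 rfl
  have hc31 : c3 ≠ c1 := by rintro rfl; exact h1 rfl
  have hc32 : c3 ≠ c2 := by rintro rfl; exact h2 rfl
  have hsum : ∀ c1 c2 c3 : ZMod 3, c1 ≠ c2 → c3 ≠ c1 → c3 ≠ c2 → c1 + c2 + c3 = 0 := by decide
  have hc := hsum c1 c2 c3 hc12 hc31 hc32
  have h3' : (3 : ZMod 3) = 0 := by decide
  funext i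
  simp only [Pi.add_apply, Pi.smul_apply, smul_eq_mul, Pi.sub_apply, Pi.neg_apply]
  linear_combination (w i) * hc + (v i) * h3'

/-- the map from the model to `D` -/
def fB {X : Type*} (tbl : Fin 3 → Fin 3 → X) (v : V) : X := tbl (v 0) (v 1)

variable {a b b' c c' p1 p2 p3 p4 : ↥D}

theorem main (h : TT D)
    (h1 : TT.R (a : G) b b') (h2 : TT.R (a : G) c c') (h3 : TT.R (b : G) c p1)
    (h4 : TT.R (b : G) c' p2) (h5 : TT.R (b' : G) c p3) (h6 : TT.R (b' : G) c' p4)
    (h7 : TT.R (a : G) p1 p4) (h8 : TT.R (a : G) p2 p3) (h9 : TT.R (p1 : G) p2 b')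
    (h10 : TT.R (p3 : G) p4 b) (h11 : TT.R (p2 : G) p4 c) (h12 : TT.R (p1 : G) p3 c') :
    Isomorphic (restrict (threeTranspositionLines D)
      (span (threeTranspositionLines D) (line a b ∪ line a c))) affinePlaneThree := by
  obtain ⟨f, hf⟩ : ∃ f : V → ↥D, f = fB ![![a, c, c'], ![b, p4, p3], ![b', p2, p1]] := ⟨_, rfl⟩
  have f00 : f ![0,0] = a := by rw [hf]; rfl
  have f10 : f ![1,0] = b := by rw [hf]; rfl
  have f20 : f ![2,0] = b' := by rw [hf]; rfl
  have f01 : f ![0,1] = c := by rw [hf]; rfl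
  have f02 : f ![0,2] = c' := by rw [hf]; rfl
  have f22 : f ![2,2] = p1 := by rw [hf]; rfl
  have f21 : f ![2,1] = p2 := by rw [hf]; rfl
  have f12 : f ![1,2] = p3 := by rw [hf]; rfl
  have f11 : f ![1,1] = p4 := by rw [hf]; rfl
  have hbase : ∀ t ∈ baseB, TT.R (f t.1 : G) (f t.2.1) (f t.2.2) := by
    intro t ht
    simp only [baseB, List.mem_cons, List.not_mem_nil, or_false] at ht
    rcases ht with rfl | rfl | rfl | rfl | rfl | rfl | rfl | rfl | rfl | rfl | rfl | rfl
    · simp only [f00, f10, f20]; exact h1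
    · simp only [f00, f01, f02]; exact h2
    · simp only [f10, f01, f22]; exact h3
    · simp only [f10, f02, f21]; exact h4
    · simp only [f20, f01, f12]; exact h5
    · simp only [f20, f02, f11]; exact h6
    · simp only [f00, f22, f11]; exact h7
    · simp only [f00, f21, f12]; exact h8
    · simp only [f22, f21, f20]; exact h9
    · simp only [f12, f11, f10]; exact h10
    · simp only [f21, f11, f01]; exact h11
    · simp only [f22, f12, f02]; exact h12
  have hall := R_of_mem_perms h f baseB hbase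
  refine transfer h f ?_ ?_ ?_ ?_ ?_
  · -- hM1
    rintro μ ⟨v, w, hw, rfl⟩
    have hne : v ≠ v + w := by
      intro e
      apply hw
      have : v + 0 = v + w := by rw [add_zero]; exact e
      exact (add_left_cancel this).symm
    refine ⟨v, v + w, -v - (v + w), ag3_third v (v + w) hne, ?_⟩
    ext x
    simp only [Set.mem_ofPred_eq, Set.mem_insert_iff, Set.mem_singleton_iff]
    have h3' : (3 : ZMod 3) = 0 := by decide
    have e2 : v + (2 : ZMod 3) • w = -v - (v + w) := by
      funext i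
      simp only [Pi.add_apply, Pi.smul_apply, smul_eq_mul, Pi.sub_apply, Pi.neg_apply]
      linear_combination (v i + w i) * h3'
    constructor
    · rintro ⟨c, rfl⟩
      have hc : ∀ c : ZMod 3, c = 0 ∨ c = 1 ∨ c = 2 := by decide
      rcases hc c with rfl | rfl | rfl
      · left; simp
      · right; left; simp
      · right; right; exact e2
    · rintro (rfl | rfl | rfl)
      · exact ⟨0, by simp⟩
      · exact ⟨1, by simp⟩
      · exact ⟨2, e2.symm⟩
  · -- hM2
    intro p q r hT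
    have hr := third_eq hT
    subst hr
    exact hall (p, q, -p - q) (decB2 p q hT.2.2.1)
  · -- hM3
    intro p q hpq
    exact Or.inl ⟨-p - q, ag3_third p q hpq⟩
  · -- hU
    rintro x (hx | hx)
    · rcases hx with e | e | e
      · exact ⟨![0,0], by rw [f00]; exact (Subtype.ext e).symm⟩
      · exact ⟨![1,0], by rw [f10]; exact (Subtype.ext e).symm⟩
      · exact ⟨![2,0], by rw [f20]; exact (Subtype.ext (e.trans h1.2.symm)).symm⟩
    · rcases hx with e | e | e
      · exact ⟨![0,0], by rw [f00]; exact (Subtype.ext e).symm⟩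
      · exact ⟨![0,1], by rw [f01]; exact (Subtype.ext e).symm⟩
      · exact ⟨![0,2], by rw [f02]; exact (Subtype.ext (e.trans h2.2.symm)).symm⟩
  · -- hgen
    intro S hS hsub p
    have ha : a ∈ S := hS (Or.inl (left_mem_line a b))
    have hb : b ∈ S := hS (Or.inl (right_mem_line a b))
    have hb' : b' ∈ S := hS (Or.inl (Or.inr (Or.inr h1.2)))
    have hc : c ∈ S := hS (Or.inr (right_mem_line a c))
    have hc' : c' ∈ S := hS (Or.inr (Or.inr (Or.inr h2.2)))
    have hthird : ∀ {x y z : ↥D}, TT.R (x : G) y z → x ∈ S → y ∈ S → z ∈ S := by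
      intro x y z hr hx hy
      have hne : x ≠ y := by
        rintro rfl
        exact hr.1 (Commute.refl _)
      have := hsub (line x y) (line_mem_lines hr.1) x hx y hy hne (left_mem_line x y)
        (right_mem_line x y)
      exact this (Or.inr (Or.inr hr.2))
    rcases decB0 p with rfl | rfl | rfl | rfl | rfl | rfl | rfl | rfl | rfl
    · rw [f00]; exact ha
    · rw [f10]; exact hb
    · rw [f20]; exact hb'
    · rw [f01]; exact hc
    · rw [f02]; exact hc'
    · rw [f22]; exact hthird h3 hb hc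
    · rw [f21]; exact hthird h4 hb hc'
    · rw [f12]; exact hthird h5 hb' hc
    · rw [f11]; exact hthird h6 hb' hc'

end ModelB

/-- if `x` commutes with the third point of `y, z` then the third point of `x, y` commutes
with `z` (pairwise non-commuting `x, y, z`) -/
theorem TT.lemmaX (h : TT D) {x y z : G} (hx : x ∈ D) (hy : y ∈ D) (hz : z ∈ D)
    (hxy : ¬ Commute x y) (hxz : ¬ Commute x z) (hyz : ¬ Commute y z)
    (hc : Commute x (T y z)) : Commute (T x y) z := by
  have hzd : ¬ Commute z (T y z) := h.not_commute_T_right hy hz hyz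
  have e1 : z * T y z * z⁻¹ = y := by
    have h1 : T (T y z) z = T z (T y z) :=
      h.T_comm (h.T_mem hy z) hz (fun c => hzd c.symm)
    rw [h.T_T_right hy hz hyz] at h1
    exact h1
  have e2 : z * x * z⁻¹ = x * z * x⁻¹ := h.T_comm hx hz hxz
  have c1 : Commute (z * T y z * z⁻¹) (z * x * z⁻¹) := (commute_conj_iff _ _ _).mpr hc.symm
  rw [e1, e2] at c1
  have c2 : Commute (x * y * x⁻¹) (x * (x * z * x⁻¹) * x⁻¹) := (commute_conj_iff _ _ _).mpr c1
  have e3 : x * (x * z * x⁻¹) * x⁻¹ = z := by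
    have : x * (x * z * x⁻¹) * x⁻¹ = (x * x) * z * (x * x)⁻¹ := by group
    rw [this, h.sq x hx]; group
  have e4 : x * y * x⁻¹ = T x y := (h.T_comm hx hy hxy).symm
  rw [e3, e4] at c2
  exact c2

/-- the case where no point of one line (other than the common point) commutes with a point of
the other -/
theorem caseB (h : TT D) {a b c : ↥D} (hab : ¬ Commute (a : G) b) (hac : ¬ Commute (a : G) c)
    (hbc : ¬ Commute (b : G) c) (hbc' : ¬ Commute (b : G) (T (a : G) c))
    (hb'c : ¬ Commute (T (a : G) b) (c : G))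
    (hb'c' : ¬ Commute (T (a : G) b) (T (a : G) c)) :
    Isomorphic (restrict (threeTranspositionLines D)
      (span (threeTranspositionLines D) (line a b ∪ line a c))) affinePlaneThree := by
  have hA := a.2
  have hB := b.2
  have hC := c.2
  have hB' : T (a : G) b ∈ D := h.T_mem hA _
  have hC' : T (a : G) c ∈ D := h.T_mem hA _
  have eb' : T (a : G) b = (a : G) * b * (a : G)⁻¹ := h.T_comm a.2 b.2 hab
  have ec' : T (a : G) c = (a : G) * c * (a : G)⁻¹ := h.T_comm a.2 c.2 hac
  have ec : (a : G) * T (a : G) c * (a : G)⁻¹ = c := h.conj_T a.2 c.2 hac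
  have hac' : ¬ Commute (a : G) (T (a : G) c) := h.not_commute_T_left hA hC hac
  have hcc' : ¬ Commute (c : G) (T (a : G) c) := h.not_commute_T_right hA hC hac
  have hbb' : ¬ Commute (b : G) (T (a : G) b) := h.not_commute_T_right hA hB hab
  have eA : T (c : G) (T (a : G) c) = a := h.T_T_right hA hC hac
  have eA' : T (b : G) (T (a : G) b) = a := h.T_T_right hA hB hab
  -- the points p1 .. p4
  have hP1 : T (b : G) c ∈ D := h.T_mem hB _
  have hP2 : T (b : G) (T (a : G) c) ∈ D := h.T_mem hB _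
  have hP3 : T (T (a : G) b) (c : G) ∈ D := h.T_mem hB' _
  have hP4 : T (T (a : G) b) (T (a : G) c) ∈ D := h.T_mem hB' _
  -- a does not commute with p1, p2
  have hap1 : ¬ Commute (a : G) (T (b : G) c) := fun hc1 =>
    hb'c (h.lemmaX hA hB hC hab hac hbc hc1)
  have hap2 : ¬ Commute (a : G) (T (b : G) (T (a : G) c)) := fun hc1 =>
    hb'c' (h.lemmaX hA hB hC' hab hac' hbc' hc1)
  -- line 7
  have e7 : T (T (a : G) b) (T (a : G) c) = T (a : G) (T (b : G) c) := by
    rw [h.T_comm hA hP1 hap1]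
    have : T (T (b : G) c) (a : G) = (a : G) * T (b : G) c * (a : G)⁻¹ := rfl
    rw [this, T_conj, ← eb', ← ec']
  -- line 8
  have e8 : T (T (a : G) b) (c : G) = T (a : G) (T (b : G) (T (a : G) c)) := by
    rw [h.T_comm hA hP2 hap2]
    have : T (T (b : G) (T (a : G) c)) (a : G) =
        (a : G) * T (b : G) (T (a : G) c) * (a : G)⁻¹ := rfl
    rw [this, T_conj, ← eb', ec]
  -- line 9
  have e1b : T (b : G) c = (b : G) * c * (b : G)⁻¹ := h.T_comm hB hC hbc
  have e2b : T (b : G) (T (a : G) c) = (b : G) * T (a : G) c * (b : G)⁻¹ :=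
    h.T_comm hB hC' hbc'
  have h9a : ¬ Commute (T (b : G) c) (T (b : G) (T (a : G) c)) := by
    rw [e1b, e2b]
    intro hc1
    exact hcc' ((commute_conj_iff _ _ _).mp hc1)
  have e9 : T (a : G) b = T (T (b : G) c) (T (b : G) (T (a : G) c)) := by
    rw [e1b, e2b, ← T_conj, eA]
    rfl
  -- line 10
  have e3b : T (T (a : G) b) (c : G) = T (a : G) b * c * (T (a : G) b)⁻¹ :=
    h.T_comm hB' hC hb'c
  have e4b : T (T (a : G) b) (T (a : G) c) = T (a : G) b * T (a : G) c * (T (a : G) b)⁻¹ :=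
    h.T_comm hB' hC' hb'c'
  have h10a : ¬ Commute (T (T (a : G) b) (c : G)) (T (T (a : G) b) (T (a : G) c)) := by
    rw [e3b, e4b]
    intro hc1
    exact hcc' ((commute_conj_iff _ _ _).mp hc1)
  have e10 : (b : G) = T (T (T (a : G) b) (c : G)) (T (T (a : G) b) (T (a : G) c)) := by
    rw [e3b, e4b, ← T_conj, eA]
    have : T (a : G) b * (a : G) * (T (a : G) b)⁻¹ = T (a : G) (T (a : G) b) := rfl
    rw [this, h.T_T_left hA hB hab]
  -- line 11
  have h11a : ¬ Commute (T (b : G) (T (a : G) c)) (T (T (a : G) b) (T (a : G) c)) := by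
    intro hc1
    exact hbb' ((commute_conj_iff _ _ _).mp hc1)
  have e11 : (c : G) = T (T (b : G) (T (a : G) c)) (T (T (a : G) b) (T (a : G) c)) := by
    have : T (T (b : G) (T (a : G) c)) (T (T (a : G) b) (T (a : G) c)) =
        T (a : G) c * T (b : G) (T (a : G) b) * (T (a : G) c)⁻¹ := (T_conj _ _ _).symm
    rw [this, eA']
    have : T (a : G) c * (a : G) * (T (a : G) c)⁻¹ = T (a : G) (T (a : G) c) := rfl
    rw [this, h.T_T_left hA hC hac]
  -- line 12
  have h12a : ¬ Commute (T (b : G) c) (T (T (a : G) b) (c : G)) := by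
    intro hc1
    exact hbb' ((commute_conj_iff _ _ _).mp hc1)
  have e12 : T (a : G) c = T (T (b : G) c) (T (T (a : G) b) (c : G)) := by
    have : T (T (b : G) c) (T (T (a : G) b) (c : G)) =
        (c : G) * T (b : G) (T (a : G) b) * (c : G)⁻¹ := (T_conj _ _ _).symm
    rw [this, eA']
    rfl
  exact ModelB.main (a := a) (b := b) (b' := h.Tm a b) (c := c) (c' := h.Tm a c)
    (p1 := h.Tm b c) (p2 := h.Tm b (h.Tm a c)) (p3 := h.Tm (h.Tm a b) c)
    (p4 := h.Tm (h.Tm a b) (h.Tm a c)) h ⟨hab, rfl⟩ ⟨hac, rfl⟩ ⟨hbc, rfl⟩ ⟨hbc', rfl⟩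
    ⟨hb'c, rfl⟩ ⟨hb'c', rfl⟩ ⟨hap1, e7⟩ ⟨hap2, e8⟩ ⟨h9a, e9⟩ ⟨h10a, e10⟩ ⟨h11a, e11⟩ ⟨h12a, e12⟩

end Cfsg.Agent.Lib.H6.FischerSp
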