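import Mathlib

/-!
# The Frobenius-action lemma (T1) (helper6)

`K` a finite subgroup of `Γ`, `h ∈ Γ` of finite order normalising `K` such that every nontrivial
power of `h` is fixed-point-free on `K` (so `K⟨h⟩` is a Frobenius group with kernel `K`).  If `Γ` acts on
the abelian group `V`, multiplication by `|K|` is injective on `V` and `h` has no nonzero fixed point
on `V`, then `K` acts trivially on `V`.
-/

set_option autoImplicit false

namespace Cfsg.Agent.Lib.H6.FrobAct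

open Finset

variable {V : Type*} [AddCommGroup V] {Γ : Type*} [Group Γ] [DistribMulAction Γ V]

/-- the commutator map `x ↦ x⁻¹ g x g⁻¹` of `K` for `g` normalising `K` -/
def cmap (K : Subgroup Γ) (g : Γ) (hn : ∀ k ∈ K, g * k * g⁻¹ ∈ K) (x : K) : K :=
  ⟨(x : Γ)⁻¹ * g * x * g⁻¹, by
    have h1 : (x : Γ)⁻¹ * g * x * g⁻¹ = (x : Γ)⁻¹ * (g * x * g⁻¹) := by group
    rw [h1]
    exact K.mul_mem (K.inv_mem x.2) (hn x x.2)⟩

theorem cmap_injective (K : Subgroup Γ) (g : Γ) (hn : ∀ k ∈ K, g * k * g⁻¹ ∈ K)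
    (hfpf : ∀ k ∈ K, g * k * g⁻¹ = k → k = 1) : Function.Injective (cmap K g hn) := by
  intro x y hxy
  have h1 : (x : Γ)⁻¹ * g * x * g⁻¹ = (y : Γ)⁻¹ * g * y * g⁻¹ := congrArg Subtype.val hxy
  have h2 : (x : Γ)⁻¹ * g * x = (y : Γ)⁻¹ * g * y := mul_right_cancel h1
  have h3 : g * ((y : Γ) * (x : Γ)⁻¹) * g⁻¹ = (y : Γ) * (x : Γ)⁻¹ := by
    have : g * (x : Γ) = (x : Γ) * ((y : Γ)⁻¹ * g * y) := by
      rw [← h2]; group
    calc g * ((y : Γ) * (x : Γ)⁻¹) * g⁻¹
        = (y : Γ) * ((y : Γ)⁻¹ * g * y) * (x : Γ)⁻¹ * g⁻¹ := by group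
      _ = (y : Γ) * ((x : Γ)⁻¹ * g * x) * (x : Γ)⁻¹ * g⁻¹ := by rw [h2]
      _ = (y : Γ) * (x : Γ)⁻¹ := by group
  have h4 := hfpf _ (K.mul_mem y.2 (K.inv_mem x.2)) h3
  have h5 : (y : Γ) = x := by
    rw [mul_inv_eq_one] at h4; exact h4
  exact Subtype.ext h5.symm

/-- reindexing the sum over the `K`-conjugates of a fixed-point-free `g` -/
theorem sum_conj (K : Subgroup Γ) [Fintype K] (g : Γ) (hn : ∀ k ∈ K, g * k * g⁻¹ ∈ K)
    (hfpf : ∀ k ∈ K, g * k * g⁻¹ = k → k = 1) (w : V) :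
    ∑ x : K, ((x : Γ)⁻¹ * g * x) • w = ∑ x : K, (x : Γ) • (g • w) := by
  have hbij : Function.Bijective (cmap K g hn) :=
    (Finite.injective_iff_bijective).1 (cmap_injective K g hn hfpf)
  have h1 : ∀ x : K, ((x : Γ)⁻¹ * g * x) • w = ((cmap K g hn x : K) : Γ) • (g • w) := by
    intro x
    rw [← mul_smul]
    congr 1
    show (x : Γ)⁻¹ * g * x = (x : Γ)⁻¹ * g * x * g⁻¹ * g
    group
  rw [Finset.sum_congr rfl (fun x _ => h1 x)]
  exact (Equiv.ofBijective _ hbij).sum_comp (fun y : K => (y : Γ) • (g • w))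

/-- **T1, general cyclic complement.** -/
theorem t1_module_pow (K : Subgroup Γ) [Finite K] (h : Γ) (hfin : 0 < orderOf h)
    (hn : ∀ k ∈ K, h * k * h⁻¹ ∈ K)
    (hfpf : ∀ i : ℕ, h ^ i ≠ 1 → ∀ k ∈ K, h ^ i * k * (h ^ i)⁻¹ = k → k = 1)
    (hcop : ∀ v : V, Nat.card K • v = 0 → v = 0) (hfix : ∀ v : V, h • v = v → v = 0) :
    ∀ k ∈ K, ∀ v : V, k • v = v := by
  classical
  have : Fintype K := Fintype.ofFinite K
  obtain ⟨s', hs'⟩ : ∃ s', orderOf h = s' + 1 := ⟨orderOf h - 1, by omega⟩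
  -- powers of `h` normalise `K`
  have hnpow : ∀ i : ℕ, ∀ k ∈ K, h ^ i * k * (h ^ i)⁻¹ ∈ K := by
    intro i
    induction i with
    | zero => intro k hk; simpa using hk
    | succ i ih =>
      intro k hk
      have : h ^ (i + 1) * k * (h ^ (i + 1))⁻¹ = h * (h ^ i * k * (h ^ i)⁻¹) * h⁻¹ := by
        rw [pow_succ']; group
      rw [this]
      exact hn _ (ih k hk)
  -- the norm vanishes
  have hnorm : ∀ v : V, ∑ i ∈ range (s' + 1), h ^ i • v = 0 := by
    intro v
    apply hfix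
    rw [Finset.smul_sum]
    have e1 : ∑ i ∈ range (s' + 1), h • h ^ i • v = ∑ i ∈ range (s' + 1), h ^ (i + 1) • v := by
      refine Finset.sum_congr rfl (fun i _ => ?_)
      rw [← mul_smul, ← pow_succ']
    rw [e1]
    have e2 := Finset.sum_range_succ (fun i => h ^ i • v) (s' + 1)
    have e3 := Finset.sum_range_succ' (fun i => h ^ i • v) (s' + 1)
    have e4 : h ^ (s' + 1) • v = v := by rw [← hs', pow_orderOf_eq_one, one_smul]
    simp only [pow_zero, one_smul] at e3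
    rw [e4] at e2
    have := e2.symm.trans e3
    exact (add_right_cancel this).symm
  -- the trace over `K`
  set τ : V → V := fun w => ∑ x : K, (x : Γ) • w with hτ
  have hτneg : ∀ w, τ (-w) = - τ w := by
    intro w; simp only [hτ, smul_neg, Finset.sum_neg_distrib]
  have hτsum : ∀ (n : ℕ) (f : ℕ → V), τ (∑ i ∈ range n, f i) = ∑ i ∈ range n, τ (f i) := by
    intro n f
    simp only [hτ, Finset.smul_sum]
    exact Finset.sum_comm
  have key : ∀ v : V, τ v = Nat.card K • v := by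
    intro v
    have h0 : ∑ x : K, (x : Γ)⁻¹ • ∑ i ∈ range (s' + 1), h ^ i • ((x : Γ) • v) = 0 := by
      refine Finset.sum_eq_zero (fun x _ => ?_)
      rw [hnorm, smul_zero]
    have h1 : ∑ x : K, (x : Γ)⁻¹ • ∑ i ∈ range (s' + 1), h ^ i • ((x : Γ) • v)
        = ∑ i ∈ range (s' + 1), ∑ x : K, ((x : Γ)⁻¹ * h ^ i * x) • v := by
      rw [Finset.sum_comm]
      refine Finset.sum_congr rfl (fun x _ => ?_)
      rw [Finset.smul_sum]
      refine Finset.sum_congr rfl (fun i _ => ?_)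
      rw [← mul_smul, ← mul_smul, mul_assoc]
    rw [h1, Finset.sum_range_succ'] at h0
    have h2 : ∑ x : K, ((x : Γ)⁻¹ * h ^ 0 * x) • v = Nat.card K • v := by
      simp [Nat.card_eq_fintype_card]
    have h3 : ∀ i ∈ range s', ∑ x : K, ((x : Γ)⁻¹ * h ^ (i + 1) * x) • v = τ (h ^ (i + 1) • v) := by
      intro i hi
      have hlt : i + 1 < orderOf h := by rw [hs']; have := Finset.mem_range.1 hi; omega
      have hne : h ^ (i + 1) ≠ 1 := pow_ne_one_of_lt_orderOf (Nat.succ_ne_zero i) hlt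
      exact sum_conj K (h ^ (i + 1)) (hnpow (i + 1)) (hfpf (i + 1) hne) v
    rw [h2, Finset.sum_congr rfl h3, ← hτsum] at h0
    have h4 : ∑ i ∈ range s', h ^ (i + 1) • v = -v := by
      have := hnorm v
      rw [Finset.sum_range_succ'] at this
      simp only [pow_zero, one_smul] at this
      exact eq_neg_of_add_eq_zero_left this
    rw [h4, hτneg] at h0
    exact (neg_add_eq_zero.1 h0)
  intro k hk v
  have hinv : k • τ v = τ v := by
    simp only [hτ, Finset.smul_sum, ← mul_smul]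
    exact Equiv.sum_comp (Equiv.mulLeft (⟨k, hk⟩ : K)) (fun y : K => (y : Γ) • v)
  rw [key, smul_comm] at hinv
  have : Nat.card K • (k • v - v) = 0 := by
    rw [smul_sub, hinv, sub_self]
  exact sub_eq_zero.1 (hcop _ this)

/-- a fixed-point-free element of prime order has fixed-point-free nontrivial powers -/
theorem fpf_pow {G : Type*} [Group G] (K : Subgroup G) (h : G) {s : ℕ} (hs : s.Prime)
    (hord : orderOf h = s) (hfpf : ∀ k ∈ K, h * k * h⁻¹ = k → k = 1) :
    ∀ i : ℕ, h ^ i ≠ 1 → ∀ k ∈ K, h ^ i * k * (h ^ i)⁻¹ = k → k = 1 := by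
  intro i hi k hk hik
  have hnd : ¬ s ∣ i := by
    intro hd
    apply hi
    rw [← hord] at hd
    exact orderOf_dvd_iff_pow_eq_one.1 hd
  have hcop : Nat.Coprime i s := (Nat.Coprime.symm ((Nat.Prime.coprime_iff_not_dvd hs).2 hnd))
  obtain ⟨j, hpow⟩ := exists_pow_eq_self_of_coprime (x := h) (n := i) (by rw [hord]; exact hcop)
  have hc : Commute (h ^ i) k := by
    have : h ^ i * k = k * h ^ i := by
      have := congrArg (· * h ^ i) hik
      simpa [mul_assoc] using this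
    exact this
  have hc' : Commute h k := by
    have := hc.pow_left j
    rwa [hpow] at this
  apply hfpf k hk
  rw [hc'.eq, mul_inv_cancel_right]

/-- **T1, complement of prime order.** -/
theorem t1_module (K : Subgroup Γ) [Finite K] (h : Γ) {s : ℕ} (hs : s.Prime)
    (hord : orderOf h = s) (hn : ∀ k ∈ K, h * k * h⁻¹ ∈ K)
    (hfpf : ∀ k ∈ K, h * k * h⁻¹ = k → k = 1)
    (hcop : ∀ v : V, Nat.card K • v = 0 → v = 0) (hfix : ∀ v : V, h • v = v → v = 0) :
    ∀ k ∈ K, ∀ v : V, k • v = v :=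
  t1_module_pow K h (by rw [hord]; exact hs.pos) hn (fpf_pow K h hs hord hfpf) hcop hfix

end Cfsg.Agent.Lib.H6.FrobAct
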