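import Cfsg.Agent.Lib.H18.FrobStructure

/-!
Frobenius complements that are 2-groups with a unique involution; the quotient by the Frobenius
kernel; exponent of the kernel when the complement is regular on its non-identity elements
(helper6).
-/

set_option autoImplicit false

namespace Cfsg.Agent.Lib.H6.FrobQ8

open scoped Pointwise
open Cfsg Cfsg.Agent.Lib.H18 Cfsg.Agent.Lib.H1

variable {G : Type*} [Group G]

/-- A non-identity element killed by `2 ^ k` has a power which is an involution. -/
theorem exists_involution_pow {x : G} (hx : x ≠ 1) :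
    ∀ k : ℕ, x ^ (2 ^ k) = 1 → ∃ j : ℕ, x ^ (2 ^ j) ≠ 1 ∧ x ^ (2 ^ j) * x ^ (2 ^ j) = 1 := by
  intro k
  induction k with
  | zero =>
    intro h
    rw [pow_zero, pow_one] at h
    exact absurd h hx
  | succ k ih =>
    intro h
    by_cases hk : x ^ (2 ^ k) = 1
    · exact ih hk
    · refine ⟨k, hk, ?_⟩
      rw [← pow_add, ← two_mul, ← pow_succ']
      exact h

theorem mem_conj_smul_iff {H : Subgroup G} {g x : G} :
    x ∈ MulAut.conj g • H ↔ g⁻¹ * x * g ∈ H := by
  rw [Subgroup.mem_pointwise_smul_iff_inv_smul_mem]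
  simp [MulAut.smul_def, MulAut.conj_apply]

/-- A proper 2-subgroup with a unique involution `z` and `C_G(z) ≤ S` is a Frobenius complement. -/
theorem isFrobeniusComplement_of_unique_involution (S : Subgroup G)
    (hS2 : ∀ x ∈ S, ∃ k : ℕ, x ^ (2 ^ k) = 1) {z : G} (hz : z ∈ S) (hz1 : z ≠ 1)
    (huniq : ∀ x ∈ S, x ≠ 1 → x * x = 1 → x = z) (hC : ∀ g : G, g * z = z * g → g ∈ S)
    (hne : S ≠ ⊤) : IsFrobeniusComplement S := by
  refine ⟨?_, hne, ?_⟩
  · intro h
    rw [h, Subgroup.mem_bot] at hz
    exact hz1 hz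
  · intro g hg
    rw [eq_bot_iff]
    intro x hx
    rw [Subgroup.mem_bot]
    by_contra hx1
    obtain ⟨hxS, hxg⟩ := hx
    obtain ⟨k, hk⟩ := hS2 x hxS
    obtain ⟨j, hj1, hj2⟩ := exists_involution_pow hx1 k hk
    have hy : x ^ (2 ^ j) = z := huniq _ (S.pow_mem hxS _) hj1 hj2
    have hyg : x ^ (2 ^ j) ∈ MulAut.conj g • S := Subgroup.pow_mem _ hxg _
    rw [mem_conj_smul_iff, hy] at hyg
    have h1 : g⁻¹ * z * g ≠ 1 := by
      intro h
      apply hz1
      have := congrArg (fun t => g * t * g⁻¹) h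
      simpa [mul_assoc] using this
    have h2 : g⁻¹ * z * g * (g⁻¹ * z * g) = 1 := by
      have : g⁻¹ * z * g * (g⁻¹ * z * g) = g⁻¹ * (z * z) * g := by group
      rw [this, ← hy, hj2]; group
    have h3 := huniq _ hyg h1 h2
    apply hg
    apply hC
    have : g * z = g * (g⁻¹ * z * g) := by rw [h3]
    rw [this]; group

variable [Finite G]

/-- The quotient by the Frobenius kernel is isomorphic to the complement. -/
theorem nonempty_quotient_equiv {S : Subgroup G} (hS : IsFrobeniusComplement S) :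
    Nonempty (G ⧸ frobKer S hS ≃* S) := by
  set N := frobKer S hS with hN
  set f : S →* G ⧸ N := (QuotientGroup.mk' N).comp S.subtype with hf
  have hinj : Function.Injective f := by
    rw [injective_iff_map_eq_one]
    intro s hs
    have h1 : (s : G) ∈ N := by
      rw [← QuotientGroup.eq_one_iff]
      exact hs
    have h2 := frob_inf_eq_one hS h1 s.2
    exact Subtype.ext h2
  have hcard : Nat.card (G ⧸ N) ≤ Nat.card S := by
    have h1 : Nat.card (G ⧸ N) = N.index := rfl
    have h2 := Subgroup.card_mul_index N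
    have h3 := Subgroup.card_mul_index S
    have h4 := card_frobKer S hS
    rw [← hN] at h4
    rw [h4] at h2
    rw [h1]
    have hpos : 0 < S.index := Nat.pos_of_ne_zero Subgroup.index_ne_zero_of_finite
    have : S.index * N.index = S.index * Nat.card S := by rw [h2, mul_comm, h3]
    exact le_of_eq (Nat.eq_of_mul_eq_mul_left hpos this)
  have hbij : Function.Bijective f := hinj.bijective_of_nat_card_le hcard
  exact ⟨(MulEquiv.ofBijective f hbij).symm⟩

/-- If `|S| + 1 = |N|` for the Frobenius kernel `N`, all non-identity elements of `N` are conjugate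
under `S`; so a prime `p` dividing `|N|` is the exponent of `N`. -/
theorem pow_eq_one_of_regular {S : Subgroup G} (hS : IsFrobeniusComplement S)
    (hcard : Nat.card S + 1 = Nat.card (frobKer S hS)) {p : ℕ} [hp : Fact p.Prime]
    (hpN : p ∣ Nat.card (frobKer S hS)) : ∀ x ∈ frobKer S hS, x ^ p = 1 := by
  classical
  set N := frobKer S hS with hN
  obtain ⟨x₀, hx₀⟩ := exists_prime_orderOf_dvd_card' (G := N) p hpN
  have hx₀1 : (x₀ : G) ≠ 1 := by
    intro h
    have : x₀ = 1 := Subtype.ext h
    rw [this, orderOf_one] at hx₀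
    exact hp.out.one_lt.ne hx₀
  have hx₀p : (x₀ : G) ^ p = 1 := by
    have := pow_orderOf_eq_one x₀
    rw [hx₀] at this
    exact congrArg Subtype.val this
  -- the conjugation map `S → N ∖ {1}`
  let T := {y : N // y ≠ 1}
  have hTcard : Nat.card T = Nat.card S := by
    have h1 : Nat.card T = Nat.card N - 1 := by
      haveI : Fintype N := Fintype.ofFinite N
      have := Set.card_ne_eq (1 : N)
      rw [Nat.card_eq_fintype_card, Nat.card_eq_fintype_card]
      exact this
    rw [h1, ← hcard]; omega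
  let φ : S → T := fun s =>
    ⟨⟨(s : G) * x₀ * (s : G)⁻¹, (frobKer_normal S hS).conj_mem _ x₀.2 _⟩, by
      intro h
      apply hx₀1
      have h' : (s : G) * x₀ * (s : G)⁻¹ = 1 := congrArg Subtype.val h
      have := congrArg (fun t => (s : G)⁻¹ * t * (s : G)) h'
      simpa [mul_assoc] using this⟩
  have hφinj : Function.Injective φ := by
    intro s s' h
    have h' : (s : G) * x₀ * (s : G)⁻¹ = (s' : G) * x₀ * (s' : G)⁻¹ :=
      congrArg (fun t : T => ((t : N) : G)) h
    by_contra hne
    have hr : (s' : G)⁻¹ * (s : G) ∈ S := S.mul_mem (S.inv_mem s'.2) s.2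
    have hr1 : (s' : G)⁻¹ * (s : G) ≠ 1 := by
      intro h1
      apply hne
      apply Subtype.ext
      have := congrArg (fun t => (s' : G) * t) h1
      simpa using this
    have hc : (x₀ : G) * ((s' : G)⁻¹ * (s : G)) = ((s' : G)⁻¹ * (s : G)) * (x₀ : G) := by
      have := congrArg (fun t => (s' : G)⁻¹ * t * (s : G)) h'
      have e1 : (s' : G)⁻¹ * ((s : G) * x₀ * (s : G)⁻¹) * (s : G) = (s' : G)⁻¹ * (s : G) * x₀ := by
        group
      have e2 : (s' : G)⁻¹ * ((s' : G) * x₀ * (s' : G)⁻¹) * (s : G) = x₀ * ((s' : G)⁻¹ * (s : G)) := by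
        group
      rw [e1, e2] at this
      exact this.symm
    have hmem := frob_commute_mem hS hr hr1 hc
    exact hx₀1 (frob_inf_eq_one hS x₀.2 hmem)
  have hφbij : Function.Bijective φ :=
    hφinj.bijective_of_nat_card_le (le_of_eq hTcard)
  intro x hx
  by_cases hx1 : x = 1
  · rw [hx1, one_pow]
  · obtain ⟨s, hs⟩ := hφbij.2 ⟨⟨x, hx⟩, fun h => hx1 (congrArg Subtype.val h)⟩
    have h' : (s : G) * x₀ * (s : G)⁻¹ = x := congrArg (fun t : T => ((t : N) : G)) hs
    rw [← h', conj_pow, hx₀p]; group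

end Cfsg.Agent.Lib.H6.FrobQ8
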