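import Cfsg.Agent.Lib.H6.FrobQ8

/-!
A finite Frobenius group whose complement is a 2-group with a unique (central) involution and more
than two elements, and whose kernel has odd order, has a non-complemented subgroup lattice
(helper6).
-/

set_option autoImplicit false

namespace Cfsg.Agent.Lib.H6.FrobQ8

open scoped Pointwise
open Cfsg Cfsg.Agent.Lib.H18 Cfsg.Agent.Lib.H1

variable {G : Type*} [Group G] [Finite G]

section

variable {S : Subgroup G} (hS : IsFrobeniusComplement S) {z : G} (hz : z ∈ S) (hz1 : z ≠ 1)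
  (hzz : z * z = 1) (hzc : ∀ x ∈ S, x * z = z * x)
  (huniq : ∀ x ∈ S, x ≠ 1 → x * x = 1 → x = z)

include hz hzc in
/-- every conjugate of `z` lies in `N ⊔ ⟨z⟩` -/
theorem conj_mem_sup (g : G) : g * z * g⁻¹ ∈ frobKer S hS ⊔ Subgroup.zpowers z := by
  obtain ⟨n, hn, s, hs, rfl⟩ := frob_exists_mul hS g
  have h1 : s * z * s⁻¹ = z := by rw [hzc s hs]; group
  have h2 : n * s * z * (n * s)⁻¹ = (n * (z * n⁻¹ * z⁻¹)) * z := by
    have : n * s * z * (n * s)⁻¹ = n * (s * z * s⁻¹) * n⁻¹ := by group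
    rw [this, h1]; group
  rw [h2]
  apply Subgroup.mul_mem
  · apply Subgroup.mem_sup_left
    exact Subgroup.mul_mem _ hn ((frobKer_normal S hS).conj_mem _ (Subgroup.inv_mem _ hn) z)
  · exact Subgroup.mem_sup_right (Subgroup.mem_zpowers z)

include hzz in
theorem mem_zpowers_z {x : G} (hx : x ∈ Subgroup.zpowers z) : x = 1 ∨ x = z := by
  obtain ⟨k, rfl⟩ := Subgroup.mem_zpowers_iff.mp hx
  have hz2 : z ^ (2 : ℤ) = 1 := by
    have : z ^ (2 : ℤ) = z * z := by
      rw [show (2 : ℤ) = ((2 : ℕ) : ℤ) from rfl, zpow_natCast, pow_two]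
    rw [this, hzz]
  rcases Int.even_or_odd' k with ⟨m, hm | hm⟩
  · left
    rw [hm, zpow_mul, hz2, one_zpow]
  · right
    rw [hm, zpow_add, zpow_mul, hz2, one_zpow, one_mul, zpow_one]

include hz hzz in
/-- an element of `S` other than `1, z` is not in `N ⊔ ⟨z⟩` -/
theorem not_mem_sup {s : G} (hs : s ∈ S) (hs1 : s ≠ 1) (hsz : s ≠ z) :
    s ∉ frobKer S hS ⊔ Subgroup.zpowers z := by
  intro hmem
  have : s ∈ ((frobKer S hS ⊔ Subgroup.zpowers z : Subgroup G) : Set G) := hmem
  rw [Subgroup.normal_mul] at this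
  obtain ⟨n, hn, w, hw, rfl⟩ := Set.mem_mul.mp this
  have hwS : w ∈ S := by
    rcases mem_zpowers_z hzz hw with h | h
    · rw [h]; exact S.one_mem
    · rw [h]; exact hz
  have hnS : n ∈ S := by
    have : n = n * w * w⁻¹ := by group
    rw [this]; exact S.mul_mem hs (S.inv_mem hwS)
  have hn1 := frob_inf_eq_one hS hn hnS
  rw [hn1, one_mul] at hs1 hsz
  rcases mem_zpowers_z hzz hw with h | h
  · exact hs1 h
  · exact hsz h

include hz hz1 hzz hzc huniq in
theorem not_complementedLattice (hodd : Odd (Nat.card (frobKer S hS)))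
    (hS2 : ∃ k : ℕ, Nat.card S = 2 ^ k) (hS3 : ∃ s ∈ S, s ≠ 1 ∧ s ≠ z) :
    ¬ ComplementedLattice (Subgroup G) := by
  intro hcompl
  set N := frobKer S hS with hN
  set H := N ⊔ Subgroup.zpowers z with hH
  obtain ⟨X, hX⟩ := hcompl.exists_isCompl H
  have hdisj : H ⊓ X = ⊥ := disjoint_iff.mp hX.disjoint
  have hcod : H ⊔ X = ⊤ := codisjoint_iff.mp hX.codisjoint
  obtain ⟨s, hs, hs1, hsz⟩ := hS3
  have hsH : s ∉ H := not_mem_sup hS hz hzz hs hs1 hsz
  -- an involution is conjugate to `z`, hence lies in `H`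
  have hinv : ∀ y : G, y ≠ 1 → y * y = 1 → y ∈ H := by
    intro y hy1 hyy
    have hyN : y ∉ N := by
      intro hyN
      apply hy1
      have h1 : orderOf y ∣ 2 := orderOf_dvd_of_pow_eq_one (by rw [pow_two, hyy])
      have h2 : orderOf y ∣ Nat.card N := by
        have := orderOf_dvd_natCard (⟨y, hyN⟩ : N)
        rwa [Subgroup.orderOf_mk] at this
      have h3 : orderOf y ∣ Nat.gcd 2 (Nat.card N) := Nat.dvd_gcd h1 h2
      have h4 : Nat.gcd 2 (Nat.card N) = 1 := Nat.coprime_two_left.mpr hodd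
      rw [h4, Nat.dvd_one] at h3
      exact orderOf_eq_one_iff.mp h3
    rw [hN, mem_frobKer, not_mem_frobeniusKernel_iff] at hyN
    obtain ⟨-, g, hg⟩ := hyN
    rw [mem_conj_smul_iff] at hg
    have h1 : g⁻¹ * y * g ≠ 1 := by
      intro h
      apply hy1
      have := congrArg (fun t => g * t * g⁻¹) h
      simpa [mul_assoc] using this
    have h2 : g⁻¹ * y * g * (g⁻¹ * y * g) = 1 := by
      have : g⁻¹ * y * g * (g⁻¹ * y * g) = g⁻¹ * (y * y) * g := by group
      rw [this, hyy]; group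
    have h3 := huniq _ hg h1 h2
    have h4 : y = g * z * g⁻¹ := by rw [← h3]; group
    rw [h4]
    exact conj_mem_sup hS hz hzc g
  by_cases hev : 2 ∣ Nat.card X
  · haveI : Fact (Nat.Prime 2) := ⟨Nat.prime_two⟩
    obtain ⟨y, hy⟩ := exists_prime_orderOf_dvd_card' (G := X) 2 hev
    have hy1 : (y : G) ≠ 1 := by
      intro h
      have : y = 1 := Subtype.ext h
      rw [this, orderOf_one] at hy
      norm_num at hy
    have hyy : (y : G) * (y : G) = 1 := by
      have := pow_orderOf_eq_one y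
      rw [hy, pow_two] at this
      exact congrArg Subtype.val this
    have hyH := hinv (y : G) hy1 hyy
    have : (y : G) ∈ H ⊓ X := ⟨hyH, y.2⟩
    rw [hdisj, Subgroup.mem_bot] at this
    exact hy1 this
  · -- `X` has odd order, so `X ≤ N ≤ H`
    have hXN : X ≤ N := by
      intro x hx
      obtain ⟨k, hk⟩ := hS2
      have hquot : Nat.card (G ⧸ N) = 2 ^ k := by
        obtain ⟨e⟩ := nonempty_quotient_equiv hS
        rw [Nat.card_congr e.toEquiv, hk]
      have h1 : x ^ (2 ^ k) ∈ N := by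
        rw [← QuotientGroup.eq_one_iff, QuotientGroup.mk_pow, ← hquot]
        exact pow_card_eq_one'
      have h2 : orderOf x ∣ Nat.card X := by
        have := orderOf_dvd_natCard (⟨x, hx⟩ : X)
        rwa [Subgroup.orderOf_mk] at this
      have hodd' : Odd (orderOf x) := by
        rcases Nat.even_or_odd (orderOf x) with he | ho
        · exact absurd ((even_iff_two_dvd.mp he).trans h2) hev
        · exact ho
      have hcop : Nat.Coprime (2 ^ k) (orderOf x) := by
        apply Nat.Coprime.pow_left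
        rw [Nat.coprime_two_left]; exact hodd'
      obtain ⟨m, hm⟩ := exists_pow_eq_self_of_coprime hcop
      rw [← hm]
      exact Subgroup.pow_mem _ h1 m
    have hXH : X ≤ H := hXN.trans le_sup_left
    have : H = ⊤ := by rw [← hcod]; exact (sup_eq_left.mpr hXH).symm
    exact hsH (this ▸ Subgroup.mem_top s)

end

end Cfsg.Agent.Lib.H6.FrobQ8
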