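import Mathlib

set_option autoImplicit false

/-! Block diagonal matrices `diag(A, d)` on `Fin (m+1)` with the last index split off (helper6). -/

namespace Cfsg.Agent.Lib.H6.LastBlock

open Matrix

variable {F : Type*} [Field F] {m : ℕ}

/-- block diagonal matrix `diag(A, d)` -/
def blk (A : Matrix (Fin m) (Fin m) F) (d : F) : Matrix (Fin (m + 1)) (Fin (m + 1)) F :=
  Matrix.of fun i j => Fin.lastCases (Fin.lastCases d (fun _ => 0) j)
    (fun i' => Fin.lastCases 0 (fun j' => A i' j') j) i

@[simp] theorem blk_cc (A : Matrix (Fin m) (Fin m) F) (d : F) (i j : Fin m) :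
    blk A d (Fin.castSucc i) (Fin.castSucc j) = A i j := by simp [blk]

@[simp] theorem blk_cl (A : Matrix (Fin m) (Fin m) F) (d : F) (i : Fin m) :
    blk A d (Fin.castSucc i) (Fin.last m) = 0 := by simp [blk]

@[simp] theorem blk_lc (A : Matrix (Fin m) (Fin m) F) (d : F) (j : Fin m) :
    blk A d (Fin.last m) (Fin.castSucc j) = 0 := by simp [blk]

@[simp] theorem blk_ll (A : Matrix (Fin m) (Fin m) F) (d : F) :
    blk A d (Fin.last m) (Fin.last m) = d := by simp [blk]

theorem blk_mul (A B : Matrix (Fin m) (Fin m) F) (d e : F) :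
    blk A d * blk B e = blk (A * B) (d * e) := by
  ext i j
  refine Fin.lastCases ?_ (fun i' => ?_) i <;> refine Fin.lastCases ?_ (fun j' => ?_) j <;>
    simp [Matrix.mul_apply, Fin.sum_univ_castSucc]

theorem blk_one : blk (1 : Matrix (Fin m) (Fin m) F) 1 = 1 := by
  ext i j
  refine Fin.lastCases ?_ (fun i' => ?_) i <;> refine Fin.lastCases ?_ (fun j' => ?_) j
  · simp
  · simp [Matrix.one_apply, (Fin.castSucc_lt_last j').ne']
  · simp [Matrix.one_apply, (Fin.castSucc_lt_last i').ne]
  · simp [Matrix.one_apply]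

theorem blk_injective {A B : Matrix (Fin m) (Fin m) F} {d e : F} (h : blk A d = blk B e) :
    A = B ∧ d = e := by
  constructor
  · ext i j
    have := congrFun (congrFun h (Fin.castSucc i)) (Fin.castSucc j)
    simpa using this
  · have := congrFun (congrFun h (Fin.last m)) (Fin.last m)
    simpa using this

theorem det_blk (A : Matrix (Fin m) (Fin m) F) (d : F) : (blk A d).det = A.det * d := by
  rw [Matrix.det_succ_row _ (Fin.last m), Fin.sum_univ_castSucc]
  have h0 : ∀ j : Fin m, (-1 : F) ^ ((Fin.last m : ℕ) + ((Fin.castSucc j : Fin (m + 1)) : ℕ)) *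
      blk A d (Fin.last m) (Fin.castSucc j) *
      ((blk A d).submatrix (Fin.last m).succAbove (Fin.castSucc j).succAbove).det = 0 := by
    intro j
    rw [blk_lc, mul_zero, zero_mul]
  rw [Finset.sum_eq_zero (fun j _ => h0 j), zero_add, blk_ll, Fin.succAbove_last]
  have h1 : (blk A d).submatrix Fin.castSucc Fin.castSucc = A := by
    ext i j; simp
  rw [h1]
  have h2 : (-1 : F) ^ ((Fin.last m : ℕ) + (Fin.last m : ℕ)) = 1 := by
    rw [← two_mul, pow_mul]; simp
  rw [h2, one_mul, mul_comm]

/-- block diagonal shape -/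
def IsBlk (g : Matrix (Fin (m + 1)) (Fin (m + 1)) F) : Prop :=
  (∀ i : Fin m, g (Fin.castSucc i) (Fin.last m) = 0) ∧
    (∀ j : Fin m, g (Fin.last m) (Fin.castSucc j) = 0)

/-- the upper left block -/
def ul (g : Matrix (Fin (m + 1)) (Fin (m + 1)) F) : Matrix (Fin m) (Fin m) F :=
  g.submatrix Fin.castSucc Fin.castSucc

@[simp] theorem ul_apply (g : Matrix (Fin (m + 1)) (Fin (m + 1)) F) (i j : Fin m) :
    ul g i j = g (Fin.castSucc i) (Fin.castSucc j) := rfl

theorem isBlk_blk (A : Matrix (Fin m) (Fin m) F) (d : F) : IsBlk (blk A d) :=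
  ⟨fun i => blk_cl A d i, fun j => blk_lc A d j⟩

@[simp] theorem ul_blk (A : Matrix (Fin m) (Fin m) F) (d : F) : ul (blk A d) = A := by
  ext i j; simp

theorem eq_blk_of_isBlk {g : Matrix (Fin (m + 1)) (Fin (m + 1)) F} (h : IsBlk g) :
    g = blk (ul g) (g (Fin.last m) (Fin.last m)) := by
  ext i j
  refine Fin.lastCases ?_ (fun i' => ?_) i <;> refine Fin.lastCases ?_ (fun j' => ?_) j
  · simp
  · simp [h.2 j']
  · simp [h.1 i']
  · simp

theorem IsBlk.mul {g h : Matrix (Fin (m + 1)) (Fin (m + 1)) F} (hg : IsBlk g) (hh : IsBlk h) :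
    IsBlk (g * h) := by
  rw [eq_blk_of_isBlk hg, eq_blk_of_isBlk hh, blk_mul]
  exact isBlk_blk _ _

theorem ul_mul {g h : Matrix (Fin (m + 1)) (Fin (m + 1)) F} (hg : IsBlk g) (hh : IsBlk h) :
    ul (g * h) = ul g * ul h := by
  conv_lhs => rw [eq_blk_of_isBlk hg, eq_blk_of_isBlk hh, blk_mul, ul_blk]

theorem ll_mul {g h : Matrix (Fin (m + 1)) (Fin (m + 1)) F} (hg : IsBlk g) (hh : IsBlk h) :
    (g * h) (Fin.last m) (Fin.last m) = g (Fin.last m) (Fin.last m) * h (Fin.last m) (Fin.last m) := by
  conv_lhs => rw [eq_blk_of_isBlk hg, eq_blk_of_isBlk hh, blk_mul, blk_ll]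

/-- the involution `diag(-1, …, -1, 1)` -/
def tmat (F : Type*) [Field F] (m : ℕ) : Matrix (Fin (m + 1)) (Fin (m + 1)) F :=
  blk (-1) 1

theorem tmat_eq_diagonal :
    tmat F m = Matrix.diagonal (fun i : Fin (m + 1) => if (i : ℕ) + 1 = m + 1 then (1 : F) else -1) := by
  ext i j
  refine Fin.lastCases ?_ (fun i' => ?_) i <;> refine Fin.lastCases ?_ (fun j' => ?_) j
  · simp [tmat]
  · simp [tmat, (Fin.castSucc_lt_last j').ne']
  · simp [tmat, (Fin.castSucc_lt_last i').ne]
  · by_cases hij : i' = j'
    · subst hij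
      have hne : (i' : ℕ) ≠ m := by
        have := i'.2
        omega
      simp [tmat, hne]
    · have hne : Fin.castSucc i' ≠ Fin.castSucc j' := fun h => hij (Fin.castSucc_injective _ h)
      simp [tmat, Matrix.diagonal_apply_ne _ hne, Matrix.neg_apply, Matrix.one_apply_ne hij]

/-- commuting with `tmat` means being block diagonal -/
theorem isBlk_of_commute (h2 : (2 : F) ≠ 0) {g : Matrix (Fin (m + 1)) (Fin (m + 1)) F}
    (h : g * tmat F m = tmat F m * g) : IsBlk g := by
  constructor
  · intro i
    have := congrFun (congrFun h (Fin.castSucc i)) (Fin.last m)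
    simp [tmat, Matrix.mul_apply, Fin.sum_univ_castSucc, Matrix.neg_apply, Matrix.one_apply] at this
    have h3 : (2 : F) * g (Fin.castSucc i) (Fin.last m) = 0 := by linear_combination this
    rcases mul_eq_zero.mp h3 with h4 | h4
    · exact absurd h4 h2
    · exact h4
  · intro j
    have := congrFun (congrFun h (Fin.last m)) (Fin.castSucc j)
    simp [tmat, Matrix.mul_apply, Fin.sum_univ_castSucc, Matrix.neg_apply, Matrix.one_apply] at this
    have h3 : (2 : F) * g (Fin.last m) (Fin.castSucc j) = 0 := by linear_combination (-1 : F) * this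
    rcases mul_eq_zero.mp h3 with h4 | h4
    · exact absurd h4 h2
    · exact h4

theorem commute_tmat_of_isBlk {g : Matrix (Fin (m + 1)) (Fin (m + 1)) F} (h : IsBlk g) :
    g * tmat F m = tmat F m * g := by
  rw [eq_blk_of_isBlk h, tmat, blk_mul, blk_mul]
  simp

/-- a matrix commuting with all `diag(A, 1)`, `det A = 1`, is of the form `diag(λ, …, λ, d)` -/
theorem cent_blk (hm : 2 ≤ m) (g : Matrix (Fin (m + 1)) (Fin (m + 1)) F)
    (h : ∀ A : Matrix (Fin m) (Fin m) F, A.det = 1 → g * blk A 1 = blk A 1 * g) :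
    ∃ l d : F, g = blk (l • (1 : Matrix (Fin m) (Fin m) F)) d := by
  have hex : ∀ a : Fin m, ∃ b : Fin m, b ≠ a := by
    intro a
    by_cases ha : (a : ℕ) = 0
    · refine ⟨⟨1, by omega⟩, ?_⟩
      intro hh
      have := congrArg Fin.val hh
      simp at this
      omega
    · refine ⟨⟨0, by omega⟩, ?_⟩
      intro hh
      have := congrArg Fin.val hh
      simp at this
      omega
  have hT : ∀ a b : Fin m, a ≠ b → g * blk (Matrix.transvection a b (1 : F)) 1 =
      blk (Matrix.transvection a b (1 : F)) 1 * g := fun a b hab =>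
    h _ (Matrix.det_transvection_of_ne a b hab 1)
  have hblk : IsBlk g := by
    constructor
    · intro b
      obtain ⟨a, hab⟩ := hex b
      have := congrFun (congrFun (hT a b hab) (Fin.castSucc a)) (Fin.last m)
      simp [Matrix.mul_apply, Fin.sum_univ_castSucc, Matrix.transvection, Matrix.add_apply,
        Matrix.one_apply, Matrix.single_apply, Finset.sum_add_distrib, add_mul] at this
      exact this
    · intro a
      obtain ⟨b, hba⟩ := hex a
      have := congrFun (congrFun (hT a b hba.symm) (Fin.last m)) (Fin.castSucc b)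
      simp [Matrix.mul_apply, Fin.sum_univ_castSucc, Matrix.transvection, Matrix.add_apply,
        Matrix.one_apply, Matrix.single_apply, Finset.sum_add_distrib, mul_add] at this
      exact this
  have hg := eq_blk_of_isBlk hblk
  have hP : ul g ∈ Set.range (Matrix.scalar (Fin m)) := by
    apply Matrix.mem_range_scalar_of_commute_single
    intro a b hab
    have h1 := hT a b hab
    rw [hg, blk_mul, blk_mul] at h1
    have h2 := (blk_injective h1).1
    rw [Matrix.transvection, mul_add, add_mul, mul_one, one_mul] at h2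
    have h3 : ul g * Matrix.single a b 1 = Matrix.single a b 1 * ul g := add_left_cancel h2
    exact h3.symm
  obtain ⟨l, hl⟩ := hP
  refine ⟨l, g (Fin.last m) (Fin.last m), ?_⟩
  have hul : ul g = l • (1 : Matrix (Fin m) (Fin m) F) := by
    rw [← hl]
    ext i j
    simp [Matrix.scalar_apply, Matrix.smul_apply, Matrix.one_apply, Matrix.diagonal_apply]
  rw [← hul]
  exact hg

end Cfsg.Agent.Lib.H6.LastBlock
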