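import Mathlib
import Cfsg.Prelude.Def_Local
import Cfsg.Agent.Lib.H7.Quasisimple
import Cfsg.Agent.Lib.H7.Components
import Cfsg.Agent.Lib.H7.AltStd

set_option autoImplicit false

/-! Standard subgroups arising as `E(C(t))` for an involution `t` (helper6). -/

namespace Cfsg.Agent.Lib.H6.StdInv

open Cfsg Cfsg.Agent.Lib.H7
open scoped commutatorElement

variable {G : Type*} [Group G]

/-- if `L ⊴ C` is quasisimple and `C' ≤ L`, then `E(C) = L` -/
theorem layer_map_eq [Finite G] (C L : Subgroup G) (hq : IsQuasisimple L) (hLC : L ≤ C)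
    (hCN : C ≤ Subgroup.normalizer (L : Set G)) (hcomm : ⁅C, C⁆ ≤ L) :
    (layer ↥C).map C.subtype = L := by
  have hn : (L.subgroupOf C).Normal := (Subgroup.normal_subgroupOf_iff_le_normalizer hLC).2 hCN
  have hcomp : IsComponent (L.subgroupOf C) :=
    ⟨hn.isSubnormal, quasisimple_of_mulEquiv (Subgroup.subgroupOfEquivOfLe hLC).symm hq⟩
  have huniq : ∀ K : Subgroup C, IsComponent K → K = L.subgroupOf C := by
    intro K hK
    apply component_eq_of_le hK hcomp
    have h1 : ⁅K, K⁆ = K := component_commutator_self hK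
    have h2 : ⁅K, K⁆ ≤ L.subgroupOf C := by
      rw [Subgroup.commutator_le]
      intro a _ b _
      rw [Subgroup.mem_subgroupOf]
      apply hcomm
      have : ((⁅a, b⁆ : C) : G) = ⁅(a : G), (b : G)⁆ := by
        simp [commutatorElement_def]
      rw [this]
      exact Subgroup.commutator_mem_commutator a.2 b.2
    rw [h1] at h2
    exact h2
  have : layer ↥C = L.subgroupOf C := by
    unfold layer
    apply le_antisymm
    · apply sSup_le
      intro K hK
      exact (huniq K hK).le
    · exact le_sSup hcomp
  rw [this]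
  exact Subgroup.map_subgroupOf_eq_of_le hLC

/-- the standard-subgroup criterion for a quasisimple normal subgroup `L` of `C(t)`, `t` an
involution, when `C(L)` is abelian with `t` as its unique involution -/
theorem standard_of_involution [Finite G] (t : G) (L : Subgroup G)
    (ht1 : t ≠ 1) (ht2 : t * t = 1)
    (hq : IsQuasisimple L)
    (hLC : L ≤ Subgroup.centralizer {t})
    (hCN : Subgroup.centralizer {t} ≤ Subgroup.normalizer (L : Set G))
    (hZab : ∀ x ∈ Subgroup.centralizer (L : Set G), ∀ y ∈ Subgroup.centralizer (L : Set G),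
      x * y = y * x)
    (hZinv : ∀ z ∈ Subgroup.centralizer (L : Set G), z * z = 1 → z = 1 ∨ z = t) :
    IsStandardSubgroup L := by
  have htZ : t ∈ Subgroup.centralizer (L : Set G) := by
    rw [Subgroup.mem_centralizer_iff]
    intro x hx
    have := hLC hx
    rw [Subgroup.mem_centralizer_iff] at this
    exact (this t rfl).symm
  have hkey : ∀ g : G, g * t * g⁻¹ ∈ Subgroup.centralizer (L : Set G) →
      g ∈ Subgroup.centralizer {t} := by
    intro g hg
    have hsq : (g * t * g⁻¹) * (g * t * g⁻¹) = 1 := by
      calc (g * t * g⁻¹) * (g * t * g⁻¹) = g * (t * t) * g⁻¹ := by group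
        _ = 1 := by rw [ht2]; group
    rcases hZinv _ hg hsq with h | h
    · exfalso
      apply ht1
      have : t = g⁻¹ * (g * t * g⁻¹) * g := by group
      rw [this, h]
      group
    · rw [Subgroup.mem_centralizer_iff]
      intro x hx
      rw [Set.mem_singleton_iff] at hx
      subst hx
      have : g * x = (g * x * g⁻¹) * g := by group
      rw [this, h]
  have hNZ : Subgroup.normalizer (Subgroup.centralizer (L : Set G) : Set G) ≤
      Subgroup.centralizer {t} := by
    intro g hg
    apply hkey
    exact (Subgroup.mem_normalizer_iff.1 hg t).1 htZ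
  have hNL : Subgroup.normalizer (L : Set G) ≤
      Subgroup.normalizer (Subgroup.centralizer (L : Set G) : Set G) :=
    Cfsg.Agent.Lib.H7.AltStd.normalizer_le_normalizer_centralizer' L
  have hord : orderOf t = 2 := orderOf_eq_prime (by rw [pow_two]; exact ht2) ht1
  refine ⟨hq, ⟨?_, ?_⟩, ?_, ?_⟩
  · have h2 : orderOf (⟨t, htZ⟩ : Subgroup.centralizer (L : Set G)) = 2 := by
      rw [← hord]
      exact Subgroup.orderOf_mk t htZ
    have := orderOf_dvd_natCard (⟨t, htZ⟩ : Subgroup.centralizer (L : Set G))
    rw [h2] at this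
    exact even_iff_two_dvd.2 this
  · intro g hg
    by_contra hodd
    rw [Nat.not_odd_iff_even] at hodd
    have h2 : 2 ∣ Nat.card ↥(Subgroup.centralizer (L : Set G) ⊓
        (Subgroup.centralizer (L : Set G)).map (MulAut.conj g).toMonoidHom) :=
      even_iff_two_dvd.1 hodd
    have : Fact (Nat.Prime 2) := ⟨Nat.prime_two⟩
    obtain ⟨u, hu⟩ := exists_prime_orderOf_dvd_card' 2 h2
    have hu1 : (u : G) ≠ 1 := by
      intro h
      have : u = 1 := Subtype.ext h
      rw [this, orderOf_one] at hu
      omega
    have hu2 : (u : G) * (u : G) = 1 := by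
      have := pow_orderOf_eq_one u
      rw [hu, pow_two] at this
      exact congrArg Subtype.val this
    have huZ : (u : G) ∈ Subgroup.centralizer (L : Set G) := (Subgroup.mem_inf.1 u.2).1
    have hut : (u : G) = t := by
      rcases hZinv _ huZ hu2 with h | h
      · exact absurd h hu1
      · exact h
    obtain ⟨z, hz, hzu⟩ := (Subgroup.mem_inf.1 u.2).2
    have hzu' : g * z * g⁻¹ = t := by
      rw [← hut]
      exact hzu
    have hz2 : z * z = 1 := by
      have : g * (z * z) * g⁻¹ = 1 := by
        calc g * (z * z) * g⁻¹ = (g * z * g⁻¹) * (g * z * g⁻¹) := by group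
          _ = 1 := by rw [hzu', ht2]
      have h3 : z * z = g⁻¹ * (g * (z * z) * g⁻¹) * g := by group
      rw [h3, this]
      group
    have hzt : z = t := by
      rcases hZinv _ hz hz2 with h | h
      · exfalso
        apply ht1
        rw [← hzu', h]
        group
      · exact h
    apply hg
    apply hNL
    apply hCN
    apply hkey
    rw [← hzt, hzu']
    exact htZ
  · intro g _ hcomm
    rw [Subgroup.commutator_comm, Subgroup.commutator_eq_bot_iff_le_centralizer] at hcomm
    apply quasisimple_not_solvable hq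
    have hc : ∀ a b : L, a * b = b * a := by
      intro a b
      have ha : g * a.1 * g⁻¹ ∈ Subgroup.centralizer (L : Set G) := hcomm ⟨a.1, a.2, rfl⟩
      have hb : g * b.1 * g⁻¹ ∈ Subgroup.centralizer (L : Set G) := hcomm ⟨b.1, b.2, rfl⟩
      have h1 := hZab _ ha _ hb
      apply Subtype.ext
      have h2 : g * (a.1 * b.1) * g⁻¹ = g * (b.1 * a.1) * g⁻¹ := by
        calc g * (a.1 * b.1) * g⁻¹ = (g * a.1 * g⁻¹) * (g * b.1 * g⁻¹) := by group
          _ = (g * b.1 * g⁻¹) * (g * a.1 * g⁻¹) := h1
          _ = g * (b.1 * a.1) * g⁻¹ := by group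
      exact mul_left_cancel (mul_right_cancel h2)
    exact Group.isSolvable_of_comm hc
  · exact le_antisymm hNL (hNZ.trans hCN)

end Cfsg.Agent.Lib.H6.StdInv
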