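import Mathlib
import Cfsg.Prelude.Def_Local
import Cfsg.Agent.Lib.H6.LastBlock
import Cfsg.Agent.Lib.H6.StdInv
import Cfsg.Agent.Lib.H2.SLGen
import Cfsg.Agent.Lib.H2.PSLSimple
import Cfsg.Agent.Lib.H7.Quasisimple

set_option autoImplicit false

/-! `SL_m(F)` embedded in `SL_{m+1}(F)` as a standard subgroup (helper6). -/

namespace Cfsg.Agent.Lib.H6.SLStd

open Cfsg Matrix Cfsg.Agent.Lib.H6.LastBlock

variable {F : Type*} [Field F] {m : ℕ}

/-- the embedding `A ↦ diag(A, 1)` -/
def emb (F : Type*) [Field F] (m : ℕ) :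
    SpecialLinearGroup (Fin m) F →* SpecialLinearGroup (Fin (m + 1)) F where
  toFun A := ⟨blk A.1 1, by rw [det_blk, A.2, mul_one]⟩
  map_one' := Subtype.ext (by
    show blk (1 : Matrix (Fin m) (Fin m) F) 1 = 1
    exact blk_one)
  map_mul' A B := Subtype.ext (by
    show blk (A.1 * B.1) (1 : F) = blk A.1 1 * blk B.1 1
    rw [blk_mul, mul_one])

theorem emb_val (A : SpecialLinearGroup (Fin m) F) : (emb F m A).1 = blk A.1 1 := rfl

theorem val_mul (g h : SpecialLinearGroup (Fin (m + 1)) F) : (g * h).1 = g.1 * h.1 := rfl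

theorem val_one : (1 : SpecialLinearGroup (Fin (m + 1)) F).1 = 1 := rfl

theorem emb_injective : Function.Injective (emb F m) := by
  intro A B h
  have := congrArg Subtype.val h
  rw [emb_val, emb_val] at this
  exact Subtype.ext (blk_injective this).1

/-- `SL_m(F)` is quasisimple for `m ≥ 3` -/
theorem quasisimple_SL [Fintype F] [DecidableEq F] (hm : 3 ≤ m) :
    IsQuasisimple (SpecialLinearGroup (Fin m) F) := by
  have h3 : 3 ≤ Fintype.card (Fin m) := by simpa using hm
  exact ⟨⟨Cfsg.Agent.Lib.H2.SL_commutator_eq_top h3⟩, Cfsg.Agent.Lib.H2.PSL_simple_of_three_le h3⟩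

theorem quasisimple_range [Fintype F] [DecidableEq F] (hm : 3 ≤ m) :
    IsQuasisimple (emb F m).range :=
  Cfsg.Agent.Lib.H7.quasisimple_of_mulEquiv (MonoidHom.ofInjective emb_injective)
    (quasisimple_SL hm)

/-- the last diagonal entry -/
def lam (g : SpecialLinearGroup (Fin (m + 1)) F) : F := g.1 (Fin.last m) (Fin.last m)

theorem mem_range_iff (x : SpecialLinearGroup (Fin (m + 1)) F) :
    x ∈ (emb F m).range ↔ IsBlk x.1 ∧ lam x = 1 := by
  constructor
  · rintro ⟨A, rfl⟩
    exact ⟨isBlk_blk _ _, by simp [lam, emb_val]⟩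
  · rintro ⟨h1, h2⟩
    have hx := eq_blk_of_isBlk h1
    have hd : (ul x.1).det = 1 := by
      have := x.2
      rw [hx, det_blk] at this
      unfold lam at h2
      rw [h2, mul_one] at this
      exact this
    refine ⟨⟨ul x.1, hd⟩, Subtype.ext ?_⟩
    show blk (ul x.1) 1 = x.1
    unfold lam at h2
    rw [h2] at hx
    exact hx.symm

theorem lam_mul {g h : SpecialLinearGroup (Fin (m + 1)) F} (hg : IsBlk g.1) (hh : IsBlk h.1) :
    lam (g * h) = lam g * lam h := ll_mul hg hh

theorem lam_one : lam (1 : SpecialLinearGroup (Fin (m + 1)) F) = 1 := by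
  unfold lam
  rw [val_one]
  simp

section main

variable (h2 : (2 : F) ≠ 0) (t : SpecialLinearGroup (Fin (m + 1)) F) (ht : t.1 = tmat F m)
include h2 ht

theorem mem_centralizer_iff' (g : SpecialLinearGroup (Fin (m + 1)) F) :
    g ∈ Subgroup.centralizer ({t} : Set (SpecialLinearGroup (Fin (m + 1)) F)) ↔ IsBlk g.1 := by
  rw [Subgroup.mem_centralizer_iff]
  constructor
  · intro h
    have h1 := congrArg Subtype.val (h t rfl)
    simp only [val_mul] at h1
    apply isBlk_of_commute h2
    rw [← ht]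
    exact h1.symm
  · intro h x hx
    rw [Set.mem_singleton_iff] at hx
    subst hx
    apply Subtype.ext
    simp only [val_mul]
    rw [ht]
    exact (commute_tmat_of_isBlk h).symm

theorem range_le_centralizer :
    (emb F m).range ≤ Subgroup.centralizer ({t} : Set (SpecialLinearGroup (Fin (m + 1)) F)) := by
  intro x hx
  rw [mem_centralizer_iff' h2 t ht]
  exact ((mem_range_iff x).1 hx).1

theorem lam_mul_inv {g : SpecialLinearGroup (Fin (m + 1)) F}
    (hg : g ∈ Subgroup.centralizer ({t} : Set (SpecialLinearGroup (Fin (m + 1)) F))) :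
    lam g * lam g⁻¹ = 1 := by
  have h1 := (mem_centralizer_iff' h2 t ht g).1 hg
  have h3 := (mem_centralizer_iff' h2 t ht g⁻¹).1 (inv_mem hg)
  rw [← lam_mul h1 h3, mul_inv_cancel, lam_one]

theorem conj_mem_range {g x : SpecialLinearGroup (Fin (m + 1)) F}
    (hg : g ∈ Subgroup.centralizer ({t} : Set (SpecialLinearGroup (Fin (m + 1)) F)))
    (hx : x ∈ (emb F m).range) : g * x * g⁻¹ ∈ (emb F m).range := by
  have h1 := (mem_centralizer_iff' h2 t ht g).1 hg
  have h3 := (mem_centralizer_iff' h2 t ht g⁻¹).1 (inv_mem hg)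
  obtain ⟨hx1, hx2⟩ := (mem_range_iff x).1 hx
  rw [mem_range_iff]
  have h4 : IsBlk (g * x).1 := by
    rw [val_mul]
    exact h1.mul hx1
  refine ⟨?_, ?_⟩
  · rw [val_mul]
    exact h4.mul h3
  · rw [lam_mul h4 h3, lam_mul h1 hx1, hx2, mul_one]
    exact lam_mul_inv h2 t ht hg

theorem centralizer_le_normalizer :
    Subgroup.centralizer ({t} : Set (SpecialLinearGroup (Fin (m + 1)) F)) ≤
      Subgroup.normalizer ((emb F m).range : Set (SpecialLinearGroup (Fin (m + 1)) F)) := by
  intro g hg
  rw [Subgroup.mem_normalizer_iff]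
  intro x
  constructor
  · intro hx
    exact conj_mem_range h2 t ht hg hx
  · intro hx
    have := conj_mem_range h2 t ht (inv_mem hg) hx
    have h5 : g⁻¹ * (g * x * g⁻¹) * g⁻¹⁻¹ = x := by group
    rw [h5] at this
    exact this

theorem commutator_le_range :
    ⁅Subgroup.centralizer ({t} : Set (SpecialLinearGroup (Fin (m + 1)) F)),
      Subgroup.centralizer ({t} : Set (SpecialLinearGroup (Fin (m + 1)) F))⁆ ≤ (emb F m).range := by
  rw [Subgroup.commutator_le]
  intro g hg h hh
  have hg1 := (mem_centralizer_iff' h2 t ht g).1 hg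
  have hg3 := (mem_centralizer_iff' h2 t ht g⁻¹).1 (inv_mem hg)
  have hh1 := (mem_centralizer_iff' h2 t ht h).1 hh
  have hh3 := (mem_centralizer_iff' h2 t ht h⁻¹).1 (inv_mem hh)
  rw [mem_range_iff, commutatorElement_def]
  have h4 : IsBlk (g * h).1 := by
    rw [val_mul]
    exact hg1.mul hh1
  have h5 : IsBlk (g * h * g⁻¹).1 := by
    rw [val_mul]
    exact h4.mul hg3
  refine ⟨?_, ?_⟩
  · rw [val_mul]
    exact h5.mul hh3
  · rw [lam_mul h5 hh3, lam_mul h4 hg3, lam_mul hg1 hh1]
    have e1 := lam_mul_inv h2 t ht hg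
    have e2 := lam_mul_inv h2 t ht hh
    calc lam g * lam h * lam g⁻¹ * lam h⁻¹ = (lam g * lam g⁻¹) * (lam h * lam h⁻¹) := by ring
      _ = 1 := by rw [e1, e2, mul_one]

end main

/-- elements of the centralizer of the embedded `SL_m` -/
theorem cent_range (hm : 2 ≤ m) {z : SpecialLinearGroup (Fin (m + 1)) F}
    (hz : z ∈ Subgroup.centralizer ((emb F m).range : Set (SpecialLinearGroup (Fin (m + 1)) F))) :
    ∃ l d : F, z.1 = blk (l • (1 : Matrix (Fin m) (Fin m) F)) d := by
  apply cent_blk hm
  intro A hA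
  rw [Subgroup.mem_centralizer_iff] at hz
  have := hz (emb F m ⟨A, hA⟩) ⟨_, rfl⟩
  have h1 := congrArg Subtype.val this
  simp only [val_mul, emb_val] at h1
  exact h1.symm

theorem blk_smul_mul (l l' d d' : F) :
    blk (l • (1 : Matrix (Fin m) (Fin m) F)) d * blk (l' • (1 : Matrix (Fin m) (Fin m) F)) d' =
      blk ((l * l') • (1 : Matrix (Fin m) (Fin m) F)) (d * d') := by
  rw [blk_mul]
  congr 1
  rw [smul_mul_assoc, one_mul, smul_smul]

theorem standard_SL [Fintype F] [DecidableEq F] (h2 : (2 : F) ≠ 0) (hm : 3 ≤ m) (hev : Even m)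
    (t : SpecialLinearGroup (Fin (m + 1)) F) (ht : t.1 = tmat F m) :
    (layer ↥(Subgroup.centralizer ({t} : Set (SpecialLinearGroup (Fin (m + 1)) F)))).map
      (Subgroup.centralizer ({t} : Set (SpecialLinearGroup (Fin (m + 1)) F))).subtype =
        (emb F m).range ∧ IsStandardSubgroup (emb F m).range := by
  have hq := quasisimple_range (F := F) hm
  have hLC := range_le_centralizer h2 t ht
  have hCN := centralizer_le_normalizer h2 t ht
  have hcomm := commutator_le_range h2 t ht
  refine ⟨StdInv.layer_map_eq _ _ hq hLC hCN hcomm, ?_⟩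
  have ht1 : t ≠ 1 := by
    intro h
    have h1 := congrArg (fun x : SpecialLinearGroup (Fin (m + 1)) F => x.1 (Fin.castSucc ⟨0, by omega⟩)
      (Fin.castSucc ⟨0, by omega⟩)) h
    simp only [ht, tmat, blk_cc] at h1
    simp at h1
    apply h2
    have : (2 : F) = 1 - (-1) := by ring
    rw [this, h1]
    ring
  have ht2 : t * t = 1 := by
    apply Subtype.ext
    simp only [val_mul, ht, tmat, blk_mul]
    simp [blk_one]
  apply StdInv.standard_of_involution t _ ht1 ht2 hq hLC hCN
  · intro x hx y hy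
    obtain ⟨l, d, hx'⟩ := cent_range (by omega) hx
    obtain ⟨l', d', hy'⟩ := cent_range (by omega) hy
    apply Subtype.ext
    simp only [val_mul]
    rw [hx', hy', blk_smul_mul, blk_smul_mul, mul_comm l, mul_comm d]
  · intro z hz hzz
    obtain ⟨l, d, hz'⟩ := cent_range (by omega) hz
    have h1 := congrArg Subtype.val hzz
    simp only [val_mul] at h1
    rw [hz', blk_smul_mul, val_one, ← blk_one] at h1
    obtain ⟨h3, h4⟩ := blk_injective h1
    have hl : l * l = 1 := by
      have := congrFun (congrFun h3 ⟨0, by omega⟩) ⟨0, by omega⟩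
      simpa using this
    have hdet := z.2
    rw [hz', det_blk, Matrix.det_smul, Matrix.det_one, mul_one, Fintype.card_fin] at hdet
    obtain ⟨k, hk⟩ := hev
    have hlm : l ^ m = 1 := by
      rw [hk, ← two_mul, pow_mul, pow_two, hl, one_pow]
    rw [hlm, one_mul] at hdet
    have hl' : (l - 1) * (l + 1) = 0 := by linear_combination hl
    rcases mul_eq_zero.1 hl' with h5 | h5
    · left
      apply Subtype.ext
      rw [hz', hdet, val_one, ← blk_one]
      have : l = 1 := by linear_combination h5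
      rw [this, one_smul]
    · right
      apply Subtype.ext
      rw [hz', hdet, ht, tmat]
      have : l = -1 := by linear_combination h5
      rw [this]
      congr 1
      simp

end Cfsg.Agent.Lib.H6.SLStd
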