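import Mathlib
import Cfsg.Prelude.Def_Local
import Cfsg.Agent.Lib.H6.LastBlock
import Cfsg.Agent.Lib.H6.SLStd
import Cfsg.Agent.Lib.H7.Quasisimple
import Cfsg.Agent.Lib.H7.PComponent2
import Cfsg.Agent.Lib.H22.PPrimeCore

set_option autoImplicit false

/-! `C(t)/O(C(t))` has a component for `t = diag(-1, …, -1, 1)` in `GL_n(F)` (helper6). -/

namespace Cfsg.Agent.Lib.H6.GLComp

open Cfsg Matrix Cfsg.Agent.Lib.H6.LastBlock Cfsg.Agent.Lib.H6.SLStd

/-- a quasisimple normal subgroup containing an involution gives a component of `X / O(X)` -/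
theorem hasComponent_quotient_oddCore {X : Type*} [Group X] [Finite X] (N : Subgroup X)
    [hN : N.Normal] (hq : IsQuasisimple N) (u : X) (hu : u ∈ N) (hu1 : u ≠ 1) (hu2 : u * u = 1) :
    HasComponent (X ⧸ oddCore X) := by
  set π := QuotientGroup.mk' (oddCore X) with hπ
  have hπs : Function.Surjective π := QuotientGroup.mk'_surjective _
  refine ⟨N.map π, ?_, ?_⟩
  · have : (N.map π).Normal := hN.map π hπs
    exact this.isSubnormal
  · apply Cfsg.Agent.Lib.H7.quasisimple_of_surjective hq (π.subgroupMap N)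
      (MonoidHom.subgroupMap_surjective π N)
    refine ⟨⟨⟨π u, Subgroup.mem_map_of_mem π hu⟩, 1, ?_⟩⟩
    intro h
    have h1 : π u = 1 := congrArg Subtype.val h
    rw [hπ, QuotientGroup.mk'_apply, QuotientGroup.eq_one_iff] at h1
    have hord : orderOf u = 2 := orderOf_eq_prime (by rw [pow_two]; exact hu2) hu1
    have h3 : orderOf (⟨u, h1⟩ : oddCore X) = 2 := by
      rw [← hord]
      exact Subgroup.orderOf_mk u h1
    have h4 := orderOf_dvd_natCard (⟨u, h1⟩ : oddCore X)
    rw [h3] at h4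
    exact Cfsg.Agent.Lib.H22.not_dvd_card_pPrimeCore Nat.prime_two h4

theorem exists_sq_ne_one' {F : Type*} [Field F] [Fintype F] (h4 : 4 ≤ Fintype.card F) :
    ∃ a : F, a ≠ 0 ∧ a ^ 2 ≠ 1 := by
  classical
  by_contra hno
  push Not at hno
  have hsub : (Finset.univ : Finset F) ⊆ {0, 1, -1} := by
    intro a _
    by_cases ha : a = 0
    · simp [ha]
    · have h1 := hno a ha
      have h2 : (a - 1) * (a + 1) = 0 := by ring_nf; rw [h1]; ring
      rcases mul_eq_zero.mp h2 with h3 | h3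
      · have : a = 1 := sub_eq_zero.mp h3
        simp [this]
      · have : a = -1 := eq_neg_of_add_eq_zero_left h3
        simp [this]
  have := Finset.card_le_card hsub
  rw [Finset.card_univ] at this
  have h3 : ({0, 1, -1} : Finset F).card ≤ 3 := Finset.card_le_three
  omega

theorem quasisimple_SL2 {F : Type*} [Field F] [Fintype F] [DecidableEq F]
    (h4 : 4 ≤ Fintype.card F) : IsQuasisimple (SpecialLinearGroup (Fin 2) F) := by
  obtain ⟨a, ha, hasq⟩ := exists_sq_ne_one' h4
  refine ⟨⟨Matrix.SL2.commutator_eq_top ha hasq⟩, ?_⟩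
  exact Matrix.ProjectiveSpecialLinearGroup.rank_two_simple
    (by rw [Nat.card_eq_fintype_card]; exact h4)

variable {F : Type*} [Field F] {m : ℕ}

theorem tmat_mul_tmat : tmat F m * tmat F m = 1 := by
  rw [tmat, blk_mul]
  simp [blk_one]

/-- the involution `diag(-1, …, -1, 1)` in `GL` -/
def tGL (F : Type*) [Field F] (m : ℕ) : GeneralLinearGroup (Fin (m + 1)) F :=
  ⟨tmat F m, tmat F m, tmat_mul_tmat, tmat_mul_tmat⟩

theorem tGL_val : (tGL F m).1 = tmat F m := rfl

/-- the embedding `A ↦ diag(A, 1)` of `SL_m` into `GL_{m+1}` -/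
def embGL (F : Type*) [Field F] (m : ℕ) :
    SpecialLinearGroup (Fin m) F →* GeneralLinearGroup (Fin (m + 1)) F :=
  SpecialLinearGroup.toGL.comp (emb F m)

theorem embGL_val (A : SpecialLinearGroup (Fin m) F) : (embGL F m A).1 = blk A.1 1 := rfl

theorem embGL_injective : Function.Injective (embGL F m) :=
  SpecialLinearGroup.toGL_injective.comp emb_injective

theorem mem_range_embGL (x : GeneralLinearGroup (Fin (m + 1)) F) :
    x ∈ (embGL F m).range ↔ IsBlk x.1 ∧ x.1 (Fin.last m) (Fin.last m) = 1 ∧ x.1.det = 1 := by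
  constructor
  · rintro ⟨A, rfl⟩
    refine ⟨isBlk_blk _ _, by simp [embGL_val], ?_⟩
    rw [embGL_val, det_blk, A.2, mul_one]
  · rintro ⟨h1, h2, h3⟩
    have hx := eq_blk_of_isBlk h1
    rw [h2] at hx
    have hd : (ul x.1).det = 1 := by
      rw [hx, det_blk, mul_one] at h3
      exact h3
    refine ⟨⟨ul x.1, hd⟩, Units.ext ?_⟩
    show blk (ul x.1) 1 = x.1
    exact hx.symm

theorem mem_centralizer_tGL (h2 : (2 : F) ≠ 0) (g : GeneralLinearGroup (Fin (m + 1)) F) :
    g ∈ Subgroup.centralizer ({tGL F m} : Set (GeneralLinearGroup (Fin (m + 1)) F)) ↔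
      IsBlk g.1 := by
  rw [Subgroup.mem_centralizer_iff]
  constructor
  · intro h
    have h1 := congrArg Units.val (h _ rfl)
    rw [Units.val_mul, Units.val_mul, tGL_val] at h1
    exact isBlk_of_commute h2 h1.symm
  · intro h x hx
    rw [Set.mem_singleton_iff] at hx
    subst hx
    apply Units.ext
    rw [Units.val_mul, Units.val_mul, tGL_val]
    exact (commute_tmat_of_isBlk h).symm

theorem range_le_centralizer_tGL (h2 : (2 : F) ≠ 0) :
    (embGL F m).range ≤
      Subgroup.centralizer ({tGL F m} : Set (GeneralLinearGroup (Fin (m + 1)) F)) := by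
  intro x hx
  rw [mem_centralizer_tGL h2]
  exact ((mem_range_embGL x).1 hx).1

theorem conj_mem_range_embGL (h2 : (2 : F) ≠ 0) {g x : GeneralLinearGroup (Fin (m + 1)) F}
    (hg : g ∈ Subgroup.centralizer ({tGL F m} : Set (GeneralLinearGroup (Fin (m + 1)) F)))
    (hx : x ∈ (embGL F m).range) : g * x * g⁻¹ ∈ (embGL F m).range := by
  have h1 := (mem_centralizer_tGL h2 g).1 hg
  have h3 := (mem_centralizer_tGL h2 g⁻¹).1 (inv_mem hg)
  obtain ⟨hx1, hx2, hx3⟩ := (mem_range_embGL x).1 hx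
  rw [mem_range_embGL]
  have hgg : g.1 * (g⁻¹).1 = 1 := by
    rw [← Units.val_mul, mul_inv_cancel, Units.val_one]
  refine ⟨?_, ?_, ?_⟩
  · rw [Units.val_mul, Units.val_mul]
    exact (h1.mul hx1).mul h3
  · rw [Units.val_mul, Units.val_mul, ll_mul (h1.mul hx1) h3, ll_mul h1 hx1, hx2, mul_one,
      ← ll_mul h1 h3, hgg]
    simp
  · rw [Units.val_mul, Units.val_mul, Matrix.det_mul, Matrix.det_mul, hx3, mul_one,
      ← Matrix.det_mul, hgg, Matrix.det_one]

theorem tGL_ne_one (h2 : (2 : F) ≠ 0) (hm : 1 ≤ m) : tGL F m ≠ 1 := by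
  intro h
  have h1 := congrArg (fun x : GeneralLinearGroup (Fin (m + 1)) F =>
    x.1 (Fin.castSucc ⟨0, by omega⟩) (Fin.castSucc ⟨0, by omega⟩)) h
  simp only [tGL_val, tmat, blk_cc] at h1
  simp at h1
  apply h2
  have : (2 : F) = 1 - (-1) := by ring
  rw [this, h1]
  ring

theorem tGL_mul_self : tGL F m * tGL F m = 1 := by
  apply Units.ext
  rw [Units.val_mul, tGL_val, tmat_mul_tmat, Units.val_one]

theorem orderOf_tGL (h2 : (2 : F) ≠ 0) (hm : 1 ≤ m) : orderOf (tGL F m) = 2 :=
  orderOf_eq_prime (by rw [pow_two]; exact tGL_mul_self) (tGL_ne_one h2 hm)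

theorem tGL_not_mem_center (h2 : (2 : F) ≠ 0) (hm : 1 ≤ m) :
    tGL F m ∉ Subgroup.center (GeneralLinearGroup (Fin (m + 1)) F) := by
  intro h
  rw [Subgroup.mem_center_iff] at h
  have hne : Fin.castSucc (⟨0, by omega⟩ : Fin m) ≠ Fin.last m := (Fin.castSucc_lt_last _).ne
  set g : GeneralLinearGroup (Fin (m + 1)) F :=
    SpecialLinearGroup.toGL (SpecialLinearGroup.transvection hne (1 : F)) with hg
  have hgC : g ∈ Subgroup.centralizer ({tGL F m} : Set (GeneralLinearGroup (Fin (m + 1)) F)) := by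
    rw [Subgroup.mem_centralizer_iff]
    intro x hx
    rw [Set.mem_singleton_iff] at hx
    subst hx
    exact (h g).symm
  have h1 := ((mem_centralizer_tGL h2 g).1 hgC).1 ⟨0, by omega⟩
  have h3 : g.1 = Matrix.transvection (Fin.castSucc (⟨0, by omega⟩ : Fin m)) (Fin.last m) (1 : F) :=
    rfl
  rw [h3, Matrix.transvection, Matrix.add_apply, Matrix.one_apply_ne hne,
    Matrix.single_apply_same, zero_add] at h1
  exact one_ne_zero h1

/-- an involution in `SL_{k+2}` -/
def uSL (F : Type*) [Field F] (k : ℕ) : SpecialLinearGroup (Fin (k + 2)) F :=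
  ⟨blk (blk (1 : Matrix (Fin k) (Fin k) F) (-1)) (-1), by
    rw [det_blk, det_blk, Matrix.det_one]; ring⟩

theorem uSL_mul_self (k : ℕ) : uSL F k * uSL F k = 1 := by
  apply Subtype.ext
  show blk (blk (1 : Matrix (Fin k) (Fin k) F) (-1)) (-1) *
    blk (blk (1 : Matrix (Fin k) (Fin k) F) (-1)) (-1) = 1
  rw [blk_mul, blk_mul]
  simp [blk_one]

theorem uSL_ne_one (h2 : (2 : F) ≠ 0) (k : ℕ) : uSL F k ≠ 1 := by
  intro h
  have h1 := congrArg (fun x : SpecialLinearGroup (Fin (k + 2)) F =>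
    x.1 (Fin.last (k + 1)) (Fin.last (k + 1))) h
  have h3 : (uSL F k).1 = blk (blk (1 : Matrix (Fin k) (Fin k) F) (-1)) (-1) := rfl
  simp only [h3, blk_ll] at h1
  have h4 : (1 : SpecialLinearGroup (Fin (k + 2)) F).1 (Fin.last (k + 1)) (Fin.last (k + 1)) = 1 := by
    show (1 : Matrix (Fin (k + 2)) (Fin (k + 2)) F) (Fin.last (k + 1)) (Fin.last (k + 1)) = 1
    simp
  rw [h4] at h1
  apply h2
  have : (2 : F) = 1 - (-1) := by ring
  rw [this, h1]
  ring

theorem hasComponent_GL [Fintype F] [DecidableEq F] (h2 : (2 : F) ≠ 0) (k : ℕ)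
    (hq : IsQuasisimple (SpecialLinearGroup (Fin (k + 2)) F)) :
    HasComponent (↥(Subgroup.centralizer
      ({tGL F (k + 2)} : Set (GeneralLinearGroup (Fin (k + 2 + 1)) F))) ⧸
      oddCore ↥(Subgroup.centralizer
        ({tGL F (k + 2)} : Set (GeneralLinearGroup (Fin (k + 2 + 1)) F)))) := by
  set C := Subgroup.centralizer ({tGL F (k + 2)} : Set (GeneralLinearGroup (Fin (k + 2 + 1)) F))
    with hC
  have hLC : (embGL F (k + 2)).range ≤ C := range_le_centralizer_tGL h2
  have hN : ((embGL F (k + 2)).range.subgroupOf C).Normal := by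
    refine ⟨fun n hn g => ?_⟩
    rw [Subgroup.mem_subgroupOf] at hn ⊢
    exact conj_mem_range_embGL h2 g.2 hn
  have hqN : IsQuasisimple ((embGL F (k + 2)).range.subgroupOf C) := by
    apply Cfsg.Agent.Lib.H7.quasisimple_of_mulEquiv (Subgroup.subgroupOfEquivOfLe hLC).symm
    exact Cfsg.Agent.Lib.H7.quasisimple_of_mulEquiv (MonoidHom.ofInjective embGL_injective) hq
  have huR : embGL F (k + 2) (uSL F k) ∈ (embGL F (k + 2)).range := ⟨_, rfl⟩
  apply hasComponent_quotient_oddCore ((embGL F (k + 2)).range.subgroupOf C) hqN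
    ⟨embGL F (k + 2) (uSL F k), hLC huR⟩
  · rw [Subgroup.mem_subgroupOf]
    exact huR
  · intro h
    have h1 : embGL F (k + 2) (uSL F k) = 1 := congrArg Subtype.val h
    rw [← map_one (embGL F (k + 2))] at h1
    exact uSL_ne_one h2 k (embGL_injective h1)
  · apply Subtype.ext
    show embGL F (k + 2) (uSL F k) * embGL F (k + 2) (uSL F k) = 1
    rw [← map_mul, uSL_mul_self, map_one]

end Cfsg.Agent.Lib.H6.GLComp
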