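import Mathlib
import Cfsg.Prelude.Def_GeometricClasses
import Cfsg.Agent.Lib.H11.SubspMax1
import Cfsg.Agent.Lib.H11.SimMax4
import Cfsg.Agent.Lib.H11.UniMax7
import Cfsg.Agent.Lib.H10.SfH
import Cfsg.Agent.Lib.H25.TpMain

/-!
# Conjunct wrappers for the `SL_n` geometric-type rows (helper6)

Each lemma is one conjunct family of the rows `cmax5_sl<n>_geometric_types_maximal`, for a general `n`.
-/

set_option autoImplicit false

namespace Cfsg.Agent.Lib.H6.GeoSL

open Cfsg.Geo

variable {F : Type*} [Field F] [Fintype F] {n : ℕ}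

/-- class 1: subspace stabilisers -/
theorem c1 (hn : 2 ≤ n) (W : Submodule F (Fin n → F)) (hW0 : W ≠ ⊥) (hW1 : W ≠ ⊤) :
    IsMaximalIn (specialLinear (Fin n) F) (subspaceStabilizer W ⊓ specialLinear (Fin n) F) := by
  have : Nontrivial (Fin n) := Fin.nontrivial_iff_two_le.2 hn
  exact Cfsg.Agent.Lib.H11.SubspMax.sl_maximal W hW0 hW1

/-- class 4: tensor products -/
theorem c4 (n₁ n₂ : ℕ) (h1 : 2 ≤ n₁) (h12 : n₁ < n₂) (hex : ¬ (n₁ = 2 ∧ Fintype.card F = 2))
    (e : Fin n ≃ Fin n₁ × Fin n₂) (P : Matrix.GeneralLinearGroup (Fin n) F) :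
    IsMaximalIn (specialLinear (Fin n) F) (tensorProductSubgroup n₁ n₂ e P ⊓ specialLinear (Fin n) F) :=
  Cfsg.Agent.Lib.H25.Tp.maximal_of n n₁ n₂ h1 h12 hex e P

/-- class 5: subfield groups -/
theorem c5 (hn : 4 ≤ n) (F₀ : Subfield F) (r : ℕ) (P : Matrix.GeneralLinearGroup (Fin n) F)
    (hr : r.Prime) (hcard : Fintype.card F = Nat.card F₀ ^ r) :
    IsMaximalIn (specialLinear (Fin n) F) (subfieldSubgroup F₀ P ⊓ specialLinear (Fin n) F) :=
  Cfsg.Agent.Lib.H10.Sf.maximal_conj hn F₀ hr hcard P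

/-- class 8, symplectic -/
theorem c8s (hn : 3 ≤ n) (f : (Fin n → F) → (Fin n → F) → F) (hf : IsSymplecticForm f) :
    IsMaximalIn (specialLinear (Fin n) F) (similarityGroup f ⊓ specialLinear (Fin n) F) := by
  apply Cfsg.Agent.Lib.H11.SimMax.sim_maximal hf
  rw [Fintype.card_fin]; exact hn

/-- class 8, unitary -/
theorem c8u (hn : 9 ≤ n) (σ : F ≃+* F) (f : (Fin n → F) → (Fin n → F) → F)
    (hf : IsUnitaryForm σ f) :
    IsMaximalIn (specialLinear (Fin n) F) (similarityGroup f ⊓ specialLinear (Fin n) F) := by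
  apply Cfsg.Agent.Lib.H11.UniMax.uni_sim_maximal hf
  rw [Fintype.card_fin]; exact hn

/-- class 8, orthogonal: from the `QuadraticForm` version to the `IsNondegenerateQuadraticForm` version -/
theorem c8o
    (hmain : ∀ Qf : QuadraticForm F (Fin n → F), (QuadraticMap.polarBilin Qf).Nondegenerate →
      (2 : F) ≠ 0 → IsMaximalIn (specialLinear (Fin n) F)
        (quadSimilarityGroup (⇑Qf) ⊓ specialLinear (Fin n) F))
    (hodd : Odd (Fintype.card F)) (Q : (Fin n → F) → F) (hQ : IsNondegenerateQuadraticForm Q) :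
    IsMaximalIn (specialLinear (Fin n) F) (quadSimilarityGroup Q ⊓ specialLinear (Fin n) F) := by
  have h2 : (2 : F) ≠ 0 := by
    intro h0
    have h1 : ringChar F = 2 := CharP.ringChar_of_prime_eq_zero Nat.prime_two (by exact_mod_cast h0)
    rw [FiniteField.even_card_iff_char_two] at h1
    rw [Nat.odd_iff] at hodd
    omega
  obtain ⟨B, hB⟩ : ∃ B : LinearMap.BilinMap F (Fin n → F) F, ∀ x y, B x y = QuadraticMap.polar Q x y :=
    ⟨LinearMap.mk₂ F (QuadraticMap.polar Q) hQ.polar_bilinear.add_left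
      hQ.polar_bilinear.smul_left hQ.polar_bilinear.add_right hQ.polar_bilinear.smul_right,
      fun x y => rfl⟩
  obtain ⟨Qf, hQf⟩ : ∃ Qf : QuadraticForm F (Fin n → F), ⇑Qf = Q :=
    ⟨{ toFun := Q
       toFun_smul := fun a x => by rw [hQ.smul, pow_two, smul_eq_mul]
       exists_companion' := ⟨B, fun x y => by rw [hB]; unfold QuadraticMap.polar; ring⟩ }, rfl⟩
  have hnd : (QuadraticMap.polarBilin Qf).Nondegenerate := by
    constructor
    · intro x hx
      by_contra hne
      obtain ⟨-, y, hy⟩ := hQ.nondegenerate x hne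
      apply hy
      have := hx y
      rw [QuadraticMap.polarBilin_apply_apply, hQf] at this
      exact this
    · intro x hx
      by_contra hne
      obtain ⟨⟨y, hy⟩, -⟩ := hQ.nondegenerate x hne
      apply hy
      have := hx y
      rw [QuadraticMap.polarBilin_apply_apply, hQf] at this
      exact this
  have := hmain Qf hnd h2
  rw [hQf] at this
  exact this

end Cfsg.Agent.Lib.H6.GeoSL
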