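import Mathlib

set_option autoImplicit false

/-!
# Groups of automorphisms of a graph, transported along an isomorphism; subgroups of index two
-/

namespace Cfsg.Agent.Lib.H6.Rank3Aut

section aut
variable {K X V : Type*} [Group K] [MulAction K X] (𝒢 : SimpleGraph X) (M : SimpleGraph V)
  (hact : ∀ (g : K) (x y : X), 𝒢.Adj (g • x) (g • y) ↔ 𝒢.Adj x y) (ψ : 𝒢 ≃g M)

/-- an action by graph automorphisms, transported along an isomorphism of graphs -/
def autHom : K →* (M ≃g M) where
  toFun g :=
    { toEquiv := ψ.symm.toEquiv.trans ((MulAction.toPerm g).trans ψ.toEquiv)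
      map_rel_iff' := by
        intro v w
        show M.Adj (ψ (g • ψ.symm v)) (ψ (g • ψ.symm w)) ↔ M.Adj v w
        rw [ψ.map_adj_iff, hact, ψ.symm.map_adj_iff] }
  map_one' := by
    ext v
    show ψ ((1 : K) • ψ.symm v) = v
    rw [one_smul, ψ.apply_symm_apply]
  map_mul' g h := by
    ext v
    show ψ ((g * h) • ψ.symm v) = ψ (g • ψ.symm (ψ (h • ψ.symm v)))
    rw [ψ.symm_apply_apply, mul_smul]

theorem autHom_apply (g : K) (v : V) : autHom 𝒢 M hact ψ g v = ψ (g • ψ.symm v) := rfl

theorem autHom_injective (hfaith : ∀ g : K, (∀ x : X, g • x = x) → g = 1) :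
    Function.Injective (autHom 𝒢 M hact ψ) := by
  rw [injective_iff_map_eq_one]
  intro g hg
  apply hfaith
  intro x
  have h1 : autHom 𝒢 M hact ψ g (ψ x) = ψ x := by rw [hg]; rfl
  rw [autHom_apply, ψ.symm_apply_apply] at h1
  exact ψ.injective h1

end aut

/-- two subgroups of half the order of a finite group, one of them simple, coincide -/
theorem eq_of_half {A : Type*} [Group A] [Finite A] (H1 H2 : Subgroup A) (m : ℕ)
    (hA : Nat.card A = 2 * m) (h1 : Nat.card H1 = m) (h2 : Nat.card H2 = m)
    (hs : IsSimpleGroup H2) (hm : 2 < m) : H1 = H2 := by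
  have hidx : H1.index = 2 := by
    have := H1.card_mul_index
    rw [h1, hA] at this
    have hm0 : 0 < m := by omega
    exact Nat.eq_of_mul_eq_mul_left hm0 (by rw [this]; ring)
  haveI : H1.Normal := Subgroup.normal_of_index_eq_two hidx
  haveI : (H1.subgroupOf H2).Normal := inferInstance
  rcases hs.eq_bot_or_eq_top_of_normal (H1.subgroupOf H2) inferInstance with hb | ht
  · exfalso
    have hd := Subgroup.relIndex_dvd_index_of_normal H1 H2
    rw [hidx] at hd
    unfold Subgroup.relIndex at hd
    rw [hb, Subgroup.index_bot, h2] at hd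
    have := Nat.le_of_dvd (by norm_num) hd
    omega
  · rw [Subgroup.subgroupOf_eq_top] at ht
    symm
    exact Subgroup.eq_of_le_of_card_ge ht (by rw [h1, h2])

end Cfsg.Agent.Lib.H6.Rank3Aut
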