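import Mathlib
import Cfsg.Agent.Lib.H14.SrgBase

set_option autoImplicit false

/-!
# Rank three on 100 points with subdegrees 1, 22, 77

A group acting transitively on 100 points such that a point stabiliser has orbits of lengths 22 and 77
preserves a strongly regular graph with parameters `(100, 22, 0, 6)`: the orbital of length 22 is
self-paired, the relation `22 (21 - λ) = 77 μ`, the divisibility `3 ∣ 2200 λ` (rotation of ordered
triangles) and `23 ∤ 100` leave only `λ = 0`, `μ = 6`.
-/

namespace Cfsg.Agent.Lib.H6.Rank3Srg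

open MulAction Cfsg.Agent.Lib.H14.Srg

/-- the orbital relation of the pair `(a, b)` -/
def R (K : Type*) {X : Type*} [Group K] [MulAction K X] (a b x y : X) : Prop :=
  ∃ g : K, g • a = x ∧ g • b = y

section basic
variable {K X : Type*} [Group K] [MulAction K X]

theorem R_smul {a b x y : X} (g : K) (h : R K a b x y) : R K a b (g • x) (g • y) := by
  obtain ⟨k, rfl, rfl⟩ := h
  exact ⟨g * k, mul_smul _ _ _, mul_smul _ _ _⟩

theorem R_smul_iff {a b : X} (g : K) (x y : X) : R K a b (g • x) (g • y) ↔ R K a b x y := by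
  constructor
  · intro h
    have := R_smul g⁻¹ h
    rwa [inv_smul_smul, inv_smul_smul] at this
  · exact R_smul g

theorem R_base_iff (a b y : X) : R K a b a y ↔ y ∈ orbit (stabilizer K a) b := by
  constructor
  · rintro ⟨g, hg, rfl⟩
    exact ⟨⟨g, hg⟩, rfl⟩
  · rintro ⟨⟨g, hg⟩, rfl⟩
    exact ⟨g, hg, rfl⟩

theorem orbit_stab_self (a : X) : orbit (stabilizer K a) a = {a} := by
  ext x
  constructor
  · rintro ⟨⟨g, hg⟩, rfl⟩
    exact hg
  · rintro rfl
    exact mem_orbit_self _

theorem stab_smul_mem {a b y : X} (k : K) (hk : k • a = a) (hy : y ∈ orbit (stabilizer K a) b) :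
    k • y ∈ orbit (stabilizer K a) b := by
  obtain ⟨g, rfl⟩ := hy
  exact ⟨(⟨k, hk⟩ : stabilizer K a) * g, mul_smul _ _ _⟩

theorem exists_stab_smul {a b y z : X} (hy : y ∈ orbit (stabilizer K a) b)
    (hz : z ∈ orbit (stabilizer K a) b) : ∃ k : K, k • a = a ∧ k • y = z := by
  obtain ⟨g, rfl⟩ := hy
  obtain ⟨g', rfl⟩ := hz
  refine ⟨(g' * g⁻¹ : stabilizer K a), (g' * g⁻¹ : stabilizer K a).2, ?_⟩
  show (g' * g⁻¹) • g • b = g' • b
  rw [smul_smul, inv_mul_cancel_right]

end basic

/-- the hypotheses: transitive on 100 points, the stabiliser of `a` has orbits of lengths 22 and 77 -/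
structure Hyp (K : Type*) {X : Type*} [Group K] [MulAction K X] (a b c : X) : Prop where
  trans : ∀ x y : X, ∃ g : K, g • x = y
  card : Nat.card X = 100
  hb : (orbit (stabilizer K a) b).ncard = 22
  hc : (orbit (stabilizer K a) c).ncard = 77

namespace Hyp

variable {K X : Type*} [Group K] [MulAction K X] {a b c : X}

theorem finite (h : Hyp K a b c) : Finite X :=
  Nat.finite_of_card_ne_zero (by rw [h.card]; norm_num)

theorem a_notMem_b (h : Hyp K a b c) : a ∉ orbit (stabilizer K a) b := by
  intro ha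
  obtain ⟨⟨k, hk⟩, hkb⟩ := ha
  have hkb' : k • b = a := hkb
  have hba : b = a := by
    have hka : k • b = k • a := by rw [hkb']; exact (mem_stabilizer_iff.1 hk).symm
    exact MulAction.injective k hka
  have := h.hb
  rw [hba, orbit_stab_self, Set.ncard_singleton] at this
  omega

theorem a_notMem_c (h : Hyp K a b c) : a ∉ orbit (stabilizer K a) c := by
  intro ha
  obtain ⟨⟨k, hk⟩, hkb⟩ := ha
  have hkb' : k • c = a := hkb
  have hba : c = a := by
    have hka : k • c = k • a := by rw [hkb']; exact (mem_stabilizer_iff.1 hk).symm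
    exact MulAction.injective k hka
  have := h.hc
  rw [hba, orbit_stab_self, Set.ncard_singleton] at this
  omega

theorem disj (h : Hyp K a b c) :
    Disjoint (orbit (stabilizer K a) b) (orbit (stabilizer K a) c) := by
  refine (MulAction.orbit.eq_or_disjoint b c).resolve_left ?_
  intro e
  have := h.hb
  rw [e, h.hc] at this
  omega

theorem cover (h : Hyp K a b c) (x : X) :
    x = a ∨ x ∈ orbit (stabilizer K a) b ∨ x ∈ orbit (stabilizer K a) c := by
  haveI := h.finite
  have hS : ({a} ∪ (orbit (stabilizer K a) b ∪ orbit (stabilizer K a) c) : Set X) = Set.univ := by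
    rw [Set.eq_univ_iff_ncard, Set.ncard_union_eq, Set.ncard_union_eq h.disj, h.hb, h.hc,
      Set.ncard_singleton, h.card]
    rw [Set.disjoint_singleton_left]
    rintro (h1 | h1)
    · exact h.a_notMem_b h1
    · exact h.a_notMem_c h1
  have hx : x ∈ ({a} ∪ (orbit (stabilizer K a) b ∪ orbit (stabilizer K a) c) : Set X) := by
    rw [hS]; exact Set.mem_univ x
  rcases hx with hx | hx | hx
  · exact Or.inl hx
  · exact Or.inr (Or.inl hx)
  · exact Or.inr (Or.inr hx)

theorem not_R_self (h : Hyp K a b c) (x : X) : ¬ R K a b x x := by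
  intro hx
  obtain ⟨g, rfl⟩ := h.trans a x
  rw [R_smul_iff, R_base_iff] at hx
  exact h.a_notMem_b hx

theorem out_eq (g : K) (x : X) :
    {y | R K a b (g • x) y} = (fun y => g • y) '' {y | R K a b x y} := by
  ext y
  constructor
  · intro hy
    refine ⟨g⁻¹ • y, ?_, smul_inv_smul g y⟩
    have : R K a b (g • x) (g • g⁻¹ • y) := by rw [smul_inv_smul]; exact hy
    exact (R_smul_iff g _ _).1 this
  · rintro ⟨z, hz, rfl⟩
    exact R_smul g hz

theorem in_eq (g : K) (x : X) :
    {y | R K a b y (g • x)} = (fun y => g • y) '' {y | R K a b y x} := by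
  ext y
  constructor
  · intro hy
    refine ⟨g⁻¹ • y, ?_, smul_inv_smul g y⟩
    have : R K a b (g • g⁻¹ • y) (g • x) := by rw [smul_inv_smul]; exact hy
    exact (R_smul_iff g _ _).1 this
  · rintro ⟨z, hz, rfl⟩
    exact R_smul g hz

theorem out_base : {y | R K a b a y} = orbit (stabilizer K a) b := by
  ext y
  exact R_base_iff a b y

theorem ncard_out (h : Hyp K a b c) (x : X) : {y | R K a b x y}.ncard = 22 := by
  obtain ⟨g, rfl⟩ := h.trans a x
  rw [out_eq, Set.ncard_image_of_injective _ (MulAction.injective g), out_base, h.hb]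

theorem ncard_in (h : Hyp K a b c) (x : X) :
    {y | R K a b y x}.ncard = {y | R K a b y a}.ncard := by
  obtain ⟨g, rfl⟩ := h.trans a x
  rw [in_eq, Set.ncard_image_of_injective _ (MulAction.injective g)]

theorem card_filter_eq_ncard {X : Type*} [Fintype X] (p : X → Prop) [DecidablePred p] :
    (Finset.univ.filter p).card = {y | p y}.ncard := by
  rw [← Set.ncard_coe_finset]
  congr 1
  ext y
  simp

theorem ncard_in_base (h : Hyp K a b c) : {y | R K a b y a}.ncard = 22 := by
  classical
  haveI := h.finite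
  haveI := Fintype.ofFinite X
  have key := Finset.sum_card_bipartiteAbove_eq_sum_card_bipartiteBelow (s := Finset.univ)
    (t := Finset.univ) (r := R K a b)
  have h1 : ∀ x : X, (Finset.bipartiteAbove (R K a b) Finset.univ x).card = 22 := by
    intro x
    unfold Finset.bipartiteAbove
    rw [card_filter_eq_ncard]
    exact h.ncard_out x
  have h2 : ∀ y : X, (Finset.bipartiteBelow (R K a b) Finset.univ y).card
      = {z | R K a b z a}.ncard := by
    intro y
    unfold Finset.bipartiteBelow
    rw [card_filter_eq_ncard]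
    exact h.ncard_in y
  simp only [h1, h2, Finset.sum_const, Finset.card_univ, smul_eq_mul] at key
  have hc : Fintype.card X = 100 := by rw [← Nat.card_eq_fintype_card]; exact h.card
  rw [hc] at key
  omega

theorem in_base (h : Hyp K a b c) : {y | R K a b y a} = orbit (stabilizer K a) b := by
  haveI := h.finite
  refine Set.eq_of_subset_of_ncard_le ?_ ?_ (Set.toFinite _)
  · intro z hz
    have hz' : R K a b z a := hz
    rcases h.cover z with rfl | hzb | hzc
    · exact absurd hz' (h.not_R_self _)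
    · exact hzb
    · exfalso
      have hsub : orbit (stabilizer K a) c ⊆ {y | R K a b y a} := by
        intro z' hz'c
        obtain ⟨k, hka, hkz⟩ := exists_stab_smul hzc hz'c
        have := R_smul k hz'
        rw [hka, hkz] at this
        exact this
      have := Set.ncard_le_ncard hsub
      rw [h.hc, h.ncard_in_base] at this
      omega
  · rw [h.hb, h.ncard_in_base]

theorem symm (h : Hyp K a b c) {x y : X} (hxy : R K a b x y) : R K a b y x := by
  obtain ⟨g, rfl⟩ := h.trans a x
  have hy : R K a b (g • a) (g • g⁻¹ • y) := by rw [smul_inv_smul]; exact hxy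
  rw [R_smul_iff, R_base_iff, ← h.in_base] at hy
  have hy' : R K a b (g⁻¹ • y) a := hy
  have := R_smul g hy'
  rwa [smul_inv_smul] at this

/-- the orbital graph -/
def graph (h : Hyp K a b c) : SimpleGraph X where
  Adj := R K a b
  symm := ⟨fun _ _ hxy => h.symm hxy⟩
  loopless := ⟨fun x hx => h.not_R_self x hx⟩

theorem graph_adj (h : Hyp K a b c) (x y : X) : h.graph.Adj x y ↔ R K a b x y := Iff.rfl

theorem graph_smul (h : Hyp K a b c) (g : K) (x y : X) :
    h.graph.Adj (g • x) (g • y) ↔ h.graph.Adj x y := R_smul_iff g x y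

theorem card_common_smul (h : Hyp K a b c) (g : K) (x y : X) :
    Nat.card (h.graph.commonNeighbors (g • x) (g • y)) = Nat.card (h.graph.commonNeighbors x y) := by
  symm
  apply Nat.card_congr
  refine Equiv.subtypeEquiv (MulAction.toPerm g) ?_
  intro u
  rw [SimpleGraph.mem_commonNeighbors, SimpleGraph.mem_commonNeighbors]
  show _ ↔ h.graph.Adj (g • x) (g • u) ∧ h.graph.Adj (g • y) (g • u)
  rw [h.graph_smul, h.graph_smul]

/-- the parameters `λ` and `μ` -/
noncomputable def lam (h : Hyp K a b c) : ℕ := Nat.card (h.graph.commonNeighbors a b)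

noncomputable def mu (h : Hyp K a b c) : ℕ := Nat.card (h.graph.commonNeighbors a c)

theorem card_nbr (h : Hyp K a b c) (v : X) : Nat.card (h.graph.neighborSet v) = 22 := by
  rw [Nat.card_coe_set_eq]
  exact h.ncard_out v

theorem of_adj (h : Hyp K a b c) (v w : X) (hvw : h.graph.Adj v w) :
    Nat.card (h.graph.commonNeighbors v w) = h.lam := by
  obtain ⟨g, rfl, rfl⟩ := hvw
  exact h.card_common_smul g a b

theorem exists_of_not_adj (h : Hyp K a b c) (v w : X) (hne : v ≠ w) (hvw : ¬ h.graph.Adj v w) :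
    ∃ g : K, g • a = v ∧ g • c = w := by
  obtain ⟨g, rfl⟩ := h.trans a v
  rcases h.cover (g⁻¹ • w) with h1 | h1 | h1
  · exfalso
    apply hne
    rw [← h1, smul_inv_smul]
  · exfalso
    apply hvw
    have : R K a b a (g⁻¹ • w) := (R_base_iff a b _).2 h1
    have := R_smul g this
    rwa [smul_inv_smul] at this
  · obtain ⟨⟨k, hk⟩, hkc⟩ := h1
    have hkc' : k • c = g⁻¹ • w := hkc
    refine ⟨g * k, ?_, ?_⟩
    · rw [mul_smul, mem_stabilizer_iff.1 hk]
    · rw [mul_smul, hkc', smul_inv_smul]

theorem of_not_adj (h : Hyp K a b c) (v w : X) (hne : v ≠ w) (hvw : ¬ h.graph.Adj v w) :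
    Nat.card (h.graph.commonNeighbors v w) = h.mu := by
  obtain ⟨g, rfl, rfl⟩ := h.exists_of_not_adj v w hne hvw
  exact h.card_common_smul g a c

theorem srg_lam_mu (h : Hyp K a b c) : SRGProp h.graph 100 22 h.lam h.mu :=
  ⟨h.card, h.card_nbr, h.of_adj, h.of_not_adj⟩

/-! ### Ordered triangles -/

/-- ordered triangles -/
abbrev Tri (h : Hyp K a b c) : Type _ :=
  {t : (X × X) × X // h.graph.Adj t.1.1 t.1.2 ∧ h.graph.Adj t.1.2 t.2 ∧ h.graph.Adj t.2 t.1.1}

/-- rotation of ordered triangles -/
def rot (h : Hyp K a b c) : Equiv.Perm h.Tri where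
  toFun t := ⟨((t.1.1.2, t.1.2), t.1.1.1), t.2.2.1, t.2.2.2, t.2.1⟩
  invFun t := ⟨((t.1.2, t.1.1.1), t.1.1.2), t.2.2.2, t.2.1, t.2.2.1⟩
  left_inv _ := rfl
  right_inv _ := rfl

theorem rot_pow (h : Hyp K a b c) : h.rot ^ 3 = 1 := by
  ext t <;> rfl

theorem rot_ne (h : Hyp K a b c) (t : h.Tri) : h.rot t ≠ t := by
  intro ht
  have h1 : t.1.1.2 = t.1.1.1 := congrArg (fun s : h.Tri => s.1.1.1) ht
  have h2 := t.2.1
  rw [h1] at h2
  exact h.not_R_self _ h2

theorem card_fiber_adj (h : Hyp K a b c) (p : X × X) (hp : h.graph.Adj p.1 p.2) :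
    Nat.card {z : X // h.graph.Adj p.1 p.2 ∧ h.graph.Adj p.2 z ∧ h.graph.Adj z p.1} = h.lam := by
  rw [← h.of_adj p.1 p.2 hp]
  apply Nat.card_congr
  apply Equiv.subtypeEquivRight
  intro z
  rw [SimpleGraph.mem_commonNeighbors]
  constructor
  · rintro ⟨_, h2, h3⟩
    exact ⟨h3.symm, h2⟩
  · rintro ⟨h1, h2⟩
    exact ⟨hp, h2, h1.symm⟩

theorem card_fiber_not (h : Hyp K a b c) (p : X × X) (hp : ¬ h.graph.Adj p.1 p.2) :
    Nat.card {z : X // h.graph.Adj p.1 p.2 ∧ h.graph.Adj p.2 z ∧ h.graph.Adj z p.1} = 0 := by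
  haveI : IsEmpty {z : X // h.graph.Adj p.1 p.2 ∧ h.graph.Adj p.2 z ∧ h.graph.Adj z p.1} :=
    ⟨fun z => hp z.2.1⟩
  exact Nat.card_of_isEmpty

theorem card_Tri (h : Hyp K a b c) : Nat.card h.Tri = 100 * 22 * h.lam := by
  classical
  haveI := h.finite
  haveI := Fintype.ofFinite X
  have e : h.Tri ≃ Σ p : X × X,
      {z : X // h.graph.Adj p.1 p.2 ∧ h.graph.Adj p.2 z ∧ h.graph.Adj z p.1} :=
    Equiv.subtypeProdEquivSigmaSubtype
      (fun (p : X × X) (z : X) => h.graph.Adj p.1 p.2 ∧ h.graph.Adj p.2 z ∧ h.graph.Adj z p.1)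
  rw [Nat.card_congr e, Nat.card_sigma]
  have hf : ∀ p : X × X,
      Nat.card {z : X // h.graph.Adj p.1 p.2 ∧ h.graph.Adj p.2 z ∧ h.graph.Adj z p.1}
        = if h.graph.Adj p.1 p.2 then h.lam else 0 := by
    intro p
    split_ifs with hp
    · exact h.card_fiber_adj p hp
    · exact h.card_fiber_not p hp
  rw [Finset.sum_congr rfl (fun p _ => hf p), Fintype.sum_prod_type]
  have hx : ∀ x : X, (∑ y : X, if h.graph.Adj x y then h.lam else 0) = 22 * h.lam := by
    intro x
    rw [← Finset.sum_filter, Finset.sum_const, smul_eq_mul, card_filter_eq_ncard]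
    rw [show {y | h.graph.Adj x y}.ncard = 22 from h.ncard_out x]
  rw [Finset.sum_congr rfl (fun x _ => hx x), Finset.sum_const, Finset.card_univ, smul_eq_mul,
    ← Nat.card_eq_fintype_card, h.card]
  ring

theorem three_dvd (h : Hyp K a b c) : 3 ∣ 100 * 22 * h.lam := by
  classical
  haveI := h.finite
  haveI : Fintype h.Tri := Fintype.ofFinite _
  rw [← h.card_Tri, Nat.card_eq_fintype_card]
  by_contra hnd
  obtain ⟨t, ht⟩ := Equiv.Perm.exists_fixed_point_of_prime (p := 3) (n := 1) hnd (σ := h.rot)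
    (by rw [pow_one]; exact h.rot_pow)
  exact h.rot_ne t ht

/-! ### The parameters -/

theorem common_sub (h : Hyp K a b c) (x y : X) :
    h.graph.commonNeighbors x y ⊆ {z | h.graph.Adj x z} \ {y} := by
  intro z hz
  rw [SimpleGraph.mem_commonNeighbors] at hz
  refine ⟨hz.1, ?_⟩
  intro e
  have e' : z = y := e
  rw [e'] at hz
  exact h.not_R_self y hz.2

theorem ncard_diff (h : Hyp K a b c) (x y : X) (hxy : h.graph.Adj x y) :
    ({z | h.graph.Adj x z} \ {y}).ncard = 21 := by
  haveI := h.finite
  rw [Set.ncard_diff_singleton_of_mem (show y ∈ {z | h.graph.Adj x z} from hxy), show {z | h.graph.Adj x z}.ncard = 22 from h.ncard_out x]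

theorem lam_le (h : Hyp K a b c) : h.lam ≤ 21 := by
  haveI := h.finite
  have hab : h.graph.Adj a b := ⟨1, one_smul _ _, one_smul _ _⟩
  unfold lam
  rw [Nat.card_coe_set_eq, ← h.ncard_diff a b hab]
  exact Set.ncard_le_ncard (h.common_sub a b) (Set.toFinite _)

theorem lam_ne (h : Hyp K a b c) : h.lam ≠ 21 := by
  intro h21
  classical
  haveI := h.finite
  haveI := Fintype.ofFinite X
  let C : X → Finset X := fun x => insert x (Finset.univ.filter (fun y => h.graph.Adj x y))
  have hCcard : ∀ x, (C x).card = 23 := by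
    intro x
    have hx : x ∉ Finset.univ.filter (fun y => h.graph.Adj x y) := by
      rw [Finset.mem_filter]
      rintro ⟨_, hxx⟩
      exact h.not_R_self x hxx
    show (insert x (Finset.univ.filter (fun y => h.graph.Adj x y))).card = 23
    rw [Finset.card_insert_of_notMem hx, card_filter_eq_ncard,
      show {y | h.graph.Adj x y}.ncard = 22 from h.ncard_out x]
  have hkey : ∀ x y, h.graph.Adj x y → ∀ z, h.graph.Adj x z → z ≠ y → h.graph.Adj y z := by
    intro x y hxy z hxz hzy
    have heq : h.graph.commonNeighbors x y = {z | h.graph.Adj x z} \ {y} := by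
      refine Set.eq_of_subset_of_ncard_le (h.common_sub x y) ?_ (Set.toFinite _)
      rw [h.ncard_diff x y hxy, ← Nat.card_coe_set_eq, h.of_adj x y hxy, h21]
    have hz : z ∈ h.graph.commonNeighbors x y := by
      rw [heq]
      exact ⟨hxz, hzy⟩
    exact ((SimpleGraph.mem_commonNeighbors h.graph).1 hz).2
  have hC : ∀ x y, y ∈ C x → C x ⊆ C y := by
    intro x y hy z hz
    simp only [C, Finset.mem_insert, Finset.mem_filter, Finset.mem_univ, true_and] at hy hz ⊢
    rcases hy with rfl | hxy
    · exact hz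
    · rcases hz with rfl | hxz
      · exact Or.inr hxy.symm
      · by_cases hzy : z = y
        · exact Or.inl hzy
        · exact Or.inr (hkey x y hxy z hxz hzy)
  have hCeq : ∀ x y, y ∈ C x → C y = C x := by
    intro x y hy
    symm
    apply Finset.eq_of_subset_of_card_le (hC x y hy)
    rw [hCcard, hCcard]
  have hfib : ∀ x, Finset.univ.filter (fun y => C y = C x) = C x := by
    intro x
    ext y
    simp only [Finset.mem_filter, Finset.mem_univ, true_and]
    constructor
    · intro e
      rw [← e]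
      exact Finset.mem_insert_self _ _
    · exact hCeq x y
  have hsum := Finset.card_eq_sum_card_fiberwise (f := C) (s := Finset.univ)
    (t := Finset.univ.image C) (fun x _ => Finset.mem_image_of_mem C (Finset.mem_univ x))
  have h2 : ∀ s ∈ Finset.univ.image C, (Finset.univ.filter (fun y => C y = s)).card = 23 := by
    intro s hs
    obtain ⟨x, _, rfl⟩ := Finset.mem_image.1 hs
    rw [hfib, hCcard]
  rw [Finset.sum_congr rfl h2, Finset.sum_const, smul_eq_mul, Finset.card_univ,
    ← Nat.card_eq_fintype_card, h.card] at hsum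
  omega

/-- **The orbital graph is strongly regular with parameters `(100, 22, 0, 6)`.** -/
theorem srg (h : Hyp K a b c) : SRGProp h.graph 100 22 0 6 := by
  have hs := h.srg_lam_mu
  classical
  haveI := h.finite
  haveI := Fintype.ofFinite X
  have hp := SimpleGraph.IsSRGWith.param_eq h.graph (isSRGWith_of_prop h.graph hs) (by norm_num)
  have h3 := h.three_dvd
  have hne := h.lam_ne
  have hle := h.lam_le
  have h0 : h.lam = 0 ∧ h.mu = 6 := by omega
  rw [h0.1, h0.2] at hs
  exact hs

end Hyp

end Cfsg.Agent.Lib.H6.Rank3Srg
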