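import Mathlib
import Cfsg.Prelude.Def_Spor_Conway
import Cfsg.Agent.Lib.H27.HSSimple
import Cfsg.Agent.Lib.H27.HSOutGen
import Cfsg.Agent.Lib.H6.Rank3Srg
import Cfsg.Agent.Lib.H6.Rank3Aut

set_option autoImplicit false

/-!
# The Higman–Sims group of the definitions acting on helper27's 100 lattice vectors

`Spor.HS` is the stabiliser in `Co0` of the vectors `V = (-5, -1²³)` and `U' = (4, -4, 0²²)`, equivalently
of the pair `V`, `WH = -(V + U')` of vectors of squared length 48 and inner product `-32`; helper27 showed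
that it is simple of order 44352000 and acts with rank three (subdegrees 1, 22, 77) on 100 minimal
vectors.  So it preserves a strongly regular graph with parameters `(100, 22, 0, 6)`, acts faithfully on
it, and any isomorphism of that graph to a graph `M` makes it a simple subgroup of `Aut M` of order
44352000.
-/

namespace Cfsg.Agent.Lib.H6.HSRank3

open Cfsg MulAction Cfsg.Agent.Lib.H27 Cfsg.Agent.Lib.H27.HSOut Cfsg.Agent.Lib.H6.Rank3Srg
  Cfsg.Agent.Lib.H14.Srg

/-- the first vector -/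
abbrev v0 : leechLattice := Spor.leechV

/-- the second vector -/
abbrev w0 : leechLattice := WH

/-- the stabiliser of the pair -/
abbrev KK : Subgroup Co0 := stabilizer Co0 v0 ⊓ stabilizer Co0 w0

/-- the hundred points -/
abbrev S : Set leechLattice := hsSet v0 w0

theorem smul_v0 {g : Co0} (hg : g ∈ KK) : g • v0 = v0 := mem_stabilizer_iff.1 hg.1

theorem smul_w0 {g : Co0} (hg : g ∈ KK) : g • w0 = w0 := mem_stabilizer_iff.1 hg.2

theorem smul_mem {g : Co0} (hg : g ∈ KK) {x : leechLattice} (hx : x ∈ S) : g • x ∈ S := by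
  have := smul_mem_hsSet g hx
  rwa [smul_v0 hg, smul_w0 hg] at this

noncomputable instance : MulAction ↥KK ↥S where
  smul g x := ⟨(g : Co0) • (x : leechLattice), smul_mem g.2 x.2⟩
  one_smul x := Subtype.ext (one_smul Co0 (x : leechLattice))
  mul_smul g h x := Subtype.ext (mul_smul (g : Co0) (h : Co0) (x : leechLattice))

theorem coe_smul (g : ↥KK) (x : ↥S) : ((g • x : ↥S) : leechLattice) = (g : Co0) • (x : leechLattice) :=
  rfl

theorem KK_eq : KK = HC := HC_eq.symm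

theorem ncard_S : S.ncard = 100 := ncard_hsSet v0 w0 sqNorm_V sqNorm_WH dot_V_WH

theorem card_S : Nat.card ↥S = 100 := by rw [Nat.card_coe_set_eq]; exact ncard_S

theorem simple_KK : IsSimpleGroup ↥KK := (isHS_stab v0 w0 sqNorm_V sqNorm_WH dot_V_WH).1

theorem card_KK : Nat.card ↥KK = 44352000 := (isHS_stab v0 w0 sqNorm_V sqNorm_WH dot_V_WH).2

theorem trans_S (x y : ↥S) : ∃ g : ↥KK, g • x = y := by
  obtain ⟨g, h1, h2, h3⟩ := trans_hsSet v0 w0 sqNorm_V sqNorm_WH dot_V_WH x.1 x.2 y.1 y.2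
  exact ⟨⟨g, mem_stabilizer_iff.2 h1, mem_stabilizer_iff.2 h2⟩, Subtype.ext h3⟩

/-- the suborbit of length 22 -/
theorem orbit8 (x y : ↥S) (hy : (y : leechLattice) ∈ hsSet8 v0 w0 x) :
    Subtype.val '' (orbit (stabilizer ↥KK x) y) = hsSet8 v0 w0 x := by
  ext z
  constructor
  · rintro ⟨_, ⟨⟨g, hg⟩, rfl⟩, rfl⟩
    have hgx : (g : Co0) • (x : leechLattice) = x := congrArg Subtype.val (mem_stabilizer_iff.1 hg)
    have := smul_mem_hsSet8 (g : Co0) hy
    rw [smul_v0 g.2, smul_w0 g.2, hgx] at this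
    exact this
  · intro hz
    obtain ⟨g, h1, h2, h3, h4⟩ :=
      hs_trans8 v0 w0 x sqNorm_V sqNorm_WH dot_V_WH x.2 y hy z hz
    have hgK : g ∈ KK := ⟨mem_stabilizer_iff.2 h1, mem_stabilizer_iff.2 h2⟩
    refine ⟨(⟨g, hgK⟩ : ↥KK) • y, ⟨⟨⟨g, hgK⟩, ?_⟩, rfl⟩, h4⟩
    rw [mem_stabilizer_iff]
    exact Subtype.ext h3

/-- the suborbit of length 77 -/
theorem orbitN (x y : ↥S) (hy : (y : leechLattice) ∈ hsSetN v0 w0 x) :
    Subtype.val '' (orbit (stabilizer ↥KK x) y) = hsSetN v0 w0 x := by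
  ext z
  constructor
  · rintro ⟨_, ⟨⟨g, hg⟩, rfl⟩, rfl⟩
    have hgx : (g : Co0) • (x : leechLattice) = x := congrArg Subtype.val (mem_stabilizer_iff.1 hg)
    have := smul_mem_hsSetN (g : Co0) hy
    rw [smul_v0 g.2, smul_w0 g.2, hgx] at this
    exact this
  · intro hz
    obtain ⟨g, h1, h2, h3, h4⟩ :=
      hs_transN v0 w0 x sqNorm_V sqNorm_WH dot_V_WH x.2 y hy z hz
    have hgK : g ∈ KK := ⟨mem_stabilizer_iff.2 h1, mem_stabilizer_iff.2 h2⟩
    refine ⟨(⟨g, hgK⟩ : ↥KK) • y, ⟨⟨⟨g, hgK⟩, ?_⟩, rfl⟩, h4⟩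
    rw [mem_stabilizer_iff]
    exact Subtype.ext h3

/-- three points: a base point, a neighbour and a non-neighbour -/
theorem exists_pts : ∃ x y z : ↥S, Hyp ↥KK x y z := by
  have hne : S.Nonempty := by
    rw [← Set.ncard_pos (Set.finite_of_ncard_ne_zero (by rw [ncard_S]; norm_num)), ncard_S]
    norm_num
  obtain ⟨x, hx⟩ := hne
  have hc := hs_counts v0 w0 x sqNorm_V sqNorm_WH dot_V_WH hx
  have hne8 : (hsSet8 v0 w0 x).Nonempty := by
    rw [← Set.ncard_pos (Set.finite_of_ncard_ne_zero (by rw [hc.1]; norm_num)), hc.1]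
    norm_num
  have hneN : (hsSetN v0 w0 x).Nonempty := by
    rw [← Set.ncard_pos (Set.finite_of_ncard_ne_zero (by rw [hc.2]; norm_num)), hc.2]
    norm_num
  obtain ⟨y, hy⟩ := hne8
  obtain ⟨z, hz⟩ := hneN
  refine ⟨⟨x, hx⟩, ⟨y, hy.1⟩, ⟨z, hz.1⟩, ⟨trans_S, card_S, ?_, ?_⟩⟩
  · rw [← Set.ncard_image_of_injective _ Subtype.val_injective, orbit8 ⟨x, hx⟩ ⟨y, hy.1⟩ hy, hc.1]
  · rw [← Set.ncard_image_of_injective _ Subtype.val_injective, orbitN ⟨x, hx⟩ ⟨z, hz.1⟩ hz, hc.2]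

/-- the action on the hundred points is faithful -/
theorem faithful (g : ↥KK) (hg : ∀ x : ↥S, g • x = x) : g = 1 := by
  obtain ⟨x, y, z, h⟩ := exists_pts
  -- the kernel of the action
  let φ : ↥KK →* Equiv.Perm ↥S := MulAction.toPermHom ↥KK ↥S
  haveI := simple_KK
  have hker : φ.ker = ⊥ ∨ φ.ker = ⊤ := (simple_KK).eq_bot_or_eq_top_of_normal φ.ker inferInstance
  have hgk : g ∈ φ.ker := by
    rw [MonoidHom.mem_ker]
    exact Equiv.ext fun u => hg u
  rcases hker with hb | ht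
  · rw [hb, Subgroup.mem_bot] at hgk
    exact hgk
  · exfalso
    -- some element moves `x` to `y`
    obtain ⟨k, hk⟩ := trans_S x y
    have hkk : k ∈ φ.ker := by rw [ht]; exact Subgroup.mem_top k
    rw [MonoidHom.mem_ker] at hkk
    have : k • x = x := by
      have := congrArg (fun f : Equiv.Perm ↥S => f x) hkk
      exact this
    rw [hk] at this
    -- but `y ≠ x`
    have hxy : x ∉ orbit (stabilizer ↥KK x) y := h.a_notMem_b
    apply hxy
    rw [this]
    exact mem_orbit_self _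

/-- the group of the definitions -/
noncomputable def hsEquiv : ↥KK ≃* ↥Spor.HS :=
  (MulEquiv.subgroupCongr KK_eq).trans
    { toFun := fun g => ⟨((g : Co0) : Equiv.Perm leechLattice),
        ⟨⟨(g : Co0).2, mem_stabilizer_iff.2 (smul_V g.2)⟩, mem_stabilizer_iff.2 (smul_U g.2)⟩⟩
      invFun := fun h => ⟨⟨h.1, h.2.1.1⟩, ⟨mem_stabilizer_iff.2 (mem_stabilizer_iff.1 h.2.1.2),
        mem_stabilizer_iff.2 (mem_stabilizer_iff.1 h.2.2)⟩⟩
      left_inv := fun _ => rfl
      right_inv := fun _ => rfl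
      map_mul' := fun _ _ => rfl }

/-- **The Higman–Sims group inside the automorphism group of any graph with parameters
`(100, 22, 0, 6)`.** -/
theorem exists_sub {V : Type*} [Fintype V] (M : SimpleGraph V) (hM : SRGProp M 100 22 0 6)
    (hiso : ∀ {W : Type} [Fintype W] (𝒢 : SimpleGraph W), SRGProp 𝒢 100 22 0 6 → Nonempty (𝒢 ≃g M)) :
    ∃ H : Subgroup (M ≃g M), Nat.card H = 44352000 ∧ IsSimpleGroup H ∧ Nonempty (↥H ≃* ↥Spor.HS) := by
  classical
  obtain ⟨x, y, z, h⟩ := exists_pts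
  haveI : Finite ↥S := h.finite
  haveI : Fintype ↥S := Fintype.ofFinite _
  obtain ⟨ψ⟩ := hiso h.graph h.srg
  let Φ := Rank3Aut.autHom h.graph M h.graph_smul ψ
  have hΦ : Function.Injective Φ := Rank3Aut.autHom_injective h.graph M h.graph_smul ψ faithful
  let e : ↥KK ≃* ↥Φ.range := MonoidHom.ofInjective hΦ
  refine ⟨Φ.range, ?_, ?_, ⟨e.symm.trans hsEquiv⟩⟩
  · rw [← Nat.card_congr e.toEquiv, card_KK]
  · haveI := simple_KK
    exact e.symm.isSimpleGroup

end Cfsg.Agent.Lib.H6.HSRank3
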