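import Cfsg.Agent.Lib.H6.HTDS

set_option autoImplicit false

/-!
# S3371 piece CF (`centFpf`; helper6)

If the stabilisers of the non-zero vectors have equal orders and the action is not semiregular, the non-identity central
elements have no non-zero fixed vector: otherwise `V = C_V(z) ⊕ ker (tr z)` with both summands invariant and non-zero.
-/

namespace Cfsg.Agent.Lib.H6.HT

open Cfsg.Agent.Lib.H4.HT

variable {q : ℕ} {V : Type*} [AddCommGroup V] [Module (ZMod q) V] {G : Type*} [Group G]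

/-- the trace operator as a linear map -/
noncomputable def trL (ρ : G →* (V ≃ₗ[ZMod q] V)) (n : ℕ) (z : G) : V →ₗ[ZMod q] V :=
  ∑ i ∈ Finset.range n, ((ρ (z ^ i)).toLinearMap)

theorem trL_apply (ρ : G →* (V ≃ₗ[ZMod q] V)) (n : ℕ) (z : G) (v : V) :
    trL ρ n z v = ∑ i ∈ Finset.range n, ρ (z ^ i) v := by
  unfold trL
  rw [LinearMap.sum_apply]
  rfl

theorem sum_shift {M : Type*} [AddCommGroup M] (f : ℕ → M) (n : ℕ) (h : f n = f 0) :
    ∑ i ∈ Finset.range n, f (i + 1) = ∑ i ∈ Finset.range n, f i := by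
  have h1 := Finset.sum_range_succ f n
  have h2 := Finset.sum_range_succ' f n
  rw [h1, h] at h2
  exact (add_right_cancel h2).symm

/-- `z` fixes the trace -/
theorem rho_trL (ρ : G →* (V ≃ₗ[ZMod q] V)) (n : ℕ) (z : G) (hz : z ^ n = 1) (v : V) :
    ρ z (trL ρ n z v) = trL ρ n z v := by
  rw [trL_apply, map_sum]
  have : ∀ i, ρ z (ρ (z ^ i) v) = ρ (z ^ (i + 1)) v := by
    intro i
    rw [← rho_mul, ← pow_succ']
  simp_rw [this]
  exact sum_shift (fun i => ρ (z ^ i) v) n (by simp only [hz, pow_zero])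

/-- the trace of `z v` is the trace of `v` -/
theorem trL_rho (ρ : G →* (V ≃ₗ[ZMod q] V)) (n : ℕ) (z : G) (hz : z ^ n = 1) (v : V) :
    trL ρ n z (ρ z v) = trL ρ n z v := by
  rw [trL_apply, trL_apply]
  have : ∀ i, ρ (z ^ i) (ρ z v) = ρ (z ^ (i + 1)) v := by
    intro i
    rw [← rho_mul, ← pow_succ]
  simp_rw [this]
  exact sum_shift (fun i => ρ (z ^ i) v) n (by simp only [hz, pow_zero])

/-- the trace of a fixed vector -/
theorem trL_fixed (ρ : G →* (V ≃ₗ[ZMod q] V)) (n : ℕ) (z : G) (u : V) (hu : ρ z u = u) :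
    trL ρ n z u = n • u := by
  rw [trL_apply]
  have : ∀ i : ℕ, ρ (z ^ i) u = u := by
    intro i
    induction i with
    | zero => rw [pow_zero, rho_one]
    | succ i ih => rw [pow_succ, rho_mul, hu, ih]
  simp_rw [this]
  rw [Finset.sum_const, Finset.card_range]

/-- the fixed space of `z` -/
noncomputable def fixS (ρ : G →* (V ≃ₗ[ZMod q] V)) (z : G) : Submodule (ZMod q) V :=
  LinearMap.ker (((ρ z).toLinearMap : V →ₗ[ZMod q] V) - LinearMap.id)

theorem mem_fixS (ρ : G →* (V ≃ₗ[ZMod q] V)) (z : G) (x : V) : x ∈ fixS ρ z ↔ ρ z x = x := by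
  unfold fixS
  rw [LinearMap.mem_ker, LinearMap.sub_apply, sub_eq_zero]
  rfl

/-- P5 (M): non-identity central elements are fixed-point-free (apply P4 to `U = C_V(z)` and
`W = ker (tr ρ (orderOf z) z)`; `orderOf z` is a power of `p`, invertible in `ZMod q`). -/
theorem centFpf [Fact q.Prime] [Finite G] {p : ℕ} [Fact p.Prime] (hG : IsPGroup p G) (hpq : p ≠ q)
    (ρ : G →* (V ≃ₗ[ZMod q] V)) (hρ : Function.Injective ρ) (hE : EqStab ρ) (hns : ¬ Semireg ρ) :
    CentFpf ρ := by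
  intro z hzc hz1 v hv
  by_contra hv0
  apply hns
  have hp : p.Prime := Fact.out
  have hq : q.Prime := Fact.out
  -- the order of `z`
  set n := orderOf z with hn
  have hzn : z ^ n = 1 := pow_orderOf_eq_one z
  obtain ⟨k, hk⟩ := hG z
  obtain ⟨j, -, hj⟩ := (Nat.dvd_prime_pow hp).1 (orderOf_dvd_of_pow_eq_one hk)
  have hcop : Nat.Coprime n q := by
    rw [← hn] at hj
    rw [hj]
    exact Nat.Coprime.pow_left j ((Nat.coprime_primes hp hq).2 hpq)
  have hunit : IsUnit ((n : ℕ) : ZMod q) := (ZMod.isUnit_iff_coprime n q).2 hcop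
  obtain ⟨c, hc⟩ := hunit
  have hnsmul : ∀ x : V, n • x = ((n : ℕ) : ZMod q) • x := fun x => (Nat.cast_smul_eq_nsmul (ZMod q) n x).symm
  -- `z` commutes with everything
  have hcomm : ∀ g : G, ∀ x : V, ρ g (ρ z x) = ρ z (ρ g x) := by
    intro g x
    rw [← rho_mul, ← rho_mul, (Subgroup.mem_center_iff.1 hzc g)]
  have hcommT : ∀ g : G, ∀ x : V, ρ g (trL ρ n z x) = trL ρ n z (ρ g x) := by
    intro g x
    rw [trL_apply, trL_apply, map_sum]
    apply Finset.sum_congr rfl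
    intro i _
    have hzi : z ^ i ∈ Subgroup.center G := Subgroup.pow_mem _ hzc i
    rw [← rho_mul, ← rho_mul, (Subgroup.mem_center_iff.1 hzi g)]
  -- the two summands
  obtain ⟨U, hUdef⟩ : ∃ U : Submodule (ZMod q) V, U = fixS ρ z := ⟨_, rfl⟩
  obtain ⟨W, hWdef⟩ : ∃ W : Submodule (ZMod q) V, W = LinearMap.ker (trL ρ n z) := ⟨_, rfl⟩
  have memU : ∀ x : V, x ∈ U ↔ ρ z x = x := by
    intro x
    rw [hUdef]
    exact mem_fixS ρ z x
  have memW : ∀ x : V, x ∈ W ↔ trL ρ n z x = 0 := by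
    intro x
    rw [hWdef]
    exact LinearMap.mem_ker
  have hUinv : ∀ g : G, ∀ u ∈ U, ρ g u ∈ U := by
    intro g u hu
    rw [memU] at hu ⊢
    rw [← hcomm, hu]
  have hWinv : ∀ g : G, ∀ w ∈ W, ρ g w ∈ W := by
    intro g w hw
    rw [memW] at hw ⊢
    rw [← hcommT, hw, map_zero]
  have hdisj : U ⊓ W = ⊥ := by
    rw [eq_bot_iff]
    rintro x ⟨hxU, hxW⟩
    rw [SetLike.mem_coe, memU] at hxU
    rw [SetLike.mem_coe, memW, trL_fixed ρ n z x hxU, hnsmul, ← hc] at hxW
    have := congrArg (fun y => (↑c⁻¹ : ZMod q) • y) hxW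
    simp only [smul_zero] at this
    rw [smul_smul, Units.inv_mul, one_smul] at this
    exact (Submodule.mem_bot _).2 this
  have hsup : U ⊔ W = ⊤ := by
    rw [eq_top_iff]
    intro x _
    have hTx : trL ρ n z x ∈ U := (memU _).2 (rho_trL ρ n z hzn x)
    have h1 : (↑c⁻¹ : ZMod q) • trL ρ n z x ∈ U := U.smul_mem _ hTx
    have h2 : x - (↑c⁻¹ : ZMod q) • trL ρ n z x ∈ W := by
      rw [memW, map_sub, map_smul, trL_fixed ρ n z _ ((memU _).1 hTx), hnsmul, ← hc, smul_smul,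
        Units.inv_mul, one_smul, sub_self]
    have : x = (↑c⁻¹ : ZMod q) • trL ρ n z x + (x - (↑c⁻¹ : ZMod q) • trL ρ n z x) := by abel
    rw [this]
    exact Submodule.add_mem_sup h1 h2
  have hU0 : U ≠ ⊥ := by
    intro h
    have : v ∈ U := (memU v).2 hv
    rw [h] at this
    exact hv0 ((Submodule.mem_bot _).1 this)
  have hW0 : W ≠ ⊥ := by
    intro h
    apply hz1
    apply hρ
    rw [map_one]
    apply LinearEquiv.ext
    intro x
    have hx : ρ z x - x ∈ W := by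
      rw [memW, map_sub, trL_rho ρ n z hzn, sub_self]
    rw [h] at hx
    exact sub_eq_zero.1 ((Submodule.mem_bot _).1 hx)
  exact semireg_of_isCompl ρ hρ hE U W hUinv hWinv ⟨disjoint_iff.2 hdisj, codisjoint_iff.2 hsup⟩ hU0 hW0

end Cfsg.Agent.Lib.H6.HT
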