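import Cfsg.Agent.Lib.H4.HT.Defs

set_option autoImplicit false

/-!
# S3371 piece DS (`semireg_of_isCompl`; helper6)

If `V = U ⊕ W` with both summands invariant and non-zero, equal stabiliser orders force semiregularity.
-/

namespace Cfsg.Agent.Lib.H6.HT

open Cfsg.Agent.Lib.H4.HT

variable {q : ℕ} {V : Type*} [AddCommGroup V] [Module (ZMod q) V] {G : Type*} [Group G]

/-- P4 (M): if `V = U ⊕ W` with both summands invariant and non-zero, equal stabiliser orders force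
semiregularity (`G_{u+w} = G_u ∩ G_w`, equal orders ⇒ `G_u = G_w` for all `u, w` ⇒ it fixes `U` and `W`). -/
theorem semireg_of_isCompl [Finite G] (ρ : G →* (V ≃ₗ[ZMod q] V)) (hρ : Function.Injective ρ)
    (hE : EqStab ρ) (U W : Submodule (ZMod q) V) (hU : ∀ g : G, ∀ u ∈ U, ρ g u ∈ U)
    (hW : ∀ g : G, ∀ w ∈ W, ρ g w ∈ W) (hUW : IsCompl U W) (hU0 : U ≠ ⊥) (hW0 : W ≠ ⊥) :
    Semireg ρ := by
  obtain ⟨u0, hu0U, hu0⟩ := (Submodule.ne_bot_iff U).1 hU0
  obtain ⟨w0, hw0W, hw0⟩ := (Submodule.ne_bot_iff W).1 hW0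
  have hdisj : ∀ x, x ∈ U → x ∈ W → x = 0 := fun x hxU hxW => by
    have : x ∈ U ⊓ W := ⟨hxU, hxW⟩
    rw [hUW.inf_eq_bot] at this
    exact (Submodule.mem_bot _).1 this
  have key : ∀ u ∈ U, ∀ w ∈ W, ∀ g, ρ g (u + w) = u + w → ρ g u = u ∧ ρ g w = w := by
    intro u hu w hw g hg
    rw [map_add] at hg
    have h1 : ρ g u - u = w - ρ g w := by
      rw [sub_eq_sub_iff_add_eq_add, hg, add_comm]
    have h2 : ρ g u - u ∈ U := U.sub_mem (hU g u hu) hu
    have h3 : ρ g u - u ∈ W := by rw [h1]; exact W.sub_mem hw (hW g w hw)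
    have h4 := hdisj _ h2 h3
    refine ⟨sub_eq_zero.1 h4, ?_⟩
    rw [h4] at h1
    exact (sub_eq_zero.1 h1.symm).symm
  have hne : ∀ u ∈ U, ∀ w ∈ W, u ≠ 0 → u + w ≠ 0 := by
    intro u hu w hw hu0' h
    have : u = -w := eq_neg_of_add_eq_zero_left h
    exact hu0' (hdisj u hu (by rw [this]; exact W.neg_mem hw))
  have hne' : ∀ u ∈ U, ∀ w ∈ W, w ≠ 0 → u + w ≠ 0 := by
    intro u hu w hw hw0' h
    have : w = -u := eq_neg_of_add_eq_zero_right h
    exact hw0' (hdisj w (by rw [this]; exact U.neg_mem hu) hw)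
  have hst : ∀ u ∈ U, ∀ w ∈ W, u ≠ 0 → w ≠ 0 → stab ρ u = stab ρ w := by
    intro u hu w hw hu0' hw0'
    have hle1 : stab ρ (u + w) ≤ stab ρ u := fun g hg => (key u hu w hw g hg).1
    have hle2 : stab ρ (u + w) ≤ stab ρ w := fun g hg => (key u hu w hw g hg).2
    have e1 := Subgroup.eq_of_le_of_card_ge hle1 (le_of_eq (hE u (u + w) hu0' (hne u hu w hw hu0')))
    have e2 := Subgroup.eq_of_le_of_card_ge hle2 (le_of_eq (hE w (u + w) hw0' (hne' u hu w hw hw0')))
    rw [← e1, e2]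
  have hS : ∀ g ∈ stab ρ u0, ∀ v, ρ g v = v := by
    intro g hg v
    have hv : v ∈ U ⊔ W := by rw [hUW.sup_eq_top]; trivial
    obtain ⟨u, hu, w, hw, rfl⟩ := Submodule.mem_sup.1 hv
    rw [map_add]
    have hgw : ρ g w = w := by
      by_cases hw0' : w = 0
      · rw [hw0', map_zero]
      · have := hst u0 hu0U w hw hu0 hw0'
        rw [this] at hg
        exact hg
    have hgu : ρ g u = u := by
      by_cases hu0' : u = 0
      · rw [hu0', map_zero]
      · have h1 := hst u0 hu0U w0 hw0W hu0 hw0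
        have h2 := hst u hu w0 hw0W hu0' hw0
        rw [h1, ← h2] at hg
        exact hg
    rw [hgu, hgw]
  have hbot : stab ρ u0 = ⊥ := by
    rw [Subgroup.eq_bot_iff_forall]
    intro g hg
    apply hρ
    rw [map_one]
    apply LinearEquiv.ext
    intro v
    exact hS g hg v
  intro v hv g hg
  have hc := hE v u0 hv hu0
  rw [hbot, Subgroup.card_bot] at hc
  have hb : stab ρ v = ⊥ := Subgroup.card_eq_one.1 hc
  have hg' : g ∈ stab ρ v := hg
  rw [hb] at hg'
  exact Subgroup.mem_bot.1 hg'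

end Cfsg.Agent.Lib.H6.HT
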