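import Cfsg.Agent.Lib.H4.HT.Defs

set_option autoImplicit false

/-!
# S3371 piece NEG (`central_invol_neg`; helper6)

A central involution acts as `-1` when the non-identity central elements are fixed-point-free.
-/

namespace Cfsg.Agent.Lib.H6.HT

open Cfsg.Agent.Lib.H4.HT

variable {q : ℕ} {V : Type*} [AddCommGroup V] [Module (ZMod q) V] {G : Type*} [Group G]

/-- P5b (E): a central involution acts as `-1` (`v + z v` is fixed by `z`). -/
theorem central_invol_neg (ρ : G →* (V ≃ₗ[ZMod q] V)) (hc : CentFpf ρ) (z : G)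
    (hz : z ∈ Subgroup.center G) (hz1 : z ≠ 1) (hz2 : z * z = 1) (v : V) : ρ z v = -v := by
  have h : ρ z (v + ρ z v) = v + ρ z v := by
    rw [map_add, ← rho_mul, hz2, rho_one, add_comm]
  have h0 := hc z hz hz1 _ h
  exact (neg_eq_of_add_eq_zero_right h0).symm

end Cfsg.Agent.Lib.H6.HT
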