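import Mathlib

set_option autoImplicit false

/-!
# Groups presented by involutions and words over numbered letters

`P k W` is the group with generators `0, …, k - 1`, all of them involutions, and the words of `W`
(lists of letters) as further relators.
-/

namespace Cfsg.Agent.Lib.H6.InvPres

/-- generator `j` of the free group, trivial when `j ≥ k` -/
def gen (k j : ℕ) : FreeGroup (Fin k) := if h : j < k then FreeGroup.of ⟨j, h⟩ else 1

/-- the relators: squares of the generators and the given words -/
def rels (k : ℕ) (W : List (List ℕ)) : Set (FreeGroup (Fin k)) :=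
  {r | (∃ j, r = gen k j * gen k j) ∨ ∃ w ∈ W, r = (w.map (gen k)).prod}

/-- the presented group -/
abbrev P (k : ℕ) (W : List (List ℕ)) : Type := PresentedGroup (rels k W)

variable (k : ℕ) (W : List (List ℕ))

/-- the generators of the presented group -/
def g (j : ℕ) : P k W := PresentedGroup.mk (rels k W) (gen k j)

theorem g_mul_self (j : ℕ) : g k W j * g k W j = 1 := by
  unfold g
  rw [← map_mul]
  exact PresentedGroup.one_of_mem (Or.inl ⟨j, rfl⟩)

theorem prod_g (w : List ℕ) :
    (w.map (g k W)).prod = PresentedGroup.mk (rels k W) ((w.map (gen k)).prod) := by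
  rw [map_list_prod, List.map_map]
  rfl

theorem rel_trivial : ∀ w ∈ W, (w.map (g k W)).prod = 1 := by
  intro w hw
  rw [prod_g]
  exact PresentedGroup.one_of_mem (Or.inr ⟨w, hw, rfl⟩)

theorem closure_g : Subgroup.closure {x : P k W | ∃ j < k, x = g k W j} = ⊤ := by
  rw [eq_top_iff, ← PresentedGroup.closure_range_of]
  apply Subgroup.closure_mono
  rintro _ ⟨u, rfl⟩
  refine ⟨u.1, u.2, ?_⟩
  unfold g gen
  rw [dif_pos u.2]
  rfl

section lift

variable {K : Type*} [Group K] (f : ℕ → K)

theorem lift_gen (j : ℕ) (hj : j < k) :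
    FreeGroup.lift (fun u : Fin k => f u.1) (gen k j) = f j := by
  unfold gen
  rw [dif_pos hj, FreeGroup.lift_apply_of]

theorem lift_gen_ge (j : ℕ) (hj : ¬ j < k) :
    FreeGroup.lift (fun u : Fin k => f u.1) (gen k j) = 1 := by
  unfold gen
  rw [dif_neg hj, map_one]

theorem lift_prod (w : List ℕ) (hw : ∀ x ∈ w, x < k) :
    FreeGroup.lift (fun u : Fin k => f u.1) ((w.map (gen k)).prod) = (w.map f).prod := by
  rw [map_list_prod, List.map_map]
  congr 1
  apply List.map_congr_left
  intro x hx
  exact lift_gen k f x (hw x hx)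

/-- the homomorphism sending generator `j` to `f j` -/
def lift (hinv : ∀ j < k, f j * f j = 1) (hW : ∀ w ∈ W, ∀ x ∈ w, x < k)
    (hf : ∀ w ∈ W, (w.map f).prod = 1) : P k W →* K :=
  PresentedGroup.toGroup (f := fun u : Fin k => f u.1) (by
    rintro r (⟨j, rfl⟩ | ⟨w, hw, rfl⟩)
    · rw [map_mul]
      by_cases hj : j < k
      · rw [lift_gen k f j hj]
        exact hinv j hj
      · rw [lift_gen_ge k f j hj, mul_one]
    · rw [lift_prod k f w (hW w hw)]
      exact hf w hw)

theorem lift_g (hinv : ∀ j < k, f j * f j = 1) (hW : ∀ w ∈ W, ∀ x ∈ w, x < k)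
    (hf : ∀ w ∈ W, (w.map f).prod = 1) (j : ℕ) (hj : j < k) :
    lift k W f hinv hW hf (g k W j) = f j := by
  unfold g lift
  exact lift_gen k f j hj

theorem lift_prod_g (hinv : ∀ j < k, f j * f j = 1) (hW : ∀ w ∈ W, ∀ x ∈ w, x < k)
    (hf : ∀ w ∈ W, (w.map f).prod = 1) (w : List ℕ) (hw : ∀ x ∈ w, x < k) :
    lift k W f hinv hW hf ((w.map (g k W)).prod) = (w.map f).prod := by
  rw [map_list_prod, List.map_map]
  congr 1
  apply List.map_congr_left
  intro x hx
  exact lift_g k W f hinv hW hf x (hw x hx)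

end lift

end Cfsg.Agent.Lib.H6.InvPres
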