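import Mathlib
import Cfsg.Prelude.Def_TwoFusion
import Cfsg.Agent.Lib.H6.Dihedral

set_option autoImplicit false

namespace Cfsg.Agent.Lib.H6

variable {G : Type*} [Group G]

/-- A `2`-subgroup containing an isolated involution `z` centralises `z`. -/
theorem isolated_two_subgroup_le_centralizer [Finite G] {z : G} (hz : Cfsg.IsIsolatedInvolution z)
    (T : Subgroup G) (hT : IsPGroup 2 T) (hzT : z ∈ T) : T ≤ Subgroup.centralizer ({z} : Set G) := by
  intro t ht
  rw [Subgroup.mem_centralizer_iff]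
  intro y hy
  rw [Set.mem_singleton_iff] at hy
  subst hy
  have ha : y * y = 1 := isolated_mul_self hz
  have hyinv : y⁻¹ = y := inv_eq_of_mul_eq_one_right ha
  have hodd := isolated_odd_orderOf' hz t
  have hmem : t * y * t⁻¹ * y ∈ T := T.mul_mem (T.mul_mem (T.mul_mem ht hzT) (T.inv_mem ht)) hzT
  obtain ⟨k, hk⟩ := hT ⟨_, hmem⟩
  have hk' : (t * y * t⁻¹ * y) ^ 2 ^ k = 1 := by
    have := congrArg Subtype.val hk
    simpa using this
  have hd := orderOf_dvd_of_pow_eq_one hk'
  have h1 : orderOf (t * y * t⁻¹ * y) = 1 := by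
    have hc : Nat.Coprime (orderOf (t * y * t⁻¹ * y)) (2 ^ k) :=
      Nat.Coprime.pow_right k (Nat.coprime_two_right.mpr hodd)
    exact Nat.eq_one_of_dvd_coprimes hc (dvd_refl _) hd
  rw [orderOf_eq_one_iff] at h1
  have h2 : t * y * t⁻¹ = y := by
    calc t * y * t⁻¹ = (t * y * t⁻¹ * y) * y⁻¹ := by group
      _ = y := by rw [h1, one_mul, hyinv]
  calc y * t = (t * y * t⁻¹) * t := by rw [h2]
    _ = t * y := by group

/-- The centraliser of an isolated involution has odd index. -/
theorem isolated_centralizer_index_odd [Finite G] {z : G} (hz : Cfsg.IsIsolatedInvolution z) :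
    Nat.Coprime 2 (Subgroup.centralizer ({z} : Set G)).index := by
  have : Fact (Nat.Prime 2) := ⟨Nat.prime_two⟩
  have hzp : IsPGroup 2 (Subgroup.zpowers z) := by
    apply IsPGroup.of_card (n := 1)
    rw [Nat.card_zpowers, hz.1, pow_one]
  obtain ⟨P, hP⟩ := hzp.exists_le_sylow
  have hle : (P : Subgroup G) ≤ Subgroup.centralizer ({z} : Set G) :=
    isolated_two_subgroup_le_centralizer hz P P.2 (hP (Subgroup.mem_zpowers z))
  have hd : (Subgroup.centralizer ({z} : Set G)).index ∣ (P : Subgroup G).index :=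
    Subgroup.index_dvd_of_le hle
  have hnd : ¬ 2 ∣ (P : Subgroup G).index := P.not_dvd_index
  rw [Nat.Prime.coprime_iff_not_dvd Nat.prime_two]
  exact fun h => hnd (h.trans hd)

end Cfsg.Agent.Lib.H6
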