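import Mathlib
import Cfsg.Prelude.Def_TwoFusion
import Cfsg.Agent.Lib.H6.Dihedral
import Cfsg.Agent.S1180
import Cfsg.Agent.S1184
import Cfsg.Agent.S1185

set_option autoImplicit false

namespace Cfsg.Agent.Lib.H6

variable {G : Type*} [Group G]

/-- a conjugate of an isolated involution is an isolated involution. -/
theorem isolated_conj {z : G} (hz : Cfsg.IsIsolatedInvolution z) (a : G) :
    Cfsg.IsIsolatedInvolution (a * z * a⁻¹) := by
  constructor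
  · have : a * z * a⁻¹ = (MulAut.conj a) z := rfl
    rw [this, MulEquiv.orderOf_eq]; exact hz.1
  · intro g hc
    have e : g * (a * z * a⁻¹) * g⁻¹ = a * ((a⁻¹ * g * a) * z * (a⁻¹ * g * a)⁻¹) * a⁻¹ := by group
    rw [e] at hc ⊢
    rw [Commute.conj_iff] at hc
    rw [hz.2 _ hc]

theorem isolated_of_isConj {z ω : G} (hz : Cfsg.IsIsolatedInvolution z) (h : ∃ g, g * z * g⁻¹ = ω) :
    Cfsg.IsIsolatedInvolution ω := by
  obtain ⟨g, rfl⟩ := h
  exact isolated_conj hz g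

/-- the class of `z` is the class of each of its members. -/
theorem conj_class_trans {z ω c : G} (hω : ∃ g, g * z * g⁻¹ = ω) (hc : ∃ g, g * z * g⁻¹ = c) :
    ∃ g, g * ω * g⁻¹ = c := by
  obtain ⟨a, rfl⟩ := hω
  obtain ⟨b, rfl⟩ := hc
  exact ⟨b * a⁻¹, by group⟩

theorem conj_class_trans' {z ω c : G} (hω : ∃ g, g * z * g⁻¹ = ω) (hc : ∃ g, g * ω * g⁻¹ = c) :
    ∃ g, g * z * g⁻¹ = c := by
  obtain ⟨a, rfl⟩ := hω
  obtain ⟨b, rfl⟩ := hc
  exact ⟨b * a, by group⟩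

/-- existence of midpoints in the class of an isolated involution. -/
theorem midpoint_exists' [Finite G] {ω : G} (hω : Cfsg.IsIsolatedInvolution ω) (g : G) :
    ∃ c, (∃ v, v * ω * v⁻¹ = c) ∧ c * ω * c⁻¹ = g * ω * g⁻¹ := by
  have ha : ω * ω = 1 := isolated_mul_self hω
  have hb : g * ω * g⁻¹ * (g * ω * g⁻¹) = 1 := conj_mul_self ha g
  obtain ⟨k, hk⟩ := isolated_odd_orderOf hω g
  have h1 : (ω * (g * ω * g⁻¹)) ^ (2 * k + 1) = 1 := by rw [← hk]; exact pow_orderOf_eq_one _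
  have h2 := conj_of_pow_odd ha hb k h1
  have h3 := pow_mul_eq ha hb k
  have h4 := conj_by_pow ha hb (k * (k + 1))
  obtain ⟨ρ, hρ⟩ : ∃ ρ, ρ = ω * (g * ω * g⁻¹) := ⟨_, rfl⟩
  rw [← hρ] at h1 h2 h3 h4
  have h5 : ρ ^ (2 * (k * (k + 1))) = ρ ^ k := by
    have : 2 * (k * (k + 1)) = (2 * k + 1) * k + k := by ring
    rw [this, pow_add, pow_mul, h1, one_pow, one_mul]
  rw [h5] at h4
  refine ⟨ρ ^ k * ω, ⟨ρ ^ (k * (k + 1)), h4⟩, ?_⟩
  have hcinv : (ρ ^ k * ω)⁻¹ = ρ ^ k * ω := by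
    apply inv_eq_of_mul_eq_one_right
    calc ρ ^ k * ω * (ρ ^ k * ω) = ρ ^ k * ω * (ω * (ρ ^ k)⁻¹) := by rw [← h3]
      _ = ρ ^ k * (ω * ω) * (ρ ^ k)⁻¹ := by group
      _ = 1 := by rw [ha]; group
  rw [hcinv]
  calc ρ ^ k * ω * ω * (ρ ^ k * ω) = ρ ^ k * (ω * ω) * (ρ ^ k * ω) := by group
    _ = ρ ^ k * (ρ ^ k * ω) := by rw [ha]; group
    _ = ρ ^ k * (ω * (ρ ^ k)⁻¹) := by rw [h3]
    _ = ρ ^ k * ω * (ρ ^ k)⁻¹ := by group
    _ = g * ω * g⁻¹ := h2

theorem conj_inv_self {z c : G} (hz : Cfsg.IsIsolatedInvolution z) (hc : ∃ g, g * z * g⁻¹ = c) :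
    c⁻¹ = c := by
  obtain ⟨g, rfl⟩ := hc
  exact inv_eq_of_mul_eq_one_right (conj_mul_self (isolated_mul_self hz) g)

theorem midpoint_exists [Finite G] {z ω ω' : G} (hz : Cfsg.IsIsolatedInvolution z)
    (hω : ∃ g, g * z * g⁻¹ = ω) (hω' : ∃ g, g * z * g⁻¹ = ω') :
    ∃ c, (∃ g, g * z * g⁻¹ = c) ∧ c * ω * c⁻¹ = ω' := by
  obtain ⟨g, hg⟩ := conj_class_trans hω hω'
  obtain ⟨c, hc1, hc2⟩ := midpoint_exists' (isolated_of_isConj hz hω) g
  exact ⟨c, conj_class_trans' hω hc1, by rw [hc2, hg]⟩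

theorem midpoint_unique [Finite G] {z ω c c' : G} (hz : Cfsg.IsIsolatedInvolution z)
    (hω : ∃ g, g * z * g⁻¹ = ω) (hc : ∃ g, g * z * g⁻¹ = c) (hc' : ∃ g, g * z * g⁻¹ = c')
    (h : c * ω * c⁻¹ = c' * ω * c'⁻¹) : c = c' := by
  by_contra hne
  have hωi := isolated_of_isConj hz hω
  obtain ⟨v, hv⟩ := conj_class_trans hω hc
  obtain ⟨v', hv'⟩ := conj_class_trans hω hc'
  have hcinv := conj_inv_self hz hc
  have hcinv' := conj_inv_self hz hc'
  have h1 := Cfsg.Agent.S1184.result ω hωi v v' (by rw [hv, hv']; exact hne)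
  apply h1
  rw [hv, hv']
  show c * c' * ω = ω * (c * c')
  have h2 : c' * ω * c'⁻¹ = c * ω * c⁻¹ := h.symm
  calc c * c' * ω = c * (c' * ω * c'⁻¹) * c' := by group
    _ = c * (c * ω * c⁻¹) * c' := by rw [h2]
    _ = (c * c) * ω * (c⁻¹ * c') := by group
    _ = ω * (c * c') := by
        have : c * c = 1 := by
          calc c * c = c⁻¹ * c := by rw [hcinv]
            _ = 1 := by group
        rw [this, hcinv, one_mul]

/-- counting via fibers of constant size. -/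
theorem card_eq_mul_of_fibers {A B : Type*} [Finite A] [Finite B] (f : A → B) (m : ℕ)
    (h : ∀ b, Nat.card {a // f a = b} = m) : Nat.card A = Nat.card B * m := by
  classical
  have := Fintype.ofFinite B
  have e := Equiv.sigmaFiberEquiv f
  rw [← Nat.card_congr e, Nat.card_sigma]
  simp only [h, Finset.sum_const, Finset.card_univ, smul_eq_mul, Nat.card_eq_fintype_card]

end Cfsg.Agent.Lib.H6
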