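import Cfsg.Agent.Lib.H6.WordPres
import Cfsg.Agent.Lib.H6.TCApply
import Cfsg.Agent.Lib.H6.J1TC.Cert
import Cfsg.Agent.Lib.H3.J1Main
import Cfsg.Prelude.Def_Sporadic

set_option autoImplicit false
set_option maxRecDepth 100000

/-!
# A presentation of the smallest Janko group

The group `⟨a, b, t | a², b³, (ab)⁷, (abt³)⁵, (abt⁶abab(ab⁻¹)²)², t¹⁹, t⁻¹abab⁻¹⟩` has at
most `175560` elements by a certified coset enumeration over `⟨t⟩`, and maps onto the
group generated by the two Janko matrices; hence it is simple of order `175560`.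
-/

namespace Cfsg.Agent.Lib.H6.J1Pres

open Cfsg.Agent.Lib.H6.WordPres Cfsg.Agent.Lib.H6.TCApply Cfsg.Agent.Lib.H17.CosetCert
  Cfsg.Agent.Lib.H3 Cfsg.Agent.Lib.H3.J1 Cfsg.Spor

/-- the word `t` -/
def wt : List ℕ := [4]

/-- the relators (letters `0 ↦ a, 1 ↦ a⁻¹, 2 ↦ b, 3 ↦ b⁻¹, 4 ↦ t, 5 ↦ t⁻¹`) -/
def W : List (List ℕ) := [
  [0, 0],
  [2, 2, 2],
  [0, 2, 0, 2, 0, 2, 0, 2, 0, 2, 0, 2, 0, 2],
  [0, 2, 4, 4, 4, 0, 2, 4, 4, 4, 0, 2, 4, 4, 4, 0, 2, 4, 4, 4, 0, 2, 4, 4, 4],
  [0, 2, 4, 4, 4, 4, 4, 4, 0, 2, 0, 2, 0, 3, 0, 3, 0, 2, 4, 4, 4, 4, 4, 4, 0, 2, 0, 2, 0, 3, 0, 3],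
  (List.replicate 19 wt).flatten,
  [5, 0, 2, 0, 3]]

/-- the presented group -/
abbrev G : Type := P 3 W

theorem W_lt : ∀ w ∈ W, ∀ x ∈ w, x < 2 * 3 := by decide

/-- the element `t` -/
def t : G := (wt.map (e 3 W)).prod

theorem prod_replicate {K : Type*} [Monoid K] (f : ℕ → K) (w : List ℕ) (m : ℕ) :
    (((List.replicate m w).flatten).map f).prod = ((w.map f).prod) ^ m := by
  induction m with
  | zero => simp
  | succ m ih =>
    rw [List.replicate_succ, List.flatten_cons, List.map_append, List.prod_append, ih, pow_succ']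

theorem t_pow : t ^ 19 = 1 := by
  have h := rel_trivial 3 W ((List.replicate 19 wt).flatten) (by simp [W])
  rw [prod_replicate] at h
  exact h

theorem j1_bound : Bound J1TC.iv 6 J1TC.words 9240 := fun _ _ _ _ _ γ hiv q0 hw hgen =>
  J1TC.bound γ hiv q0 hw hgen

theorem iv_eq : ∀ x < 6, J1TC.iv x = iv x := by decide

set_option maxHeartbeats 0 in
theorem j1_words : J1TC.words.toList.all (okWord J1TC.iv 6 W [wt]) = true := by
  decide +kernel

theorem index_le_t : (Subgroup.zpowers t).index ≠ 0 ∧ (Subgroup.zpowers t).index ≤ 9240 := by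
  refine index_le (e 3 W) (Subgroup.zpowers t) J1TC.iv 6 ?_ W [wt] (rel_trivial 3 W) ?_
    J1TC.words j1_words (closure_e 3 W) 9240 j1_bound
  · intro x hx
    rw [iv_eq x hx]
    exact e_iv 3 W x
  · intro w hw
    rw [List.mem_singleton] at hw
    subst hw
    exact Subgroup.mem_zpowers t

theorem card_le : Finite G ∧ Nat.card G ≤ 175560 :=
  card_le_of_index_zpowers t 19 9240 (by norm_num) t_pow index_le_t

/-! ## The map onto the matrix group -/

/-- the inverse letter of the matrix words -/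
def il (c : ℕ) : ℕ := if c = 0 then 2 else if c = 1 then 3 else if c = 2 then 0 else 1

/-- the inverse word -/
def invW (l : List ℕ) : List ℕ := l.reverse.map il

theorem letter_il (c : ℕ) : letter (il c) = (letter c)⁻¹ := by
  unfold letter il
  by_cases h0 : c = 0
  · subst h0; simp
  by_cases h1 : c = 1
  · subst h1; simp
  by_cases h2 : c = 2
  · subst h2; simp
  simp [h0, h1, h2]

theorem wp_nil : wp [] = 1 := by simp [wp]

theorem wp_singleton (c : ℕ) : wp [c] = letter c := by simp [wp]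

theorem wp_invW (l : List ℕ) : wp (invW l) = (wp l)⁻¹ := by
  induction l with
  | nil => simp [invW, wp]
  | cons c l ih =>
    have h1 : invW (c :: l) = invW l ++ [il c] := by simp [invW]
    have h2 : wp (c :: l) = letter c * wp l := by simp [wp]
    rw [h1, wp_append, ih, wp_singleton, letter_il, h2, mul_inv_rev]

/-- the standard generators as words in the Janko matrices -/
def wA : List ℕ := [0, 1, 0, 3]
def wB : List ℕ := [0, 1, 1, 2, 1, 0, 0, 1, 0]

def wT : List ℕ := wA ++ wB ++ wA ++ invW wB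

/-- the images of the generators -/
def f (j : ℕ) : GG := if j = 0 then wp wA else if j = 1 then wp wB else wp wT

/-- the matrix words of the letters -/
def lw (x : ℕ) : List ℕ :=
  if x = 0 then wA else if x = 1 then invW wA else if x = 2 then wB else if x = 3 then invW wB
  else if x = 4 then wT else invW wT

theorem ltv_f : ∀ x < 6, ltv f x = wp (lw x) := by
  intro x hx
  interval_cases x
  · simp [ltv, f, lw]
  · simp [ltv, f, lw, wp_invW]
  · simp [ltv, f, lw]
  · simp [ltv, f, lw, wp_invW]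
  · simp [ltv, f, lw]
  · simp [ltv, f, lw, wp_invW]

theorem prod_ltv_f (w : List ℕ) (hw : ∀ x ∈ w, x < 6) :
    (w.map (ltv f)).prod = wp (w.flatMap lw) := by
  induction w with
  | nil => simp [wp]
  | cons x w ih =>
    rw [List.map_cons, List.prod_cons, List.flatMap_cons, wp_append,
      ih (fun y hy => hw y (List.mem_cons_of_mem _ hy)), ltv_f x (hw x (List.mem_cons_self ..))]

set_option maxHeartbeats 0 in
theorem W_code : ∀ w ∈ W, codeW (w.flatMap lw) = ModP.oneE := by
  decide +kernel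

theorem f_rel : ∀ w ∈ W, (w.map (ltv f)).prod = 1 := by
  intro w hw
  rw [prod_ltv_f w (W_lt w hw)]
  apply ModP.model.code_inj
  rw [code_wp, W_code w hw]
  exact ModP.model.code_one.symm

/-- the homomorphism onto the matrix group -/
noncomputable def θ : G →* GG := lift 3 W f W_lt f_rel

/-- the Janko matrices as words in the standard generators -/
def wX : List ℕ := [0, 2, 0, 3, 0, 3, 0, 2, 0, 3, 0, 2, 0, 2, 0, 3, 0, 3, 0, 2, 0, 2, 0, 3, 0, 3, 0, 2, 0, 3, 0, 2, 0, 2, 0, 3, 0, 3, 0, 2, 0]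
def wY : List ℕ := [0, 3, 0, 2, 0, 3, 0, 2, 0, 2, 0, 3, 0, 3, 0, 2, 0, 3, 0, 2, 0, 2, 0, 3]

theorem wX_lt : ∀ x ∈ wX, x < 2 * 3 := by decide
theorem wY_lt : ∀ x ∈ wY, x < 2 * 3 := by decide

set_option maxHeartbeats 0 in
theorem wX_code : codeW (wX.flatMap lw) = xE := by decide +kernel

set_option maxHeartbeats 0 in
theorem wY_code : codeW (wY.flatMap lw) = yE := by decide +kernel

theorem θ_wX : θ ((wX.map (e 3 W)).prod) = jankoX := by
  unfold θ
  rw [lift_prod_e 3 W f W_lt f_rel wX wX_lt, prod_ltv_f wX wX_lt]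
  apply ModP.model.code_inj
  rw [code_wp, wX_code]
  exact code_x.symm

theorem θ_wY : θ ((wY.map (e 3 W)).prod) = jankoY := by
  unfold θ
  rw [lift_prod_e 3 W f W_lt f_rel wY wY_lt, prod_ltv_f wY wY_lt]
  apply ModP.model.code_inj
  rw [code_wp, wY_code]
  exact code_y.symm

theorem JJ_le_range : JJ ≤ θ.range := by
  rw [Subgroup.closure_le]
  intro x hx
  rcases hx with rfl | rfl
  · exact ⟨_, θ_wX⟩
  · exact ⟨_, θ_wY⟩

instance : Finite G := card_le.1

theorem card_range_le : Nat.card θ.range ≤ 175560 := by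
  have h1 : Nat.card θ.range ≤ Nat.card G :=
    Nat.card_le_card_of_surjective θ.rangeRestrict θ.rangeRestrict_surjective
  exact le_trans h1 card_le.2

theorem range_eq : θ.range = JJ := by
  symm
  apply Subgroup.eq_of_le_of_card_ge JJ_le_range
  rw [card_JJ]
  exact card_range_le

theorem card_eq : Nat.card G = 175560 := by
  apply le_antisymm card_le.2
  have h1 : Nat.card θ.range ≤ Nat.card G :=
    Nat.card_le_card_of_surjective θ.rangeRestrict θ.rangeRestrict_surjective
  rw [range_eq, card_JJ] at h1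
  exact h1

theorem θ_injective : Function.Injective θ := by
  have hsurj : Function.Surjective θ.rangeRestrict := θ.rangeRestrict_surjective
  have hcard : Nat.card G ≤ Nat.card θ.range := by rw [card_eq, range_eq, card_JJ]
  have hbij : Function.Bijective θ.rangeRestrict := hsurj.bijective_of_nat_card_le hcard
  intro x y hxy
  apply hbij.1
  exact Subtype.ext hxy

/-- the presented group is isomorphic to the matrix group -/
noncomputable def iso : G ≃* JJ :=
  (MonoidHom.ofInjective θ_injective).trans (MulEquiv.subgroupCongr range_eq)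

theorem simple_G : IsSimpleGroup G := by
  haveI := simple_JJ
  exact iso.isSimpleGroup

theorem isJ1 : Cfsg.IsJ1 G := ⟨simple_G, card_eq⟩

end Cfsg.Agent.Lib.H6.J1Pres
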