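import Mathlib
import Cfsg.Agent.Lib.H7.K4Defs
import Cfsg.Agent.S4062

/-!
# S3805 piece GRPB (helper6 twin): a group of order 36 with generators `x, y, u, v` and the relations of `S₃ × S₃` is `S₃ × S₃`
-/

set_option autoImplicit false

namespace Cfsg.Agent.Lib.H6.K4

open Cfsg Cfsg.Agent.Lib.H7.K4

section hom

variable {Γ : Type*} [Group Γ]

theorem pow_val_add3 (a : Γ) (ha : a ^ 3 = 1) (i j : ZMod 3) :
    a ^ (i + j).val = a ^ i.val * a ^ j.val := by
  rw [ZMod.val_add, ← pow_add, ← pow_eq_pow_mod _ ha]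

theorem pow_val_neg3 (a : Γ) (ha : a ^ 3 = 1) (i : ZMod 3) :
    a ^ (-i).val = (a ^ i.val)⁻¹ := by
  rw [eq_inv_iff_mul_eq_one, ← pow_val_add3 a ha, neg_add_cancel, ZMod.val_zero, pow_zero]

theorem pow_mul_b' (a b : Γ) (hab : b * a * b⁻¹ = a⁻¹) (k : ℕ) :
    a ^ k * b = b * (a ^ k)⁻¹ := by
  have h1 : b * a ^ k * b⁻¹ = (a ^ k)⁻¹ := by
    rw [← conj_pow, hab, inv_pow]
  have h2 : b * (a ^ k)⁻¹ * b⁻¹ = a ^ k := by
    calc b * (a ^ k)⁻¹ * b⁻¹ = (b * a ^ k * b⁻¹)⁻¹ := by group
      _ = a ^ k := by rw [h1, inv_inv]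
  calc a ^ k * b = (b * (a ^ k)⁻¹ * b⁻¹) * b := by rw [h2]
    _ = b * (a ^ k)⁻¹ := by group

/-- the homomorphism `D₃ → Γ`, `r i ↦ a ^ i`, `sr i ↦ b * a ^ i` -/
noncomputable def dihHom (a b : Γ) (ha : a ^ 3 = 1) (hb : b * b = 1) (hab : b * a * b⁻¹ = a⁻¹) :
    DihedralGroup 3 →* Γ :=
  MonoidHom.mk' (fun s => match s with
    | DihedralGroup.r i => a ^ i.val
    | DihedralGroup.sr i => b * a ^ i.val) (by
    intro s t
    rcases s with i | i <;> rcases t with j | j
    · show a ^ (i + j).val = a ^ i.val * a ^ j.val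
      exact pow_val_add3 a ha i j
    · show b * a ^ (j - i).val = a ^ i.val * (b * a ^ j.val)
      rw [sub_eq_add_neg, pow_val_add3 a ha, pow_val_neg3 a ha, ← mul_assoc (a ^ i.val), pow_mul_b' a b hab,
        mul_assoc]
      congr 1
      have hc : Commute (a ^ j.val) ((a ^ i.val)⁻¹) :=
        ((Commute.refl a).pow_pow _ _).inv_right
      exact hc.eq
    · show b * a ^ (i + j).val = b * a ^ i.val * a ^ j.val
      rw [pow_val_add3 a ha, mul_assoc]
    · show a ^ (j - i).val = b * a ^ i.val * (b * a ^ j.val)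
      rw [sub_eq_add_neg, pow_val_add3 a ha, pow_val_neg3 a ha]
      have h1 : b * a ^ i.val * (b * a ^ j.val) = b * (a ^ i.val * b) * a ^ j.val := by group
      rw [h1, pow_mul_b' a b hab, ← mul_assoc, hb, one_mul]
      have hc : Commute (a ^ j.val) ((a ^ i.val)⁻¹) :=
        ((Commute.refl a).pow_pow _ _).inv_right
      exact hc.eq)

theorem dihHom_r (a b : Γ) (ha : a ^ 3 = 1) (hb : b * b = 1) (hab : b * a * b⁻¹ = a⁻¹) (i : ZMod 3) :
    dihHom a b ha hb hab (DihedralGroup.r i) = a ^ i.val := rfl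

theorem dihHom_sr (a b : Γ) (ha : a ^ 3 = 1) (hb : b * b = 1) (hab : b * a * b⁻¹ = a⁻¹) (i : ZMod 3) :
    dihHom a b ha hb hab (DihedralGroup.sr i) = b * a ^ i.val := rfl

end hom

/-- every non-trivial element of `D₃ × D₃` has a commutator which is a rotation in one factor -/
theorem d33_comm : ∀ s : DihedralGroup 3 × DihedralGroup 3, s ≠ 1 →
    ∃ g : DihedralGroup 3 × DihedralGroup 3,
      s * g * s⁻¹ * g⁻¹ = (DihedralGroup.r 1, 1) ∨ s * g * s⁻¹ * g⁻¹ = (DihedralGroup.r 2, 1) ∨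
      s * g * s⁻¹ * g⁻¹ = (1, DihedralGroup.r 1) ∨ s * g * s⁻¹ * g⁻¹ = (1, DihedralGroup.r 2) := by
  decide

theorem d3_iso_s3 : Nonempty (DihedralGroup 3 ≃* S3) := by
  apply Cfsg.Agent.S4062.s3_iso
  · rw [DihedralGroup.nat_card]
  · intro h
    have := h (DihedralGroup.r 1) (DihedralGroup.sr 0)
    revert this
    decide

/-- GRPB -/
theorem iso_of_gens {N : Type*} [Group N] [Finite N] (hN : Nat.card N = 36) (x y u v : N)
    (hx3 : x ^ 3 = 1) (hy3 : y ^ 3 = 1) (hxy : x * y = y * x) (hx : x ≠ 1) (hy : y ≠ 1)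
    (hu : u ^ 2 = 1) (hv : v ^ 2 = 1) (huv : u * v = v * u)
    (hux : u * x * u⁻¹ = x⁻¹) (huy : u * y * u⁻¹ = y) (hvx : v * x * v⁻¹ = x)
    (hvy : v * y * v⁻¹ = y⁻¹) : Nonempty (N ≃* S33) := by
  have huu : u * u = 1 := by rw [← pow_two]; exact hu
  have hvv : v * v = 1 := by rw [← pow_two]; exact hv
  set F₁ := dihHom x u hx3 huu hux with hF₁
  set F₂ := dihHom y v hy3 hvv hvy with hF₂
  -- commuting generators
  have cxy : Commute x y := hxy
  have cuv : Commute u v := huv
  have cuy : Commute u y := by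
    show u * y = y * u
    have := huy
    rw [mul_inv_eq_iff_eq_mul] at this
    exact this
  have cvx : Commute v x := by
    show v * x = x * v
    have := hvx
    rw [mul_inv_eq_iff_eq_mul] at this
    exact this
  have hcomm : ∀ s t : DihedralGroup 3, Commute (F₁ s) (F₂ t) := by
    intro s t
    rcases s with i | i <;> rcases t with j | j
    · exact (cxy.pow_pow _ _)
    · show Commute (x ^ i.val) (v * y ^ j.val)
      exact (cvx.symm.pow_left _).mul_right (cxy.pow_pow _ _)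
    · show Commute (u * x ^ i.val) (y ^ j.val)
      exact (cuy.pow_right _).mul_left (cxy.pow_pow _ _)
    · show Commute (u * x ^ i.val) (v * y ^ j.val)
      exact (cuv.mul_right (cuy.pow_right _)).mul_left
        ((cvx.symm.pow_left _).mul_right (cxy.pow_pow _ _))
  set F : DihedralGroup 3 × DihedralGroup 3 →* N := MonoidHom.noncommCoprod F₁ F₂ hcomm with hF
  have hFapp : ∀ s : DihedralGroup 3 × DihedralGroup 3, F s = F₁ s.1 * F₂ s.2 := fun s =>
    MonoidHom.noncommCoprod_apply _ _ _ _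
  have hx2 : x ^ 2 ≠ 1 := by
    intro h
    apply hx
    have : x ^ 3 = x ^ 2 * x := pow_succ x 2
    rw [hx3, h, one_mul] at this
    exact this.symm
  have hy2 : y ^ 2 ≠ 1 := by
    intro h
    apply hy
    have : y ^ 3 = y ^ 2 * y := pow_succ y 2
    rw [hy3, h, one_mul] at this
    exact this.symm
  have hinj : Function.Injective F := by
    rw [injective_iff_map_eq_one]
    intro s hs
    by_contra hne
    obtain ⟨g, hg⟩ := d33_comm s hne
    have h1 : F (s * g * s⁻¹ * g⁻¹) = 1 := by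
      rw [map_mul, map_mul, map_mul, map_inv, hs, one_mul, inv_one, mul_one, map_inv, mul_inv_cancel]
    rcases hg with hg | hg | hg | hg
    · rw [hg, hFapp] at h1
      have : F₁ (DihedralGroup.r 1) = x ^ 1 := rfl
      rw [this, map_one, mul_one, pow_one] at h1
      exact hx h1
    · rw [hg, hFapp] at h1
      have : F₁ (DihedralGroup.r 2) = x ^ 2 := rfl
      rw [this, map_one, mul_one] at h1
      exact hx2 h1
    · rw [hg, hFapp] at h1
      have : F₂ (DihedralGroup.r 1) = y ^ 1 := rfl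
      rw [this, map_one, one_mul, pow_one] at h1
      exact hy h1
    · rw [hg, hFapp] at h1
      have : F₂ (DihedralGroup.r 2) = y ^ 2 := rfl
      rw [this, map_one, one_mul] at h1
      exact hy2 h1
  have hcard : Nat.card (DihedralGroup 3 × DihedralGroup 3) = Nat.card N := by
    rw [Nat.card_prod, DihedralGroup.nat_card, hN]
  have hbij : Function.Bijective F :=
    (Nat.bijective_iff_injective_and_card F).2 ⟨hinj, hcard⟩
  obtain ⟨e⟩ := d3_iso_s3
  exact ⟨(MulEquiv.ofBijective F hbij).symm.trans (MulEquiv.prodCongr e e)⟩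

end Cfsg.Agent.Lib.H6.K4
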