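import Mathlib

/-!
# S4539, piece LAT (twin): integer coordinates for a rank-2 family with integral Gram matrix

`exists_int_coords`: a finite family `f` in a complex space with a positive definite Hermitian
form `ip`, with `N * ip (f i) (f j)` integral and complex rank `2`, has integer coordinates with
respect to a `ℤ`-basis `e₁, e₂` of `span_ℤ (range f)`, whose Gram matrix (times `N`) is an
integral positive definite binary form.
-/

set_option autoImplicit false

namespace Cfsg.Agent.Lib.H6.KB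

open scoped ComplexConjugate

/-- The hypotheses on the Hermitian form, bundled. -/
structure HermData {E : Type*} [AddCommGroup E] [Module ℂ E] (ip : E → E → ℂ) : Prop where
  hadd : ∀ u v w : E, ip (u + v) w = ip u w + ip v w
  hsmul : ∀ (r : ℂ) (u w : E), ip (r • u) w = r * ip u w
  hconj : ∀ u w : E, conj (ip u w) = ip w u
  hpos : ∀ u : E, u ≠ 0 → 0 < (ip u u).re

namespace HermData

variable {E : Type*} [AddCommGroup E] [Module ℂ E] {ip : E → E → ℂ}

theorem zero_left (h : HermData ip) (w : E) : ip 0 w = 0 := by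
  have := h.hsmul 0 0 w
  simpa using this

theorem add_right (h : HermData ip) (u v w : E) : ip u (v + w) = ip u v + ip u w := by
  rw [← h.hconj (v + w) u, h.hadd, map_add, h.hconj, h.hconj]

theorem smul_right (h : HermData ip) (r : ℂ) (u w : E) : ip u (r • w) = conj r * ip u w := by
  rw [← h.hconj (r • w) u, h.hsmul, map_mul, h.hconj]

theorem zero_right (h : HermData ip) (u : E) : ip u 0 = 0 := by
  rw [← h.hconj 0 u, h.zero_left, map_zero]

theorem sum_left (h : HermData ip) {ι : Type*} (s : Finset ι) (c : ι → ℂ) (v : ι → E) (w : E) :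
    ip (∑ k ∈ s, c k • v k) w = ∑ k ∈ s, c k * ip (v k) w := by
  classical
  induction s using Finset.induction_on with
  | empty => simp [h.zero_left]
  | insert a s ha ih => rw [Finset.sum_insert ha, Finset.sum_insert ha, h.hadd, h.hsmul, ih]

theorem sum_right (h : HermData ip) {ι : Type*} (s : Finset ι) (c : ι → ℂ) (v : ι → E) (u : E) :
    ip u (∑ k ∈ s, c k • v k) = ∑ k ∈ s, conj (c k) * ip u (v k) := by
  classical
  induction s using Finset.induction_on with
  | empty => simp [h.zero_right]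
  | insert a s ha ih =>
    rw [Finset.sum_insert ha, Finset.sum_insert ha, h.add_right, h.smul_right, ih]

theorem eq_zero_of_self (h : HermData ip) (u : E) (hu : ip u u = 0) : u = 0 := by
  by_contra hne
  have := h.hpos u hne
  rw [hu] at this
  simp at this

theorem conj_int (z : ℤ) : conj (z : ℂ) = (z : ℂ) := map_intCast (starRingEnd ℂ) z

/-- Expansion of the form on two integer combinations of two vectors. -/
theorem form_two (h : HermData ip) (v₀ v₁ : E) (x₁ y₁ x₂ y₂ : ℤ) :
    ip ((x₁ : ℂ) • v₀ + (y₁ : ℂ) • v₁) ((x₂ : ℂ) • v₀ + (y₂ : ℂ) • v₁) =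
      x₁ * x₂ * ip v₀ v₀ + x₁ * y₂ * ip v₀ v₁ + y₁ * x₂ * ip v₁ v₀ + y₁ * y₂ * ip v₁ v₁ := by
  rw [h.hadd, h.add_right, h.add_right, h.hsmul, h.hsmul, h.smul_right, h.smul_right,
    h.hsmul, h.hsmul, h.smul_right, h.smul_right, conj_int, conj_int]
  ring

/-- Integrality of `N * ip` on the `ℤ`-span. -/
theorem int_on_span (h : HermData ip) {I : Type*} (f : I → E) (N : ℕ)
    (hint : ∀ i j : I, ∃ n : ℤ, (N : ℂ) * ip (f i) (f j) = n) :
    ∀ u ∈ Submodule.span ℤ (Set.range f), ∀ w ∈ Submodule.span ℤ (Set.range f),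
      ∃ n : ℤ, (N : ℂ) * ip u w = n := by
  intro u hu w hw
  induction hu using Submodule.span_induction with
  | mem x hx =>
    obtain ⟨i, rfl⟩ := hx
    induction hw using Submodule.span_induction with
    | mem y hy =>
      obtain ⟨j, rfl⟩ := hy
      exact hint i j
    | zero => exact ⟨0, by simp [h.zero_right]⟩
    | add y z _ _ hy hz =>
      obtain ⟨a, ha⟩ := hy
      obtain ⟨b, hb⟩ := hz
      exact ⟨a + b, by rw [h.add_right, mul_add, ha, hb]; push_cast; ring⟩
    | smul a y _ hy =>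
      obtain ⟨b, hb⟩ := hy
      refine ⟨a * b, ?_⟩
      rw [← Int.cast_smul_eq_zsmul ℂ a y, h.smul_right, conj_int]
      push_cast
      rw [← hb]
      ring
  | zero => exact ⟨0, by simp [h.zero_left]⟩
  | add x y _ _ hx hy =>
    obtain ⟨a, ha⟩ := hx
    obtain ⟨b, hb⟩ := hy
    exact ⟨a + b, by rw [h.hadd, mul_add, ha, hb]; push_cast; ring⟩
  | smul a x _ hx =>
    obtain ⟨b, hb⟩ := hx
    refine ⟨a * b, ?_⟩
    rw [← Int.cast_smul_eq_zsmul ℂ a x, h.hsmul]
    push_cast
    rw [← hb]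
    ring

end HermData

/-- A complex vector space is torsion-free over `ℤ`. -/
theorem isTorsionFree_int_of_complex (E : Type*) [AddCommGroup E] [Module ℂ E] :
    Module.IsTorsionFree ℤ E := by
  refine Module.IsTorsionFree.of_smul_eq_zero ?_
  intro r m hrm
  rw [← Int.cast_smul_eq_zsmul ℂ r m, smul_eq_zero] at hrm
  rcases hrm with hr | hm
  · left
    exact_mod_cast hr
  · right
    exact hm

/-- Core: a `ℤ`-basis `b` of `L = span_ℤ (range f)` is `ℂ`-linearly independent. -/
theorem basis_linearIndependent {E : Type*} [AddCommGroup E] [Module ℂ E] {ip : E → E → ℂ}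
    (h : HermData ip) {I : Type*} (f : I → E) (N : ℕ) (hN : 0 < N)
    (hint : ∀ i j : I, ∃ n : ℤ, (N : ℂ) * ip (f i) (f j) = n)
    {ι : Type*} [Fintype ι] (b : Module.Basis ι ℤ (Submodule.span ℤ (Set.range f))) :
    LinearIndependent ℂ (fun k => ((b k : Submodule.span ℤ (Set.range f)) : E)) := by
  classical
  have hN' : (N : ℂ) ≠ 0 := by exact_mod_cast hN.ne'
  have hG : ∀ k l : ι, ∃ n : ℤ, (N : ℂ) * ip (b k : E) (b l : E) = n :=
    fun k l => h.int_on_span f N hint _ (b k).2 _ (b l).2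
  choose G hGs using hG
  -- the Gram matrix is nonsingular
  have hdet : (Matrix.of G).det ≠ 0 := by
    intro h0
    obtain ⟨z, hz, hzG⟩ := Matrix.exists_vecMul_eq_zero_iff.mpr h0
    obtain ⟨u, hu⟩ : ∃ u : E, u = ∑ k, ((z k : ℤ) : ℂ) • (b k : E) := ⟨_, rfl⟩
    have h1 : ∀ l, ip u (b l : E) = 0 := by
      intro l
      apply mul_left_cancel₀ hN'
      rw [hu, h.sum_left, Finset.mul_sum, mul_zero]
      have hk : ∀ k, (N : ℂ) * (((z k : ℤ) : ℂ) * ip (b k : E) (b l : E)) =
          ((z k * G k l : ℤ) : ℂ) := by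
        intro k
        rw [mul_left_comm, hGs]
        push_cast
        ring
      simp_rw [hk]
      rw [← Int.cast_sum]
      have h2 := congrFun hzG l
      simp only [Matrix.vecMul, dotProduct, Matrix.of_apply, Pi.zero_apply] at h2
      rw [h2]
      simp
    have h2 : ip u (∑ k, ((z k : ℤ) : ℂ) • (b k : E)) = 0 := by
      rw [h.sum_right]
      simp [h1]
    rw [← hu] at h2
    have hu0 : u = 0 := h.eq_zero_of_self u h2
    -- transfer to `L`
    have h3 : ((∑ k, z k • b k : Submodule.span ℤ (Set.range f)) : E) = 0 := by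
      rw [← hu0, hu]
      push_cast
      apply Finset.sum_congr rfl
      intro k _
      rw [Int.cast_smul_eq_zsmul]
    have h4 : (∑ k, z k • b k : Submodule.span ℤ (Set.range f)) = 0 := by
      exact_mod_cast h3
    have h5 := Fintype.linearIndependent_iff.mp b.linearIndependent z h4
    exact hz (funext h5)
  rw [Fintype.linearIndependent_iff]
  intro c hc k
  have hv : Matrix.vecMul c ((Int.castRingHom ℂ).mapMatrix (Matrix.of G)) = 0 := by
    funext l
    simp only [Matrix.vecMul, dotProduct, RingHom.mapMatrix_apply, Matrix.map_apply,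
      Matrix.of_apply, Pi.zero_apply, Int.coe_castRingHom]
    have h6 : ip (∑ k, c k • (b k : E)) (b l : E) = 0 := by rw [hc, h.zero_left]
    rw [h.sum_left] at h6
    have h7 : (N : ℂ) * ∑ k, c k * ip (b k : E) (b l : E) = 0 := by rw [h6, mul_zero]
    rw [Finset.mul_sum] at h7
    rw [← h7]
    apply Finset.sum_congr rfl
    intro k _
    rw [mul_left_comm, hGs]
  have hdetC : ((Int.castRingHom ℂ).mapMatrix (Matrix.of G)).det ≠ 0 := by
    rw [← RingHom.map_det]
    simpa using hdet
  exact congrFun (Matrix.eq_zero_of_vecMul_eq_zero hdetC hv) k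

/-- **LAT**: integer coordinates for a rank-2 family with integral Gram matrix. -/
theorem exists_int_coords {E : Type*} [AddCommGroup E] [Module ℂ E] {I : Type*} [Finite I]
    (ip : E → E → ℂ)
    (hadd : ∀ u v w : E, ip (u + v) w = ip u w + ip v w)
    (hsmul : ∀ (r : ℂ) (u w : E), ip (r • u) w = r * ip u w)
    (hconj : ∀ u w : E, conj (ip u w) = ip w u)
    (hpos : ∀ u : E, u ≠ 0 → 0 < (ip u u).re)
    (f : I → E) (N : ℕ) (hN : 0 < N)
    (hint : ∀ i j : I, ∃ n : ℤ, (N : ℂ) * ip (f i) (f j) = n)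
    (hrank : Module.finrank ℂ (Submodule.span ℂ (Set.range f)) = 2) :
    ∃ (D₁ D₂ : I → ℤ) (a b c : ℤ),
      (∀ x y : ℤ, (x ≠ 0 ∨ y ≠ 0) → 0 < a * x * x + 2 * b * x * y + c * y * y) ∧
      ∀ i j : I, (N : ℂ) * ip (f i) (f j) =
        ((a * D₁ i * D₁ j + b * (D₁ i * D₂ j + D₂ i * D₁ j) + c * D₂ i * D₂ j : ℤ) : ℂ) := by
  classical
  have h : HermData ip := ⟨hadd, hsmul, hconj, hpos⟩
  have hN' : (N : ℂ) ≠ 0 := by exact_mod_cast hN.ne'
  have : Module.IsTorsionFree ℤ E := isTorsionFree_int_of_complex E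
  have : Module.IsTorsionFree ℤ (Submodule.span ℤ (Set.range f)) :=
    Function.Injective.moduleIsTorsionFree (N := E) (Subtype.val) Subtype.val_injective
      (fun _ _ => rfl)
  have : Module.Finite ℤ (Submodule.span ℤ (Set.range f)) :=
    Module.Finite.span_of_finite ℤ (Set.finite_range f)
  let b := Module.Free.chooseBasis ℤ (Submodule.span ℤ (Set.range f))
  have hli := basis_linearIndependent h f N hN hint b
  -- the two spans agree
  have hspan : Submodule.span ℂ (Set.range (fun k => ((b k : Submodule.span ℤ (Set.range f)) : E))) =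
      Submodule.span ℂ (Set.range f) := by
    apply le_antisymm
    · rw [Submodule.span_le]
      rintro _ ⟨k, rfl⟩
      exact Submodule.span_subset_span ℤ ℂ _ (b k).2
    · rw [Submodule.span_le]
      rintro _ ⟨i, rfl⟩
      have hfi : f i ∈ Submodule.span ℤ (Set.range f) := Submodule.subset_span ⟨i, rfl⟩
      have h1 := congrArg (Subtype.val) (b.sum_repr ⟨f i, hfi⟩)
      simp only [Submodule.coe_sum, Submodule.coe_smul] at h1
      change f i ∈ Submodule.span ℂ _
      rw [← h1]
      refine Submodule.sum_mem _ (fun k _ => ?_)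
      rw [← Int.cast_smul_eq_zsmul ℂ]
      exact Submodule.smul_mem _ _ (Submodule.subset_span ⟨k, rfl⟩)
  have hcard : Fintype.card (Module.Free.ChooseBasisIndex ℤ (Submodule.span ℤ (Set.range f))) = 2 := by
    rw [← hrank, ← hspan, finrank_span_eq_card hli]
  let e := Fintype.equivFinOfCardEq hcard
  obtain ⟨k₀, hk₀⟩ : ∃ k, k = e.symm 0 := ⟨_, rfl⟩
  obtain ⟨k₁, hk₁⟩ : ∃ k, k = e.symm 1 := ⟨_, rfl⟩
  have hk01 : k₀ ≠ k₁ := by
    rw [hk₀, hk₁]
    intro h01
    have := e.symm.injective h01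
    exact absurd this (by decide)
  have hsum : ∀ (F : Module.Free.ChooseBasisIndex ℤ (Submodule.span ℤ (Set.range f)) → E),
      ∑ k, F k = F k₀ + F k₁ := by
    intro F
    rw [← Equiv.sum_comp e.symm F, Fin.sum_univ_two, hk₀, hk₁]
  -- Gram entries
  obtain ⟨a, ha⟩ := h.int_on_span f N hint _ (b k₀).2 _ (b k₀).2
  obtain ⟨bb, hb⟩ := h.int_on_span f N hint _ (b k₀).2 _ (b k₁).2
  obtain ⟨c, hc⟩ := h.int_on_span f N hint _ (b k₁).2 _ (b k₁).2
  have hb' : (N : ℂ) * ip (b k₁ : E) (b k₀ : E) = bb := by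
    rw [← hconj (b k₀ : E) (b k₁ : E), ← Complex.conj_natCast N, ← map_mul, hb, HermData.conj_int]
  -- coordinates
  have hmem : ∀ i, f i ∈ Submodule.span ℤ (Set.range f) := fun i => Submodule.subset_span ⟨i, rfl⟩
  have hcoord : ∀ i, f i = ((b.repr ⟨f i, hmem i⟩ k₀ : ℤ) : ℂ) • (b k₀ : E) +
      ((b.repr ⟨f i, hmem i⟩ k₁ : ℤ) : ℂ) • (b k₁ : E) := by
    intro i
    have h1 := congrArg (Subtype.val) (b.sum_repr ⟨f i, hmem i⟩)
    simp only [Submodule.coe_sum, Submodule.coe_smul] at h1
    rw [hsum] at h1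
    rw [Int.cast_smul_eq_zsmul, Int.cast_smul_eq_zsmul]
    exact h1.symm
  have hform : ∀ x₁ y₁ x₂ y₂ : ℤ,
      (N : ℂ) * ip ((x₁ : ℂ) • (b k₀ : E) + (y₁ : ℂ) • (b k₁ : E))
        ((x₂ : ℂ) • (b k₀ : E) + (y₂ : ℂ) • (b k₁ : E)) =
      ((a * x₁ * x₂ + bb * (x₁ * y₂ + y₁ * x₂) + c * y₁ * y₂ : ℤ) : ℂ) := by
    intro x₁ y₁ x₂ y₂
    rw [h.form_two]
    push_cast
    rw [← ha, ← hb, ← hc]
    have : ip (b k₁ : E) (b k₀ : E) = ip (b k₀ : E) (b k₁ : E) := by
      apply mul_left_cancel₀ hN'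
      rw [hb', hb]
    rw [this]
    ring
  refine ⟨fun i => b.repr ⟨f i, hmem i⟩ k₀, fun i => b.repr ⟨f i, hmem i⟩ k₁, a, bb, c, ?_, ?_⟩
  · intro x y hxy
    -- the vector `x e₀ + y e₁` is nonzero
    have hne : (x : ℂ) • (b k₀ : E) + (y : ℂ) • (b k₁ : E) ≠ 0 := by
      intro h0
      have h1 : ((x • b k₀ + y • b k₁ : Submodule.span ℤ (Set.range f)) : E) = 0 := by
        rw [← h0]
        push_cast
        rw [Int.cast_smul_eq_zsmul, Int.cast_smul_eq_zsmul]
      have h2 : (x • b k₀ + y • b k₁ : Submodule.span ℤ (Set.range f)) = 0 := by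
        exact_mod_cast h1
      have h3 := congrArg (fun v => b.repr v) h2
      have hx : x = 0 := by
        have := congrArg (fun v => v k₀) h3
        simpa [Finsupp.single_apply, hk01, hk01.symm] using this
      have hy : y = 0 := by
        have := congrArg (fun v => v k₁) h3
        simpa [Finsupp.single_apply, hk01, hk01.symm] using this
      rcases hxy with hx' | hy'
      · exact hx' hx
      · exact hy' hy
    have hp := hpos _ hne
    have hq := hform x y x y
    have hre : ((N : ℂ) * ip ((x : ℂ) • (b k₀ : E) + (y : ℂ) • (b k₁ : E))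
        ((x : ℂ) • (b k₀ : E) + (y : ℂ) • (b k₁ : E))).re =
        (N : ℝ) * (ip ((x : ℂ) • (b k₀ : E) + (y : ℂ) • (b k₁ : E))
        ((x : ℂ) • (b k₀ : E) + (y : ℂ) • (b k₁ : E))).re := by
      simp
    rw [hq] at hre
    have hNr : (0 : ℝ) < N := by exact_mod_cast hN
    have hpos' : (0 : ℝ) < ((a * x * x + bb * (x * y + y * x) + c * y * y : ℤ) : ℝ) := by
      have : ((((a * x * x + bb * (x * y + y * x) + c * y * y : ℤ) : ℂ)).re : ℝ) =
          ((a * x * x + bb * (x * y + y * x) + c * y * y : ℤ) : ℝ) := by simp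
      rw [← this, hre]
      positivity
    have hint' : 0 < a * x * x + bb * (x * y + y * x) + c * y * y := by exact_mod_cast hpos'
    nlinarith [hint']
  · intro i j
    have hq := hform (b.repr ⟨f i, hmem i⟩ k₀) (b.repr ⟨f i, hmem i⟩ k₁)
      (b.repr ⟨f j, hmem j⟩ k₀) (b.repr ⟨f j, hmem j⟩ k₁)
    rw [← hcoord i, ← hcoord j] at hq
    rw [hq]

end Cfsg.Agent.Lib.H6.KB
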