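import Cfsg.Agent.Lib.H6.KGVPartial

/-!
# S4958 piece GAL: `galois_sum`
-/

set_option autoImplicit false

namespace Cfsg.Agent.Lib.H6.KGV

open Cfsg.Agent.Lib.H20.KGV
open scoped ComplexConjugate
open Classical

/-- **Piece GAL** (sum over the non-trivial elements of the first factor). -/
theorem galois_sum {K : Type*} {H : Type*} [CommGroup K] [Fintype K] [CommGroup H] [Fintype H]
    (μ : H → ℝ) (hμ : ∀ h, 0 ≤ μ h) (κ : ℝ) (hκ : 0 ≤ κ) (hgood : Good μ κ)
    (F : K × H → ℂ) (hF : IntF F) (d : ℤ) (hd : F 1 = d) (hnd : ¬ (Fintype.card K : ℤ) ∣ d) :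
    ((Fintype.card K : ℝ) - 1) * κ ≤
      ∑ x : K × H, if x.1 = 1 then 0 else μ x.2 * ‖F x‖ ^ 2 := by
  have : Fintype (K →* ℂˣ) := Fintype.ofFinite _
  set N : ℝ := (Fintype.card K : ℝ) with hN
  have hcard : Fintype.card (K →* ℂˣ) = Fintype.card K := card_dual
  -- the a_λ
  set a : (K →* ℂˣ) → H → ℂ := fun l => pcoeff F l with ha
  have haI : ∀ l, IntF (a l) := fun l => intF_pcoeff hF l
  -- T
  set T : (K →* ℂˣ) → (K →* ℂˣ) → ℝ := fun l l' => ∑ h, μ h * ‖(a l - a l') h‖ ^ 2 with hT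
  have hT0 : ∀ l l', 0 ≤ T l l' := fun l l' =>
    Finset.sum_nonneg fun h _ => mul_nonneg (hμ h) (by positivity)
  have hTk : ∀ l l', a l ≠ a l' → κ ≤ T l l' := fun l l' hne =>
    hgood (a l - a l') ((haI l).sub (haI l')) (sub_ne_zero.mpr hne)
  -- rewriting the right-hand side
  have hrhs : (∑ x : K × H, if x.1 = 1 then 0 else μ x.2 * ‖F x‖ ^ 2) =
      (1 / 2 : ℝ) * ∑ l, ∑ l', T l l' := by
    rw [Fintype.sum_prod_type_right]
    have h1 : ∀ h : H, (∑ k : K, if (k, h).1 = 1 then 0 else μ (k, h).2 * ‖F (k, h)‖ ^ 2) =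
        μ h * ((1 / 2 : ℝ) * ∑ l, ∑ l', ‖a l h - a l' h‖ ^ 2) := by
      intro h
      have h2 : (∑ k : K, if (k, h).1 = 1 then 0 else μ (k, h).2 * ‖F (k, h)‖ ^ 2) =
          μ h * (∑ k, ‖F (k, h)‖ ^ 2 - ‖F (1, h)‖ ^ 2) := by
        have h3 : ∀ k : K, (if (k, h).1 = 1 then (0 : ℝ) else μ (k, h).2 * ‖F (k, h)‖ ^ 2) =
            μ h * ‖F (k, h)‖ ^ 2 - if k = 1 then μ h * ‖F (1, h)‖ ^ 2 else 0 := by
          intro k
          by_cases hk : k = 1
          · subst hk; simp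
          · simp [hk]
        simp_rw [h3]
        rw [Finset.sum_sub_distrib, Finset.sum_ite_eq' Finset.univ (1 : K)]
        simp only [Finset.mem_univ, if_true]
        rw [← Finset.mul_sum, mul_sub]
      rw [h2, sum_norm_sq_fst, apply_one_eq_sum_pcoeff F h, ← lagrange_identity, hcard]
    simp_rw [h1]
    simp only [hT, Finset.mul_sum, Pi.sub_apply]
    rw [Finset.sum_comm]
    refine Finset.sum_congr rfl fun l _ => ?_
    rw [Finset.sum_comm]
    refine Finset.sum_congr rfl fun l' _ => ?_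
    refine Finset.sum_congr rfl fun h _ => ?_
    ring
  rw [hrhs]
  -- not all equal
  have hne : ∃ l₀ l₁, a l₀ ≠ a l₁ := by
    by_contra hcon
    push Not at hcon
    apply hnd
    obtain ⟨m, hm⟩ := (haI 1).apply_one
    refine ⟨m, ?_⟩
    have h1 : F 1 = ∑ l : K →* ℂˣ, a l 1 := apply_one_eq_sum_pcoeff F 1
    have h2 : ∑ l : K →* ℂˣ, a l 1 = (Fintype.card K : ℂ) * (m : ℂ) := by
      rw [← hm]
      rw [Finset.sum_congr rfl (fun l _ => by rw [hcon l 1])]
      rw [Finset.sum_const, Finset.card_univ, hcard, nsmul_eq_mul]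
    rw [hd, h2] at h1
    exact_mod_cast h1
  obtain ⟨l₀, l₁, h01⟩ := hne
  have hl01 : l₀ ≠ l₁ := fun h => h01 (by rw [h])
  -- row sums
  have hrow : ∀ l, κ ≤ ∑ l', T l l' := by
    intro l
    have h1 : T l l₀ + T l l₁ ≤ ∑ l', T l l' := by
      rw [← Finset.sum_pair hl01]
      exact Finset.sum_le_sum_of_subset_of_nonneg (Finset.subset_univ _)
        (fun l' _ _ => hT0 l l')
    by_cases h : a l = a l₀
    · have : a l ≠ a l₁ := by rw [h]; exact h01
      linarith [hTk l l₁ this, hT0 l l₀]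
    · linarith [hTk l l₀ h, hT0 l l₁]
  have hrow2 : N * κ ≤ ∑ l', T l₀ l' + ∑ l', T l₁ l' := by
    rw [← Finset.sum_add_distrib]
    have h1 : ∀ l', κ ≤ T l₀ l' + T l₁ l' := by
      intro l'
      by_cases h : a l₀ = a l'
      · have : a l₁ ≠ a l' := by rw [← h]; exact fun h' => h01 h'.symm
        linarith [hTk l₁ l' this, hT0 l₀ l']
      · linarith [hTk l₀ l' h, hT0 l₁ l']
    calc N * κ = ∑ _l' : K →* ℂˣ, κ := by
          rw [Finset.sum_const, Finset.card_univ, hcard, nsmul_eq_mul]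
      _ ≤ _ := Finset.sum_le_sum fun l' _ => h1 l'
  have hsplit : ∑ l, ∑ l', T l l' =
      (∑ l ∈ ({l₀, l₁} : Finset (K →* ℂˣ)), ∑ l', T l l') +
        ∑ l ∈ ({l₀, l₁} : Finset (K →* ℂˣ))ᶜ, ∑ l', T l l' :=
    (Finset.sum_add_sum_compl _ _).symm
  have hcompl : (N - 2) * κ ≤ ∑ l ∈ ({l₀, l₁} : Finset (K →* ℂˣ))ᶜ, ∑ l', T l l' := by
    have h1 : ((({l₀, l₁} : Finset (K →* ℂˣ))ᶜ).card : ℝ) = N - 2 := by
      rw [Finset.card_compl, Finset.card_pair hl01, hcard]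
      have h2 : 2 ≤ Fintype.card K := by
        rw [← hcard, ← Finset.card_pair hl01]
        exact Finset.card_le_univ _
      rw [Nat.cast_sub h2]
      simp [hN]
    calc (N - 2) * κ = ∑ _l ∈ ({l₀, l₁} : Finset (K →* ℂˣ))ᶜ, κ := by
          rw [Finset.sum_const, nsmul_eq_mul, h1]
      _ ≤ _ := Finset.sum_le_sum fun l _ => hrow l
  rw [hsplit, Finset.sum_pair hl01]
  linarith

end Cfsg.Agent.Lib.H6.KGV
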