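import Cfsg.Agent.Lib.H20.KGVDefs

/-!
# Partial Fourier coefficients on a product `K × H` of finite abelian groups (for S4958 AS / GAL)

`pcoeff F l h` is the Fourier coefficient at `l : K →* ℂˣ` of `k ↦ F (k, h)`.
-/

set_option autoImplicit false

namespace Cfsg.Agent.Lib.H6.KGV

open Cfsg.Agent.Lib.H20.KGV
open scoped ComplexConjugate
open Classical

variable {K : Type*} {H : Type*} [CommGroup K] [Fintype K] [CommGroup H] [Fintype H]

/-- Partial Fourier coefficient in the first variable. -/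
noncomputable def pcoeff (F : K × H → ℂ) (l : K →* ℂˣ) : H → ℂ :=
  fun h => coeff (fun k => F (k, h)) l

theorem coeff_pcoeff (F : K × H → ℂ) (l : K →* ℂˣ) (φ : H →* ℂˣ) :
    coeff (pcoeff F l) φ = coeff F (l.coprod φ) := by
  rw [coeff_eq, coeff_eq, Fintype.card_prod, Fintype.sum_prod_type_right]
  unfold pcoeff
  simp only [coeff_eq]
  rw [Finset.mul_sum, Nat.cast_mul, Finset.mul_sum]
  refine Finset.sum_congr rfl fun h _ => ?_
  rw [Finset.mul_sum, Finset.sum_mul, Finset.mul_sum, Finset.mul_sum]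
  refine Finset.sum_congr rfl fun k _ => ?_
  rw [MonoidHom.coprod_apply, Units.val_mul, map_mul, mul_inv]
  ring

theorem intF_pcoeff {F : K × H → ℂ} (hF : IntF F) (l : K →* ℂˣ) : IntF (pcoeff F l) := by
  intro φ
  obtain ⟨n, hn⟩ := hF (l.coprod φ)
  exact ⟨n, by rw [coeff_pcoeff, hn]⟩

theorem apply_eq_sum_pcoeff [Fintype (K →* ℂˣ)] (F : K × H → ℂ) (k : K) (h : H) :
    F (k, h) = ∑ l : K →* ℂˣ, pcoeff F l h * ((l k : ℂˣ) : ℂ) := by
  exact inversion (fun k => F (k, h)) k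

theorem apply_one_eq_sum_pcoeff [Fintype (K →* ℂˣ)] (F : K × H → ℂ) (h : H) :
    F (1, h) = ∑ l : K →* ℂˣ, pcoeff F l h := by
  rw [apply_eq_sum_pcoeff F 1 h]
  refine Finset.sum_congr rfl fun l _ => ?_
  simp

theorem sum_norm_sq_fst [Fintype (K →* ℂˣ)] (F : K × H → ℂ) (h : H) :
    ∑ k, ‖F (k, h)‖ ^ 2 = (Fintype.card K : ℝ) * ∑ l : K →* ℂˣ, ‖pcoeff F l h‖ ^ 2 := by
  exact parseval (fun k => F (k, h))

/-- Lagrange's identity in the form used here (index set of cardinality `N`). -/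
theorem lagrange_identity {ι : Type*} [Fintype ι] (z : ι → ℂ) :
    (Fintype.card ι : ℝ) * ∑ i, ‖z i‖ ^ 2 - ‖∑ i, z i‖ ^ 2 =
      (1 / 2 : ℝ) * ∑ i, ∑ j, ‖z i - z j‖ ^ 2 := by
  have h1 : ∀ i j, ‖z i - z j‖ ^ 2 = ‖z i‖ ^ 2 - 2 * inner ℝ (z i) (z j) + ‖z j‖ ^ 2 :=
    fun i j => norm_sub_sq_real (z i) (z j)
  have h2 : ∑ i, ∑ j, inner ℝ (z i) (z j) = ‖∑ i, z i‖ ^ 2 := by
    rw [← real_inner_self_eq_norm_sq, sum_inner]
    refine Finset.sum_congr rfl fun i _ => ?_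
    rw [inner_sum]
  simp_rw [h1]
  simp only [Finset.sum_add_distrib, Finset.sum_sub_distrib, Finset.sum_const, Finset.card_univ,
    ← Finset.mul_sum, nsmul_eq_mul]
  rw [h2]
  ring

end Cfsg.Agent.Lib.H6.KGV
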