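import Mathlib
import Cfsg.Agent.Lib.H24.CharKer
import Cfsg.Agent.Lib.H20.KPPDefs

/-!
# S4591, piece CORE modulo C2 and TRIV (helper20 blueprint, tools/blueprints/S4591.md)

`A := N ⊔ core_G(N P') ⊴ G`, `A ≤ N P'`, so `A = N R` with `R := A ⊓ P'` and `N ⊓ R = 1` (`N` is a
`p'`-group).  For `χ` of `p'`-degree, `∑_{r ∈ R} χ r ≠ 0` (C2), `N ≤ ker χ`, so
`∑_{a ∈ A} χ a = |N| ∑_{r ∈ R} χ r ≠ 0` and `A ≤ ker χ` (TRIV).
-/

set_option autoImplicit false

namespace Cfsg.Agent.Lib.H6.KPP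

open Cfsg Cfsg.Agent.Lib.L0 Cfsg.Agent.Lib.H24 Cfsg.Agent.Lib.H20.KPP
open scoped ComplexConjugate

variable {G : Type*} [Group G] [Fintype G] (p : ℕ) [hp : Fact p.Prime]

/-- a character is invariant under translation by an element of its kernel -/
theorem char_ker_mul (χ : G → ℂ) (hχ : IsCharacter G χ) (n r : G) (hn : χ n = χ 1) :
    χ (n * r) = χ r := by
  obtain ⟨k, ρ, rfl⟩ := hχ
  have h1 : ρ n = 1 := (char_eq_char_one_iff ρ n).mp hn
  show LinearMap.trace ℂ _ (ρ (n * r)) = LinearMap.trace ℂ _ (ρ r)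
  rw [map_mul, h1, one_mul]

omit [Fintype G] in
/-- the sum of a function over `A = N R`, `N ⊓ R = 1`, as a double sum -/
theorem sum_mul_decomp (N R A : Subgroup G) (hNA : N ≤ A) (hRA : R ≤ A)
    (hsurj : ∀ a ∈ A, ∃ n ∈ N, ∃ r ∈ R, n * r = a) (hNR : N ⊓ R = ⊥)
    [Fintype N] [Fintype R] [Fintype A] (f : G → ℂ) :
    ∑ a : A, f a = ∑ n : N, ∑ r : R, f ((n : G) * (r : G)) := by
  let φ : N × R → A := fun x => ⟨(x.1 : G) * (x.2 : G), A.mul_mem (hNA x.1.2) (hRA x.2.2)⟩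
  have hφ : Function.Bijective φ := by
    constructor
    · rintro ⟨n, r⟩ ⟨n', r'⟩ h
      have h1 : (n : G) * (r : G) = (n' : G) * (r' : G) := congrArg Subtype.val h
      have h2 : (n' : G)⁻¹ * (n : G) = (r' : G) * (r : G)⁻¹ := by
        rw [inv_mul_eq_iff_eq_mul, ← mul_assoc, ← h1, mul_assoc, mul_inv_cancel, mul_one]
      have h3 : (n' : G)⁻¹ * (n : G) ∈ N ⊓ R := by
        refine ⟨N.mul_mem (N.inv_mem n'.2) n.2, ?_⟩
        rw [h2]
        exact R.mul_mem r'.2 (R.inv_mem r.2)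
      rw [hNR, Subgroup.mem_bot] at h3
      have h4 : (n : G) = (n' : G) := by
        rw [inv_mul_eq_one] at h3
        exact h3.symm
      have h5 : (r : G) = (r' : G) := by
        rw [h4] at h1
        exact mul_left_cancel h1
      exact Prod.ext (Subtype.ext h4) (Subtype.ext h5)
    · rintro ⟨a, ha⟩
      obtain ⟨n, hn, r, hr, rfl⟩ := hsurj a ha
      exact ⟨(⟨n, hn⟩, ⟨r, hr⟩), rfl⟩
  rw [← Fintype.sum_prod_type']
  exact (Fintype.sum_bijective φ hφ _ _ (fun _ => rfl)).symm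

/-- CORE modulo C2 and TRIV. -/
theorem core_le_kerPP_of
    (hC2 : ∀ (P : Sylow p G) (χ : G → ℂ), IsIrrCharacter G χ → ¬ p ∣ charDegree χ →
      ∀ (R : Subgroup G) [Fintype R], R ≤ ⁅(P : Subgroup G), (P : Subgroup G)⁆ → ∑ r : R, χ r ≠ 0)
    (hTRIV : ∀ (L : Subgroup G) [L.Normal] [Fintype L] (χ : G → ℂ), IsIrrCharacter G χ →
      classInner (fun n : L => χ n) (fun _ : L => (1 : ℂ)) ≠ 0 → ∀ x ∈ L, χ x = χ 1)
    (P : Sylow p G) (N : Subgroup G) [N.Normal] (hNc : (Nat.card N).Coprime p)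
    (hN : N ≤ kerPP p) :
    (N ⊔ ⁅(P : Subgroup G), (P : Subgroup G)⁆).normalCore ≤ kerPP p := by
  classical
  intro x hx
  rw [mem_kerPP]
  intro χ hdeg
  let A : Subgroup G := N ⊔ (N ⊔ ⁅(P : Subgroup G), (P : Subgroup G)⁆).normalCore
  have hAn : A.Normal := inferInstance
  let R : Subgroup G := A ⊓ ⁅(P : Subgroup G), (P : Subgroup G)⁆
  have hRle : R ≤ ⁅(P : Subgroup G), (P : Subgroup G)⁆ := inf_le_right
  have hNA : N ≤ A := le_sup_left
  have hRA : R ≤ A := inf_le_left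
  have hxA : x ∈ A := (le_sup_right : _ ≤ A) hx
  have hAle : A ≤ N ⊔ ⁅(P : Subgroup G), (P : Subgroup G)⁆ :=
    sup_le le_sup_left (Subgroup.normalCore_le _)
  have hsurj : ∀ a ∈ A, ∃ n ∈ N, ∃ r ∈ R, n * r = a := by
    intro a ha
    have h1 : a ∈ N ⊔ ⁅(P : Subgroup G), (P : Subgroup G)⁆ := hAle ha
    rw [← SetLike.mem_coe, Subgroup.normal_mul] at h1
    obtain ⟨n, hn, h, hh, rfl⟩ := Set.mem_mul.mp h1
    refine ⟨n, hn, h, ⟨?_, hh⟩, rfl⟩
    have : h = n⁻¹ * (n * h) := by group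
    rw [this]
    exact A.mul_mem (A.inv_mem (hNA hn)) ha
  have hNR : N ⊓ R = ⊥ := by
    obtain ⟨k, hk⟩ := P.2.exists_card_eq
    have h1 : N ⊓ (P : Subgroup G) = ⊥ := by
      apply Disjoint.eq_bot
      apply Subgroup.disjoint_of_coprime_natCard
      rw [hk]
      exact Nat.Coprime.pow_right k hNc
    rw [eq_bot_iff, ← h1]
    exact inf_le_inf_left N (hRle.trans (Subgroup.commutator_le_self (P : Subgroup G)))
  have hsum := hC2 P (χ : G → ℂ) χ.2 hdeg R hRle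
  have hker : ∀ n ∈ N, (χ : G → ℂ) n = (χ : G → ℂ) 1 := fun n hn =>
    (mem_kerPP p n).mp (hN hn) χ hdeg
  have hA : ∑ a : A, (χ : G → ℂ) a = (Fintype.card N : ℂ) * ∑ r : R, (χ : G → ℂ) r := by
    rw [sum_mul_decomp N R A hNA hRA hsurj hNR (χ : G → ℂ)]
    have : ∀ n : N, ∑ r : R, (χ : G → ℂ) ((n : G) * (r : G)) = ∑ r : R, (χ : G → ℂ) r := by
      intro n
      apply Finset.sum_congr rfl
      intro r _
      exact char_ker_mul (χ : G → ℂ) (isCharacter_of_irr χ.2) n r (hker n n.2)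
    simp only [this]
    rw [Finset.sum_const, Finset.card_univ, nsmul_eq_mul]
  have hinner : classInner (fun n : A => (χ : G → ℂ) n) (fun _ : A => (1 : ℂ)) ≠ 0 := by
    unfold classInner
    simp only [map_one, mul_one]
    rw [hA]
    have hAc : (Nat.card A : ℂ) ≠ 0 := by exact_mod_cast (Nat.card_pos (α := A)).ne'
    have hNc' : (Fintype.card N : ℂ) ≠ 0 := by exact_mod_cast (Fintype.card_pos (α := N)).ne'
    exact mul_ne_zero (inv_ne_zero hAc) (mul_ne_zero hNc' hsum)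
  exact hTRIV A (χ : G → ℂ) χ.2 hinner x hxA

end Cfsg.Agent.Lib.H6.KPP
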