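import Mathlib
import Cfsg.Agent.Lib.H6.KPPCOREa
import Cfsg.Agent.Lib.H1.KPPC2
import Cfsg.Agent.Lib.H27.KPPTRIV

/-!
# S4591, piece CORE (helper20 blueprint, tools/blueprints/S4591.md): `core_G(N P') ≤ kerPP p`
-/

set_option autoImplicit false

namespace Cfsg.Agent.Lib.H6.KPP

open Cfsg Cfsg.Agent.Lib.L0 Cfsg.Agent.Lib.H23 Cfsg.Agent.Lib.H24 Cfsg.Agent.Lib.H20.KPP

variable {G : Type*} [Group G] [Fintype G] (p : ℕ) [hp : Fact p.Prime]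

/-- CORE = C2 + TRIV. -/
theorem core_le_kerPP (P : Sylow p G) (N : Subgroup G) [N.Normal] (hNc : (Nat.card N).Coprime p)
    (hN : N ≤ kerPP p) :
    (N ⊔ ⁅(P : Subgroup G), (P : Subgroup G)⁆).normalCore ≤ kerPP p :=
  core_le_kerPP_of p
    (fun P χ hχ hd R _ hR => Cfsg.Agent.Lib.H1.KPP.sum_ne_zero_of_le_commutator p P χ hχ hd R hR)
    (fun L _ _ χ hχ h => Cfsg.Agent.Lib.H27.KPP.eq_of_trivial_constituent L χ hχ h) P N hNc hN

end Cfsg.Agent.Lib.H6.KPP
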