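import Mathlib
import Cfsg.Agent.Lib.H24.CharKer
import Cfsg.Agent.Lib.H24.CoprimeAbove
import Cfsg.Agent.Lib.H20.KPPDefs

/-!
# S4591, piece SYLP modulo D1 and RESK (helper20 blueprint, tools/blueprints/S4591.md)

`M ∩ P ≤ P'` for `M = kerPP p`: a linear character `λ` of `P` lies under a `p'`-degree `χ ∈ Irr(G)` (D1);
`x ∈ M ∩ P` is in `ker χ`, so `λ x = 1` (RESK); the linear characters separate `P / P'`.
-/

set_option autoImplicit false
set_option linter.unusedSectionVars false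

namespace Cfsg.Agent.Lib.H6.KPP

open Cfsg Cfsg.Agent.Lib.L0 Cfsg.Agent.Lib.H24 Cfsg.Agent.Lib.H20.KPP
open scoped ComplexConjugate

variable {G : Type*} [Group G] [Fintype G] (p : ℕ) [hp : Fact p.Prime]

/-- SYLP modulo D1 and RESK. -/
theorem kerPP_inf_sylow_le_of
    (hD1 : ∀ (P : Sylow p G) [Fintype ↥(P : Subgroup G)] (lam : ↥(P : Subgroup G) → ℂ),
      IsIrrCharacter ↥(P : Subgroup G) lam → lam 1 = 1 →
      ∃ χ : IrrCharacter G, ¬ p ∣ charDegree (χ : G → ℂ) ∧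
        classInner (fun x : ↥(P : Subgroup G) => (χ : G → ℂ) x) lam ≠ 0)
    (hRESK : ∀ (H : Subgroup G) [Fintype H] (χ : G → ℂ), IsCharacter G χ →
      ∀ (μ : H → ℂ), IsIrrCharacter H μ → classInner (fun x : H => χ x) μ ≠ 0 →
      ∀ x : H, χ x = χ 1 → μ x = μ 1)
    (P : Sylow p G) :
    kerPP p ⊓ (P : Subgroup G) ≤ ⁅(P : Subgroup G), (P : Subgroup G)⁆ := by
  classical
  intro x hx
  obtain ⟨hxM, hxP⟩ := hx
  by_contra hnot
  have hnot' : (⟨x, hxP⟩ : ↥(P : Subgroup G)) ∉ commutator ↥(P : Subgroup G) := by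
    intro h
    apply hnot
    rw [← Subgroup.map_subtype_commutator]
    exact ⟨⟨x, hxP⟩, h, rfl⟩
  obtain ⟨μ, _, hμx⟩ := exists_hom_ne_one_of_not_mem (commutator ↥(P : Subgroup G)) le_rfl hnot'
  have hirr : IsIrrCharacter ↥(P : Subgroup G) (fun g => (μ g : ℂ)) := isIrrCharacter_of_hom μ
  have h1 : (fun g : ↥(P : Subgroup G) => (μ g : ℂ)) 1 = 1 := by
    show ((μ 1 : ℂˣ) : ℂ) = 1
    rw [map_one, Units.val_one]
  obtain ⟨χ, hdeg, hcon⟩ := hD1 P (fun g => (μ g : ℂ)) hirr h1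
  have hχx : (χ : G → ℂ) x = (χ : G → ℂ) 1 := (mem_kerPP p x).mp hxM χ hdeg
  have := hRESK (P : Subgroup G) (χ : G → ℂ) (isCharacter_of_irr χ.2) (fun g => (μ g : ℂ)) hirr hcon
    ⟨x, hxP⟩ hχx
  apply hμx
  apply Units.ext
  have h2 : ((μ ⟨x, hxP⟩ : ℂˣ) : ℂ) = ((μ 1 : ℂˣ) : ℂ) := this
  rw [h2, map_one]

end Cfsg.Agent.Lib.H6.KPP
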