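import Mathlib
import Cfsg.Agent.Lib.H2.KRDEFS
import Cfsg.Agent.Lib.H25.KRC0
import Cfsg.Agent.Lib.H1.KRC4

/-!
# S4651 piece C3 `piv_flip_of_mem` (helper6): the pivot is unchanged by a deletion

Exact signature of `tools/blueprints/S4651_sigs.lean` (section `chains`); on helper25's STRUCT lemmas
(`H25.KRC0`) and helper1's p-group lemma (`H1.KRC4`).
-/

set_option autoImplicit false
set_option linter.unusedSectionVars false

namespace Cfsg.Agent.Lib.H6.KR

open Cfsg Cfsg.Agent.Lib.H2.KR Cfsg.Agent.Lib.H25.KR
open scoped Classical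

section chains

variable {G : Type*} [Group G] [Finite G] {p : ℕ} [Fact p.Prime]

/-- erasing a member containing `u` does not change `low` -/
theorem low_erase_of_mem {s : Finset (Subgroup G)} {u : G} {X : Subgroup G} (hu : u ∈ X) :
    low (s.erase X) u = low s u := by
  unfold low
  congr 1
  ext Q
  simp only [Finset.mem_filter, Finset.mem_erase]
  constructor
  · rintro ⟨⟨-, hQ⟩, hn⟩
    exact ⟨hQ, hn⟩
  · rintro ⟨hQ, hn⟩
    refine ⟨⟨?_, hQ⟩, hn⟩
    rintro rfl
    exact hn hu

/-- `ncl` only depends on the top -/
theorem ncl_eq_of_top_eq {s s' : Finset (Subgroup G)} (u : G) (h : top s' = top s) :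
    ncl s' u = ncl s u := by
  unfold ncl
  rw [h]

/-- (C3 L2b) the pivot is unchanged by a deletion. -/
theorem piv_flip_of_mem {u : G} (hu : ∃ k : ℕ, orderOf u = p ^ k) (hu1 : u ≠ 1)
    {s : Finset (Subgroup G)} (hs : IsUChain p u s) (hX : piv s u ∈ s) :
    piv (s.erase (piv s u)) u = piv s u := by
  set X := piv s u with hXdef
  have hXeq : X = low s u ⊔ ncl s u := rfl
  have hLX : low s u ≤ X := by rw [hXeq]; exact le_sup_left
  have hVX : ncl s u ≤ X := by rw [hXeq]; exact le_sup_right
  have huX : u ∈ X := hVX (mem_ncl s u)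
  have hlow : low (s.erase X) u = low s u := low_erase_of_mem huX
  have hN : IsNChain p s := isNChain_of_mem hs hX
  have hTm : top s ∈ s := top_mem hN
  show low (s.erase X) u ⊔ ncl (s.erase X) u = X
  by_cases hXT : X = top s
  · -- every other member misses `u`
    have hmiss : ∀ Q ∈ s.erase X, u ∉ Q := by
      intro Q hQ huQ
      rw [Finset.mem_erase] at hQ
      apply hQ.1
      apply le_antisymm
      · rw [hXT]
        exact le_top_of_mem hQ.2
      · rw [hXeq]
        exact sup_le (low_le_of_mem hs hQ.2 huQ) (ncl_le_of_mem hs hQ.2 huQ)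
    have htop' : top (s.erase X) = low s u := by
      rw [← hlow]
      unfold top low
      rw [Finset.filter_true_of_mem hmiss]
    have hV'V : ncl (s.erase X) u ≤ ncl s u := by
      unfold ncl
      apply Subgroup.closure_mono
      rintro y ⟨t, ht, rfl⟩
      refine ⟨t, ?_, rfl⟩
      rw [htop'] at ht
      rw [← hXT]
      exact hLX ht
    have hA_le : low (s.erase X) u ⊔ ncl (s.erase X) u ≤ top s := by
      rw [← hXT]
      apply sup_le
      · rw [hlow]
        exact hLX
      · exact le_trans hV'V hVX
    have hA := Cfsg.Agent.Lib.H1.KR.eq_of_forall_normal_eq (isPGroup_top hs) hA_le (by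
      intro N hAN hNT hTN
      apply le_antisymm hNT
      rw [← hXT, hXeq]
      apply sup_le
      · refine le_trans ?_ hAN
        rw [hlow]
        exact le_sup_left
      · have huN : u ∈ N := hAN (Subgroup.mem_sup_right (mem_ncl _ u))
        unfold ncl
        rw [Subgroup.closure_le]
        rintro y ⟨t, ht, rfl⟩
        exact conj_mem_of_mem_normalizer (hTN ht) u huN)
    rw [hA, hXT]
  · have hTm' : top s ∈ s.erase X := Finset.mem_erase.2 ⟨fun h => hXT h.symm, hTm⟩
    have htop' : top (s.erase X) = top s := by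
      apply le_antisymm
      · unfold top
        apply Finset.sup_le
        intro Q hQ
        exact Finset.le_sup (f := id) (Finset.mem_of_mem_erase hQ)
      · exact le_top_of_mem hTm'
    rw [hlow, ncl_eq_of_top_eq u htop']
    exact hXeq.symm

end chains

end Cfsg.Agent.Lib.H6.KR
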