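import Mathlib
import Cfsg.Agent.Lib.H23.ContribP
import Cfsg.Agent.Lib.H22.KCT1

/-!
# S4575 piece TEQ (helper6): the contributions of a subsection vanish outside the induced block

`contrib_eq_zero_of_not_mem`: for `χ ∉ B = b^G`, `contrib p H b z χ ψ = 0` (Brauer's second main theorem,
`Cfsg.Agent.Lib.H23.second_main`).
-/

set_option autoImplicit false

namespace Cfsg.Agent.Lib.H6.KX

open Cfsg MonoidAlgebra Cfsg.Agent.Lib.H23 Cfsg.Agent.Lib.H24 Cfsg.Agent.Lib.L0
  Cfsg.Agent.Lib.H23.Contrib
open scoped ComplexConjugate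

variable {G : Type*} [Group G] [Fintype G] {p : ℕ} [Fact p.Prime] {M : Ideal AlgInt}

/-- (TEQ) the contributions of a subsection vanish outside the induced block. -/
theorem contrib_eq_zero_of_not_mem (hM : IsPModular p M) (H : Subgroup G) [Fintype H]
    {b : Set (IrrCharacter H)} {B : Set (IrrCharacter G)} (hind : IsInducedBlock M H b B) (z : H)
    (hzc : z ∈ Subgroup.center H) (hz : ∃ k : ℕ, orderOf z = p ^ k)
    (hC : ∀ g : G, g * (z : G) * g⁻¹ = (z : G) → g ∈ H) (χ : IrrCharacter G) (hχ : χ ∉ B)
    (ψ : G → ℂ) : contrib p H b z (χ : G → ℂ) ψ = 0 := by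
  have hp : p.Prime := Fact.out
  unfold contrib
  rw [Finset.sum_eq_zero, mul_zero]
  intro s _
  split_ifs with hs
  · rfl
  · have hb : bpart H b (χ : G → ℂ) (z * s) = 0 := by
      unfold bpart
      refine second_main H hM hind (z * s) ?_ χ hχ
      intro x hx
      have h1 : IsPPart p (((z * s : H)) : G) (z : G) := isPPart_central_mul H hzc hz hs
      have h2 : x = (z : G) := IsPPart.unique hp hx h1
      subst h2
      intro g hg
      apply hC g
      have h3 : g * (z : G) = (z : G) * g := by
        have := Subgroup.mem_centralizer_iff.1 hg (z : G) (Set.mem_singleton _)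
        exact this.symm
      rw [h3, mul_assoc, mul_inv_cancel, mul_one]
    rw [hb, zero_mul]

end Cfsg.Agent.Lib.H6.KX
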