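import Cfsg.Agent.Lib.H6.WordPres
import Cfsg.Agent.Lib.H6.TCApply
import Cfsg.Agent.Lib.H6.M11TC.Cert
import Cfsg.Agent.S0418
import Cfsg.Prelude.Def_Sporadic

set_option autoImplicit false
set_option maxRecDepth 100000

/-!
# A presentation of the smallest Mathieu group

The group `⟨a, b | a², b⁴, (ab)¹¹, (ab²)⁶, ababab⁻¹abab²ab⁻¹abab⁻¹ab⁻¹⟩` has at most `7920`
elements by a certified coset enumeration over `⟨ab⟩`, and maps onto a sharply `4`-transitive
group of permutations of `11` points; hence it is simple of order `7920`.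
-/

namespace Cfsg.Agent.Lib.H6.M11Pres

open Cfsg.Agent.Lib.H6.WordPres Cfsg.Agent.Lib.H6.TCApply Cfsg.Agent.Lib.H17.CosetCert

/-- the word `ab` -/
def wt : List ℕ := [0, 2]

/-- the relators (letters `0 ↦ a, 1 ↦ a⁻¹, 2 ↦ b, 3 ↦ b⁻¹`) -/
def W : List (List ℕ) := [
  [0, 0],
  [2, 2, 2, 2],
  (List.replicate 11 wt).flatten,
  [0, 2, 2, 0, 2, 2, 0, 2, 2, 0, 2, 2, 0, 2, 2, 0, 2, 2],
  [0, 2, 0, 2, 0, 3, 0, 2, 0, 2, 2, 0, 3, 0, 2, 0, 3, 0, 3]]

/-- the presented group -/
abbrev G : Type := P 2 W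

theorem W_lt : ∀ w ∈ W, ∀ x ∈ w, x < 2 * 2 := by decide

/-- the element `ab` -/
def t : G := (wt.map (e 2 W)).prod

theorem prod_replicate {K : Type*} [Monoid K] (f : ℕ → K) (w : List ℕ) (m : ℕ) :
    (((List.replicate m w).flatten).map f).prod = ((w.map f).prod) ^ m := by
  induction m with
  | zero => simp
  | succ m ih =>
    rw [List.replicate_succ, List.flatten_cons, List.map_append, List.prod_append, ih, pow_succ']

theorem t_pow : t ^ 11 = 1 := by
  have h := rel_trivial 2 W ((List.replicate 11 wt).flatten) (by simp [W])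
  rw [prod_replicate] at h
  exact h

theorem m11_bound : Bound M11TC.iv 4 M11TC.words 720 := fun _ _ _ _ _ γ hiv q0 hw hgen =>
  M11TC.bound γ hiv q0 hw hgen

theorem iv_eq : ∀ x < 4, M11TC.iv x = iv x := by decide

set_option maxHeartbeats 0 in
theorem m11_words : M11TC.words.toList.all (okWord M11TC.iv 4 W [wt]) = true := by
  decide +kernel

theorem index_le_t : (Subgroup.zpowers t).index ≠ 0 ∧ (Subgroup.zpowers t).index ≤ 720 := by
  refine index_le (e 2 W) (Subgroup.zpowers t) M11TC.iv 4 ?_ W [wt] (rel_trivial 2 W) ?_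
    M11TC.words m11_words (closure_e 2 W) 720 m11_bound
  · intro x hx
    rw [iv_eq x hx]
    exact e_iv 2 W x
  · intro w hw
    rw [List.mem_singleton] at hw
    subst hw
    exact Subgroup.mem_zpowers t

theorem card_le : Finite G ∧ Nat.card G ≤ 7920 :=
  card_le_of_index_zpowers t 11 720 (by norm_num) t_pow index_le_t

instance : Finite G := card_le.1

/-! ## The permutation representation on `11` points -/

/-- the image of `a` -/
def pa : Equiv.Perm (Fin 11) :=
  ⟨![0, 9, 2, 10, 6, 5, 4, 8, 7, 1, 3], ![0, 9, 2, 10, 6, 5, 4, 8, 7, 1, 3], by decide, by decide⟩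

/-- the image of `b` -/
def pb : Equiv.Perm (Fin 11) :=
  ⟨![7, 8, 3, 0, 1, 4, 6, 2, 5, 9, 10], ![3, 4, 7, 2, 5, 8, 6, 0, 1, 9, 10], by decide, by decide⟩

/-- the images of the generators -/
def f (j : ℕ) : Equiv.Perm (Fin 11) := if j = 0 then pa else pb

/-- the permutation of a word -/
def ev (w : List ℕ) : Equiv.Perm (Fin 11) := (w.map (ltv f)).prod

theorem f_rel : ∀ w ∈ W, (w.map (ltv f)).prod = 1 := by decide

/-- the permutation representation -/
noncomputable def θ : G →* Equiv.Perm (Fin 11) := lift 2 W f W_lt f_rel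

theorem θ_prod (w : List ℕ) (hw : ∀ x ∈ w, x < 2 * 2) : θ ((w.map (e 2 W)).prod) = ev w :=
  lift_prod_e 2 W f W_lt f_rel w hw

/-- the image -/
noncomputable def M : Subgroup (Equiv.Perm (Fin 11)) := θ.range

theorem ev_mem (w : List ℕ) (hw : ∀ x ∈ w, x < 2 * 2) : ev w ∈ M := ⟨_, θ_prod w hw⟩

/-- words moving `p` to `k` and fixing the points below `k` -/
def wtab : List (List (List ℕ)) := [
  [[], [3, 0, 2], [2, 2], [2], [3, 0, 2, 2], [3, 0, 3], [3, 0, 2, 2, 0], [3], [3, 0], [3, 0, 2, 0], [2, 0]],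
  [[], [], [0, 2, 0, 3, 0, 3], [0, 3, 0, 3, 0, 2, 0, 2], [0, 2, 0, 2, 0, 3, 0], [0, 2, 2, 0, 2, 2], [0, 2, 0, 2, 0, 3], [0, 2, 2, 0, 3, 0, 2, 0, 3], [0, 2, 0, 2, 0, 2, 0, 2, 2], [0], [0, 3, 0, 3, 0, 2, 0, 2, 0]],
  [[], [], [], [2, 0, 3, 0, 2, 0, 2, 2], [2, 0, 3, 0, 3], [2, 0, 2, 0, 2, 0, 2, 2], [2, 0, 2, 2, 0, 3], [3, 0, 3, 0, 2, 0, 2], [2, 0, 2, 2, 0, 2, 0, 2, 2], [2, 0, 2, 0, 3], [3, 0, 3, 0, 2, 0, 3, 0, 2, 2]],
  [[], [], [], [], [2, 2, 0, 2, 2], [2, 0, 3, 0, 2, 0, 3, 0, 2, 0, 2, 0, 3, 0, 3, 0, 3], [2, 0, 3, 0, 2, 0, 2, 0, 2, 2, 0, 3, 0, 2, 2, 0, 2], [3, 0, 2, 2, 0, 3, 0, 2, 0, 2, 0, 2], [2, 0, 2, 0, 2, 2, 0, 3, 0, 3, 0, 3, 0, 2, 2, 0, 2], [2, 0, 2, 0, 2, 0, 3, 0, 3, 0, 2, 0, 3, 0, 2, 0, 3], [3, 0, 3, 0, 3, 0, 2, 0, 2, 2, 0, 2]]]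

/-- the word for level `k` and point `p` -/
def wd (k : ℕ) (p : Fin 11) : List ℕ := (wtab.getD k []).getD p.1 []

theorem wd_lt : ∀ k < 4, ∀ p : Fin 11, ∀ x ∈ wd k p, x < 2 * 2 := by decide

theorem wd_maps : ∀ k : Fin 4, ∀ p : Fin 11, k.1 ≤ p.1 →
    ev (wd k.1 p) p = ⟨k.1, by omega⟩ ∧ ∀ j : Fin 11, j.1 < k.1 → ev (wd k.1 p) j = j := by
  decide

theorem exists_map_lt (y : Fin 4 ↪ Fin 11) : ∀ k, (hk : k ≤ 4) → ∃ g ∈ M, ∀ i : Fin 4,
    (hi : i.1 < k) → g (y i) = ⟨i.1, by omega⟩ := by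
  intro k
  induction k with
  | zero => intro _; exact ⟨1, one_mem _, fun i hi => absurd hi (by omega)⟩
  | succ k ih =>
    intro hk
    have hk4 : k < 4 := by omega
    obtain ⟨g, hg, hgy⟩ := ih (by omega)
    set ik : Fin 4 := ⟨k, hk4⟩ with hik
    set p : Fin 11 := g (y ik) with hp
    have hkp : k ≤ p.1 := by
      by_contra hlt
      have hlt' : p.1 < k := by omega
      have h1 := hgy ⟨p.1, by omega⟩ hlt'
      have h2 : g (y ⟨p.1, by omega⟩) = g (y ik) := by rw [h1, ← hp]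
      have h3 := y.injective (g.injective h2)
      have h4 : p.1 = k := by
        have := congrArg Fin.val h3
        simpa [hik] using this
      omega
    obtain ⟨hm1, hm2⟩ := wd_maps ⟨k, hk4⟩ p hkp
    refine ⟨ev (wd k p) * g, mul_mem (ev_mem _ (wd_lt k hk4 p)) hg, ?_⟩
    intro i hi
    rw [Equiv.Perm.mul_apply]
    by_cases hik' : i.1 < k
    · rw [hgy i hik']
      exact hm2 _ hik'
    · have hi' : i = ik := Fin.ext (by simp [hik]; omega)
      subst hi'
      rw [← hp]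
      exact hm1

theorem exists_map (y : Fin 4 ↪ Fin 11) : ∃ g ∈ M, ∀ i : Fin 4, g (y i) = ⟨i.1, by omega⟩ := by
  obtain ⟨g, hg, h⟩ := exists_map_lt y 4 le_rfl
  exact ⟨g, hg, fun i => h i i.2⟩

instance trans4 : MulAction.IsMultiplyPretransitive M (Fin 11) 4 := by
  constructor
  intro x y
  obtain ⟨gx, hgx, hx⟩ := exists_map x
  obtain ⟨gy, hgy, hy⟩ := exists_map y
  refine ⟨⟨gy⁻¹ * gx, mul_mem (inv_mem hgy) hgx⟩, ?_⟩
  ext i
  show ((gy⁻¹ * gx) (x i)).1 = (y i).1
  rw [Equiv.Perm.mul_apply, hx i, ← hy i]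
  simp

theorem card_M_le : Nat.card M ≤ 7920 := by
  have h1 : Nat.card θ.range ≤ Nat.card G :=
    Nat.card_le_card_of_surjective θ.rangeRestrict θ.rangeRestrict_surjective
  exact le_trans h1 card_le.2

theorem card_emb : Nat.card (Fin 4 ↪ Fin 11) = 7920 := by
  rw [Nat.card_eq_fintype_card, Fintype.card_embedding_eq]
  decide

theorem stab_card (x : Fin 4 ↪ Fin 11) :
    7920 * Nat.card (MulAction.stabilizer M x) = Nat.card M := by
  have h := (MulAction.stabilizer M x).card_mul_index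
  have hidx : (MulAction.stabilizer M x).index = Nat.card (Fin 4 ↪ Fin 11) :=
    @MulAction.index_stabilizer_of_transitive M _ _ _ x trans4
  rw [hidx, card_emb, mul_comm] at h
  exact h

theorem sharp (x : Fin 4 ↪ Fin 11) : MulAction.stabilizer M x = ⊥ := by
  have h := stab_card x
  have hle := card_M_le
  have hpos : 0 < Nat.card (MulAction.stabilizer M x) := Nat.card_pos
  apply Subgroup.eq_bot_of_card_le
  nlinarith

theorem card_M : Nat.card M = 7920 := by
  have h := stab_card (Function.Embedding.trans (Fin.castLEEmb (by norm_num : 4 ≤ 11)) (Function.Embedding.refl _))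
  rw [sharp, Subgroup.card_bot, mul_one] at h
  exact h.symm

theorem isM11_M : Cfsg.IsM11 M := by
  haveI : MulAction.IsMultiplyPretransitive M (Fin 11) 4 := trans4
  exact Cfsg.Agent.S0418.result (α := Fin 11) (by simp) M sharp

theorem card_eq : Nat.card G = 7920 := by
  apply le_antisymm card_le.2
  have h1 : Nat.card θ.range ≤ Nat.card G :=
    Nat.card_le_card_of_surjective θ.rangeRestrict θ.rangeRestrict_surjective
  have h2 : Nat.card θ.range = 7920 := card_M
  omega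

theorem θ_injective : Function.Injective θ := by
  have hsurj : Function.Surjective θ.rangeRestrict := θ.rangeRestrict_surjective
  have hcard : Nat.card G ≤ Nat.card θ.range := by
    have h2 : Nat.card θ.range = 7920 := card_M
    rw [card_eq, h2]
  have hbij : Function.Bijective θ.rangeRestrict := hsurj.bijective_of_nat_card_le hcard
  intro x y hxy
  apply hbij.1
  exact Subtype.ext hxy

/-- the presented group is isomorphic to the permutation group -/
noncomputable def iso : G ≃* M := MonoidHom.ofInjective θ_injective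

theorem simple_G : IsSimpleGroup G := by
  have := isM11_M.1
  exact iso.isSimpleGroup

theorem isM11 : Cfsg.IsM11 G := ⟨simple_G, card_eq⟩

end Cfsg.Agent.Lib.H6.M11Pres
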