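import Mathlib
import Cfsg.Prelude.Def_Characters
import Cfsg.Prelude.Def_Blocks
import Cfsg.Agent.Lib.H24.CharOrth
import Cfsg.Agent.Lib.H15.M7920F7
import Cfsg.Agent.Lib.H22.M7920F9
import Cfsg.Agent.Lib.H12.M7920F10
/-!
S4429 piece (KILLB) `kill_B` (helper6): pattern (B) of the principal 11-block (degrees 10,10,12,12;5,5) is impossible in a
simple group of order 7920.  Assembly of (F7) `H15.M7920.cent5_of_degree5`, (F9) `H22.M7920.sylow5_data`,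
(F10) `H12.M7920.values5` and the second orthogonality relation at an element of order 5.
-/
set_option autoImplicit false
namespace Cfsg.Agent.Lib.H6.M7920
open Cfsg
open scoped BigOperators ComplexConjugate
universe u

/-- general core: three distinct irreducible characters with integer values `1, B₁, B₂` at `y`, `B_i^2 ≥ 4`,
contradict `|C(y)| = 5`. -/
theorem false_of_values {G : Type u} [Group G] [Fintype G] (y : G)
    (hc : Nat.card (Subgroup.centralizer ({y} : Set G)) = 5)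
    (ψ₁ ψ₂ : IrrCharacter G) (hne : ψ₁ ≠ ψ₂)
    (h1 : (ψ₁ : G → ℂ) 1 ≠ 1) (h2 : (ψ₂ : G → ℂ) 1 ≠ 1)
    (B₁ B₂ : ℤ) (hB₁ : (ψ₁ : G → ℂ) y = (B₁ : ℂ)) (hB₂ : (ψ₂ : G → ℂ) y = (B₂ : ℂ))
    (hs₁ : 4 ≤ B₁ ^ 2) (hs₂ : 4 ≤ B₂ ^ 2) : False := by
  classical
  have : Fintype (IrrCharacter G) := Fintype.ofFinite _
  have hso := Cfsg.Agent.Lib.H24.second_orthogonality (G := G) y y
  rw [if_pos (IsConj.refl y), hc] at hso
  -- turn into a real statement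
  have hterm : ∀ χ : IrrCharacter G, (χ : G → ℂ) y * conj ((χ : G → ℂ) y) =
      ((Complex.normSq ((χ : G → ℂ) y) : ℝ) : ℂ) := fun χ => Complex.mul_conj _
  simp only [hterm] at hso
  have hreal : ∑ χ : IrrCharacter G, Complex.normSq ((χ : G → ℂ) y) = 5 := by
    have : ((∑ χ : IrrCharacter G, Complex.normSq ((χ : G → ℂ) y) : ℝ) : ℂ) = ((5 : ℝ) : ℂ) := by
      push_cast
      exact hso
    exact Complex.ofReal_injective this
  set T := Cfsg.Agent.Lib.H24.trivialIrr G with hT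
  have hT1 : T ≠ ψ₁ := by
    intro h
    apply h1
    rw [← h]
    rfl
  have hT2 : T ≠ ψ₂ := by
    intro h
    apply h2
    rw [← h]
    rfl
  have hsub : ∑ χ ∈ ({T, ψ₁, ψ₂} : Finset (IrrCharacter G)), Complex.normSq ((χ : G → ℂ) y) ≤
      ∑ χ : IrrCharacter G, Complex.normSq ((χ : G → ℂ) y) :=
    Finset.sum_le_univ_sum_of_nonneg (fun χ => Complex.normSq_nonneg _)
  rw [Finset.sum_insert (by simp [hT1, hT2]), Finset.sum_insert (by simp [hne]), Finset.sum_singleton,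
    hreal, hB₁, hB₂] at hsub
  have hTy : (T : G → ℂ) y = 1 := rfl
  rw [hTy, Complex.normSq_one] at hsub
  have e1 : Complex.normSq ((B₁ : ℂ)) = ((B₁ ^ 2 : ℤ) : ℝ) := by
    rw [← Complex.ofReal_intCast, Complex.normSq_ofReal]; push_cast; ring
  have e2 : Complex.normSq ((B₂ : ℂ)) = ((B₂ ^ 2 : ℤ) : ℝ) := by
    rw [← Complex.ofReal_intCast, Complex.normSq_ofReal]; push_cast; ring
  rw [e1, e2] at hsub
  have h1' : (4 : ℝ) ≤ ((B₁ ^ 2 : ℤ) : ℝ) := by exact_mod_cast hs₁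
  have h2' : (4 : ℝ) ≤ ((B₂ ^ 2 : ℤ) : ℝ) := by exact_mod_cast hs₂
  linarith

theorem sq_ge_four_of_twelve (B : ℤ) (c : ℕ) (h : (12 : ℤ) = B + 5 * c) : 4 ≤ B ^ 2 := by
  have hB : B = 12 - 5 * (c : ℤ) := by linarith
  rcases le_or_gt (c : ℤ) 2 with hc | hc
  · have : 2 ≤ B := by omega
    nlinarith
  · have : B ≤ -3 := by omega
    nlinarith

theorem kill_B {G : Type u} [Group G] [Fintype G] [IsSimpleGroup G] (hG : Nat.card G = 7920)
    (χ₁ ψ₁ ψ₂ : IrrCharacter G) (h5 : (χ₁ : G → ℂ) 1 = 5) (hne : ψ₁ ≠ ψ₂)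
    (h12 : (ψ₁ : G → ℂ) 1 = 12) (h12' : (ψ₂ : G → ℂ) 1 = 12) : False := by
  classical
  have : Fact (Nat.Prime 5) := ⟨by norm_num⟩
  obtain ⟨y, hy⟩ := exists_prime_orderOf_dvd_card' (G := G) 5 (by rw [hG]; norm_num)
  have hc := Cfsg.Agent.Lib.H15.M7920.cent5_of_degree5 hG χ₁ h5 y hy
  obtain ⟨-, hconj⟩ := Cfsg.Agent.Lib.H22.M7920.sylow5_data hG y hy (by rw [hc]; norm_num)
  obtain ⟨B₁, c₁, hB₁, hd₁⟩ := Cfsg.Agent.Lib.H12.M7920.values5 ψ₁ y hy hconj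
  obtain ⟨B₂, c₂, hB₂, hd₂⟩ := Cfsg.Agent.Lib.H12.M7920.values5 ψ₂ y hy hconj
  have k₁ : (12 : ℤ) = B₁ + 5 * c₁ := by
    rw [h12] at hd₁
    have : ((12 : ℤ) : ℂ) = ((B₁ + 5 * c₁ : ℤ) : ℂ) := by push_cast; exact hd₁
    exact_mod_cast this
  have k₂ : (12 : ℤ) = B₂ + 5 * c₂ := by
    rw [h12'] at hd₂
    have : ((12 : ℤ) : ℂ) = ((B₂ + 5 * c₂ : ℤ) : ℂ) := by push_cast; exact hd₂
    exact_mod_cast this
  exact false_of_values y hc ψ₁ ψ₂ hne (by rw [h12]; norm_num) (by rw [h12']; norm_num) B₁ B₂ hB₁ hB₂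
    (sq_ge_four_of_twelve B₁ c₁ k₁) (sq_ge_four_of_twelve B₂ c₂ k₂)

end Cfsg.Agent.Lib.H6.M7920
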