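import Mathlib
import Cfsg.Prelude.Def_Blocks
import Cfsg.Prelude.Def_CharExt
import Cfsg.Agent.Lib.H21.AD.Defs
import Cfsg.Agent.Lib.H28.NT.Defs
import Cfsg.Agent.Lib.L0.GlueExt

/-!
# S4892, piece GLUE (helper6): abstract gluing of canonical extensions over the subgroups `E ⊔ N`, `E` nilpotent

Port of `H23.ExtGeneral` (`exists_candidate` … `exists_extension_of_det`) to an abstract predicate `Good` on
functions `G → ℂ`; existence is only needed on `E ⊔ N` with `E` nilpotent (cyclic and elementary subgroups).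
-/

set_option autoImplicit false

open Cfsg.Agent.Lib.H21.AD Cfsg.Agent.Lib.H28.NT

namespace Cfsg.Agent.Lib.H6.NT

open Cfsg.Agent.Lib.L0 Cfsg.Agent.Lib.H24 Cfsg.Agent.Lib.H8 Cfsg.Agent.Lib.H23
open scoped ComplexConjugate

variable {G : Type*} [Group G] [Finite G]

/-- (GLUE) abstract gluing -/
theorem glue (N : Subgroup G) [N.Normal] (θ : G → ℂ)
    (hθ : Cfsg.IsIrrCharacter N (fun n : N => θ n))
    (Good : Subgroup G → (G → ℂ) → Prop)
    (hext : ∀ (H : Subgroup G) (f : G → ℂ), N ≤ H → Good H f → IsExt N θ H f)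
    (huniq : ∀ (H : Subgroup G) (f₁ f₂ : G → ℂ), N ≤ H → Good H f₁ → Good H f₂ → ∀ g ∈ H, f₁ g = f₂ g)
    (hex : ∀ E : Subgroup G, Group.IsNilpotent E → ∃ f : G → ℂ, Good (E ⊔ N) f)
    (hres : ∀ (K H : Subgroup G) (f : G → ℂ), N ≤ K → K ≤ H → Good H f → Good K f)
    (hconj : ∀ (H : Subgroup G) (f : G → ℂ) (t : G), N ≤ H → Good H f →
      Good (H.map (MulAut.conj t).toMonoidHom) (fun x => f (t⁻¹ * x * t))) :
    ∃ χ : G → ℂ, Cfsg.IsIrrCharacter G χ ∧ (∀ n ∈ N, χ n = θ n) ∧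
      ∀ (H : Subgroup G) (f : G → ℂ), N ≤ H → Good H f → ∀ g ∈ H, χ g = f g := by
  classical
  have := Fintype.ofFinite G
  have := Fintype.ofFinite N
  have hznil : ∀ g : G, Group.IsNilpotent (Subgroup.zpowers g) := by
    intro g
    let _ : CommGroup (Subgroup.zpowers g) := IsCyclic.commGroup
    infer_instance
  have hexg : ∀ g : G, ∃ f : G → ℂ, Good (Subgroup.zpowers g ⊔ N) f :=
    fun g => hex _ (hznil g)
  choose F hF using hexg
  have hgmem : ∀ g : G, g ∈ Subgroup.zpowers g ⊔ N :=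
    fun g => le_sup_left (a := Subgroup.zpowers g) (Subgroup.mem_zpowers g)
  have hNle : ∀ K : Subgroup G, N ≤ K ⊔ N := fun K => le_sup_right
  -- the candidate
  obtain ⟨χ, hχdef⟩ : ∃ χ : G → ℂ, ∀ g, χ g = F g g := ⟨fun g => F g g, fun _ => rfl⟩
  have hχ : ∀ (H : Subgroup G) (f : G → ℂ), N ≤ H → Good H f → ∀ g ∈ H, χ g = f g := by
    intro H f hNH hf g hg
    have hle : Subgroup.zpowers g ⊔ N ≤ H := sup_le ((Subgroup.zpowers_le).mpr hg) hNH
    have h1 := hres _ _ f (hNle _) hle hf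
    rw [hχdef]
    exact huniq _ _ _ (hNle _) (hF g) h1 g (hgmem g)
  -- class function
  have hcf : Cfsg.IsClassFunction G χ := by
    intro g x
    have h2 := hconj _ _ x (hNle _) (hF g)
    have hmem : x * g * x⁻¹ ∈ (Subgroup.zpowers g ⊔ N).map (MulAut.conj x).toMonoidHom :=
      ⟨g, hgmem g, rfl⟩
    have hle : N ≤ (Subgroup.zpowers g ⊔ N).map (MulAut.conj x).toMonoidHom :=
      le_map_conj_of_normal x (hNle _)
    rw [hχ _ _ hle h2 _ hmem, hχdef]
    congr 1
    group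
  -- restriction to `N`
  have hresN : ∀ n ∈ N, χ n = θ n := by
    intro n hn
    rw [hχdef]
    exact (hext _ _ (hNle _) (hF n)).2 n hn
  -- elementary subgroups
  have hel : ∀ (E : Subgroup G) (p : ℕ), p.Prime → Cfsg.IsElementary p E →
      Cfsg.IsGeneralizedCharacter E (fun e : E => χ e) := by
    intro E p hp hE
    have hnil : Group.IsNilpotent E := isNilpotent_of_isElementary hp hE
    obtain ⟨f, hf⟩ := hex E hnil
    apply isGeneralizedCharacter_of_isCharacter
    have h1 : (fun e : E => χ e) = (fun y : (E ⊔ N : Subgroup G) => f y) ∘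
        (Subgroup.inclusion (le_sup_left : E ≤ E ⊔ N)) := by
      funext e
      rw [hχ _ _ (hNle _) hf (e : G) (le_sup_left (a := E) e.2)]
      rfl
    rw [h1]
    exact isCharacter_comp _ (isCharacter_of_irr (hext _ _ (hNle _) hf).1)
  have hgen : Cfsg.IsGeneralizedCharacter G χ := brauer_characterization hcf hel
  -- norm one
  have hcoset : ∀ g : G, ∑ n : N, χ (n * g) * conj (χ (n * g)) = (Nat.card N : ℂ) := by
    intro g
    have hE := hext _ _ (hNle _) (hF g)
    rw [← Cfsg.Agent.Lib.L0.GlueExt.IsGlueFamily.ext_coset_sum (ϑ := fun n : N => θ n) hθ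
      (hNle (Subgroup.zpowers g)) hE.1 (fun n => hE.2 n n.2) g (hgmem g)]
    refine Finset.sum_congr rfl fun n _ => ?_
    rw [hχ _ _ (hNle _) (hF g) (n * g)
      ((Subgroup.zpowers g ⊔ N).mul_mem (hNle (Subgroup.zpowers g) n.2) (hgmem g))]
  have hnorm : Cfsg.classInner χ χ = 1 := by
    have hshift : ∀ n : N, ∑ g : G, χ (n * g) * conj (χ (n * g)) = ∑ g : G, χ g * conj (χ g) := by
      intro n
      exact Fintype.sum_equiv (Equiv.mulLeft (n : G)) _ _ (fun g => rfl)
    have hNne : (Nat.card N : ℂ) ≠ 0 := Nat.cast_ne_zero.mpr (Nat.card_pos (α := N)).ne'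
    have hGne : (Nat.card G : ℂ) ≠ 0 := Nat.cast_ne_zero.mpr (Nat.card_pos (α := G)).ne'
    have h1 : (Nat.card N : ℂ) * ∑ g : G, χ g * conj (χ g) =
        (Nat.card N : ℂ) * (Nat.card G : ℂ) := by
      have h2 : ∑ n : N, ∑ g : G, χ (n * g) * conj (χ (n * g)) =
          (Nat.card N : ℂ) * ∑ g : G, χ g * conj (χ g) := by
        rw [Finset.sum_congr rfl (fun n _ => hshift n), Finset.sum_const, Finset.card_univ,
          nsmul_eq_mul, Nat.card_eq_fintype_card]
      rw [← h2, Finset.sum_comm, Finset.sum_congr rfl (fun g _ => hcoset g), Finset.sum_const,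
        Finset.card_univ, nsmul_eq_mul, Nat.card_eq_fintype_card (α := G), mul_comm]
    have h3 : ∑ g : G, χ g * conj (χ g) = (Nat.card G : ℂ) := mul_left_cancel₀ hNne h1
    unfold Cfsg.classInner
    rw [h3, inv_mul_cancel₀ hGne]
  rcases genChar_norm_one hgen hnorm with h | h
  · exact ⟨χ, h, hresN, hχ⟩
  · exfalso
    obtain ⟨m, hm, hm1⟩ := Cfsg.Agent.Lib.H24.irr_one_eq ⟨-χ, h⟩
    obtain ⟨d, hd0, hd⟩ := Cfsg.Agent.Lib.H24.irr_one_eq ⟨fun n : N => θ n, hθ⟩
    have hd' : θ 1 = d := hd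
    have h1 : χ 1 = d := by
      rw [← hd', ← hresN 1 N.one_mem]
    simp only [Pi.neg_apply] at hm1
    rw [h1] at hm1
    have h2 : ((d + m : ℕ) : ℂ) = 0 := by
      push_cast
      rw [← hm1]
      ring
    have h3 : d + m = 0 := by exact_mod_cast h2
    omega

end Cfsg.Agent.Lib.H6.NT
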