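import Mathlib
import Cfsg.Prelude.Def_Blocks
import Cfsg.Prelude.Def_CharExt
import Cfsg.Agent.Lib.H21.AD.Defs
import Cfsg.Agent.Lib.H28.NT.Defs
import Cfsg.Agent.Lib.H23.CharGalois
import Cfsg.Agent.Lib.H6.FVBRIDGE

/-!
# S4892, piece PRAT (helper6): a character fixed by the power maps `k ≡ 1 (mod n)` has values in `ℚ(ζ_n)`

Galois correspondence in `ℚ(ζ_{|X| n}) / ℚ(ζ_n)`.
-/

set_option autoImplicit false

open Cfsg.Agent.Lib.H21.AD Cfsg.Agent.Lib.H28.NT

namespace Cfsg.Agent.Lib.H6.NT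

open Cfsg.Agent.Lib.H23 Cfsg.Agent.Lib.H6.FV

/-- (PRAT) converse of RATPOW (Galois correspondence in `ℚ(ζ_{|X|·n}) / ℚ(ζ_n)`) -/
theorem rational_of_pow_fixed {X : Type*} [Group X] [Finite X] (φ : X → ℂ) (hφ : Cfsg.IsCharacter X φ) (n : ℕ)
    (hn : 0 < n)
    (hfix : ∀ k : ℕ, k.Coprime (Nat.card X * n) → k ≡ 1 [MOD n] → ∀ x : X, φ (x ^ k) = φ x) :
    ∀ x : X, φ x ∈ IntermediateField.adjoin ℚ ({Complex.exp (2 * Real.pi * Complex.I / n)} : Set ℂ) := by
  classical
  intro x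
  obtain ⟨d, ρ, hρ⟩ := hφ
  have hX : 0 < Nat.card X := Nat.card_pos
  have hm0 : Nat.card X * n ≠ 0 := (Nat.mul_pos hX hn).ne'
  have : NeZero (Nat.card X * n) := ⟨hm0⟩
  have hxm : x ^ (Nat.card X * n) = 1 := by rw [pow_mul, pow_card_eq_one', one_pow]
  obtain ⟨y, hy⟩ := exists_cyc_char (Nat.card X * n) ρ x hxm
  rw [hρ] at hy
  -- the identity automorphism
  have hy1 : cycEmb (Nat.card X * n) y = φ x := by
    have h1 := hy 1
    rw [AlgEquiv.one_apply] at h1
    rw [h1]
    have hk : cycPow (Nat.card X * n) (1 : Gal(CyclotomicField (Nat.card X * n) ℚ/ℚ)) = 1 := by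
      simp [cycPow]
    rw [hk, pow_val_one_eq _ x hxm]
  -- the primitive `n`-th root of unity inside the cyclotomic field
  have hζ := IsCyclotomicExtension.zeta_spec (Nat.card X * n) ℚ (CyclotomicField (Nat.card X * n) ℚ)
  set ζ := IsCyclotomicExtension.zeta (Nat.card X * n) ℚ (CyclotomicField (Nat.card X * n) ℚ) with hζdef
  set w : CyclotomicField (Nat.card X * n) ℚ := ζ ^ (Nat.card X) with hw
  have hwprim : IsPrimitiveRoot w n := hζ.pow (Nat.mul_pos hX hn) rfl
  have hwm : w ^ (Nat.card X * n) = 1 := by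
    rw [pow_mul', hwprim.pow_eq_one, one_pow]
  -- every automorphism fixing `w` fixes `y`
  have hfixy : ∀ σ : Gal(CyclotomicField (Nat.card X * n) ℚ/ℚ), σ w = w → σ y = y := by
    intro σ hσ
    apply cycEmb_injective (Nat.card X * n)
    rw [hy σ, hy1]
    apply hfix
    · exact ZMod.val_coe_unit_coprime (cycGalEquiv (Nat.card X * n) σ)
    · have h1 := cycAut_pow (Nat.card X * n) σ w hwm
      rw [hσ] at h1
      have hw0 : w ≠ 0 := hwprim.ne_zero hn.ne'
      have h3 : w ^ (((cycPow (Nat.card X * n) σ).val : ℤ) - 1) = 1 := by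
        rw [zpow_sub₀ hw0, zpow_natCast, zpow_one, ← h1]
        exact div_self hw0
      have h4 := (hwprim.zpow_eq_one_iff_dvd _).mp h3
      exact ((Nat.modEq_iff_dvd).mpr h4).symm
  have hmem : y ∈ IntermediateField.adjoin ℚ ({w} : Set (CyclotomicField (Nat.card X * n) ℚ)) := by
    rw [← IsGalois.fixedField_fixingSubgroup (IntermediateField.adjoin ℚ
      ({w} : Set (CyclotomicField (Nat.card X * n) ℚ))), IntermediateField.mem_fixedField_iff]
    intro σ hσ
    rw [fv_mem_fixingSubgroup_adjoin] at hσ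
    exact hfixy σ (hσ w rfl)
  -- transport to `ℂ`
  have hmem2 : φ x ∈ (IntermediateField.adjoin ℚ
      ({w} : Set (CyclotomicField (Nat.card X * n) ℚ))).map (cycEmb (Nat.card X * n)) := by
    rw [← hy1]
    exact ⟨y, hmem, rfl⟩
  rw [IntermediateField.adjoin_map, Set.image_singleton] at hmem2
  -- `cycEmb w` is a power of `exp (2 π i / n)`
  have hwC : IsPrimitiveRoot (cycEmb (Nat.card X * n) w) n :=
    hwprim.map_of_injective (cycEmb_injective _)
  have : NeZero n := ⟨hn.ne'⟩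
  have hexp := Complex.isPrimitiveRoot_exp n hn.ne'
  obtain ⟨j, -, hj⟩ := hexp.eq_pow_of_pow_eq_one hwC.pow_eq_one
  have hle : IntermediateField.adjoin ℚ ({cycEmb (Nat.card X * n) w} : Set ℂ) ≤
      IntermediateField.adjoin ℚ ({Complex.exp (2 * Real.pi * Complex.I / n)} : Set ℂ) := by
    rw [IntermediateField.adjoin_le_iff, Set.singleton_subset_iff, SetLike.mem_coe, ← hj]
    exact pow_mem (IntermediateField.mem_adjoin_simple_self ℚ _) j
  exact hle hmem2

end Cfsg.Agent.Lib.H6.NT
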