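import Mathlib

/-! Counting lemma: a nilpotent endomorphism `N` with `N^3 = 0` on a finite abelian group `W`
satisfies `|W| ≤ |ker N|^3`.  Application: an automorphism of order dividing 3 of an elementary
abelian 3-group of order 81 fixes at least 9 points. -/

namespace Cfsg.Agent.Lib.H6.NilpCount

@[to_additive add_card_ker_comp_le]
theorem card_ker_comp_le {G H K : Type*} [Group G] [Group H] [Group K] [Finite G] [Finite H]
    (f : G →* H) (g : H →* K) :
    Nat.card (g.comp f).ker ≤ Nat.card f.ker * Nat.card g.ker := by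
  set S := (g.comp f).ker with hS
  have hle : f.ker ≤ S := by
    intro x hx
    rw [MonoidHom.mem_ker] at hx
    rw [hS, MonoidHom.mem_ker, MonoidHom.comp_apply, hx, map_one]
  have h1 : Nat.card S = Nat.card (f.subgroupMap S).ker * Nat.card (f.subgroupMap S).range := by
    rw [← Subgroup.index_ker, mul_comm, Subgroup.index_mul_card]
  have h2 : Nat.card (f.subgroupMap S).ker = Nat.card f.ker := by
    rw [Subgroup.ker_subgroupMap]
    exact Nat.card_congr (Subgroup.subgroupOfEquivOfLe hle).toEquiv
  have h3 : Nat.card (f.subgroupMap S).range ≤ Nat.card g.ker := by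
    have hsurj : (f.subgroupMap S).range = ⊤ :=
      MonoidHom.range_eq_top.mpr (f.subgroupMap_surjective S)
    rw [hsurj, Subgroup.card_top]
    apply Subgroup.card_le_of_le
    rintro _ ⟨x, hx, rfl⟩
    rw [MonoidHom.mem_ker]
    exact hx
  rw [h1, h2]
  exact Nat.mul_le_mul_left _ h3

theorem add_card_le_ker_pow_three {W : Type*} [AddGroup W] [Finite W] (N : W →+ W)
    (hN : ∀ v, N (N (N v)) = 0) : Nat.card W ≤ Nat.card N.ker ^ 3 := by
  have h3 : (N.comp (N.comp N)).ker = ⊤ := by
    ext v
    simp [AddMonoidHom.mem_ker, hN]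
  have h1 := add_card_ker_comp_le (N.comp N) N
  have h2 := add_card_ker_comp_le N N
  calc Nat.card W = Nat.card (⊤ : AddSubgroup W) := by simp
    _ = Nat.card (N.comp (N.comp N)).ker := by rw [h3]
    _ ≤ Nat.card (N.comp N).ker * Nat.card N.ker := h1
    _ ≤ (Nat.card N.ker * Nat.card N.ker) * Nat.card N.ker := Nat.mul_le_mul_right _ h2
    _ = _ := by ring

theorem add_card_le_fixed {W : Type*} [AddCommGroup W] [Finite W] (hexp : ∀ x : W, 3 • x = 0)
    (φ : W →+ W) (hφ : ∀ x, φ (φ (φ x)) = x) :
    Nat.card W ≤ Nat.card (φ - AddMonoidHom.id W).ker ^ 3 := by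
  apply add_card_le_ker_pow_three
  intro v
  simp only [AddMonoidHom.sub_apply, AddMonoidHom.id_apply, map_sub, hφ]
  have e1 := hexp (φ (φ v))
  have e2 := hexp (φ v)
  have : v - φ (φ v) - (φ (φ v) - φ v) - (φ (φ v) - φ v - (φ v - v))
      = 3 • φ v - 3 • φ (φ v) := by abel
  rw [this, e1, e2, sub_zero]

/-- A normal elementary abelian 3-subgroup `V` of order 81, and `a` with `a^3 = 1`:
then `|C_V(a)| ≥ 9`. -/
theorem nine_le_card_fixed {P : Type*} [Group P] [Finite P] (V : Subgroup P) [V.Normal]
    (hcomm : ∀ x ∈ V, ∀ y ∈ V, x * y = y * x) (hexp : ∀ x ∈ V, x ^ 3 = 1)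
    (hcard : Nat.card V = 81) (a : P) (ha : a ^ 3 = 1) :
    9 ≤ Nat.card (V ⊓ Subgroup.centralizer {a} : Subgroup P) := by
  have : IsMulCommutative V := ⟨⟨fun x y => Subtype.ext (hcomm x x.2 y y.2)⟩⟩
  let _ : CommGroup V := { (inferInstance : Group V) with
    mul_comm := fun x y => Subtype.ext (hcomm x x.2 y y.2) }
  let φ : Additive V →+ Additive V := ((MulAut.conjNormal a : MulAut V).toMonoidHom).toAdditive
  have hφ : ∀ x, φ (φ (φ x)) = x := by
    intro x
    induction x using Additive.rec with
    | _ x =>
      change Additive.ofMul ((MulAut.conjNormal a : MulAut V) ((MulAut.conjNormal a : MulAut V)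
        ((MulAut.conjNormal a : MulAut V) x))) = Additive.ofMul x
      congr 1
      apply Subtype.ext
      simp only [MulAut.conjNormal_apply]
      have : a * (a * (a * (x : P) * a⁻¹) * a⁻¹) * a⁻¹ = a ^ 3 * x * (a ^ 3)⁻¹ := by
        simp only [pow_succ, pow_zero, one_mul, mul_inv_rev, mul_assoc]
      rw [this, ha, inv_one, one_mul, mul_one]
  have hexp' : ∀ x : Additive V, 3 • x = 0 := by
    intro x
    induction x using Additive.rec with
    | _ x =>
      change Additive.ofMul (x ^ 3) = Additive.ofMul 1
      congr 1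
      apply Subtype.ext
      simpa using hexp x x.2
  have key := add_card_le_fixed hexp' φ hφ
  have hW : Nat.card (Additive V) = 81 := by
    rw [← hcard]; exact Nat.card_congr Additive.toMul
  -- identify the kernel with V ⊓ C(a)
  have hker : Nat.card (φ - AddMonoidHom.id (Additive V)).ker
      = Nat.card (V ⊓ Subgroup.centralizer {a} : Subgroup P) := by
    apply Nat.card_congr
    refine
      { toFun := fun x => ⟨((Additive.toMul x.1 : V) : P), ?_⟩
        invFun := fun y => ⟨Additive.ofMul ⟨y.1, y.2.1⟩, ?_⟩
        left_inv := fun x => by ext; rfl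
        right_inv := fun y => by ext; rfl }
    · obtain ⟨x, hx⟩ := x
      induction x using Additive.rec with
      | _ x =>
        refine ⟨x.2, ?_⟩
        rw [AddMonoidHom.mem_ker, AddMonoidHom.sub_apply, sub_eq_zero] at hx
        have hx' : (MulAut.conjNormal a : MulAut V) x = x := by
          have := congrArg Additive.toMul hx
          simpa [φ] using this
        have hx'' := congrArg (Subtype.val) hx'
        rw [MulAut.conjNormal_apply] at hx''
        change (x : P) ∈ Subgroup.centralizer {a}
        rw [Subgroup.mem_centralizer_iff]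
        intro b hb
        rw [Set.mem_singleton_iff] at hb
        subst hb
        calc b * x.1 = b * x.1 * b⁻¹ * b := by group
          _ = x.1 * b := by rw [hx'']
    · rw [AddMonoidHom.mem_ker, AddMonoidHom.sub_apply, sub_eq_zero]
      have hy : (y : P) ∈ Subgroup.centralizer {a} := y.2.2
      rw [Subgroup.mem_centralizer_iff] at hy
      have h1 := hy a rfl
      change Additive.ofMul ((MulAut.conjNormal a : MulAut V) ⟨y.1, y.2.1⟩) = Additive.ofMul _
      congr 1
      apply Subtype.ext
      rw [MulAut.conjNormal_apply]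
      change a * y.1 * a⁻¹ = y.1
      rw [h1, mul_inv_cancel_right]
  rw [hW, hker] at key
  have hd : Nat.card (V ⊓ Subgroup.centralizer {a} : Subgroup P) ∣ 81 := by
    rw [← hcard]; exact Subgroup.card_dvd_of_le inf_le_left
  by_contra hlt
  rw [not_le] at hlt
  generalize Nat.card (V ⊓ Subgroup.centralizer {a} : Subgroup P) = c at *
  interval_cases c <;> omega

end Cfsg.Agent.Lib.H6.NilpCount
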