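import Mathlib
import Cfsg.Prelude.Def_Characters

/-!
S0980 piece (E3) `arith_three` (helper6), exact signature of `tools/blueprints/S0980_sigs.lean`.
-/

set_option autoImplicit false

namespace Cfsg.Agent.Lib.H6.O5760

open scoped BigOperators

universe u

/-- the quadratic form `f` is nonnegative -/
theorem ff_nonneg (A m : ℤ) : 0 ≤ 2 * A ^ 2 - 2 * A * m + 3 * m ^ 2 := by
  nlinarith [sq_nonneg (A - m), sq_nonneg A, sq_nonneg m]

/-- classification of the points with `f ≤ 8` -/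
theorem classify (A m : ℤ) (h : 2 * A ^ 2 - 2 * A * m + 3 * m ^ 2 ≤ 8) :
    (A = 0 ∧ m = 0) ∨ ((A = 1 ∧ m = 0) ∨ (A = -1 ∧ m = 0)) ∨
    ((A = 0 ∧ m = 1) ∨ (A = 0 ∧ m = -1) ∨ (A = 1 ∧ m = 1) ∨ (A = -1 ∧ m = -1)) ∨
    ((A = 2 ∧ m = 1) ∨ (A = -1 ∧ m = 1) ∨ (A = 1 ∧ m = -1) ∨ (A = -2 ∧ m = -1)) ∨
    ((A = 2 ∧ m = 0) ∨ (A = -2 ∧ m = 0)) := by
  have hm1 : -2 ≤ m := by nlinarith [sq_nonneg (A - m), sq_nonneg A, sq_nonneg m]
  have hm2 : m ≤ 2 := by nlinarith [sq_nonneg (A - m), sq_nonneg A, sq_nonneg m]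
  have hA1 : -2 ≤ A := by nlinarith [sq_nonneg (A - m), sq_nonneg A, sq_nonneg m]
  have hA2 : A ≤ 2 := by nlinarith [sq_nonneg (A - m), sq_nonneg A, sq_nonneg m]
  interval_cases m <;> interval_cases A <;> omega

/-- (E3) -/
theorem arith_three {ι : Type u} [Fintype ι] [DecidableEq ι] (A m : ι → ℤ) (i₁ : ι) (hA1 : A i₁ = 1) (hm1 : m i₁ = 0)
    (hf : ∑ i, (2 * A i ^ 2 - 2 * A i * m i + 3 * m i ^ 2) = 10)
    (hN : ∑ i, (A i ^ 2 - A i * m i - m i ^ 2) = 0) :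
    ∃ i₀ j₁ j₂ : ι, i₀ ≠ i₁ ∧ j₁ ≠ i₁ ∧ j₂ ≠ i₁ ∧ i₀ ≠ j₁ ∧ i₀ ≠ j₂ ∧ j₁ ≠ j₂ ∧
      ((A i₀ = 1 ∧ m i₀ = 0) ∨ (A i₀ = -1 ∧ m i₀ = 0)) ∧
      ((A j₁ = 0 ∧ m j₁ = 1) ∨ (A j₁ = 0 ∧ m j₁ = -1) ∨ (A j₁ = 1 ∧ m j₁ = 1) ∨ (A j₁ = -1 ∧ m j₁ = -1)) ∧
      ((A j₂ = 0 ∧ m j₂ = 1) ∨ (A j₂ = 0 ∧ m j₂ = -1) ∨ (A j₂ = 1 ∧ m j₂ = 1) ∨ (A j₂ = -1 ∧ m j₂ = -1)) ∧
      ∀ i, i ≠ i₁ → i ≠ i₀ → i ≠ j₁ → i ≠ j₂ → A i = 0 ∧ m i = 0 := by
  classical
  set f : ι → ℤ := fun i => 2 * A i ^ 2 - 2 * A i * m i + 3 * m i ^ 2 with hfdef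
  set N : ι → ℤ := fun i => A i ^ 2 - A i * m i - m i ^ 2 with hNdef
  set T : Finset ι := Finset.univ.erase i₁ with hT
  have hfnn : ∀ i, 0 ≤ f i := fun i => ff_nonneg (A i) (m i)
  have hfi1 : f i₁ = 2 := by simp [hfdef, hA1, hm1]
  have hNi1 : N i₁ = 1 := by simp [hNdef, hA1, hm1]
  have hfT : ∑ i ∈ T, f i = 8 := by
    have := Finset.add_sum_erase Finset.univ f (Finset.mem_univ i₁)
    rw [hf, hfi1] at this
    linarith
  have hNT : ∑ i ∈ T, N i = -1 := by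
    have := Finset.add_sum_erase Finset.univ N (Finset.mem_univ i₁)
    rw [hN, hNi1] at this
    linarith
  -- every term is at most 8
  have hle : ∀ i ∈ T, f i ≤ 8 := by
    intro i hi
    have := Finset.single_le_sum (f := f) (fun j _ => hfnn j) hi
    linarith
  -- the four predicates
  let P2 : ι → Prop := fun i => (A i = 1 ∧ m i = 0) ∨ (A i = -1 ∧ m i = 0)
  let P3 : ι → Prop := fun i => (A i = 0 ∧ m i = 1) ∨ (A i = 0 ∧ m i = -1) ∨ (A i = 1 ∧ m i = 1) ∨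
    (A i = -1 ∧ m i = -1)
  let P7 : ι → Prop := fun i => (A i = 2 ∧ m i = 1) ∨ (A i = -1 ∧ m i = 1) ∨ (A i = 1 ∧ m i = -1) ∨
    (A i = -2 ∧ m i = -1)
  let P8 : ι → Prop := fun i => (A i = 2 ∧ m i = 0) ∨ (A i = -2 ∧ m i = 0)
  have hpt : ∀ i ∈ T,
      f i = 2 * (if P2 i then 1 else 0) + 3 * (if P3 i then 1 else 0) + 7 * (if P7 i then 1 else 0)
        + 8 * (if P8 i then 1 else 0) ∧
      N i = (if P2 i then 1 else 0) - (if P3 i then 1 else 0) + (if P7 i then 1 else 0)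
        + 4 * (if P8 i then 1 else 0) := by
    intro i hi
    have hc := classify (A i) (m i) (hle i hi)
    simp only [hfdef, hNdef, P2, P3, P7, P8]
    rcases hc with ⟨hA, hm⟩ | (⟨hA, hm⟩ | ⟨hA, hm⟩) |
      (⟨hA, hm⟩ | ⟨hA, hm⟩ | ⟨hA, hm⟩ | ⟨hA, hm⟩) |
      (⟨hA, hm⟩ | ⟨hA, hm⟩ | ⟨hA, hm⟩ | ⟨hA, hm⟩) | (⟨hA, hm⟩ | ⟨hA, hm⟩) <;>
    simp [hA, hm]
  have hsumf : ∑ i ∈ T, f i = 2 * ((T.filter P2).card : ℤ) + 3 * ((T.filter P3).card : ℤ)
      + 7 * ((T.filter P7).card : ℤ) + 8 * ((T.filter P8).card : ℤ) := by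
    rw [Finset.sum_congr rfl (fun i hi => (hpt i hi).1)]
    simp only [Finset.sum_add_distrib, ← Finset.mul_sum, Finset.natCast_card_filter]
  have hsumN : ∑ i ∈ T, N i = ((T.filter P2).card : ℤ) - ((T.filter P3).card : ℤ)
      + ((T.filter P7).card : ℤ) + 4 * ((T.filter P8).card : ℤ) := by
    rw [Finset.sum_congr rfl (fun i hi => (hpt i hi).2)]
    simp only [Finset.sum_add_distrib, Finset.sum_sub_distrib, ← Finset.mul_sum,
      Finset.natCast_card_filter]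
  rw [hfT] at hsumf
  rw [hNT] at hsumN
  have hc2 : (T.filter P2).card = 1 := by omega
  have hc3 : (T.filter P3).card = 2 := by omega
  have hc7 : (T.filter P7).card = 0 := by omega
  have hc8 : (T.filter P8).card = 0 := by omega
  obtain ⟨i₀, hi₀⟩ := Finset.card_eq_one.1 hc2
  obtain ⟨j₁, j₂, hj12, hj⟩ := Finset.card_eq_two.1 hc3
  have hi₀mem : i₀ ∈ T.filter P2 := by rw [hi₀]; exact Finset.mem_singleton_self _
  have hj₁mem : j₁ ∈ T.filter P3 := by rw [hj]; simp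
  have hj₂mem : j₂ ∈ T.filter P3 := by rw [hj]; simp
  rw [Finset.mem_filter] at hi₀mem hj₁mem hj₂mem
  have hi₀T : i₀ ≠ i₁ := by
    have := hi₀mem.1; rw [hT, Finset.mem_erase] at this; exact this.1
  have hj₁T : j₁ ≠ i₁ := by
    have := hj₁mem.1; rw [hT, Finset.mem_erase] at this; exact this.1
  have hj₂T : j₂ ≠ i₁ := by
    have := hj₂mem.1; rw [hT, Finset.mem_erase] at this; exact this.1
  have h20 : P2 i₀ := hi₀mem.2
  have h31 : P3 j₁ := hj₁mem.2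
  have h32 : P3 j₂ := hj₂mem.2
  refine ⟨i₀, j₁, j₂, hi₀T, hj₁T, hj₂T, ?_, ?_, hj12, h20, h31, h32, ?_⟩
  · rintro rfl
    simp only [P2, P3] at h20 h31
    omega
  · rintro rfl
    simp only [P2, P3] at h20 h32
    omega
  · intro i hi1 hi0 hij1 hij2
    have hiT : i ∈ T := by rw [hT, Finset.mem_erase]; exact ⟨hi1, Finset.mem_univ _⟩
    have hn2 : ¬ P2 i := by
      intro h
      have : i ∈ T.filter P2 := Finset.mem_filter.2 ⟨hiT, h⟩
      rw [hi₀, Finset.mem_singleton] at this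
      exact hi0 this
    have hn3 : ¬ P3 i := by
      intro h
      have : i ∈ T.filter P3 := Finset.mem_filter.2 ⟨hiT, h⟩
      rw [hj, Finset.mem_insert, Finset.mem_singleton] at this
      rcases this with h | h
      · exact hij1 h
      · exact hij2 h
    have hn7 : ¬ P7 i := by
      intro h
      have : i ∈ T.filter P7 := Finset.mem_filter.2 ⟨hiT, h⟩
      rw [Finset.card_eq_zero.1 hc7] at this
      exact absurd this (Finset.notMem_empty _)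
    have hn8 : ¬ P8 i := by
      intro h
      have : i ∈ T.filter P8 := Finset.mem_filter.2 ⟨hiT, h⟩
      rw [Finset.card_eq_zero.1 hc8] at this
      exact absurd this (Finset.notMem_empty _)
    have hc := classify (A i) (m i) (hle i hiT)
    rcases hc with h | h | h | h | h
    · exact h
    · exact absurd h hn2
    · exact absurd h hn3
    · exact absurd h hn7
    · exact absurd h hn8

end Cfsg.Agent.Lib.H6.O5760
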