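import Mathlib
import Cfsg.Agent.Lib.H5.Ord.GenTests
import Cfsg.Agent.Lib.H5.OrderCount
import Cfsg.Agent.Lib.H28.J1OrdTools
/-!
S0983 piece (helper6): no simple group of order 4620 = 2^2 * 3 * 5 * 7 * 11.
`n_7 = 330` with `C(P_7) = P_7`, `n_11 = 210`, `n_5 = 231` (`n_5 = 66` would give `|C(P_5)| = 35`, so `5 ∣ |C(P_7)| = 7`),
and then there are `2100 + 1980 + 924 > 4620` elements of order 11, 7, 5.
-/
set_option autoImplicit false

namespace Cfsg.Agent.Lib.H6.O983

open Subgroup Cfsg.Agent.Lib.H5 Cfsg.Agent.Lib.H5.GenTests Cfsg.Agent.Lib.H28.J1Ord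

/-- No finite simple group has order 4620 = 2^2 * 3 * 5 * 7 * 11. -/
theorem not_simple_4620 {G : Type*} [Group G] [Finite G] [IsSimpleGroup G] : Nat.card G ≠ 4620 := by
  intro hn
  have hnc : ¬ IsMulCommutative G :=
    not_isMulCommutative_of_card_not_prime (by rw [hn]; norm_num)
  have : Fact (Nat.Prime 11) := ⟨by norm_num⟩
  have : Fact (Nat.Prime 7) := ⟨by norm_num⟩
  have : Fact (Nat.Prime 5) := ⟨by norm_num⟩
  -- p = 7 : every Sylow 7-subgroup is self-centralizing and `n_7 = 330`
  have key7 : ∀ P : Sylow 7 G, Nat.card (Sylow 7 G) = 330 ∧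
      Nat.card (centralizer ((P : Subgroup G) : Set G)) = 7 ∧ Nat.card (P : Subgroup G) = 7 := by
    intro P
    obtain ⟨h1, h2, h3, -, h5, h6, h7, h8, hP, -, -, -, -, hfp⟩ :=
      prime_data_explicit hnc hn (p := 7) (m := 660) (by norm_num) (by norm_num) (by norm_num) P
    have hmem : Nat.card (Sylow 7 G) ∈ (Nat.divisors 660).filter (fun d => d % 7 = 1) := by
      rw [Finset.mem_filter, Nat.mem_divisors]
      exact ⟨⟨h1, by norm_num⟩, h2⟩
    have hfil : (Nat.divisors 660).filter (fun d => d % 7 = 1) = {1, 15, 22, 330} := by decide +kernel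
    rw [hfil] at hmem
    simp only [Finset.mem_insert, Finset.mem_singleton] at hmem
    set r := (centralizer ((P : Subgroup G) : Set G)).relIndex (normalizer ((P : Subgroup G) : Set G))
    set c₀ := Nat.card (centralizer ((P : Subgroup G) : Set G))
    have hr6 : r ≤ 6 := Nat.le_of_dvd (by norm_num) h5
    have hr0 : 0 < r := Nat.pos_of_dvd_of_pos h5 (by norm_num)
    rcases hmem with h | h | h | h
    · exact absurd h h3
    · exfalso
      rw [h] at h7 hfp
      have hc : c₀ = 154 := by
        obtain ⟨k, hk⟩ := h8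
        interval_cases r <;> omega
      obtain ⟨f, hf1, hf2, hf3, -⟩ := hfp 11 (by norm_num) (by rw [hc]; norm_num)
      omega
    · exfalso
      rw [h] at h7 hfp
      have hc : 5 ∣ c₀ := by
        obtain ⟨k, hk⟩ := h8
        interval_cases r <;> omega
      obtain ⟨f, hf1, hf2, hf3, -⟩ := hfp 5 (by norm_num) hc
      omega
    · refine ⟨h, ?_, hP⟩
      rw [h] at h7
      obtain ⟨k, hk⟩ := h8
      interval_cases r <;> omega
  -- p = 11 : `n_11 = 210`
  have key11 : ∀ P : Sylow 11 G, Nat.card (Sylow 11 G) = 210 ∧ Nat.card (P : Subgroup G) = 11 := by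
    intro P
    obtain ⟨h1, h2, h3, -, h5, h6, h7, h8, hP, -, -, -, -, hfp⟩ :=
      prime_data_explicit hnc hn (p := 11) (m := 420) (by norm_num) (by norm_num) (by norm_num) P
    have hmem : Nat.card (Sylow 11 G) ∈ (Nat.divisors 420).filter (fun d => d % 11 = 1) := by
      rw [Finset.mem_filter, Nat.mem_divisors]
      exact ⟨⟨h1, by norm_num⟩, h2⟩
    have hfil : (Nat.divisors 420).filter (fun d => d % 11 = 1) = {1, 12, 210} := by decide +kernel
    rw [hfil] at hmem
    simp only [Finset.mem_insert, Finset.mem_singleton] at hmem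
    set r := (centralizer ((P : Subgroup G) : Set G)).relIndex (normalizer ((P : Subgroup G) : Set G))
    set c₀ := Nat.card (centralizer ((P : Subgroup G) : Set G))
    have hr10 : r ≤ 10 := Nat.le_of_dvd (by norm_num) h5
    have hr0 : 0 < r := Nat.pos_of_dvd_of_pos h5 (by norm_num)
    rcases hmem with h | h | h
    · exact absurd h h3
    · exfalso
      rw [h] at h7 hfp
      have hc : c₀ = 77 := by
        obtain ⟨k, hk⟩ := h8
        interval_cases r <;> omega
      obtain ⟨f, hf1, hf2, hf3, -⟩ := hfp 7 (by norm_num) (by rw [hc]; norm_num)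
      omega
    · exact ⟨h, hP⟩
  -- p = 5 : `n_5 = 231`
  have key5 : ∀ P : Sylow 5 G, Nat.card (Sylow 5 G) = 231 ∧ Nat.card (P : Subgroup G) = 5 := by
    intro P
    obtain ⟨h1, h2, h3, h4, h5, h6, h7, h8, hP, -, -, -, -, hfp⟩ :=
      prime_data_explicit hnc hn (p := 5) (m := 924) (by norm_num) (by norm_num) (by norm_num) P
    have hmem : Nat.card (Sylow 5 G) ∈ (Nat.divisors 924).filter (fun d => d % 5 = 1) := by
      rw [Finset.mem_filter, Nat.mem_divisors]
      exact ⟨⟨h1, by norm_num⟩, h2⟩
    have hfil : (Nat.divisors 924).filter (fun d => d % 5 = 1) = {1, 6, 11, 21, 66, 231} := by decide +kernel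
    rw [hfil] at hmem
    simp only [Finset.mem_insert, Finset.mem_singleton] at hmem
    set r := (centralizer ((P : Subgroup G) : Set G)).relIndex (normalizer ((P : Subgroup G) : Set G))
    set c₀ := Nat.card (centralizer ((P : Subgroup G) : Set G)) with hc₀
    have hr4 : r ≤ 4 := Nat.le_of_dvd (by norm_num) h5
    have hr0 : 0 < r := Nat.pos_of_dvd_of_pos h5 (by norm_num)
    rcases hmem with h | h | h | h | h | h
    · exact absurd h h3
    · exfalso
      rw [h] at h4
      revert h4
      decide
    · exfalso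
      rw [h] at h7 hfp
      have hc : 3 ∣ c₀ := by
        obtain ⟨k, hk⟩ := h8
        interval_cases r <;> omega
      obtain ⟨f, hf1, hf2, hf3, -⟩ := hfp 3 (by norm_num) hc
      omega
    · exfalso
      rw [h] at h7 hfp
      have hc : 11 ∣ c₀ := by
        obtain ⟨k, hk⟩ := h8
        interval_cases r <;> omega
      obtain ⟨f, hf1, hf2, hf3, -⟩ := hfp 11 (by norm_num) hc
      omega
    · exfalso
      rw [h] at h7
      have hc : 7 ∣ c₀ := by
        obtain ⟨k, hk⟩ := h8
        interval_cases r <;> omega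
      let Q : Sylow 7 G := default
      obtain ⟨-, hQc, hQ⟩ := key7 Q
      have := dvd_card_centralizer_symm P Q hQ hc
      rw [hP, hQc] at this
      omega
    · exact ⟨h, hP⟩
  -- counting
  have ho11 := card_orderOf_eq_prime (G := G) (p := 11) (fun Q => (key11 Q).2)
  have ho7 := card_orderOf_eq_prime (G := G) (p := 7) (fun Q => (key7 Q).2.2)
  have ho5 := card_orderOf_eq_prime (G := G) (p := 5) (fun Q => (key5 Q).2)
  rw [(key11 default).1] at ho11
  rw [(key7 default).1] at ho7
  rw [(key5 default).1] at ho5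
  have hsum := sum_card_orderOf_le (G := G) [11, 7, 5] (by decide)
  simp only [List.map_cons, List.map_nil, List.sum_cons, List.sum_nil] at hsum
  rw [hn, ho11, ho7, ho5] at hsum
  omega

end Cfsg.Agent.Lib.H6.O983
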