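import Mathlib
import Cfsg.Agent.Lib.H5.Ord.GenTests
import Cfsg.Agent.Lib.H5.Ord.SylPrime
import Cfsg.Agent.Lib.H5.SimpleTools
/-!
S0983 piece (helper6): no simple group of order 4680 = 2^3 * 3^2 * 5 * 13.

`n_13 = 40`, `|N(P_13)| = 117`, `|C(P_13)| = 39`.  Let `y ∈ C(P_13)` have order 3.  On the 40 cosets of `N = N(P_13)` the
element `y` has `f` fixed points with `f ≡ 1 (mod 13)`, `f ≡ 40 (mod 3)`, `f < 40`, so `f = 1`; hence
`117 = f |N| = |C(y)| * #(y^G ∩ N)`.  A Sylow 3-subgroup `T ∋ y` has order 9, is abelian and lies in `C(y)`, as does `P_13`: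
`|C(y)| = 117`, `y` is its only conjugate in `N`, and `C(y) ≤ N` (it fixes the only fixed point).  So every `g ∈ N(T)`
centralizes `y` (`g y g⁻¹ ∈ T ≤ N`): `T ≤ N(T) ≤ C(y)`, `|N(T)| ∈ {9, 117}`; `117` would make `P_13` and `T` normalize
each other, so `T ≤ C(P_13)` of order 39; `9` is `N(T) = T` abelian, against Burnside's transfer theorem.
-/
set_option autoImplicit false

namespace Cfsg.Agent.Lib.H6.O983

open Subgroup MulAction Cfsg.Agent.Lib.H5 Cfsg.Agent.Lib.H5.GenTests Cfsg.Agent.Lib.H5.SylPrime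

/-- No finite simple group has order 4680 = 2^3 * 3^2 * 5 * 13. -/
theorem not_simple_4680 {G : Type*} [Group G] [Finite G] [IsSimpleGroup G] : Nat.card G ≠ 4680 := by
  intro hn
  have hnc : ¬ IsMulCommutative G :=
    not_isMulCommutative_of_card_not_prime (by rw [hn]; norm_num)
  have : Fact (Nat.Prime 13) := ⟨by norm_num⟩
  have : Fact (Nat.Prime 3) := ⟨by norm_num⟩
  let P : Sylow 13 G := default
  obtain ⟨h1, h2, h3, -, h5, h6, h7, h8, hP, hNd, -, hPC, hcr, -⟩ :=
    prime_data_explicit hnc hn (p := 13) (m := 360) (by norm_num) (by norm_num) (by norm_num) P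
  have hd : Nat.card (Sylow 13 G) = 40 := by
    have hmem : Nat.card (Sylow 13 G) ∈ (Nat.divisors 360).filter (fun d => d % 13 = 1) := by
      rw [Finset.mem_filter, Nat.mem_divisors]
      exact ⟨⟨h1, by norm_num⟩, h2⟩
    have hfil : (Nat.divisors 360).filter (fun d => d % 13 = 1) = {1, 40} := by decide +kernel
    rw [hfil] at hmem
    simp only [Finset.mem_insert, Finset.mem_singleton] at hmem
    rcases hmem with h | h
    · exact absurd h h3
    · exact h
  rw [hd] at h7 hNd
  set N := normalizer ((P : Subgroup G) : Set G) with hNdef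
  set C := centralizer ((P : Subgroup G) : Set G) with hCdef
  have hNcard : Nat.card N = 117 := by omega
  have hCcard : Nat.card C = 39 := by
    set r := C.relIndex N
    set c₀ := Nat.card C
    have hr12 : r ≤ 12 := Nat.le_of_dvd (by norm_num) h5
    have hr0 : 0 < r := Nat.pos_of_dvd_of_pos h5 (by norm_num)
    have hcr' : c₀ * r = 117 := by omega
    obtain ⟨k, hk⟩ := h8
    interval_cases r <;> omega
  have hCN : C ≤ N := centralizer_le_normalizer _
  have hNidx : N.index = 40 := by
    have := N.card_mul_index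
    rw [hNcard, hn] at this
    omega
  -- an element of order 3 centralizing `P`
  obtain ⟨y', hy'⟩ := exists_prime_orderOf_dvd_card' (G := C) 3 (by rw [hCcard]; norm_num)
  set y : G := (y' : G) with hydef
  have hyo : orderOf y = 3 := by rw [hydef, Subgroup.orderOf_coe]; exact hy'
  have hyC : y ∈ C := y'.2
  have hyN : y ∈ N := hCN hyC
  have hy1 : y ≠ 1 := by
    intro h
    rw [h, orderOf_one] at hyo
    omega
  -- fixed points of `y` on the cosets of `N`
  have hf13 : Nat.card (fixedBy (G ⧸ N) y) ≡ 1 [MOD 13] := card_fixedBy_modEq_one 13 P hP hyC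
  have hf3 := card_modEq_card_fixedBy (Ω := G ⧸ N) (r := 3) (k := 1) (y := y) (by rw [hyo, pow_one])
  have hfle := card_fixedBy_le_index N y
  have hfne : Nat.card (fixedBy (G ⧸ N) y) ≠ N.index := by
    intro h
    have hNtop : N ≠ ⊤ := by
      intro htop
      rw [htop, index_top] at hNidx
      omega
    exact hy1 (eq_one_of_card_fixedBy_eq N hNtop h)
  rw [← Subgroup.index_eq_card, hNidx] at hf3
  rw [hNidx] at hfle hfne
  have hf1 : Nat.card (fixedBy (G ⧸ N) y) = 1 := by
    unfold Nat.ModEq at hf13 hf3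
    omega
  -- a Sylow 3-subgroup through `y`
  have hZ : IsPGroup 3 (zpowers y) := by
    apply IsPGroup.of_card (n := 1)
    rw [Nat.card_zpowers, hyo, pow_one]
  obtain ⟨T, hT⟩ := hZ.exists_le_sylow
  have hyT : y ∈ (T : Subgroup G) := hT (mem_zpowers y)
  have hTcard : Nat.card (T : Subgroup G) = 3 ^ 2 :=
    (sylow_card_and_index T (k := 2) (m := 520) (by rw [hn]; norm_num) (by norm_num)).1
  have hTcomm : ∀ a ∈ (T : Subgroup G), ∀ b ∈ (T : Subgroup G), a * b = b * a := by
    intro a ha b hb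
    have := (IsPGroup.isMulCommutative_of_card_eq_prime_sq (p := 3) hTcard).is_comm.comm
      ⟨a, ha⟩ ⟨b, hb⟩
    exact congrArg Subtype.val this
  set Cy := centralizer ({y} : Set G) with hCy
  have hTCy : (T : Subgroup G) ≤ Cy := by
    intro t ht
    rw [hCy, mem_centralizer_iff]
    intro z hz
    rw [Set.mem_singleton_iff] at hz
    rw [hz]
    exact hTcomm y hyT t ht
  have hPCy : (P : Subgroup G) ≤ Cy := by
    intro x hx
    rw [hCy, mem_centralizer_iff]
    intro z hz
    rw [Set.mem_singleton_iff] at hz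
    rw [hz]
    exact (mem_centralizer_iff.mp hyC x hx).symm
  have h9 : 9 ∣ Nat.card Cy := by
    have := card_dvd_of_le hTCy
    rwa [hTcard] at this
  have h13 : 13 ∣ Nat.card Cy := by
    have := card_dvd_of_le hPCy
    rwa [hP] at this
  have h117 : 117 ∣ Nat.card Cy :=
    (Nat.Coprime.mul_dvd_of_dvd_of_dvd (by norm_num : Nat.Coprime 9 13) h9 h13)
  have hmul := card_fixedBy_mul_card N hyN
  rw [hf1, hNcard, one_mul] at hmul
  have hCycard : Nat.card Cy = 117 := by
    obtain ⟨j, hj⟩ := h117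
    rw [hj] at hmul ⊢
    have hjk : j * Nat.card {g : G // IsConj y g ∧ g ∈ N} = 1 := by
      have : 117 * (j * Nat.card {g : G // IsConj y g ∧ g ∈ N}) = 117 * 1 := by
        rw [mul_one, ← mul_assoc]
        exact hmul.symm
      exact Nat.eq_of_mul_eq_mul_left (by norm_num) this
    have hj1 : j = 1 := Nat.eq_one_of_mul_eq_one_right hjk
    rw [hj1]
  have hk1 : Nat.card {g : G // IsConj y g ∧ g ∈ N} = 1 := by
    rw [hCycard] at hmul
    omega
  -- `C(y) ≤ N`
  have hCyN : Cy ≤ N := by
    intro g hg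
    have hone : (QuotientGroup.mk 1 : G ⧸ N) ∈ fixedBy (G ⧸ N) y := by
      rw [mem_fixedBy, MulAction.Quotient.smul_mk, QuotientGroup.eq]
      simpa using hyN
    have hgfix : g • (QuotientGroup.mk 1 : G ⧸ N) ∈ fixedBy (G ⧸ N) y := by
      rw [mem_fixedBy, ← mul_smul]
      have hc : y * g = g * y := by
        rw [hCy, mem_centralizer_iff] at hg
        exact hg y rfl
      rw [hc, mul_smul]
      congr 1
    rw [Nat.card_eq_one_iff_unique] at hf1
    obtain ⟨hsub, -⟩ := hf1
    have heq : (⟨g • (QuotientGroup.mk 1 : G ⧸ N), hgfix⟩ : fixedBy (G ⧸ N) y) =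
        ⟨(QuotientGroup.mk 1 : G ⧸ N), hone⟩ := Subsingleton.elim _ _
    have heq' : g • (QuotientGroup.mk 1 : G ⧸ N) = QuotientGroup.mk 1 := congrArg Subtype.val heq
    rw [MulAction.Quotient.smul_mk, QuotientGroup.eq] at heq'
    simpa using heq'
  -- `N(T) ≤ C(y)`
  set M := normalizer ((T : Subgroup G) : Set G) with hM
  have hTM : (T : Subgroup G) ≤ M := le_normalizer
  have hMCy : M ≤ Cy := by
    intro g hg
    have hgy : g * y * g⁻¹ ∈ (T : Subgroup G) := (mem_normalizer_iff.mp hg y).mp hyT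
    have hgyN : g * y * g⁻¹ ∈ N := hCyN (hTCy hgy)
    rw [Nat.card_eq_one_iff_unique] at hk1
    obtain ⟨hsub, -⟩ := hk1
    have heq : (⟨g * y * g⁻¹, ⟨isConj_iff.mpr ⟨g, rfl⟩, hgyN⟩⟩ : {g : G // IsConj y g ∧ g ∈ N}) =
        ⟨y, ⟨IsConj.refl y, hyN⟩⟩ := Subsingleton.elim _ _
    have heq' : g * y * g⁻¹ = y := congrArg Subtype.val heq
    rw [hCy, mem_centralizer_iff]
    intro z hz
    rw [Set.mem_singleton_iff] at hz
    rw [hz]
    calc y * g = (g * y * g⁻¹) * g := by rw [heq']
      _ = g * y := by group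
  -- `|N(T)|` is 9 or 117
  have hMd : Nat.card M ∣ 117 := by
    have := card_dvd_of_le hMCy
    rwa [hCycard] at this
  have h9M : 9 ∣ Nat.card M := by
    have := card_dvd_of_le hTM
    rwa [hTcard] at this
  have hMcases : Nat.card M = 9 ∨ Nat.card M = 117 := by
    obtain ⟨j, hj⟩ := h9M
    have hj13 : j ∣ 13 := by
      have h' : 9 * j ∣ 9 * 13 := by rw [← hj]; exact hMd
      exact Nat.dvd_of_mul_dvd_mul_left (by norm_num) h'
    rcases (Nat.dvd_prime (by norm_num : Nat.Prime 13)).mp hj13 with h | h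
    · left; rw [hj, h]
    · right; rw [hj, h]
  rcases hMcases with hM9 | hM117
  · -- `N(T) = T` is abelian: Burnside
    have hMT : M = (T : Subgroup G) := by
      symm
      apply Subgroup.eq_of_le_of_card_ge hTM
      rw [hM9, hTcard]
      norm_num
    have h3dvd : 3 ∣ Nat.card G := by rw [hn]; norm_num
    have hnp : ¬ IsPGroup 3 G := by
      intro hpg
      obtain ⟨k, hk⟩ := IsPGroup.iff_card.mp hpg
      rw [hn] at hk
      have h13' : 13 ∣ 3 ^ k := by rw [← hk]; norm_num
      have := (Nat.Prime.dvd_of_dvd_pow (by norm_num : Nat.Prime 13) h13')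
      omega
    apply not_normalizer_le_centralizer_of_simple h3dvd hnp T
    intro g hg
    have hgT : g ∈ (T : Subgroup G) := by rw [← hMT]; exact hg
    rw [mem_centralizer_iff]
    intro t ht
    exact hTcomm t ht g hgT
  · -- `N(T) = C(y) ⊇ P`: then `T ≤ C(P)`
    have hMeq : M = Cy := Subgroup.eq_of_le_of_card_ge hMCy (by rw [hM117, hCycard])
    have hPM : (P : Subgroup G) ≤ M := by rw [hMeq]; exact hPCy
    have hTN : (T : Subgroup G) ≤ N := le_trans hTCy hCyN
    have hdisj : (P : Subgroup G) ⊓ (T : Subgroup G) = ⊥ := by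
      apply disjoint_iff.mp
      apply Subgroup.disjoint_of_coprime_natCard
      rw [hP, hTcard]
      norm_num
    have hTC : (T : Subgroup G) ≤ C := by
      intro t ht
      rw [hCdef, mem_centralizer_iff]
      intro x hx
      -- the commutator lies in `P ⊓ T`
      have h1 : t * x * t⁻¹ ∈ (P : Subgroup G) := (mem_normalizer_iff.mp (hTN ht) x).mp hx
      have h2 : x * t⁻¹ * x⁻¹ ∈ (T : Subgroup G) :=
        (mem_normalizer_iff.mp (hPM hx) t⁻¹).mp (Subgroup.inv_mem _ ht)
      have hc : t * x * t⁻¹ * x⁻¹ ∈ (P : Subgroup G) ⊓ (T : Subgroup G) := by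
        refine ⟨Subgroup.mul_mem _ h1 (Subgroup.inv_mem _ hx), ?_⟩
        have : t * x * t⁻¹ * x⁻¹ = t * (x * t⁻¹ * x⁻¹) := by group
        rw [this]
        exact Subgroup.mul_mem _ ht h2
      rw [hdisj, Subgroup.mem_bot] at hc
      calc x * t = (t * x * t⁻¹ * x⁻¹)⁻¹ * (t * x) := by group
        _ = t * x := by rw [hc, inv_one, one_mul]
    have := card_dvd_of_le hTC
    rw [hTcard, hCcard] at this
    omega

end Cfsg.Agent.Lib.H6.O983
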