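import Mathlib
import Cfsg.Prelude.Def_Blocks
import Cfsg.Agent.Lib.L0.CharOps
import Cfsg.Agent.Lib.L0.CharBasic
import Cfsg.Agent.Lib.H24.CharOrth
import Cfsg.Agent.Lib.H24.CharBasic

/-!
S4930 pieces P2a, P2b, P2c, general form (helper6): `N` ANY subgroup of odd index of the finite
group `G`.

* `resMul N χ ψ : ℕ` : the multiplicity `[χ_N, ψ]`;
* `degree_eq_sum_resMul` : `χ(1) = ∑ ψ, [χ_N, ψ] ψ(1)`; `restrict_eq_sum`;
* `sum_resMul_degree` : `∑ χ, [χ_N, ψ] χ(1) = |G : N| ψ(1)` (Frobenius reciprocity at `1`, through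
  second orthogonality);
* `cOdd N ψ = ∑_{χ odd} [χ_N, ψ] χ(1)`; (P2a) `not_two_dvd_cOdd`;
* (P2b) `sum_sq_odd_le`; (P2c) `of_sum_sq_odd_eq`.
-/

set_option autoImplicit false
set_option linter.unusedSectionVars false

namespace Cfsg.Agent.Lib.H6.OD

open Cfsg Cfsg.Agent.Lib.L0 Cfsg.Agent.Lib.H24
open scoped ComplexConjugate

universe u

section basic

variable {G : Type u} [Group G] [Fintype G] (N : Subgroup G) [Fintype N]

theorem isCharacter_res (χ : IrrCharacter G) : IsCharacter N (fun n : N => (χ : G → ℂ) n) :=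
  isCharacter_restrict N (isCharacter_of_irr χ.2)

/-- the multiplicity `[χ_N, ψ]` -/
noncomputable def resMul (χ : IrrCharacter G) (ψ : IrrCharacter N) : ℕ :=
  (classInner_char_irr_nat (isCharacter_res N χ) ψ.2).choose

theorem resMul_spec (χ : IrrCharacter G) (ψ : IrrCharacter N) :
    classInner (fun n : N => (χ : G → ℂ) n) (ψ : N → ℂ) = (resMul N χ ψ : ℂ) :=
  (classInner_char_irr_nat (isCharacter_res N χ) ψ.2).choose_spec

theorem resMul_ne_zero_iff (χ : IrrCharacter G) (ψ : IrrCharacter N) :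
    resMul N χ ψ ≠ 0 ↔ classInner (fun n : N => (χ : G → ℂ) n) (ψ : N → ℂ) ≠ 0 := by
  rw [resMul_spec]
  exact Nat.cast_ne_zero.symm

/-- `χ_N = ∑ ψ, [χ_N, ψ] ψ` -/
theorem restrict_eq_sum [Fintype (IrrCharacter N)] (χ : IrrCharacter G) :
    (fun n : N => (χ : G → ℂ) n) = ∑ ψ : IrrCharacter N, (resMul N χ ψ : ℂ) • (ψ : N → ℂ) := by
  have hcf : IsClassFunction N (fun n : N => (χ : G → ℂ) n) :=
    isClassFunction_of_isCharacter (isCharacter_res N χ)
  have hexp := classFunction_expansion _ hcf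
  simp only [resMul_spec] at hexp
  exact hexp

/-- `χ(1) = ∑ ψ, [χ_N, ψ] ψ(1)` -/
theorem degree_eq_sum_resMul [Fintype (IrrCharacter N)] (χ : IrrCharacter G) :
    charDegree (χ : G → ℂ) = ∑ ψ : IrrCharacter N, resMul N χ ψ * charDegree (ψ : N → ℂ) := by
  have hexp := congrFun (restrict_eq_sum N χ) 1
  simp only [Finset.sum_apply, Pi.smul_apply, smul_eq_mul] at hexp
  have h1 : ((1 : N) : G) = 1 := rfl
  rw [h1] at hexp
  have : ((charDegree (χ : G → ℂ) : ℕ) : ℂ) =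
      ((∑ ψ : IrrCharacter N, resMul N χ ψ * charDegree (ψ : N → ℂ) : ℕ) : ℂ) := by
    rw [charDegree_irr, Nat.cast_sum, hexp]
    refine Finset.sum_congr rfl (fun ψ _ => ?_)
    rw [Nat.cast_mul, charDegree_irr]
  exact_mod_cast this

theorem conj_irr_one (χ : IrrCharacter G) : conj ((χ : G → ℂ) 1) = (χ : G → ℂ) 1 := by
  obtain ⟨n, _, hn⟩ := irr_one_eq χ
  rw [hn, Complex.conj_natCast]

/-- the regular character: `∑ χ, χ(g) χ(1) = |G|` if `g = 1`, else `0` -/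
theorem sum_irr_apply_mul_one [Fintype (IrrCharacter G)] [DecidableEq G] (g : G) :
    ∑ χ : IrrCharacter G, (χ : G → ℂ) g * (χ : G → ℂ) 1 =
      if g = 1 then (Nat.card G : ℂ) else 0 := by
  classical
  have h := second_orthogonality (G := G) g 1
  have h2 : ∑ χ : IrrCharacter G, (χ : G → ℂ) g * (χ : G → ℂ) 1 =
      ∑ χ : IrrCharacter G, (χ : G → ℂ) g * conj ((χ : G → ℂ) 1) :=
    Finset.sum_congr rfl (fun χ _ => by rw [conj_irr_one])
  rw [h2, h]
  by_cases hg : g = 1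
  · subst hg
    rw [if_pos (IsConj.refl 1), if_pos rfl]
    have hc : Subgroup.centralizer ({1} : Set G) = ⊤ := by
      ext x
      simp [Subgroup.mem_centralizer_iff]
    rw [hc, Subgroup.card_top]
  · rw [if_neg hg, if_neg]
    intro hcon
    exact hg (isConj_one_left.1 hcon)

/-- Frobenius reciprocity at `1`: `∑ χ, [χ_N, ψ] χ(1) = |G : N| ψ(1)` -/
theorem sum_resMul_degree [Fintype (IrrCharacter G)] (ψ : IrrCharacter N) :
    ∑ χ : IrrCharacter G, resMul N χ ψ * charDegree (χ : G → ℂ) =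
      N.index * charDegree (ψ : N → ℂ) := by
  classical
  have hN0 : (Nat.card N : ℂ) ≠ 0 := Nat.cast_ne_zero.2 Nat.card_pos.ne'
  have key : ∑ χ : IrrCharacter G, (resMul N χ ψ : ℂ) * (χ : G → ℂ) 1 =
      (N.index : ℂ) * (ψ : N → ℂ) 1 := by
    have h1 : ∀ χ : IrrCharacter G, (resMul N χ ψ : ℂ) * (χ : G → ℂ) 1 =
        (Nat.card N : ℂ)⁻¹ * ∑ n : N, conj ((ψ : N → ℂ) n) *
          ((χ : G → ℂ) n * (χ : G → ℂ) 1) := by
      intro χ
      rw [← resMul_spec]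
      unfold classInner
      rw [mul_assoc, Finset.sum_mul]
      congr 1
      refine Finset.sum_congr rfl (fun n _ => ?_)
      ring
    simp_rw [h1]
    rw [← Finset.mul_sum, Finset.sum_comm]
    simp_rw [← Finset.mul_sum, sum_irr_apply_mul_one]
    rw [Finset.sum_eq_single (1 : N)]
    · have h11 : ((1 : N) : G) = 1 := rfl
      rw [h11, if_pos rfl, conj_irr_one]
      have h3 : (Nat.card G : ℂ) = (Nat.card N : ℂ) * (N.index : ℂ) := by
        rw [← Nat.cast_mul, Subgroup.card_mul_index]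
      rw [h3]
      field_simp
    · intro n _ hn
      rw [if_neg, mul_zero]
      intro h
      exact hn (Subtype.ext h)
    · intro h
      exact absurd (Finset.mem_univ _) h
  have : ((∑ χ : IrrCharacter G, resMul N χ ψ * charDegree (χ : G → ℂ) : ℕ) : ℂ) =
      ((N.index * charDegree (ψ : N → ℂ) : ℕ) : ℂ) := by
    rw [Nat.cast_sum, Nat.cast_mul, charDegree_irr, ← key]
    refine Finset.sum_congr rfl (fun χ _ => ?_)
    rw [Nat.cast_mul, charDegree_irr]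
  exact_mod_cast this

end basic

section odd

variable {G : Type u} [Group G] [Fintype G] (N : Subgroup G) [Fintype N]
  [Fintype (IrrCharacter G)] [Fintype (IrrCharacter N)]

/-- `c_ψ = ∑_{χ odd} [χ_N, ψ] χ(1)` -/
noncomputable def cOdd (ψ : IrrCharacter N) : ℕ :=
  ∑ χ : IrrCharacter G, if ¬ 2 ∣ charDegree (χ : G → ℂ) then
    resMul N χ ψ * charDegree (χ : G → ℂ) else 0

/-- (P2a) -/
theorem not_two_dvd_cOdd (hidx : ¬ 2 ∣ N.index) (ψ : IrrCharacter N)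
    (hψ : ¬ 2 ∣ charDegree (ψ : N → ℂ)) : ¬ 2 ∣ cOdd N ψ := by
  classical
  have htot := sum_resMul_degree N ψ
  have hsplit : ∑ χ : IrrCharacter G, resMul N χ ψ * charDegree (χ : G → ℂ) =
      cOdd N ψ + ∑ χ : IrrCharacter G, if 2 ∣ charDegree (χ : G → ℂ) then
        resMul N χ ψ * charDegree (χ : G → ℂ) else 0 := by
    unfold cOdd
    rw [← Finset.sum_add_distrib]
    refine Finset.sum_congr rfl (fun χ _ => ?_)
    by_cases h : 2 ∣ charDegree (χ : G → ℂ)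
    · simp [h]
    · simp [h]
  have heven : 2 ∣ ∑ χ : IrrCharacter G, if 2 ∣ charDegree (χ : G → ℂ) then
      resMul N χ ψ * charDegree (χ : G → ℂ) else 0 := by
    refine Finset.dvd_sum (fun χ _ => ?_)
    by_cases h : 2 ∣ charDegree (χ : G → ℂ)
    · rw [if_pos h]; exact Dvd.dvd.mul_left h _
    · rw [if_neg h]; exact dvd_zero _
  intro hc
  have : 2 ∣ N.index * charDegree (ψ : N → ℂ) := by
    rw [← htot, hsplit]
    exact dvd_add hc heven
  rcases (Nat.Prime.dvd_mul Nat.prime_two).1 this with h | h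
  · exact hidx h
  · exact hψ h

/-- some odd-degree `χ₀` lies over the odd-degree `ψ`, and the chain of inequalities -/
theorem exists_odd_over (hidx : ¬ 2 ∣ N.index) (ψ : IrrCharacter N)
    (hψ : ¬ 2 ∣ charDegree (ψ : N → ℂ)) :
    ∃ χ₀ : IrrCharacter G, ¬ 2 ∣ charDegree (χ₀ : G → ℂ) ∧ resMul N χ₀ ψ ≠ 0 := by
  classical
  have hc : cOdd N ψ ≠ 0 := by
    intro h
    exact not_two_dvd_cOdd N hidx ψ hψ (h ▸ dvd_zero 2)
  unfold cOdd at hc
  obtain ⟨χ₀, _, hne⟩ := Finset.exists_ne_zero_of_sum_ne_zero hc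
  by_cases h : ¬ 2 ∣ charDegree (χ₀ : G → ℂ)
  · rw [if_pos h] at hne
    exact ⟨χ₀, h, fun h0 => hne (by rw [h0, zero_mul])⟩
  · rw [if_neg h] at hne
    exact absurd rfl hne

theorem resMul_mul_degree_le (χ : IrrCharacter G) (ψ : IrrCharacter N) :
    resMul N χ ψ * charDegree (ψ : N → ℂ) ≤ charDegree (χ : G → ℂ) := by
  rw [degree_eq_sum_resMul N χ]
  exact Finset.single_le_sum (f := fun ψ : IrrCharacter N => resMul N χ ψ * charDegree (ψ : N → ℂ))
    (fun _ _ => Nat.zero_le _) (Finset.mem_univ ψ)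

theorem term_le_cOdd (χ : IrrCharacter G) (hχ : ¬ 2 ∣ charDegree (χ : G → ℂ)) (ψ : IrrCharacter N) :
    resMul N χ ψ * charDegree (χ : G → ℂ) ≤ cOdd N ψ := by
  classical
  unfold cOdd
  have := Finset.single_le_sum (f := fun χ : IrrCharacter G =>
    if ¬ 2 ∣ charDegree (χ : G → ℂ) then resMul N χ ψ * charDegree (χ : G → ℂ) else 0)
    (fun _ _ => Nat.zero_le _) (Finset.mem_univ χ)
  simp only [if_pos hχ] at this
  exact this

/-- `ψ(1) ≤ c_ψ` for `ψ` of odd degree -/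
theorem degree_le_cOdd (hidx : ¬ 2 ∣ N.index) (ψ : IrrCharacter N)
    (hψ : ¬ 2 ∣ charDegree (ψ : N → ℂ)) : charDegree (ψ : N → ℂ) ≤ cOdd N ψ := by
  obtain ⟨χ₀, hχ₀, hr⟩ := exists_odd_over N hidx ψ hψ
  have h1 := resMul_mul_degree_le N χ₀ ψ
  have h2 := term_le_cOdd N χ₀ hχ₀ ψ
  have hr1 : 1 ≤ resMul N χ₀ ψ := Nat.one_le_iff_ne_zero.2 hr
  calc charDegree (ψ : N → ℂ) = 1 * charDegree (ψ : N → ℂ) := (one_mul _).symm
    _ ≤ resMul N χ₀ ψ * charDegree (ψ : N → ℂ) := Nat.mul_le_mul_right _ hr1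
    _ ≤ charDegree (χ₀ : G → ℂ) := h1
    _ = 1 * charDegree (χ₀ : G → ℂ) := (one_mul _).symm
    _ ≤ resMul N χ₀ ψ * charDegree (χ₀ : G → ℂ) := Nat.mul_le_mul_right _ hr1
    _ ≤ cOdd N ψ := h2

/-- `∑_{χ odd} χ(1)² = ∑ ψ, ψ(1) c_ψ` -/
theorem sum_sq_odd_eq_sum_cOdd :
    (∑ χ : IrrCharacter G, if ¬ 2 ∣ charDegree (χ : G → ℂ) then charDegree (χ : G → ℂ) ^ 2 else 0) =
      ∑ ψ : IrrCharacter N, charDegree (ψ : N → ℂ) * cOdd N ψ := by
  classical
  unfold cOdd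
  simp_rw [Finset.mul_sum]
  rw [Finset.sum_comm]
  refine Finset.sum_congr rfl (fun χ _ => ?_)
  by_cases h : ¬ 2 ∣ charDegree (χ : G → ℂ)
  · simp only [if_pos h]
    rw [sq]
    nth_rewrite 2 [degree_eq_sum_resMul N χ]
    rw [Finset.mul_sum]
    refine Finset.sum_congr rfl (fun ψ _ => ?_)
    ring
  · simp only [if_neg h, mul_zero, Finset.sum_const_zero]

/-- (P2b), `Fintype` sums with `if` -/
theorem sum_sq_odd_le_aux (hidx : ¬ 2 ∣ N.index) :
    (∑ ψ : IrrCharacter N, if ¬ 2 ∣ charDegree (ψ : N → ℂ) then charDegree (ψ : N → ℂ) ^ 2 else 0) ≤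
      ∑ χ : IrrCharacter G, if ¬ 2 ∣ charDegree (χ : G → ℂ) then charDegree (χ : G → ℂ) ^ 2 else 0 := by
  classical
  rw [sum_sq_odd_eq_sum_cOdd N]
  refine Finset.sum_le_sum (fun ψ _ => ?_)
  by_cases h : ¬ 2 ∣ charDegree (ψ : N → ℂ)
  · rw [if_pos h, sq]
    exact Nat.mul_le_mul_left _ (degree_le_cOdd N hidx ψ h)
  · rw [if_neg h]
    exact Nat.zero_le _

/-- (P2c), `Fintype` sums with `if` -/
theorem of_sum_sq_odd_eq_aux (hidx : ¬ 2 ∣ N.index)
    (heq : (∑ ψ : IrrCharacter N, if ¬ 2 ∣ charDegree (ψ : N → ℂ) then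
        charDegree (ψ : N → ℂ) ^ 2 else 0) =
      ∑ χ : IrrCharacter G, if ¬ 2 ∣ charDegree (χ : G → ℂ) then charDegree (χ : G → ℂ) ^ 2 else 0)
    (ψ : IrrCharacter N) (hψ : ¬ 2 ∣ charDegree (ψ : N → ℂ)) :
    ∃ χ₀ : IrrCharacter G, ¬ 2 ∣ charDegree (χ₀ : G → ℂ) ∧
      (∀ n : N, (χ₀ : G → ℂ) n = (ψ : N → ℂ) n) ∧
      ∀ χ : IrrCharacter G, ¬ 2 ∣ charDegree (χ : G → ℂ) →
        classInner (fun n : N => (χ : G → ℂ) n) (ψ : N → ℂ) ≠ 0 → χ = χ₀ := by
  classical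
  rw [sum_sq_odd_eq_sum_cOdd N] at heq
  -- termwise equality
  have hterm : ∀ ψ' : IrrCharacter N,
      (if ¬ 2 ∣ charDegree (ψ' : N → ℂ) then charDegree (ψ' : N → ℂ) ^ 2 else 0) ≤
        charDegree (ψ' : N → ℂ) * cOdd N ψ' := by
    intro ψ'
    by_cases h : ¬ 2 ∣ charDegree (ψ' : N → ℂ)
    · rw [if_pos h, sq]
      exact Nat.mul_le_mul_left _ (degree_le_cOdd N hidx ψ' h)
    · rw [if_neg h]
      exact Nat.zero_le _
  have hall := (Finset.sum_eq_sum_iff_of_le (fun ψ' _ => hterm ψ')).1 heq ψ (Finset.mem_univ ψ)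
  rw [if_pos hψ, sq] at hall
  have hdpos : 0 < charDegree (ψ : N → ℂ) := charDegree_pos ψ
  have hcψ : cOdd N ψ = charDegree (ψ : N → ℂ) := (Nat.eq_of_mul_eq_mul_left hdpos hall).symm
  obtain ⟨χ₀, hχ₀, hr⟩ := exists_odd_over N hidx ψ hψ
  have h1 := resMul_mul_degree_le N χ₀ ψ
  have h2 := term_le_cOdd N χ₀ hχ₀ ψ
  have hr1 : 1 ≤ resMul N χ₀ ψ := Nat.one_le_iff_ne_zero.2 hr
  have hd0pos : 0 < charDegree (χ₀ : G → ℂ) := charDegree_pos χ₀
  -- all equalities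
  have hA : charDegree (ψ : N → ℂ) ≤ resMul N χ₀ ψ * charDegree (ψ : N → ℂ) := by
    calc charDegree (ψ : N → ℂ) = 1 * charDegree (ψ : N → ℂ) := (one_mul _).symm
      _ ≤ _ := Nat.mul_le_mul_right _ hr1
  have hB : charDegree (χ₀ : G → ℂ) ≤ resMul N χ₀ ψ * charDegree (χ₀ : G → ℂ) := by
    calc charDegree (χ₀ : G → ℂ) = 1 * charDegree (χ₀ : G → ℂ) := (one_mul _).symm
      _ ≤ _ := Nat.mul_le_mul_right _ hr1
  have hdeg : charDegree (χ₀ : G → ℂ) = charDegree (ψ : N → ℂ) := by omega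
  have hterm0 : resMul N χ₀ ψ * charDegree (χ₀ : G → ℂ) = cOdd N ψ := by omega
  have hr_one : resMul N χ₀ ψ = 1 := by
    have : resMul N χ₀ ψ * charDegree (χ₀ : G → ℂ) = 1 * charDegree (χ₀ : G → ℂ) := by omega
    exact Nat.eq_of_mul_eq_mul_right hd0pos this
  refine ⟨χ₀, hχ₀, ?_, ?_⟩
  · -- χ₀ restricted is ψ
    have hsum := degree_eq_sum_resMul N χ₀
    have hrest : ∀ ψ' : IrrCharacter N, ψ' ≠ ψ → resMul N χ₀ ψ' = 0 := by
      intro ψ' hne
      have hsplit := Finset.add_sum_erase Finset.univ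
        (fun ψ' : IrrCharacter N => resMul N χ₀ ψ' * charDegree (ψ' : N → ℂ)) (Finset.mem_univ ψ)
      rw [← hsum] at hsplit
      simp only [hr_one, one_mul] at hsplit
      have hz : ∑ x ∈ Finset.univ.erase ψ, resMul N χ₀ x * charDegree (x : N → ℂ) = 0 := by omega
      have := (Finset.sum_eq_zero_iff.1 hz) ψ' (Finset.mem_erase.2 ⟨hne, Finset.mem_univ _⟩)
      rcases Nat.mul_eq_zero.1 this with h | h
      · exact h
      · exact absurd h (charDegree_pos ψ').ne'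
    intro n
    have hexp := congrFun (restrict_eq_sum N χ₀) n
    simp only [Finset.sum_apply, Pi.smul_apply, smul_eq_mul] at hexp
    rw [hexp, Finset.sum_eq_single ψ]
    · rw [hr_one, Nat.cast_one, one_mul]
    · intro ψ' _ hne
      rw [hrest ψ' hne, Nat.cast_zero, zero_mul]
    · intro h
      exact absurd (Finset.mem_univ _) h
  · -- uniqueness
    intro χ hχ hne
    by_contra hcon
    have hrχ : resMul N χ ψ ≠ 0 := (resMul_ne_zero_iff N χ ψ).2 hne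
    have hsplit := Finset.add_sum_erase Finset.univ
      (fun χ : IrrCharacter G => if ¬ 2 ∣ charDegree (χ : G → ℂ) then
        resMul N χ ψ * charDegree (χ : G → ℂ) else 0) (Finset.mem_univ χ₀)
    simp only [if_pos hχ₀] at hsplit
    have hc' : cOdd N ψ = ∑ χ : IrrCharacter G, if ¬ 2 ∣ charDegree (χ : G → ℂ) then
        resMul N χ ψ * charDegree (χ : G → ℂ) else 0 := rfl
    rw [← hc'] at hsplit
    have hz : ∑ x ∈ Finset.univ.erase χ₀, (if ¬ 2 ∣ charDegree (x : G → ℂ) then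
        resMul N x ψ * charDegree (x : G → ℂ) else 0) = 0 := by omega
    have := (Finset.sum_eq_zero_iff.1 hz) χ (Finset.mem_erase.2 ⟨hcon, Finset.mem_univ _⟩)
    rw [if_pos hχ] at this
    rcases Nat.mul_eq_zero.1 this with h | h
    · exact hrχ h
    · exact absurd h (charDegree_pos χ).ne'

end odd

section finsum

variable {G : Type u} [Group G] [Fintype G] (N : Subgroup G) [Fintype N]

/-- the `finsum` over the odd-degree characters as a `Fintype` sum with `if` -/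
theorem finsum_odd_eq {H : Type u} [Group H] [Fintype H] [Fintype (IrrCharacter H)] :
    (∑ᶠ χ : {χ : IrrCharacter H // ¬ 2 ∣ charDegree (χ : H → ℂ)}, charDegree (χ.1 : H → ℂ) ^ 2) =
      ∑ χ : IrrCharacter H, if ¬ 2 ∣ charDegree (χ : H → ℂ) then charDegree (χ : H → ℂ) ^ 2 else 0 := by
  classical
  rw [finsum_eq_sum_of_fintype, ← Finset.sum_filter]
  rw [Finset.sum_subtype (p := fun χ : IrrCharacter H => ¬ 2 ∣ charDegree (χ : H → ℂ))
    (Finset.univ.filter (fun χ : IrrCharacter H => ¬ 2 ∣ charDegree (χ : H → ℂ)))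
    (by intro x; simp) (fun χ => charDegree (χ : H → ℂ) ^ 2)]

/-- (P2b) -/
theorem sum_sq_odd_le (hidx : ¬ 2 ∣ N.index) :
    (∑ᶠ ψ : {ψ : IrrCharacter N // ¬ 2 ∣ charDegree (ψ : N → ℂ)}, charDegree (ψ.1 : N → ℂ) ^ 2) ≤
      ∑ᶠ χ : {χ : IrrCharacter G // ¬ 2 ∣ charDegree (χ : G → ℂ)}, charDegree (χ.1 : G → ℂ) ^ 2 := by
  have := Fintype.ofFinite (IrrCharacter G)
  have := Fintype.ofFinite (IrrCharacter N)
  rw [finsum_odd_eq, finsum_odd_eq]
  exact sum_sq_odd_le_aux N hidx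

/-- (P2c) -/
theorem of_sum_sq_odd_eq (hidx : ¬ 2 ∣ N.index)
    (heq : (∑ᶠ ψ : {ψ : IrrCharacter N // ¬ 2 ∣ charDegree (ψ : N → ℂ)},
        charDegree (ψ.1 : N → ℂ) ^ 2) =
      ∑ᶠ χ : {χ : IrrCharacter G // ¬ 2 ∣ charDegree (χ : G → ℂ)}, charDegree (χ.1 : G → ℂ) ^ 2)
    (ψ : IrrCharacter N) (hψ : ¬ 2 ∣ charDegree (ψ : N → ℂ)) :
    ∃ χ₀ : IrrCharacter G, ¬ 2 ∣ charDegree (χ₀ : G → ℂ) ∧
      (∀ n : N, (χ₀ : G → ℂ) n = (ψ : N → ℂ) n) ∧
      ∀ χ : IrrCharacter G, ¬ 2 ∣ charDegree (χ : G → ℂ) →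
        classInner (fun n : N => (χ : G → ℂ) n) (ψ : N → ℂ) ≠ 0 → χ = χ₀ := by
  have := Fintype.ofFinite (IrrCharacter G)
  have := Fintype.ofFinite (IrrCharacter N)
  rw [finsum_odd_eq, finsum_odd_eq] at heq
  exact of_sum_sq_odd_eq_aux N hidx heq ψ hψ

end finsum

end Cfsg.Agent.Lib.H6.OD
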