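import Mathlib
import Cfsg.Prelude.Def_Characters
import Cfsg.Prelude.Def_Blocks
import Cfsg.Agent.Lib.H6.OD2

/-!
S4930 pieces (P2b) `oddSq_le` and (P2c) `extends_of_oddSq_eq` in the exact signatures of
`tools/blueprints/S4930_sigs.lean` (helper6); the sums are written out (`oddSq` there is an `abbrev`).
-/

set_option autoImplicit false

namespace Cfsg.Agent.Lib.H6.OD

open Cfsg

universe u

/-- (P2b) -/
theorem oddSq_le {G : Type u} [Group G] [Finite G] (N : Subgroup G) (hN : ¬ 2 ∣ N.index) :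
    (∑ᶠ χ : {χ : IrrCharacter ↥N // ¬ 2 ∣ charDegree (χ : ↥N → ℂ)}, charDegree (χ.1 : ↥N → ℂ) ^ 2) ≤
      ∑ᶠ χ : {χ : IrrCharacter G // ¬ 2 ∣ charDegree (χ : G → ℂ)}, charDegree (χ.1 : G → ℂ) ^ 2 := by
  have := Fintype.ofFinite G
  have := Fintype.ofFinite N
  exact sum_sq_odd_le N hN

/-- (P2c) -/
theorem extends_of_oddSq_eq {G : Type u} [Group G] [Finite G] (N : Subgroup G) (hN : ¬ 2 ∣ N.index)
    (heq : (∑ᶠ χ : {χ : IrrCharacter ↥N // ¬ 2 ∣ charDegree (χ : ↥N → ℂ)},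
        charDegree (χ.1 : ↥N → ℂ) ^ 2) =
      ∑ᶠ χ : {χ : IrrCharacter G // ¬ 2 ∣ charDegree (χ : G → ℂ)}, charDegree (χ.1 : G → ℂ) ^ 2)
    (ψ : IrrCharacter ↥N) (hψ : ¬ 2 ∣ charDegree (ψ : ↥N → ℂ)) :
    ∃ χ : IrrCharacter G, ∀ n : ↥N, (χ : G → ℂ) (n : G) = (ψ : ↥N → ℂ) n := by
  have := Fintype.ofFinite G
  have := Fintype.ofFinite N
  obtain ⟨χ₀, _, hres, _⟩ := of_sum_sq_odd_eq N hN heq ψ hψ
  exact ⟨χ₀, hres⟩

end Cfsg.Agent.Lib.H6.OD
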