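import Mathlib
import Cfsg.Prelude.Def_LieExceptional
import Cfsg.Prelude.Def_Solvable
import Cfsg.Agent.Lib.H2.BN5
import Cfsg.Agent.Lib.H1.SylowBasic

/-!
# S2936 (helper6): subgroups of `p'`-index with trivial `p`-core in a simple group with a split (B,N)-pair

`SplitBN P p`: `B = U T` with `T ≤ N` normalized by `N`, `U` a `p`-group normalized by `T`, and for each simple reflection
`s` a nontrivial subgroup `Q_s ≤ U` normalized by `B` and by all the other simple reflections (the unipotent radical of a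
maximal parabolic subgroup).

If `U ≤ M` then `M = U (M ∩ N) U` (Bruhat), so `M T = T M` is a subgroup containing `B`, hence a parabolic subgroup `P_J`.
If `J` is everything then `G = M T`, the normal core of `M` contains `U`, and `M = G` by simplicity.  Otherwise some `Q_s`
is a nontrivial normal `p`-subgroup of `M`.
-/

set_option autoImplicit false
set_option linter.unusedSectionVars false
set_option linter.unusedVariables false

namespace Cfsg.Agent.Lib.H6.OG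

open Cfsg Cfsg.Agent.Lib.H2.BN

variable {G : Type*} [Group G] {P : Cfsg.BNPair G} {p : ℕ}

/-- split (B,N)-pair data with radicals of the maximal parabolic subgroups -/
structure SplitBN (P : Cfsg.BNPair G) (p : ℕ) where
  T : Subgroup G
  U : Subgroup G
  hTN : T ≤ P.N
  hUB : U ≤ P.B
  hBUT : ∀ b ∈ P.B, ∃ u ∈ U, ∃ t ∈ T, b = u * t
  hNT : ∀ n ∈ P.N, ∀ t ∈ T, n⁻¹ * t * n ∈ T
  hTU : ∀ t ∈ T, ∀ u ∈ U, t * u * t⁻¹ ∈ U
  hU : IsPGroup p U
  hQ : ∀ s ∈ P.S, ∃ Q : Subgroup G, Q ≠ ⊥ ∧ Q ≤ U ∧ P.B ≤ Subgroup.normalizer (Q : Set G) ∧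
    ∀ s' ∈ P.S, s' ≠ s → s' ∈ Subgroup.normalizer (Q : Set G)

/-- `M` has no nontrivial normal `p`-subgroup (in terms of subgroups of the ambient group) -/
def NoNormalP (p : ℕ) (M : Subgroup G) : Prop :=
  ∀ Q : Subgroup G, Q ≤ M → IsPGroup p Q → M ≤ Subgroup.normalizer (Q : Set G) → Q = ⊥

theorem noNormalP_of_pCore (M : Subgroup G) (hM : Cfsg.pCore p ↥M = ⊥) : NoNormalP p M := by
  intro Q hQM hQp hMN
  have hnorm : (Q.subgroupOf M).Normal := by
    constructor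
    intro x hx m
    rw [Subgroup.mem_subgroupOf] at hx ⊢
    have := (Subgroup.mem_normalizer_iff.mp (hMN m.2) (x : G)).mp hx
    simpa using this
  have hp : IsPGroup p ↥(Q.subgroupOf M) := hQp.comap_subtype
  have hle : Q.subgroupOf M ≤ Cfsg.pCore p ↥M := le_sSup ⟨hnorm, hp⟩
  rw [hM, le_bot_iff] at hle
  rw [eq_bot_iff]
  intro q hq
  have : (⟨q, hQM hq⟩ : ↥M) ∈ Q.subgroupOf M := Subgroup.mem_subgroupOf.mpr hq
  rw [hle, Subgroup.mem_bot] at this
  rw [Subgroup.mem_bot]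
  exact congrArg Subtype.val this

namespace SplitBN

variable (X : SplitBN P p)

/-- Bruhat: `M = U (M ∩ N) U` for `U ≤ M` -/
theorem exists_UNU (M : Subgroup G) (hUM : X.U ≤ M) (m : G) (hm : m ∈ M) :
    ∃ u ∈ X.U, ∃ n ∈ P.N, n ∈ M ∧ ∃ u' ∈ X.U, m = u * n * u' := by
  obtain ⟨n, hn, hmn⟩ := bruhat (P := P) m
  obtain ⟨b, hb, b', hb', rfl⟩ := mem_C_iff.1 hmn
  obtain ⟨u, hu, t, ht, rfl⟩ := X.hBUT b hb
  obtain ⟨u₂, hu₂, t₂, ht₂, h₂⟩ := X.hBUT b'⁻¹ (P.B.inv_mem hb')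
  have hb'e : b' = t₂⁻¹ * u₂⁻¹ := by rw [← mul_inv_rev, ← h₂, inv_inv]
  refine ⟨u, hu, t * n * t₂⁻¹, ?_, ?_, u₂⁻¹, X.U.inv_mem hu₂, ?_⟩
  · exact P.N.mul_mem (P.N.mul_mem (X.hTN ht) hn) (P.N.inv_mem (X.hTN ht₂))
  · have e : t * n * t₂⁻¹ = u⁻¹ * (u * t * n * b') * u₂ := by rw [hb'e]; group
    rw [e]
    exact M.mul_mem (M.mul_mem (M.inv_mem (hUM hu)) hm) (hUM hu₂)
  · rw [hb'e]; group

/-- `T M ⊆ M T` -/
theorem T_mul_M (M : Subgroup G) (hUM : X.U ≤ M) (t : G) (ht : t ∈ X.T) (m : G) (hm : m ∈ M) :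
    ∃ m' ∈ M, ∃ t' ∈ X.T, t * m = m' * t' := by
  obtain ⟨u, hu, n, hn, hnM, u', hu', rfl⟩ := X.exists_UNU M hUM m hm
  have ht' : n⁻¹ * t * n ∈ X.T := X.hNT n hn t ht
  refine ⟨(t * u * t⁻¹) * n * ((n⁻¹ * t * n) * u' * (n⁻¹ * t * n)⁻¹), ?_, n⁻¹ * t * n, ht', by group⟩
  exact M.mul_mem (M.mul_mem (hUM (X.hTU t ht u hu)) hnM) (hUM (X.hTU _ ht' u' hu'))

/-- the subgroup `M T` -/
def MT (M : Subgroup G) (hUM : X.U ≤ M) : Subgroup G where
  carrier := {g | ∃ m ∈ M, ∃ t ∈ X.T, g = m * t}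
  one_mem' := ⟨1, M.one_mem, 1, X.T.one_mem, by simp⟩
  mul_mem' := by
    rintro _ _ ⟨m, hm, t, ht, rfl⟩ ⟨m', hm', t', ht', rfl⟩
    obtain ⟨m'', hm'', t'', ht'', e⟩ := X.T_mul_M M hUM t ht m' hm'
    refine ⟨m * m'', M.mul_mem hm hm'', t'' * t', X.T.mul_mem ht'' ht', ?_⟩
    calc m * t * (m' * t') = m * (t * m') * t' := by group
      _ = m * (m'' * t'') * t' := by rw [e]
      _ = m * m'' * (t'' * t') := by group
  inv_mem' := by
    rintro _ ⟨m, hm, t, ht, rfl⟩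
    obtain ⟨m'', hm'', t'', ht'', e⟩ := X.T_mul_M M hUM t⁻¹ (X.T.inv_mem ht) m⁻¹ (M.inv_mem hm)
    exact ⟨m'', hm'', t'', ht'', by rw [mul_inv_rev, e]⟩

theorem mem_MT (M : Subgroup G) (hUM : X.U ≤ M) (g : G) :
    g ∈ X.MT M hUM ↔ ∃ m ∈ M, ∃ t ∈ X.T, g = m * t := Iff.rfl

/-- **a subgroup containing `U` without nontrivial normal `p`-subgroups is everything** -/
theorem eq_top_of_U_le [IsSimpleGroup G] (hUne : X.U ≠ ⊥) (M : Subgroup G) (hUM : X.U ≤ M)
    (hM : NoNormalP p M) : M = ⊤ := by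
  have hBY : P.B ≤ X.MT M hUM := by
    intro b hb
    obtain ⟨u, hu, t, ht, rfl⟩ := X.hBUT b hb
    exact ⟨u, hUM hu, t, ht, rfl⟩
  have hMY : M ≤ X.MT M hUM := fun m hm => ⟨m, hm, 1, X.T.one_mem, by simp⟩
  have hpar := eq_parabolic_of_le (P := P) (X.MT M hUM) hBY
  by_cases hall : ∀ s ∈ P.S, s ∈ X.MT M hUM
  · have hYtop : X.MT M hUM = ⊤ := by
      rw [hpar, eq_top_iff, ← parabolic_S (P := P)]
      exact parabolic_mono (fun s hs => ⟨hs, hall s hs⟩)
    have hcore : X.U ≤ M.normalCore := by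
      intro u hu
      rw [Subgroup.normalCore, Subgroup.mem_mk]
      intro g
      have hg : g ∈ X.MT M hUM := by rw [hYtop]; trivial
      obtain ⟨m, hm, t, ht, rfl⟩ := hg
      have e : m * t * u * (m * t)⁻¹ = m * (t * u * t⁻¹) * m⁻¹ := by group
      rw [e]
      exact M.mul_mem (M.mul_mem hm (hUM (X.hTU t ht u hu))) (M.inv_mem hm)
    have hn : M.normalCore = ⊤ := by
      rcases (M.normalCore_normal).eq_bot_or_eq_top with h | h
      · exfalso
        apply hUne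
        rw [eq_bot_iff, ← h]
        exact hcore
      · exact h
    rw [eq_top_iff, ← hn]
    exact M.normalCore_le
  · exfalso
    push Not at hall
    obtain ⟨s, hs, hsY⟩ := hall
    obtain ⟨Q, hQne, hQU, hBQ, hsQ⟩ := X.hQ s hs
    have hYN : X.MT M hUM ≤ Subgroup.normalizer (Q : Set G) := by
      rw [hpar]
      apply sup_le hBQ
      rw [Subgroup.closure_le]
      rintro s' ⟨hs', hs'Y⟩
      apply hsQ s' hs'
      rintro rfl
      exact hsY hs'Y
    exact hQne (hM Q (hQU.trans hUM) (X.hU.to_le hQU) (hMY.trans hYN))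

/-- conjugation by `g⁻¹` -/
theorem noNormalP_comap (M : Subgroup G) (hM : NoNormalP p M) (g : G) :
    NoNormalP p (M.comap (MulAut.conj g).toMonoidHom) := by
  intro Q hQM hQp hMN
  have hmem : ∀ x : G, x ∈ Q.map (MulAut.conj g).toMonoidHom ↔ g⁻¹ * x * g ∈ Q := by
    intro x
    constructor
    · rintro ⟨q, hq, rfl⟩
      have : g⁻¹ * (MulAut.conj g).toMonoidHom q * g = q := by
        simp [MulAut.conj_apply]; group
      rw [this]; exact hq
    · intro hx
      refine ⟨g⁻¹ * x * g, hx, ?_⟩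
      simp [MulAut.conj_apply]; group
  have h1 : Q.map (MulAut.conj g).toMonoidHom ≤ M := by
    rintro _ ⟨q, hq, rfl⟩
    exact hQM hq
  have h2 : IsPGroup p ↥(Q.map (MulAut.conj g).toMonoidHom) := hQp.map _
  have h3 : M ≤ Subgroup.normalizer ((Q.map (MulAut.conj g).toMonoidHom : Subgroup G) : Set G) := by
    intro m hm
    have hm' : g⁻¹ * m * g ∈ M.comap (MulAut.conj g).toMonoidHom := by
      rw [Subgroup.mem_comap]
      have : (MulAut.conj g).toMonoidHom (g⁻¹ * m * g) = m := by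
        simp [MulAut.conj_apply]; group
      rw [this]; exact hm
    have hn := hMN hm'
    rw [Subgroup.mem_normalizer_iff]
    intro x
    rw [hmem, hmem]
    have := Subgroup.mem_normalizer_iff.mp hn (g⁻¹ * x * g)
    rw [this]
    have e : g⁻¹ * m * g * (g⁻¹ * x * g) * (g⁻¹ * m * g)⁻¹ = g⁻¹ * (m * x * m⁻¹) * g := by group
    rw [e]
  have h4 := hM _ h1 h2 h3
  rw [eq_bot_iff]
  intro q hq
  have : (MulAut.conj g).toMonoidHom q ∈ Q.map (MulAut.conj g).toMonoidHom := ⟨q, hq, rfl⟩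
  rw [h4, Subgroup.mem_bot] at this
  rw [Subgroup.mem_bot]
  have hinj : Function.Injective (MulAut.conj g).toMonoidHom := (MulAut.conj g).injective
  exact hinj (this.trans (map_one _).symm)

/-- **the theorem**: a subgroup of index prime to `p` with trivial `p`-core is everything -/
theorem eq_top_of_index [Finite G] [IsSimpleGroup G] [Fact p.Prime] (hUne : X.U ≠ ⊥) (M : Subgroup G)
    (hM : Cfsg.pCore p ↥M = ⊥) (hidx : ¬ p ∣ M.index) : M = ⊤ := by
  obtain ⟨g, hg⟩ := Cfsg.Agent.Lib.H1.exists_conj_le_of_not_dvd_index hidx X.hU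
  have hUM : X.U ≤ M.comap (MulAut.conj g).toMonoidHom := by
    intro u hu
    rw [Subgroup.mem_comap]
    exact hg u hu
  have htop := X.eq_top_of_U_le hUne _ hUM (noNormalP_comap M (noNormalP_of_pCore M hM) g)
  rw [eq_top_iff]
  intro m _
  have : g⁻¹ * m * g ∈ M.comap (MulAut.conj g).toMonoidHom := by rw [htop]; trivial
  rw [Subgroup.mem_comap] at this
  have e : (MulAut.conj g).toMonoidHom (g⁻¹ * m * g) = m := by
    simp [MulAut.conj_apply]; group
  rwa [e] at this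

end SplitBN

end Cfsg.Agent.Lib.H6.OG
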