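import Cfsg.Agent.Lib.H6.ONGlue

set_option autoImplicit false

/-!
# The presented O'Nan group is perfect
-/

namespace Cfsg.Agent.Lib.H6.ONPerfect

open Cfsg.Agent.Lib.H6.ONGlue

/-- the image of a letter in the additive abelianisation -/
noncomputable def q (x : ℕ) : Additive (Abelianization G) :=
  Additive.ofMul (Abelianization.of (e x))

theorem q_word (w : List ℕ) :
    Additive.ofMul (Abelianization.of ((w.map e).prod)) = (w.map q).sum := by
  induction w with
  | nil => simp
  | cons x w ih =>
    rw [List.map_cons, List.prod_cons, map_mul, ofMul_mul, ih, List.map_cons, List.sum_cons]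
    rfl

theorem q_base {w : List ℕ} (hw : w ∈ baseW) : (w.map q).sum = 0 := by
  rw [← q_word, baseW_trivial w hw, map_one]
  rfl

theorem q_one : q 1 = - q 0 := by
  unfold q
  have : e 1 = (e 0)⁻¹ := rfl
  rw [this, map_inv]
  rfl

theorem q_zero_all : ∀ x < 8, q x = 0 := by
  have sa := q_base (w := [2, 2]) (by decide)
  have sb := q_base (w := [3, 3]) (by decide)
  have sc := q_base (w := [4, 4]) (by decide)
  have sd := q_base (w := [5, 5]) (by decide)
  have se := q_base (w := [6, 6]) (by decide)
  have sf := q_base (w := [7, 7]) (by decide)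
  have rab := q_base (w := [2, 3, 2, 3, 2, 3]) (by decide)
  have rbc := q_base (w := [3, 4, 3, 4, 3, 4]) (by decide)
  have rde := q_base (w := [5, 6, 5, 6, 5, 6]) (by decide)
  have ref := q_base (w := [6, 7, 6, 7, 6, 7]) (by decide)
  have w21 := q_base (w := [2, 7, 1, 1]) (by decide)
  have w22 := q_base (w := [2, 7, 5, 4, 5, 4, 5, 4, 5, 4]) (by decide)
  have w25 := q_base
    (w := [3, 4, 5, 0, 3, 4, 5, 0, 3, 4, 5, 0, 3, 4, 5, 0, 3, 4, 5, 0]) (by decide)
  have w26 := q_base (w := [0, 3, 4, 0, 4, 3, 0, 3, 4, 0, 4]) (by decide)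
  simp only [List.map_cons, List.map_nil, List.sum_cons, List.sum_nil] at sa sb sc sd se sf
  simp only [List.map_cons, List.map_nil, List.sum_cons, List.sum_nil] at rab rbc rde ref
  simp only [List.map_cons, List.map_nil, List.sum_cons, List.sum_nil, q_one] at w21 w22 w25 w26
  have hb : q 3 = 0 := by
    linear_combination (norm := module) w26 + (2 : ℤ) • w21 - sa - sf - (2 : ℤ) • sc - sb
  have ha : q 2 = 0 := by
    linear_combination (norm := module) rab - sa - sb - hb
  have hc : q 4 = 0 := by
    linear_combination (norm := module) rbc - sb - sc - hb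
  have hf : q 7 = 0 := by
    linear_combination (norm := module) w22 - ha - (2 : ℤ) • sd - (2 : ℤ) • sc
  have he : q 6 = 0 := by
    linear_combination (norm := module) ref - se - sf - hf
  have hd : q 5 = 0 := by
    linear_combination (norm := module) rde - sd - se - he
  have hg : q 0 = 0 := by
    linear_combination (norm := module) w25 - (5 : ℤ) • hb - (5 : ℤ) • hc - (5 : ℤ) • hd
      + (2 : ℤ) • w21 - (2 : ℤ) • ha - (2 : ℤ) • hf
  intro x hx
  interval_cases x
  · exact hg
  · rw [q_one, hg, neg_zero]
  · exact ha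
  · exact hb
  · exact hc
  · exact hd
  · exact he
  · exact hf

/-- the presented O'Nan group is perfect -/
theorem G_perfect : commutator G = ⊤ := by
  rw [eq_top_iff]
  have hgen : Subgroup.closure {g : G | ∃ x < 8, g = e x} = ⊤ := by
    rw [eq_top_iff, ← PresentedGroup.closure_range_of]
    apply Subgroup.closure_mono
    rintro _ ⟨u, rfl⟩
    cases u
    · exact ⟨0, by norm_num, rfl⟩
    · exact ⟨2, by norm_num, rfl⟩
    · exact ⟨3, by norm_num, rfl⟩
    · exact ⟨4, by norm_num, rfl⟩
    · exact ⟨5, by norm_num, rfl⟩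
    · exact ⟨6, by norm_num, rfl⟩
    · exact ⟨7, by norm_num, rfl⟩
  rw [← hgen, Subgroup.closure_le]
  rintro _ ⟨x, hx, rfl⟩
  rw [SetLike.mem_coe, ← Abelianization.ker_of, MonoidHom.mem_ker]
  have := q_zero_all x hx
  exact this

end Cfsg.Agent.Lib.H6.ONPerfect
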