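import Mathlib

set_option autoImplicit false

/-!
# A simplicity criterion for primitive groups

A perfect group acting faithfully and primitively, whose point stabiliser has only one proper
nontrivial normal subgroup (of index two), and which has no regular normal subgroup, is simple.
-/

namespace Cfsg.Agent.Lib.H6.SimplePrim

open MulAction

variable {G : Type*} [Group G] {X : Type*} [MulAction G X]

/-- a subgroup acting transitively generates the group together with a point stabiliser -/
theorem sup_stabilizer_eq_top (M : Subgroup G) [IsPretransitive M X] (z : X) :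
    stabilizer G z ⊔ M = ⊤ := by
  rw [eq_top_iff]
  intro g _
  obtain ⟨m, hm⟩ := exists_smul_eq M z (g • z)
  have h1 : ((m : G)⁻¹ * g) ∈ stabilizer G z := by
    rw [mem_stabilizer_iff, mul_smul, inv_smul_eq_iff]
    exact hm.symm
  have h2 : g = (m : G) * ((m : G)⁻¹ * g) := by group
  rw [h2]
  exact Subgroup.mul_mem _ (Subgroup.mem_sup_right m.2) (Subgroup.mem_sup_left h1)

theorem isSimpleGroup_of_primitive [IsPreprimitive G X] [FaithfulSMul G X] [Nontrivial G]
    (z : X) (Nn : Subgroup G)
    (hnormal : ∀ M : Subgroup G, M ≤ stabilizer G z →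
      (∀ h ∈ stabilizer G z, ∀ m ∈ M, h * m * h⁻¹ ∈ M) →
      M = ⊥ ∨ M = Nn ∨ M = stabilizer G z)
    (hidx : Nn.relIndex (stabilizer G z) = 2)
    (hperf : commutator G = ⊤)
    (hreg : ∀ M : Subgroup G, M.Normal → M ⊓ stabilizer G z = ⊥ → IsPretransitive M X → False) :
    IsSimpleGroup G := by
  refine ⟨fun M hM => ?_⟩
  by_cases hM1 : M = ⊥
  · exact Or.inl hM1
  right
  have := hM
  -- `M` moves some point
  have hfix : fixedPoints M X ≠ Set.univ := by
    obtain ⟨⟨m, hmM⟩, hm1⟩ := (Subgroup.ne_bot_iff_exists_ne_one).mp hM1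
    have hm1' : m ≠ 1 := fun h => hm1 (Subtype.ext h)
    intro hall
    apply hm1'
    apply FaithfulSMul.eq_of_smul_eq_smul (α := X)
    intro x
    rw [one_smul]
    have hx : x ∈ fixedPoints M X := by rw [hall]; trivial
    exact hx ⟨m, hmM⟩
  have : IsPretransitive M X := IsQuasiPreprimitive.isPretransitive_of_normal hfix
  have hsup := sup_stabilizer_eq_top M z
  have hnorm : ∀ h ∈ stabilizer G z, ∀ m ∈ M ⊓ stabilizer G z,
      h * m * h⁻¹ ∈ M ⊓ stabilizer G z := by
    intro h hh m hm
    exact ⟨hM.conj_mem m hm.1 h,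
      Subgroup.mul_mem _ (Subgroup.mul_mem _ hh hm.2) (Subgroup.inv_mem _ hh)⟩
  rcases hnormal (M ⊓ stabilizer G z) inf_le_right hnorm with h | h | h
  · exact (hreg M hM h inferInstance).elim
  · exfalso
    have hidxM : M.index = 2 := by
      rw [← Subgroup.relIndex_top_right, ← hsup, Subgroup.relIndex_sup_right,
        ← Subgroup.inf_relIndex_right, h, hidx]
    have hcomm : IsMulCommutative (G ⧸ M) := by
      have hcard : Nat.card (G ⧸ M) = 2 := hidxM
      have : Fact (Nat.Prime 2) := ⟨Nat.prime_two⟩
      have := isCyclic_of_prime_card hcard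
      exact IsCyclic.isMulCommutative
    have hle := Subgroup.Normal.quotient_commutative_iff_commutator_le.mp hcomm
    rw [hperf, top_le_iff] at hle
    rw [hle, Subgroup.index_top] at hidxM
    norm_num at hidxM
  · have hle : stabilizer G z ≤ M := by
      rw [← h]
      exact inf_le_left
    rw [← hsup]
    exact (sup_eq_right.mpr hle).symm

end Cfsg.Agent.Lib.H6.SimplePrim
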