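import Cfsg.Agent.Lib.H6.ONL37
import Cfsg.Agent.Lib.H6.ONOrb.All
import Cfsg.Agent.Lib.H6.ONPerfect
import Cfsg.Agent.Lib.H6.SimplePrim
import Cfsg.Agent.Lib.H17.Masks

set_option autoImplicit false

/-!
# The presented O'Nan group is simple of order `460815505920`

It acts faithfully and primitively on `122760` points with point stabiliser `L₃(7):2`, it is
perfect, and a regular normal subgroup is excluded by counting element orders against the four
nontrivial orbits of the stabiliser.
-/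

namespace Cfsg.Agent.Lib.H6.ONSimple

open Cfsg.Agent.Lib.H6.ONGlue Cfsg.Agent.Lib.H6.ONIndex Cfsg.Agent.Lib.H6.ONL37
  Cfsg.Agent.Lib.H6.L37 Cfsg.Agent.Lib.H6.PermTab Cfsg.Agent.Lib.H17.CosetCert MulAction

/-! ## The order -/

theorem G_card : Nat.card G = 460815505920 := by
  rw [← Subgroup.index_mul_card H, H_index.1, H_card]

instance G_finite : Finite G := Nat.finite_of_card_ne_zero (by rw [G_card]; norm_num)

instance G_nontrivial : Nontrivial G := by
  rw [← Finite.one_lt_card_iff_nontrivial, G_card]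
  norm_num

/-! ## The action -/

/-- the action on the points -/
@[instance_reducible]
noncomputable def act : MulAction G (Fin n) := MulAction.compHom (Fin n) phi

attribute [local instance] act

theorem smul_def (g : G) (i : Fin n) : g • i = phi g i := rfl

/-- the base point -/
def z : Fin n := ⟨0, by norm_num⟩

instance act_trans : IsPretransitive G (Fin n) := by
  constructor
  intro i j
  obtain ⟨gi, hi⟩ := phi_trans i
  obtain ⟨gj, hj⟩ := phi_trans j
  refine ⟨gj * gi⁻¹, ?_⟩
  rw [smul_def, map_mul, map_inv, Equiv.Perm.mul_apply, ← hi]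
  have : (phi gi)⁻¹ (phi gi ⟨0, by norm_num⟩) = ⟨0, by norm_num⟩ := (phi gi).symm_apply_apply _
  rw [this]
  exact hj

theorem stab_eq : stabilizer G z = H := by
  ext g
  rw [mem_stabilizer_iff, smul_def]
  exact ⟨H_index.2 g, phi_H g⟩

/-! ## The normal subgroups of the stabiliser -/

/-- the subgroup `L₃(7)` -/
noncomputable def NG : Subgroup G := Kev.map pi

theorem NG_le : NG ≤ H := by
  rw [← pi_range]
  exact Subgroup.map_le_range pi Kev

theorem normal_in_H (M : Subgroup G) (hle : M ≤ H)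
    (hn : ∀ h ∈ H, ∀ m ∈ M, h * m * h⁻¹ ∈ M) : M = ⊥ ∨ M = NG ∨ M = H := by
  have hM : M = (M.comap pi).map pi := by
    rw [Subgroup.map_comap_eq_self]
    rw [pi_range]
    exact hle
  have : (M.comap pi).Normal := by
    constructor
    intro m hm g
    rw [Subgroup.mem_comap, map_mul, map_mul, map_inv]
    refine hn _ ?_ _ hm
    rw [← pi_range]
    exact ⟨g, rfl⟩
  rcases normal_cases (M.comap pi) with h | h | h
  · left
    rw [hM, h, Subgroup.map_bot]
  · right; left
    rw [hM, h]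
    rfl
  · right; right
    rw [hM, h, ← MonoidHom.range_eq_map, pi_range]

theorem NG_relIndex : NG.relIndex H = 2 := by
  have h : NG.subgroupOf H = ONL37.N := by
    ext ⟨g, hg⟩
    rw [Subgroup.mem_subgroupOf]
    constructor
    · rintro ⟨x, hx, hxg⟩
      exact ⟨x, hx, Subtype.ext hxg⟩
    · rintro ⟨x, hx, hxg⟩
      exact ⟨x, hx, congrArg Subtype.val hxg⟩
  rw [Subgroup.relIndex, h, N_index]

/-! ## Faithfulness -/

theorem eps2_ne_eps3 : eps 2 ≠ eps 3 := by
  intro h1
  have h2 : sg 2 = sg 3 := inv_injective h1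
  have h3 : ((sg 2 ⟨1, by norm_num⟩ : Fin n) : ℕ) = ((sg 3 ⟨1, by norm_num⟩ : Fin n) : ℕ) := by
    rw [h2]
  rw [show ((sg 2 ⟨1, by norm_num⟩ : Fin n) : ℕ) = ONPerm.T 2 1 from
      σ_apply _ _ _ _ good 2 (by norm_num) _,
    show ((sg 3 ⟨1, by norm_num⟩ : Fin n) : ℕ) = ONPerm.T 3 1 from
      σ_apply _ _ _ _ good 3 (by norm_num) _] at h3
  exact T_ne h3

theorem phi_e23 : phi (e 2 * e 3) ≠ 1 := by
  rw [map_mul, phi_e 2 (by norm_num), phi_e 3 (by norm_num)]
  intro h
  apply eps2_ne_eps3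
  have h3 : eps 3 * eps 3 = 1 := letOK_eps.2 3 (by norm_num) (by norm_num)
  calc eps 2 = eps 2 * (eps 3 * eps 3) := by rw [h3, mul_one]
    _ = (eps 2 * eps 3) * eps 3 := by rw [mul_assoc]
    _ = eps 3 := by rw [h, one_mul]

theorem e23_mem_NG : e 2 * e 3 ∈ NG := by
  refine ⟨k 0 * k 1, k01_mem, ?_⟩
  rw [map_mul, pi_k (by norm_num), pi_k (by norm_num)]
  rfl

theorem phi_injective : Function.Injective phi := by
  rw [← MonoidHom.ker_eq_bot_iff]
  have hle : phi.ker ≤ H := by
    intro g hg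
    rw [MonoidHom.mem_ker] at hg
    apply H_index.2 g
    rw [hg]
    rfl
  have hn : ∀ h ∈ H, ∀ m ∈ phi.ker, h * m * h⁻¹ ∈ phi.ker := by
    intro h _ m hm
    exact (inferInstance : phi.ker.Normal).conj_mem m hm h
  rcases normal_in_H phi.ker hle hn with h | h | h
  · exact h
  · exfalso
    have : e 2 * e 3 ∈ phi.ker := by rw [h]; exact e23_mem_NG
    exact phi_e23 this
  · exfalso
    have : e 2 * e 3 ∈ phi.ker := by rw [h]; exact NG_le e23_mem_NG
    exact phi_e23 this

instance act_faithful : FaithfulSMul G (Fin n) := by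
  constructor
  intro g1 g2 h
  apply phi_injective
  ext i
  exact congrArg Fin.val (h i)

/-! ## Primitivity -/

/-- the orbit masks of the stabiliser -/
def masks : Fin 4 → ℕ := ![ONOrb.m0, ONOrb.m1, ONOrb.m2, ONOrb.m3]

/-- the orbit sizes -/
def sz : Fin 4 → ℕ := ![58653, 52136, 5586, 6384]

theorem letter_in_H : ∀ x, 2 ≤ x → x < 2 + 6 →
    ∃ g ∈ H, phi g = σ ONPerm.T ONPerm.iv 8 n x := by
  intro x h1 h2
  refine ⟨(e x)⁻¹, H.inv_mem (e_mem_H h1 (by omega)), ?_⟩
  rw [map_inv, phi_e x (by omega)]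
  exact inv_inv _

theorem masks_trans (j : Fin 4) (x y : Fin n) (hx : tb (masks j) x = true)
    (hy : tb (masks j) y = true) : ∃ g : G, g • z = z ∧ g • x = y := by
  have key : ∀ (mask root : ℕ) (hroot : root < n),
      (∀ i < n, tb mask i = true → i = root ∨ ∃ x, 2 ≤ x ∧ x < 2 + 6 ∧
        tb mask (ONPerm.T x i) = true ∧ ONOrb.R (ONPerm.T x i) < ONOrb.R i) →
      tb mask x = true → tb mask y = true → ∃ g : G, g • z = z ∧ g • x = y := by
    intro mask root hroot hs h1 h2
    obtain ⟨g, hgH, hg⟩ := orb_trans ONPerm.T ONOrb.R ONPerm.iv 8 n phi good H mask root 2 6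
      hroot (by norm_num) letter_in_H hs x y h1 h2
    exact ⟨g, phi_H g hgH, hg⟩
  fin_cases j
  · exact key ONOrb.m0 1 (by norm_num) ONOrb.orb0_all hx hy
  · exact key ONOrb.m1 6 (by norm_num) ONOrb.orb1_all hx hy
  · exact key ONOrb.m2 12 (by norm_num) ONOrb.orb2_all hx hy
  · exact key ONOrb.m3 32 (by norm_num) ONOrb.orb3_all hx hy

theorem masks_count (j : Fin 4) : countBits (masks j) n 0 = sz j := by
  fin_cases j
  · exact ONOrb.count0
  · exact ONOrb.count1
  · exact ONOrb.count2
  · exact ONOrb.count3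

theorem masks_cover (i : Fin n) (hi : i ≠ z) : ∃ j, tb (masks j) i = true := by
  have h := Cfsg.Agent.Lib.H17.Masks.all_of_count _ _ ONOrb.count_all i i.2
  rw [Cfsg.Agent.Lib.H17.Masks.tb_lor, Cfsg.Agent.Lib.H17.Masks.tb_lor,
    Cfsg.Agent.Lib.H17.Masks.tb_lor, Cfsg.Agent.Lib.H17.Masks.tb_lor,
    Cfsg.Agent.Lib.H17.Masks.tb_one] at h
  have hi0 : (i : ℕ) ≠ 0 := fun h0 => hi (Fin.ext h0)
  simp only [Bool.or_eq_true, decide_eq_true_eq, hi0, or_false] at h
  rcases h with ((h | h) | h) | h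
  · exact ⟨0, h⟩
  · exact ⟨1, h⟩
  · exact ⟨2, h⟩
  · exact ⟨3, h⟩

theorem masks_disj : ∀ i j : Fin 4, i ≠ j → Nat.land (masks i) (masks j) = 0 := by
  decide +kernel

theorem masks_z : ∀ j : Fin 4, tb (masks j) (z : ℕ) = false := by
  decide +kernel

theorem masks_dvd : ∀ J : Finset (Fin 4), J.Nonempty → J ≠ Finset.univ →
    ¬ (1 + ∑ j ∈ J, sz j) ∣ n := by
  decide +kernel

instance act_prim : IsPreprimitive G (Fin n) :=
  Cfsg.Agent.Lib.H17.Masks.prim_of_masks z masks sz masks_count masks_cover masks_disj masks_z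
    masks_trans masks_dvd

/-! ## No regular normal subgroup -/

/-- five primes dividing the degree -/
def pr : Fin 5 → ℕ := ![2, 3, 5, 11, 31]

theorem pr_prime : ∀ t : Fin 5, (pr t).Prime := by decide

theorem pr_dvd : ∀ t : Fin 5, pr t ∣ n := by decide

theorem pr_inj : Function.Injective pr := by decide

theorem no_regular (M : Subgroup G) (hM : M.Normal) (hMS : M ⊓ stabilizer G z = ⊥)
    (hMt : IsPretransitive M (Fin n)) : False := by
  -- the orbit map of `M` is injective
  have hinj : ∀ m1 ∈ M, ∀ m2 ∈ M, m1 • z = m2 • z → m1 = m2 := by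
    intro m1 h1 m2 h2 h
    have hmem : m2⁻¹ * m1 ∈ M ⊓ stabilizer G z := by
      refine ⟨M.mul_mem (M.inv_mem h2) h1, ?_⟩
      change m2⁻¹ * m1 ∈ stabilizer G z
      rw [mem_stabilizer_iff, mul_smul, h, inv_smul_smul]
    rw [hMS, Subgroup.mem_bot, inv_mul_eq_one] at hmem
    exact hmem.symm
  -- so `M` has `n` elements
  have hcard : Nat.card M = n := by
    have hbij : Function.Bijective (fun m : M => (m : G) • z) := by
      constructor
      · intro a b hab
        exact Subtype.ext (hinj a a.2 b b.2 hab)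
      · intro i
        obtain ⟨m, hm⟩ := exists_smul_eq M z i
        exact ⟨m, hm⟩
    rw [Nat.card_congr (Equiv.ofBijective _ hbij), Nat.card_eq_fintype_card, Fintype.card_fin]
  -- elements of five prime orders
  have hex : ∀ t : Fin 5, ∃ m : G, m ∈ M ∧ orderOf m = pr t := by
    intro t
    have : Fact (pr t).Prime := ⟨pr_prime t⟩
    obtain ⟨m, hm⟩ := exists_prime_orderOf_dvd_card' (G := M) (pr t) (by rw [hcard]; exact pr_dvd t)
    refine ⟨m, m.2, ?_⟩
    rw [← hm, Subgroup.orderOf_coe]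
  choose m hmM hmo using hex
  have hm1 : ∀ t, m t • z ≠ z := by
    intro t h
    have : m t = 1 := hinj _ (hmM t) 1 M.one_mem (by rw [h, one_smul])
    have h1 := hmo t
    rw [this, orderOf_one] at h1
    exact (pr_prime t).one_lt.ne h1
  -- two of them are sent into the same orbit of the stabiliser
  choose c hc using fun t => masks_cover (m t • z) (hm1 t)
  obtain ⟨a, b, hab, hcab⟩ := Fintype.exists_ne_map_eq_of_card_lt c (by simp)
  obtain ⟨g, hgz, hg⟩ := masks_trans (c a) (m a • z) (m b • z) (hc a) (by rw [hcab]; exact hc b)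
  have hconj : g * m a * g⁻¹ = m b := by
    apply hinj _ (hM.conj_mem _ (hmM a) g) _ (hmM b)
    rw [mul_smul, mul_smul, inv_smul_eq_iff.mpr hgz.symm, hg]
  have hord : orderOf (m a) = orderOf (m b) := by
    have hsc : SemiconjBy g (m a) (m b) := by
      unfold SemiconjBy
      rw [← hconj]
      group
    exact hsc.orderOf_eq
  rw [hmo a, hmo b] at hord
  exact hab (pr_inj hord)

/-! ## Simplicity -/

theorem G_simple : IsSimpleGroup G := by
  refine Cfsg.Agent.Lib.H6.SimplePrim.isSimpleGroup_of_primitive (X := Fin n) z NG ?_ ?_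
    Cfsg.Agent.Lib.H6.ONPerfect.G_perfect no_regular
  · rw [stab_eq]
    exact normal_in_H
  · rw [stab_eq]
    exact NG_relIndex

end Cfsg.Agent.Lib.H6.ONSimple
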