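import Cfsg.Agent.Lib.H6.ONGlue
import Cfsg.Agent.Lib.H6.ONSimple
import Cfsg.Agent.Lib.H6.ONF.Good
import Cfsg.Agent.Lib.H6.J1Pres
import Cfsg.Agent.Lib.H6.M11Pres

set_option autoImplicit false

/-!
# The presented O'Nan group on `122760` points, with subgroups `J1` and `M11`

A second copy of the permutation representation, with tables for two further involutions, in
which the relators of presentations of `J1` and `M11` are checked.
-/

namespace Cfsg.Agent.Lib.H6.ONFIndex

open Cfsg.Agent.Lib.H6.ONGlue Cfsg.Agent.Lib.H6.PermTab Cfsg.Agent.Lib.H6.PermFast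
  Cfsg.Agent.Lib.H17.CosetCert

open Cfsg.Agent.Lib.H6.WordPres (ltv lift lift_e)

/-- the number of points -/
abbrev n : ℕ := 122760

theorem good : Good ONF.T ONF.iv 12 n := by
  refine ⟨by decide, by decide, fun x hx i hi => (ONF.all_chunks i hi).2.1 x hx, ?_⟩
  intro x hx i hi
  have hmem : ([x, ONF.iv x], ([] : List ℕ)) ∈ ONF.eqPairs := by
    interval_cases x <;> decide
  have := (ONF.all_chunks i hi).1 _ hmem
  rw [applyW_cons, applyW_cons, applyW_nil, applyW_nil] at this
  exact this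

/-- the permutation of a letter -/
noncomputable def sg (x : ℕ) : Equiv.Perm (Fin n) := σ ONF.T ONF.iv 12 n x

/-- the letter assignment -/
noncomputable def eps (x : ℕ) : Equiv.Perm (Fin n) := (sg x)⁻¹

theorem sg_iv (x : ℕ) (hx : x < 12) : sg (ONF.iv x) = (sg x)⁻¹ := σ_iv _ _ _ _ good x hx

theorem eps_iv (x : ℕ) (hx : x < 12) : eps (ONF.iv x) = (eps x)⁻¹ := by
  unfold eps
  rw [sg_iv x hx]

/-- equal images give equal products -/
theorem eps_eq (u v : List ℕ) (hmem : (u, v) ∈ ONF.eqPairs) (hu : ∀ x ∈ u, x < 12)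
    (hv : ∀ x ∈ v, x < 12) : (u.map eps).prod = (v.map eps).prod :=
  prod_inv_eq_of_apply_eq _ _ _ _ good u v hu hv
    (fun i hi => (ONF.all_chunks i hi).1 _ hmem)

theorem eps_one (w : List ℕ) (hmem : (w, ([] : List ℕ)) ∈ ONF.eqPairs) (hw : ∀ x ∈ w, x < 12) :
    (w.map eps).prod = 1 := by
  have := eps_eq w [] hmem hw (by simp)
  simpa using this

theorem eps_sq (x : ℕ) (h1 : 2 ≤ x) (h2 : x < 10) : eps x * eps x = 1 := by
  have h := eps_iv x (by omega)
  have hx : ONF.iv x = x := by interval_cases x <;> rfl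
  rw [hx] at h
  nth_rewrite 1 [h]
  exact inv_mul_cancel _

theorem eps_inv (x : ℕ) (h1 : 2 ≤ x) (h2 : x < 10) : (eps x)⁻¹ = eps x :=
  inv_eq_of_mul_eq_one_left (eps_sq x h1 h2)

theorem letOK_eps : LetOK eps :=
  ⟨eps_iv 0 (by norm_num), fun x h1 h2 => eps_sq x h1 (by omega)⟩

theorem baseW_sub : ∀ w ∈ baseW, (w, ([] : List ℕ)) ∈ ONF.eqPairs ∧ ∀ x ∈ w, x < 12 := by decide

theorem baseW_eps : ∀ w ∈ baseW, (w.map eps).prod = 1 := by
  intro w hw
  obtain ⟨h1, h2⟩ := baseW_sub w hw
  exact eps_one w h1 h2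

/-- the permutation representation on `122760` points -/
noncomputable def phi : G →* Equiv.Perm (Fin n) :=
  PresentedGroup.toGroup (f := fOf eps) (lift_rels eps letOK_eps baseW_eps)

theorem phi_of (u : Gen) : phi (PresentedGroup.of u) = fOf eps u := by
  unfold phi
  rw [PresentedGroup.toGroup.of]

theorem phi_e (x : ℕ) (hx : x < 8) : phi (e x) = eps x := by
  interval_cases x
  · exact phi_of _
  · change phi (PresentedGroup.of _)⁻¹ = _
    rw [map_inv, phi_of]
    exact letOK_eps.1.symm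
  all_goals exact phi_of _

theorem phi_prod (w : List ℕ) (hw : ∀ x ∈ w, x < 8) :
    phi ((w.map e).prod) = (w.map eps).prod := by
  rw [map_list_prod, List.map_map]
  congr 1
  apply List.map_congr_left
  intro x hx
  exact phi_e x (hw x hx)

theorem phi_trans : ∀ i : Fin n, ∃ g : G, phi g ⟨0, by norm_num⟩ = i := by
  refine trans_of_conn' ONF.T ONF.iv 12 n (by norm_num) phi good 8 (by norm_num) ?_
    (fun i hi hi0 => (ONF.all_chunks i hi).2.2 hi0)
  intro x hx
  refine ⟨(e x)⁻¹, ?_⟩
  rw [map_inv, phi_e x hx]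
  exact inv_inv _

/-- a letter moving a point is not trivial -/
theorem eps_ne_one (x : ℕ) (hx : x < 12) (i : ℕ) (hi : i < n) (h : ONF.T x i ≠ i) :
    eps x ≠ 1 := by
  intro h1
  have h2 : sg x = 1 := by
    unfold eps at h1
    exact inv_eq_one.mp h1
  have h3 := σ_apply ONF.T ONF.iv 12 n good x hx ⟨i, hi⟩
  unfold sg at h2
  rw [h2] at h3
  exact h h3.symm

theorem T_2_2 : ONF.T 2 2 ≠ 2 := by decide +kernel
theorem T_8_0 : ONF.T 8 0 ≠ 0 := by decide +kernel
theorem T_9_0 : ONF.T 9 0 ≠ 0 := by decide +kernel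

/-- a homomorphism from a simple group which is not trivial is injective -/
theorem injective_of_simple {A B : Type*} [Group A] [Group B] [IsSimpleGroup A] (f : A →* B)
    (a : A) (h : f a ≠ 1) : Function.Injective f := by
  rw [← MonoidHom.ker_eq_bot_iff]
  rcases (inferInstance : f.ker.Normal).eq_bot_or_eq_top with h1 | h1
  · exact h1
  · exfalso
    apply h
    rw [← MonoidHom.mem_ker, h1]
    exact Subgroup.mem_top a

theorem phi_injective : Function.Injective phi := by
  haveI := ONSimple.G_simple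
  apply injective_of_simple phi (e 2)
  rw [phi_e 2 (by norm_num)]
  exact eps_ne_one 2 (by norm_num) 2 (by norm_num) T_2_2

/-! ## The subgroup `J1` -/

/-- the involution -/
noncomputable def uJ : G := (ONF.uJ.map e).prod

/-- the element of order `3` -/
noncomputable def vJ : G := e 2 * e 3

/-- the images of the generators -/
noncomputable def fJ (j : ℕ) : G :=
  if j = 0 then uJ else if j = 1 then vJ else uJ * vJ * uJ * vJ⁻¹

/-- the words of the letters -/
def xl (x : ℕ) : List ℕ :=
  if x = 0 then [8] else if x = 1 then [8] else if x = 2 then [2, 3] else if x = 3 then [3, 2]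
  else if x = 4 then [10] else [11]

theorem phi_uJ : phi uJ = eps 8 := by
  unfold uJ
  rw [phi_prod ONF.uJ (by decide)]
  have := eps_eq ONF.uJ [8] (by decide) (by decide) (by decide)
  simpa using this

theorem phi_vJ : phi vJ = eps 2 * eps 3 := by
  unfold vJ
  rw [map_mul, phi_e 2 (by norm_num), phi_e 3 (by norm_num)]

theorem phi_vJ_inv : phi vJ⁻¹ = eps 3 * eps 2 := by
  rw [map_inv, phi_vJ, mul_inv_rev, eps_inv 2 (by norm_num) (by norm_num),
    eps_inv 3 (by norm_num) (by norm_num)]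

theorem phi_tJ : phi (uJ * vJ * uJ * vJ⁻¹) = eps 10 := by
  rw [map_mul, map_mul, map_mul, phi_uJ, phi_vJ, phi_vJ_inv]
  have := eps_eq [8, 2, 3, 8, 3, 2] [10] (by decide) (by decide) (by decide)
  simp only [List.map_cons, List.map_nil, List.prod_cons, List.prod_nil, mul_one] at this
  rw [← this]
  group

theorem phi_ltv_fJ : ∀ x < 6, phi (ltv fJ x) = ((xl x).map eps).prod := by
  intro x hx
  interval_cases x
  · simp [ltv, fJ, xl, phi_uJ]
  · simp [ltv, fJ, xl, phi_uJ, eps_inv 8 (by norm_num) (by norm_num)]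
  · simp [ltv, fJ, xl, phi_vJ]
  · have : ltv fJ 3 = vJ⁻¹ := by simp [ltv, fJ]
    rw [this, phi_vJ_inv]
    simp [xl]
  · have : ltv fJ 4 = uJ * vJ * uJ * vJ⁻¹ := by simp [ltv, fJ]
    rw [this, phi_tJ]
    simp [xl]
  · have : ltv fJ 5 = (uJ * vJ * uJ * vJ⁻¹)⁻¹ := by simp [ltv, fJ]
    have h11 : ONF.iv 10 = 11 := by decide
    rw [this, map_inv, phi_tJ, ← eps_iv 10 (by norm_num), h11]
    simp [xl]

theorem phi_prod_fJ (w : List ℕ) (hw : ∀ x ∈ w, x < 6) :
    phi ((w.map (ltv fJ)).prod) = ((w.flatMap xl).map eps).prod := by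
  induction w with
  | nil => simp
  | cons x w ih =>
    rw [List.map_cons, List.prod_cons, map_mul, ih (fun y hy => hw y (List.mem_cons_of_mem _ hy)),
      phi_ltv_fJ x (hw x (List.mem_cons_self ..)), List.flatMap_cons, List.map_append,
      List.prod_append]

theorem WJ_sub : ∀ w ∈ J1Pres.W, (w.flatMap xl, ([] : List ℕ)) ∈ ONF.eqPairs ∧
    ∀ x ∈ w.flatMap xl, x < 12 := by decide

theorem fJ_rel : ∀ w ∈ J1Pres.W, (w.map (ltv fJ)).prod = 1 := by
  intro w hw
  apply phi_injective
  rw [phi_prod_fJ w (J1Pres.W_lt w hw), map_one]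
  obtain ⟨h1, h2⟩ := WJ_sub w hw
  exact eps_one _ h1 h2

/-- the embedding of `J1` -/
noncomputable def psiJ : J1Pres.G →* G := lift 3 J1Pres.W fJ J1Pres.W_lt fJ_rel

theorem psiJ_injective : Function.Injective psiJ := by
  have := J1Pres.simple_G
  apply injective_of_simple psiJ (WordPres.e 3 J1Pres.W 0)
  unfold psiJ
  rw [lift_e 3 J1Pres.W fJ J1Pres.W_lt fJ_rel 0 (by norm_num)]
  have : ltv fJ 0 = uJ := by simp [ltv, fJ]
  rw [this]
  intro h
  have h2 := phi_uJ
  rw [h, map_one] at h2
  exact eps_ne_one 8 (by norm_num) 0 (by norm_num) T_8_0 h2.symm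

/-! ## The subgroup `M11` -/

/-- the involution -/
noncomputable def uM : G := (ONF.uM.map e).prod

/-- the images of the generators -/
noncomputable def fM (j : ℕ) : G := if j = 0 then uM else e 0

/-- the words of the letters -/
def xm (x : ℕ) : List ℕ :=
  if x = 0 then [9] else if x = 1 then [9] else if x = 2 then [0] else [1]

theorem phi_uM : phi uM = eps 9 := by
  unfold uM
  rw [phi_prod ONF.uM (by decide)]
  have := eps_eq ONF.uM [9] (by decide) (by decide) (by decide)
  simpa using this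

theorem phi_ltv_fM : ∀ x < 4, phi (ltv fM x) = ((xm x).map eps).prod := by
  intro x hx
  interval_cases x
  · simp [ltv, fM, xm, phi_uM]
  · simp [ltv, fM, xm, phi_uM, eps_inv 9 (by norm_num) (by norm_num)]
  · simp [ltv, fM, xm, phi_e 0 (by norm_num)]
  · have : ltv fM 3 = (e 0)⁻¹ := by simp [ltv, fM]
    have h1 : ONF.iv 0 = 1 := by decide
    rw [this, map_inv, phi_e 0 (by norm_num), ← eps_iv 0 (by norm_num), h1]
    simp [xm]

theorem phi_prod_fM (w : List ℕ) (hw : ∀ x ∈ w, x < 4) :
    phi ((w.map (ltv fM)).prod) = ((w.flatMap xm).map eps).prod := by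
  induction w with
  | nil => simp
  | cons x w ih =>
    rw [List.map_cons, List.prod_cons, map_mul, ih (fun y hy => hw y (List.mem_cons_of_mem _ hy)),
      phi_ltv_fM x (hw x (List.mem_cons_self ..)), List.flatMap_cons, List.map_append,
      List.prod_append]

theorem WM_sub : ∀ w ∈ M11Pres.W, (w.flatMap xm, ([] : List ℕ)) ∈ ONF.eqPairs ∧
    ∀ x ∈ w.flatMap xm, x < 12 := by decide

theorem fM_rel : ∀ w ∈ M11Pres.W, (w.map (ltv fM)).prod = 1 := by
  intro w hw
  apply phi_injective
  rw [phi_prod_fM w (M11Pres.W_lt w hw), map_one]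
  obtain ⟨h1, h2⟩ := WM_sub w hw
  exact eps_one _ h1 h2

/-- the embedding of `M11` -/
noncomputable def psiM : M11Pres.G →* G := lift 2 M11Pres.W fM M11Pres.W_lt fM_rel

theorem psiM_injective : Function.Injective psiM := by
  have := M11Pres.simple_G
  apply injective_of_simple psiM (WordPres.e 2 M11Pres.W 0)
  unfold psiM
  rw [lift_e 2 M11Pres.W fM M11Pres.W_lt fM_rel 0 (by norm_num)]
  have : ltv fM 0 = uM := by simp [ltv, fM]
  rw [this]
  intro h
  have h2 := phi_uM
  rw [h, map_one] at h2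
  exact eps_ne_one 9 (by norm_num) 0 (by norm_num) T_9_0 h2.symm

end Cfsg.Agent.Lib.H6.ONFIndex
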