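import Cfsg.Agent.Lib.H6.TC
import Cfsg.Agent.Lib.H6.PermTab
import Cfsg.Agent.Lib.H17.CoxGlue
import Cfsg.Prelude.Def_Spor_ON

set_option autoImplicit false
set_option maxRecDepth 100000

/-!
# Glue between the presentation of the O'Nan group and letter words

Letters: `0 = g`, `1 = g⁻¹`, `2, …, 7 = a, …, f`.
-/

namespace Cfsg.Agent.Lib.H6.ONGlue

open Cfsg.Spor Cfsg.Agent.Lib.H17.CosetCert Cfsg.Agent.Lib.H17.CoxGlue

/-- the generators -/
abbrev Gen := Cfsg.Spor.ON.Gen

/-- the relators -/
abbrev rels : Set (FreeGroup Gen) :=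
  coxRelators Cfsg.Spor.ON.edges ∪ {r | r ∈ Cfsg.Spor.ON.extra}

/-- the presented group -/
abbrev G : Type := PresentedGroup rels

/-- the letter of a signed generator -/
def lt : Gen × Bool → ℕ
  | (.g, true) => 0
  | (.g, false) => 1
  | (.a, _) => 2
  | (.b, _) => 3
  | (.c, _) => 4
  | (.d, _) => 5
  | (.e, _) => 6
  | (.f, _) => 7

/-- the inverse letter -/
def iv (x : ℕ) : ℕ := (cond (Nat.beq x 0) 1 (cond (Nat.beq x 1) 0 x))

theorem mem_nodes (u : Gen) (hu : u ≠ .g) : u ∈ coxNodes Cfsg.Spor.ON.edges := by
  cases u <;> first | exact absurd rfl hu | decide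

theorem g_not_mem_nodes : Cfsg.Spor.ON.Gen.g ∉ coxNodes Cfsg.Spor.ON.edges := by decide

/-- the base words: squares, Coxeter pairs, further relators -/
def baseW : List (List ℕ) := [  [2, 2],
  [3, 3],
  [4, 4],
  [5, 5],
  [6, 6],
  [7, 7],
  [2, 3, 2, 3, 2, 3],
  [2, 4, 2, 4],
  [2, 5, 2, 5],
  [2, 6, 2, 6],
  [2, 7, 2, 7],
  [3, 4, 3, 4, 3, 4],
  [3, 5, 3, 5],
  [3, 6, 3, 6],
  [3, 7, 3, 7],
  [4, 5, 4, 5, 4, 5, 4, 5, 4, 5, 4, 5, 4, 5, 4, 5],
  [4, 6, 4, 6],
  [4, 7, 4, 7],
  [5, 6, 5, 6, 5, 6],
  [5, 7, 5, 7],
  [6, 7, 6, 7, 6, 7],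
  [2, 7, 1, 1],
  [2, 7, 5, 4, 5, 4, 5, 4, 5, 4],
  [4, 1, 5, 1, 5, 4, 5, 0, 5, 0],
  [5, 1, 4, 1, 4, 5, 4, 0, 4, 0],
  [3, 4, 5, 0, 3, 4, 5, 0, 3, 4, 5, 0, 3, 4, 5, 0, 3, 4, 5, 0],
  [0, 3, 4, 0, 4, 3, 0, 3, 4, 0, 4],
  [0, 6, 5, 0, 5, 6, 0, 6, 5, 0, 5]]
/-- the letters of the further relator number 0 -/
def extraL0 : List (Gen × Bool) := [(.a, true), (.f, true), (.g, false), (.g, false)]
theorem extra0_eq : Cfsg.Spor.ON.extra[0] = FreeGroup.mk extraL0 := by rfl
theorem extraL0_lt : extraL0.map lt = baseW[21] := by decide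
/-- the letters of the further relator number 1 -/
def extraL1 : List (Gen × Bool) := [(.a, true), (.f, true), (.d, false), (.c, false), (.d, false), (.c, false), (.d, false), (.c, false), (.d, false), (.c, false)]
theorem extra1_eq : Cfsg.Spor.ON.extra[1] = FreeGroup.mk extraL1 := by rfl
theorem extraL1_lt : extraL1.map lt = baseW[22] := by decide
/-- the letters of the further relator number 2 -/
def extraL2 : List (Gen × Bool) := [(.c, true), (.g, false), (.d, false), (.g, false), (.d, false), (.c, true), (.d, true), (.g, true), (.d, true), (.g, true)]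
theorem extra2_eq : Cfsg.Spor.ON.extra[2] = FreeGroup.mk extraL2 := by rfl
theorem extraL2_lt : extraL2.map lt = baseW[23] := by decide
/-- the letters of the further relator number 3 -/
def extraL3 : List (Gen × Bool) := [(.d, true), (.g, false), (.c, false), (.g, false), (.c, false), (.d, true), (.c, true), (.g, true), (.c, true), (.g, true)]
theorem extra3_eq : Cfsg.Spor.ON.extra[3] = FreeGroup.mk extraL3 := by rfl
theorem extraL3_lt : extraL3.map lt = baseW[24] := by decide
/-- the letters of the further relator number 4 -/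
def extraL4 : List (Gen × Bool) := [(.b, true), (.c, true), (.d, true), (.g, true), (.b, true), (.c, true), (.d, true), (.g, true), (.b, true), (.c, true), (.d, true), (.g, true), (.b, true), (.c, true), (.d, true), (.g, true), (.b, true), (.c, true), (.d, true), (.g, true)]
theorem extra4_eq : Cfsg.Spor.ON.extra[4] = FreeGroup.mk extraL4 := by rfl
theorem extraL4_lt : extraL4.map lt = baseW[25] := by decide
/-- the letters of the further relator number 5 -/
def extraL5 : List (Gen × Bool) := [(.g, true), (.b, true), (.c, false), (.g, true), (.c, true), (.b, false), (.g, true), (.b, true), (.c, false), (.g, true), (.c, true)]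
theorem extra5_eq : Cfsg.Spor.ON.extra[5] = FreeGroup.mk extraL5 := by rfl
theorem extraL5_lt : extraL5.map lt = baseW[26] := by decide
/-- the letters of the further relator number 6 -/
def extraL6 : List (Gen × Bool) := [(.g, true), (.e, true), (.d, false), (.g, true), (.d, true), (.e, false), (.g, true), (.e, true), (.d, false), (.g, true), (.d, true)]
theorem extra6_eq : Cfsg.Spor.ON.extra[6] = FreeGroup.mk extraL6 := by rfl
theorem extraL6_lt : extraL6.map lt = baseW[27] := by decide

theorem extra_length : Cfsg.Spor.ON.extra.length = 7 := by rfl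

section letters

variable {K : Type*} [Group K] (ε : ℕ → K)

/-- the generator images determined by a letter assignment -/
def fOf : Gen → K
  | .g => ε 0
  | .a => ε 2
  | .b => ε 3
  | .c => ε 4
  | .d => ε 5
  | .e => ε 6
  | .f => ε 7

/-- the letter assignment is compatible with inverses -/
def LetOK : Prop := ε 1 = (ε 0)⁻¹ ∧ ∀ x, 2 ≤ x → x < 8 → ε x * ε x = 1

theorem cond_eq (h : LetOK ε) (p : Gen × Bool) :
    cond p.2 (fOf ε p.1) (fOf ε p.1)⁻¹ = ε (lt p) := by
  obtain ⟨u, s⟩ := p
  have hi : ∀ x, 2 ≤ x → x < 8 → (ε x)⁻¹ = ε x := fun x h1 h2 =>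
    inv_eq_of_mul_eq_one_left (h.2 x h1 h2)
  cases u <;> cases s <;> simp only [cond_true, cond_false, fOf, lt]
  · exact h.1.symm
  all_goals first | exact hi _ (by norm_num) (by norm_num)

theorem lift_mk (h : LetOK ε) (L : List (Gen × Bool)) :
    FreeGroup.lift (fOf ε) (FreeGroup.mk L) = ((L.map lt).map ε).prod := by
  rw [FreeGroup.lift_mk, List.map_map]
  congr 1
  apply List.map_congr_left
  intro p _
  exact cond_eq ε h p

theorem fOf_mul_self (h : LetOK ε) (u : Gen) (hu : u ≠ .g) : fOf ε u * fOf ε u = 1 := by
  cases u <;> first | exact absurd rfl hu | exact h.2 _ (by norm_num) (by norm_num)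

/-- a letter assignment killing the base words kills the relators -/
theorem lift_rels (h : LetOK ε) (hW : ∀ w ∈ baseW, (w.map ε).prod = 1) :
    ∀ r ∈ rels, FreeGroup.lift (fOf ε) r = 1 := by
  have hWt : ∀ (t : ℕ) (ht : t < baseW.length), ((baseW[t]).map ε).prod = 1 :=
    fun t ht => hW _ (List.getElem_mem ht)
  have hsq : ∀ u : Gen, u ∈ coxNodes Cfsg.Spor.ON.edges → fOf ε u * fOf ε u = 1 := by
    intro u hu
    apply fOf_mul_self ε h
    rintro rfl
    exact g_not_mem_nodes hu
  intro r hr
  rcases hr with ⟨x, hx, y, hy, rfl⟩ | hr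
  · cases x <;> cases y
    · exact absurd hx g_not_mem_nodes
    · exact absurd hx g_not_mem_nodes
    · exact absurd hx g_not_mem_nodes
    · exact absurd hx g_not_mem_nodes
    · exact absurd hx g_not_mem_nodes
    · exact absurd hx g_not_mem_nodes
    · exact absurd hx g_not_mem_nodes
    · exact absurd hy g_not_mem_nodes
    · rw [coxLabel_self, pow_one, map_mul, FreeGroup.lift_apply_of]; exact hsq _ hx
    · exact cox_lt _ (fOf ε) .a .b 3 (by decide) (by have := hWt 6 (by decide); simpa [baseW, pairW, fOf] using this)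
    · exact cox_lt _ (fOf ε) .a .c 2 (by decide) (by have := hWt 7 (by decide); simpa [baseW, pairW, fOf] using this)
    · exact cox_lt _ (fOf ε) .a .d 2 (by decide) (by have := hWt 8 (by decide); simpa [baseW, pairW, fOf] using this)
    · exact cox_lt _ (fOf ε) .a .e 2 (by decide) (by have := hWt 9 (by decide); simpa [baseW, pairW, fOf] using this)
    · exact cox_lt _ (fOf ε) .a .f 2 (by decide) (by have := hWt 10 (by decide); simpa [baseW, pairW, fOf] using this)
    · exact absurd hy g_not_mem_nodes
    · exact cox_gt _ (fOf ε) .b .a 3 (by decide) (by have := hWt 6 (by decide); simpa [baseW, pairW, fOf] using this)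
    · rw [coxLabel_self, pow_one, map_mul, FreeGroup.lift_apply_of]; exact hsq _ hx
    · exact cox_lt _ (fOf ε) .b .c 3 (by decide) (by have := hWt 11 (by decide); simpa [baseW, pairW, fOf] using this)
    · exact cox_lt _ (fOf ε) .b .d 2 (by decide) (by have := hWt 12 (by decide); simpa [baseW, pairW, fOf] using this)
    · exact cox_lt _ (fOf ε) .b .e 2 (by decide) (by have := hWt 13 (by decide); simpa [baseW, pairW, fOf] using this)
    · exact cox_lt _ (fOf ε) .b .f 2 (by decide) (by have := hWt 14 (by decide); simpa [baseW, pairW, fOf] using this)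
    · exact absurd hy g_not_mem_nodes
    · exact cox_gt _ (fOf ε) .c .a 2 (by decide) (by have := hWt 7 (by decide); simpa [baseW, pairW, fOf] using this)
    · exact cox_gt _ (fOf ε) .c .b 3 (by decide) (by have := hWt 11 (by decide); simpa [baseW, pairW, fOf] using this)
    · rw [coxLabel_self, pow_one, map_mul, FreeGroup.lift_apply_of]; exact hsq _ hx
    · exact cox_lt _ (fOf ε) .c .d 8 (by decide) (by have := hWt 15 (by decide); simpa [baseW, pairW, fOf] using this)
    · exact cox_lt _ (fOf ε) .c .e 2 (by decide) (by have := hWt 16 (by decide); simpa [baseW, pairW, fOf] using this)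
    · exact cox_lt _ (fOf ε) .c .f 2 (by decide) (by have := hWt 17 (by decide); simpa [baseW, pairW, fOf] using this)
    · exact absurd hy g_not_mem_nodes
    · exact cox_gt _ (fOf ε) .d .a 2 (by decide) (by have := hWt 8 (by decide); simpa [baseW, pairW, fOf] using this)
    · exact cox_gt _ (fOf ε) .d .b 2 (by decide) (by have := hWt 12 (by decide); simpa [baseW, pairW, fOf] using this)
    · exact cox_gt _ (fOf ε) .d .c 8 (by decide) (by have := hWt 15 (by decide); simpa [baseW, pairW, fOf] using this)
    · rw [coxLabel_self, pow_one, map_mul, FreeGroup.lift_apply_of]; exact hsq _ hx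
    · exact cox_lt _ (fOf ε) .d .e 3 (by decide) (by have := hWt 18 (by decide); simpa [baseW, pairW, fOf] using this)
    · exact cox_lt _ (fOf ε) .d .f 2 (by decide) (by have := hWt 19 (by decide); simpa [baseW, pairW, fOf] using this)
    · exact absurd hy g_not_mem_nodes
    · exact cox_gt _ (fOf ε) .e .a 2 (by decide) (by have := hWt 9 (by decide); simpa [baseW, pairW, fOf] using this)
    · exact cox_gt _ (fOf ε) .e .b 2 (by decide) (by have := hWt 13 (by decide); simpa [baseW, pairW, fOf] using this)
    · exact cox_gt _ (fOf ε) .e .c 2 (by decide) (by have := hWt 16 (by decide); simpa [baseW, pairW, fOf] using this)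
    · exact cox_gt _ (fOf ε) .e .d 3 (by decide) (by have := hWt 18 (by decide); simpa [baseW, pairW, fOf] using this)
    · rw [coxLabel_self, pow_one, map_mul, FreeGroup.lift_apply_of]; exact hsq _ hx
    · exact cox_lt _ (fOf ε) .e .f 3 (by decide) (by have := hWt 20 (by decide); simpa [baseW, pairW, fOf] using this)
    · exact absurd hy g_not_mem_nodes
    · exact cox_gt _ (fOf ε) .f .a 2 (by decide) (by have := hWt 10 (by decide); simpa [baseW, pairW, fOf] using this)
    · exact cox_gt _ (fOf ε) .f .b 2 (by decide) (by have := hWt 14 (by decide); simpa [baseW, pairW, fOf] using this)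
    · exact cox_gt _ (fOf ε) .f .c 2 (by decide) (by have := hWt 17 (by decide); simpa [baseW, pairW, fOf] using this)
    · exact cox_gt _ (fOf ε) .f .d 2 (by decide) (by have := hWt 19 (by decide); simpa [baseW, pairW, fOf] using this)
    · exact cox_gt _ (fOf ε) .f .e 3 (by decide) (by have := hWt 20 (by decide); simpa [baseW, pairW, fOf] using this)
    · rw [coxLabel_self, pow_one, map_mul, FreeGroup.lift_apply_of]; exact hsq _ hx
  · have hr' : r ∈ Cfsg.Spor.ON.extra := hr
    obtain ⟨i, hi, rfl⟩ := List.mem_iff_getElem.mp hr'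
    rw [extra_length] at hi
    interval_cases i
    · rw [extra0_eq, lift_mk ε h, extraL0_lt]; exact hWt 21 (by decide)
    · rw [extra1_eq, lift_mk ε h, extraL1_lt]; exact hWt 22 (by decide)
    · rw [extra2_eq, lift_mk ε h, extraL2_lt]; exact hWt 23 (by decide)
    · rw [extra3_eq, lift_mk ε h, extraL3_lt]; exact hWt 24 (by decide)
    · rw [extra4_eq, lift_mk ε h, extraL4_lt]; exact hWt 25 (by decide)
    · rw [extra5_eq, lift_mk ε h, extraL5_lt]; exact hWt 26 (by decide)
    · rw [extra6_eq, lift_mk ε h, extraL6_lt]; exact hWt 27 (by decide)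

end letters

/-! ## The presented group side -/

/-- the letters in the presented group -/
noncomputable def e : ℕ → G
  | 0 => PresentedGroup.of .g
  | 1 => (PresentedGroup.of .g)⁻¹
  | 2 => PresentedGroup.of .a
  | 3 => PresentedGroup.of .b
  | 4 => PresentedGroup.of .c
  | 5 => PresentedGroup.of .d
  | 6 => PresentedGroup.of .e
  | _ => PresentedGroup.of .f

theorem of_mul_self (u : Gen) (hu : u ≠ .g) :
    (PresentedGroup.of u : G) * PresentedGroup.of u = 1 :=
  cox_of_mul_self _ _ u (mem_nodes u hu)

theorem letOK_e : LetOK e := by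
  refine ⟨rfl, ?_⟩
  intro x h1 h2
  interval_cases x
  all_goals exact of_mul_self _ (by decide)

theorem fOf_e : fOf e = (PresentedGroup.of : Gen → G) := by
  funext u
  cases u <;> rfl

theorem e_iv (x : ℕ) (hx : x < 8) : e (iv x) = (e x)⁻¹ := by
  have hi : ∀ y, 2 ≤ y → y < 8 → e y = (e y)⁻¹ := fun y h1 h2 =>
    (inv_eq_of_mul_eq_one_left (letOK_e.2 y h1 h2)).symm
  interval_cases x
  · rfl
  · exact (inv_inv _).symm
  · exact hi 2 (by norm_num) (by norm_num)
  · exact hi 3 (by norm_num) (by norm_num)
  · exact hi 4 (by norm_num) (by norm_num)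
  · exact hi 5 (by norm_num) (by norm_num)
  · exact hi 6 (by norm_num) (by norm_num)
  · exact hi 7 (by norm_num) (by norm_num)

theorem mk_mk (L : List (Gen × Bool)) :
    (PresentedGroup.mk rels (FreeGroup.mk L) : G) = ((L.map lt).map e).prod := by
  rw [mk_eq_lift, ← fOf_e, lift_mk e letOK_e]

/-- the base words are trivial in the presented group -/
theorem baseW_trivial : ∀ w ∈ baseW, (w.map e).prod = 1 := by
  intro w hw
  obtain ⟨t, ht, rfl⟩ := List.mem_iff_getElem.mp hw
  have hlen : baseW.length = 28 := by decide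
  rw [hlen] at ht
  have hpair : ∀ (x y : Gen) (m : ℕ) (hx : x ≠ .g) (hy : y ≠ .g)
      (hm : coxLabel Cfsg.Spor.ON.edges x y = m),
      ((PresentedGroup.of x : G) * PresentedGroup.of y) ^ m = 1 := by
    intro x y m hx hy hm
    have hmem : (FreeGroup.of x * FreeGroup.of y) ^ coxLabel Cfsg.Spor.ON.edges x y ∈ rels :=
      Or.inl ⟨x, mem_nodes x hx, y, mem_nodes y hy, rfl⟩
    have := PresentedGroup.one_of_mem hmem
    rw [hm, map_pow, map_mul] at this
    exact this
  have hex : ∀ (i : ℕ) (hi : i < Cfsg.Spor.ON.extra.length),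
      (PresentedGroup.mk rels (Cfsg.Spor.ON.extra[i]) : G) = 1 := fun i hi =>
    PresentedGroup.one_of_mem (Or.inr (List.getElem_mem hi))
  interval_cases t
  · exact of_mul_self .a (by decide)
  · exact of_mul_self .b (by decide)
  · exact of_mul_self .c (by decide)
  · exact of_mul_self .d (by decide)
  · exact of_mul_self .e (by decide)
  · exact of_mul_self .f (by decide)
  · have := hpair .a .b 3 (by decide) (by decide) (by decide)
    simpa [baseW, e, pow_succ, mul_assoc] using this
  · have := hpair .a .c 2 (by decide) (by decide) (by decide)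
    simpa [baseW, e, pow_succ, mul_assoc] using this
  · have := hpair .a .d 2 (by decide) (by decide) (by decide)
    simpa [baseW, e, pow_succ, mul_assoc] using this
  · have := hpair .a .e 2 (by decide) (by decide) (by decide)
    simpa [baseW, e, pow_succ, mul_assoc] using this
  · have := hpair .a .f 2 (by decide) (by decide) (by decide)
    simpa [baseW, e, pow_succ, mul_assoc] using this
  · have := hpair .b .c 3 (by decide) (by decide) (by decide)
    simpa [baseW, e, pow_succ, mul_assoc] using this
  · have := hpair .b .d 2 (by decide) (by decide) (by decide)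
    simpa [baseW, e, pow_succ, mul_assoc] using this
  · have := hpair .b .e 2 (by decide) (by decide) (by decide)
    simpa [baseW, e, pow_succ, mul_assoc] using this
  · have := hpair .b .f 2 (by decide) (by decide) (by decide)
    simpa [baseW, e, pow_succ, mul_assoc] using this
  · have := hpair .c .d 8 (by decide) (by decide) (by decide)
    simpa [baseW, e, pow_succ, mul_assoc] using this
  · have := hpair .c .e 2 (by decide) (by decide) (by decide)
    simpa [baseW, e, pow_succ, mul_assoc] using this
  · have := hpair .c .f 2 (by decide) (by decide) (by decide)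
    simpa [baseW, e, pow_succ, mul_assoc] using this
  · have := hpair .d .e 3 (by decide) (by decide) (by decide)
    simpa [baseW, e, pow_succ, mul_assoc] using this
  · have := hpair .d .f 2 (by decide) (by decide) (by decide)
    simpa [baseW, e, pow_succ, mul_assoc] using this
  · have := hpair .e .f 3 (by decide) (by decide) (by decide)
    simpa [baseW, e, pow_succ, mul_assoc] using this
  · have := hex 0 (by decide)
    rw [extra0_eq, mk_mk, extraL0_lt] at this
    exact this
  · have := hex 1 (by decide)
    rw [extra1_eq, mk_mk, extraL1_lt] at this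
    exact this
  · have := hex 2 (by decide)
    rw [extra2_eq, mk_mk, extraL2_lt] at this
    exact this
  · have := hex 3 (by decide)
    rw [extra3_eq, mk_mk, extraL3_lt] at this
    exact this
  · have := hex 4 (by decide)
    rw [extra4_eq, mk_mk, extraL4_lt] at this
    exact this
  · have := hex 5 (by decide)
    rw [extra5_eq, mk_mk, extraL5_lt] at this
    exact this
  · have := hex 6 (by decide)
    rw [extra6_eq, mk_mk, extraL6_lt] at this
    exact this

end Cfsg.Agent.Lib.H6.ONGlue
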