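import Cfsg.Agent.Lib.H6.ONGlue
import Cfsg.Agent.Lib.H6.TCApply
import Cfsg.Agent.Lib.H6.ONTC.Cert
import Cfsg.Agent.Lib.H6.ONPerm.Good
import Cfsg.Agent.Lib.H17.CosetPerm

set_option autoImplicit false

/-!
# The subgroup `⟨a, …, f⟩` of the presented O'Nan group has index `122760`

The upper bound is the certified coset enumeration `ONTC`, the lower bound the permutation
representation `ONPerm` on `122760` points.
-/

namespace Cfsg.Agent.Lib.H6.ONIndex

open Cfsg.Agent.Lib.H6.ONGlue Cfsg.Agent.Lib.H6.TCApply Cfsg.Agent.Lib.H6.PermTab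
  Cfsg.Agent.Lib.H17.CosetCert

/-- the subgroup generated by `a, …, f` -/
def H : Subgroup G := Subgroup.closure {g : G | ∃ x, 2 ≤ x ∧ x < 8 ∧ g = e x}

theorem e_mem_H {x : ℕ} (h1 : 2 ≤ x) (h2 : x < 8) : e x ∈ H :=
  Subgroup.subset_closure ⟨x, h1, h2, rfl⟩

/-! ## The upper bound -/

theorem closure_e : Subgroup.closure {g : G | ∃ x < 8, g = e x} = ⊤ := by
  rw [eq_top_iff, ← PresentedGroup.closure_range_of]
  apply Subgroup.closure_mono
  rintro _ ⟨u, rfl⟩
  cases u
  · exact ⟨0, by norm_num, rfl⟩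
  · exact ⟨2, by norm_num, rfl⟩
  · exact ⟨3, by norm_num, rfl⟩
  · exact ⟨4, by norm_num, rfl⟩
  · exact ⟨5, by norm_num, rfl⟩
  · exact ⟨6, by norm_num, rfl⟩
  · exact ⟨7, by norm_num, rfl⟩

theorem on_bound : Bound ONTC.iv 8 ONTC.words 122760 := fun _ _ _ _ _ γ hiv q0 hw hgen =>
  ONTC.bound γ hiv q0 hw hgen

set_option maxRecDepth 100000 in
theorem on_words :
    ONTC.words.toList.all (okWord ONTC.iv 8 baseW [[2], [3], [4], [5], [6], [7]]) = true := by
  decide +kernel

theorem H_index_le : H.index ≠ 0 ∧ H.index ≤ 122760 := by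
  refine index_le e H ONTC.iv 8 (fun x hx => e_iv x hx) baseW [[2], [3], [4], [5], [6], [7]]
    baseW_trivial ?_ ONTC.words on_words closure_e 122760 on_bound
  intro w hw
  simp only [List.mem_cons, List.not_mem_nil, or_false] at hw
  rcases hw with rfl | rfl | rfl | rfl | rfl | rfl
  all_goals
    simp only [List.map_cons, List.map_nil, List.prod_cons, List.prod_nil, mul_one]
    exact e_mem_H (by norm_num) (by norm_num)

/-! ## The permutation representation -/

/-- the number of points -/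
abbrev n : ℕ := 122760

theorem good : Good ONPerm.T ONPerm.iv 8 n := by
  refine ⟨by decide, by decide, fun x hx i hi => ONPerm.range_all i hi x hx, ?_⟩
  intro x hx i hi
  have hmem : [x, ONPerm.iv x] ∈ ONPerm.relWords := by
    interval_cases x <;> decide
  have := ONPerm.words_all i hi _ hmem
  rw [applyW_cons, applyW_cons, applyW_nil] at this
  exact this

/-- the permutation of a letter -/
noncomputable def sg (x : ℕ) : Equiv.Perm (Fin n) := σ ONPerm.T ONPerm.iv 8 n x

/-- the letter assignment -/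
noncomputable def eps (x : ℕ) : Equiv.Perm (Fin n) := (sg x)⁻¹

theorem sg_iv (x : ℕ) (hx : x < 8) : sg (ONPerm.iv x) = (sg x)⁻¹ := σ_iv _ _ _ _ good x hx

theorem letOK_eps : LetOK eps := by
  refine ⟨?_, ?_⟩
  · unfold eps
    rw [← sg_iv 0 (by norm_num)]
    rfl
  · intro x h1 h2
    unfold eps
    have h := sg_iv x h2
    have hx : ONPerm.iv x = x := by interval_cases x <;> rfl
    rw [hx] at h
    rw [← mul_inv_rev, inv_eq_one]
    nth_rewrite 1 [h]
    exact inv_mul_cancel _

theorem baseW_sub : ∀ w ∈ baseW, w ∈ ONPerm.relWords ∧ ∀ x ∈ w, x < 8 := by decide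

theorem baseW_eps : ∀ w ∈ baseW, (w.map eps).prod = 1 := by
  intro w hw
  obtain ⟨h1, h2⟩ := baseW_sub w hw
  exact prod_inv_eq_one _ _ _ _ good w h2 (fun i hi => ONPerm.words_all i hi w h1)

/-- the permutation representation on `122760` points -/
noncomputable def phi : G →* Equiv.Perm (Fin n) :=
  PresentedGroup.toGroup (f := fOf eps) (lift_rels eps letOK_eps baseW_eps)

theorem phi_of (u : Gen) : phi (PresentedGroup.of u) = fOf eps u := by
  unfold phi
  rw [PresentedGroup.toGroup.of]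

theorem phi_e (x : ℕ) (hx : x < 8) : phi (e x) = eps x := by
  interval_cases x
  · exact phi_of _
  · change phi (PresentedGroup.of _)⁻¹ = _
    rw [map_inv, phi_of]
    exact letOK_eps.1.symm
  all_goals exact phi_of _

theorem phi_trans : ∀ i : Fin n, ∃ g : G, phi g ⟨0, by norm_num⟩ = i := by
  refine trans_of_conn ONPerm.T ONPerm.iv 8 n (by norm_num) phi good ?_
    (fun i hi hi0 => ONPerm.conn_all i hi hi0)
  intro x hx
  refine ⟨(e x)⁻¹, ?_⟩
  rw [map_inv, phi_e x hx]
  exact inv_inv _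

theorem T_zero : ∀ x, 2 ≤ x → x < 8 → ONPerm.T x 0 = 0 := by decide +kernel

theorem phi_H : ∀ h ∈ H, phi h ⟨0, by norm_num⟩ = ⟨0, by norm_num⟩ := by
  intro h hh
  induction hh using Subgroup.closure_induction with
  | mem g hg =>
    obtain ⟨x, h1, h2, rfl⟩ := hg
    rw [phi_e x h2]
    unfold eps
    rw [Equiv.Perm.inv_eq_iff_eq]
    apply Fin.ext
    rw [show ((sg x ⟨0, by norm_num⟩ : Fin n) : ℕ) = ONPerm.T x 0 from
      σ_apply _ _ _ _ good x h2 _]
    exact (T_zero x h1 h2).symm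
  | one => rw [map_one]; rfl
  | mul a b _ _ ha hb => rw [map_mul, Equiv.Perm.mul_apply, hb, ha]
  | inv a _ ha => rw [map_inv, Equiv.Perm.inv_eq_iff_eq, ha]

/-- the index, and the stabiliser of the base point -/
theorem H_index : H.index = 122760 ∧ ∀ g : G, phi g ⟨0, by norm_num⟩ = ⟨0, by norm_num⟩ → g ∈ H := by
  obtain ⟨h0, h1⟩ := H_index_le
  have hfin : Finite (G ⧸ H) := by
    have : Nat.card (G ⧸ H) ≠ 0 := h0
    exact Nat.finite_of_card_ne_zero this
  exact Cfsg.Agent.Lib.H17.CosetCert.index_eq_and_stab H phi ⟨0, by norm_num⟩ (by norm_num)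
    phi_trans phi_H hfin h1

/-- the subgroup of the statements -/
theorem map_closure_eq :
    (Subgroup.closure ({Cfsg.Spor.ON.a, Cfsg.Spor.ON.b, Cfsg.Spor.ON.c, Cfsg.Spor.ON.d,
      Cfsg.Spor.ON.e, Cfsg.Spor.ON.f} : Set (FreeGroup Cfsg.Spor.ON.Gen))).map
      (PresentedGroup.mk rels) = H := by
  rw [MonoidHom.map_closure]
  unfold H
  congr 1
  ext g
  simp only [Set.image_insert_eq, Set.image_singleton, Set.mem_insert_iff, Set.mem_singleton_iff,
    Set.mem_ofPred_eq]
  constructor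
  · rintro (rfl | rfl | rfl | rfl | rfl | rfl)
    · exact ⟨2, by norm_num, by norm_num, rfl⟩
    · exact ⟨3, by norm_num, by norm_num, rfl⟩
    · exact ⟨4, by norm_num, by norm_num, rfl⟩
    · exact ⟨5, by norm_num, by norm_num, rfl⟩
    · exact ⟨6, by norm_num, by norm_num, rfl⟩
    · exact ⟨7, by norm_num, by norm_num, rfl⟩
  · rintro ⟨x, h1, h2, rfl⟩
    interval_cases x
    · exact Or.inl rfl
    · exact Or.inr (Or.inl rfl)
    · exact Or.inr (Or.inr (Or.inl rfl))
    · exact Or.inr (Or.inr (Or.inr (Or.inl rfl)))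
    · exact Or.inr (Or.inr (Or.inr (Or.inr (Or.inl rfl))))
    · exact Or.inr (Or.inr (Or.inr (Or.inr (Or.inr rfl))))

end Cfsg.Agent.Lib.H6.ONIndex
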