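import Cfsg.Agent.Lib.H6.ONIndex
import Cfsg.Agent.Lib.H6.L37.Center

set_option autoImplicit false

/-!
# The subgroup `⟨a, …, f⟩` of the presented O'Nan group is `L₃(7):2`

The group `K` of `L37` maps onto it, and the map is injective because the normal subgroups of `K`
are known and the images of `a` and `b` differ.
-/

namespace Cfsg.Agent.Lib.H6.ONL37

open Cfsg.Agent.Lib.H6.ONGlue Cfsg.Agent.Lib.H6.ONIndex Cfsg.Agent.Lib.H6.L37
  Cfsg.Agent.Lib.H6.WPres Cfsg.Agent.Lib.H6.PermTab

/-- the letters of `K` as letters of the O'Nan presentation -/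
def lmap : ℕ → ℕ
  | 0 => 2
  | 1 => 3
  | 2 => 4
  | 3 => 5
  | 4 => 7
  | _ => 6

theorem relW_base : ∀ w ∈ relW, w.map lmap ∈ baseW := by decide

/-- the map from `K` -/
noncomputable def pi : K →* G :=
  lift (n := 6) (W := relW) (fun x => e (lmap x)) relW_lt (fun w hw => by
    have := baseW_trivial _ (relW_base w hw)
    rwa [List.map_map] at this)

theorem pi_k {x : ℕ} (hx : x < 6) : pi (k x) = e (lmap x) := lift_gen _ _ _ hx

theorem pi_range : pi.range = H := by
  apply le_antisymm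
  · rw [MonoidHom.range_eq_map, ← closure_gen 6 relW, MonoidHom.map_closure, Subgroup.closure_le]
    rintro _ ⟨_, ⟨x, hx, rfl⟩, rfl⟩
    rw [show pi (gen 6 relW x) = e (lmap x) from pi_k hx]
    interval_cases x <;> exact e_mem_H (by norm_num [lmap]) (by norm_num [lmap])
  · unfold H
    rw [Subgroup.closure_le]
    rintro _ ⟨y, h1, h2, rfl⟩
    interval_cases y
    · exact ⟨k 0, pi_k (by norm_num)⟩
    · exact ⟨k 1, pi_k (by norm_num)⟩
    · exact ⟨k 2, pi_k (by norm_num)⟩
    · exact ⟨k 3, pi_k (by norm_num)⟩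
    · exact ⟨k 5, pi_k (by norm_num)⟩
    · exact ⟨k 4, pi_k (by norm_num)⟩

theorem T_ne : ONPerm.T 2 1 ≠ ONPerm.T 3 1 := by decide +kernel

theorem e2_ne_e3 : e 2 ≠ e 3 := by
  intro h
  have h1 : eps 2 = eps 3 := by rw [← phi_e 2 (by norm_num), ← phi_e 3 (by norm_num), h]
  have h2 : sg 2 = sg 3 := inv_injective h1
  have h3 : ((sg 2 ⟨1, by norm_num⟩ : Fin n) : ℕ) = ((sg 3 ⟨1, by norm_num⟩ : Fin n) : ℕ) := by
    rw [h2]
  rw [show ((sg 2 ⟨1, by norm_num⟩ : Fin n) : ℕ) = ONPerm.T 2 1 from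
      σ_apply _ _ _ _ good 2 (by norm_num) _,
    show ((sg 3 ⟨1, by norm_num⟩ : Fin n) : ℕ) = ONPerm.T 3 1 from
      σ_apply _ _ _ _ good 3 (by norm_num) _] at h3
  exact T_ne h3

theorem k01_mem : k 0 * k 1 ∈ Kev := by
  change chi (k 0 * k 1) = 1
  rw [map_mul, chi_k (by norm_num), chi_k (by norm_num)]
  rfl

theorem pi_k01 : pi (k 0 * k 1) ≠ 1 := by
  rw [map_mul, pi_k (by norm_num), pi_k (by norm_num)]
  intro h
  apply e2_ne_e3
  have h3 : e 3 * e 3 = 1 := letOK_e.2 3 (by norm_num) (by norm_num)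
  calc e 2 = e 2 * (e 3 * e 3) := by rw [h3, mul_one]
    _ = (e 2 * e 3) * e 3 := by rw [mul_assoc]
    _ = e 3 := by
      have h' : e 2 * e 3 = 1 := h
      rw [h', one_mul]

theorem pi_injective : Function.Injective pi := by
  rw [← MonoidHom.ker_eq_bot_iff]
  rcases normal_cases pi.ker with h | h | h
  · exact h
  · exfalso
    have : k 0 * k 1 ∈ pi.ker := by rw [h]; exact k01_mem
    exact pi_k01 this
  · exfalso
    have : k 0 * k 1 ∈ pi.ker := by rw [h]; trivial
    exact pi_k01 this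

/-- the map from `K` onto the subgroup -/
noncomputable def piH : K →* H :=
  pi.codRestrict H (fun g => by rw [← pi_range]; exact ⟨g, rfl⟩)

theorem piH_injective : Function.Injective piH := by
  intro a b hab
  exact pi_injective (congrArg Subtype.val hab)

theorem piH_surjective : Function.Surjective piH := by
  rintro ⟨h, hh⟩
  rw [← pi_range] at hh
  obtain ⟨g, rfl⟩ := hh
  exact ⟨g, rfl⟩

/-- `K` is the subgroup `⟨a, …, f⟩` -/
noncomputable def equivH : K ≃* H := MulEquiv.ofBijective piH ⟨piH_injective, piH_surjective⟩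

/-- the image of the even subgroup -/
noncomputable def N : Subgroup H := Kev.map piH

instance N_normal : N.Normal := Subgroup.Normal.map Kev_normal piH piH_surjective

theorem N_index : N.index = 2 := by
  unfold N
  rw [Subgroup.index_map_eq Kev piH_surjective (by
    rw [(MonoidHom.ker_eq_bot_iff piH).mpr piH_injective]; exact bot_le), Kev_index]

/-- the image of the even subgroup is `PSL(3, 7)` -/
noncomputable def N_equiv : N ≃* PSL := (Kev.equivMapOfInjective piH piH_injective).symm.trans KevEquiv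

theorem H_card : Nat.card H = 3753792 := by
  rw [← Nat.card_congr equivH.toEquiv, K_card_eq]

theorem main : ∃ N : Subgroup H, N.Normal ∧ N.index = 2 ∧
    Nonempty (N ≃* Matrix.ProjectiveSpecialLinearGroup (Fin 3) (ZMod 7)) :=
  ⟨N, N_normal, N_index, ⟨N_equiv⟩⟩

end Cfsg.Agent.Lib.H6.ONL37
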