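import Mathlib

/-!
# S2345 (minimal degree of `Ω⁺_{2n}(q)`): the arithmetic that kills "ONE SHORT" (helper6)

`B = (q ^ n - 1) * (q ^ (n - 1) + q) / (q ^ 2 - 1)` (exact division), `D = B - 1`,
`T * (q ^ 2 - 1) = (q ^ n - 1) * (q ^ (n - 1) + 1) * (q ^ (n - 1) - 1) * (q ^ (n - 2) + 1)` (the number of long root
elements).  Then `D` does not divide `T * (D - q ^ (2 n - 3))`.
-/

set_option autoImplicit false

namespace Cfsg.Agent.Lib.H6.OPMin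

/-- `q ^ 2 - 1` divides `(q ^ n - 1) * (q ^ (n - 2) + 1)` -/
theorem sq_sub_one_dvd (q n : ℕ) (hq : 1 ≤ q) (hn : 2 ≤ n) :
    (q ^ 2 - 1) ∣ (q ^ n - 1) * (q ^ (n - 2) + 1) := by
  rcases Nat.even_or_odd n with ⟨j, hj⟩ | ⟨j, hj⟩
  · have h1 : (q ^ 2 - 1) ∣ (q ^ n - 1) := by
      have := Nat.sub_one_dvd_pow_sub_one (q ^ 2) j
      rw [← pow_mul] at this
      have e : n = 2 * j := by omega
      rw [e]
      exact this
    exact Dvd.dvd.mul_right h1 _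
  · have h1 : (q - 1) ∣ (q ^ n - 1) := by
      exact Nat.sub_one_dvd_pow_sub_one q n
    have hodd : Odd (n - 2) := ⟨j - 1, by omega⟩
    have h2 : (q + 1) ∣ (q ^ (n - 2) + 1) := by
      have := Odd.nat_add_dvd_pow_add_pow q 1 hodd
      rwa [one_pow] at this
    have e : q ^ 2 - 1 = (q - 1) * (q + 1) := by
      obtain ⟨r, rfl⟩ : ∃ r, q = r + 1 := ⟨q - 1, by omega⟩
      have : (r + 1) ^ 2 = (r + 1 - 1) * (r + 1 + 1) + 1 := by
        rw [Nat.add_sub_cancel]; ring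
      rw [this, Nat.add_sub_cancel]
    rw [e]
    exact Nat.mul_dvd_mul h1 h2

/-- the bound `B`, multiplied out -/
theorem B_mul (q k : ℕ) (hq : 2 ≤ q) :
    (q ^ (k + 4) - 1) * (q ^ (k + 4 - 1) + q) / (q ^ 2 - 1) * (q ^ 2 - 1) =
      q * ((q ^ (k + 4) - 1) * (q ^ (k + 2) + 1)) := by
  have e1 : (q ^ (k + 4) - 1) * (q ^ (k + 4 - 1) + q) = q * ((q ^ (k + 4) - 1) * (q ^ (k + 2) + 1)) := by
    have : k + 4 - 1 = (k + 2) + 1 := by omega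
    rw [this, pow_succ]
    ring
  rw [e1]
  apply Nat.div_mul_cancel
  have := sq_sub_one_dvd q (k + 4) (by omega) (by omega)
  have e2 : k + 4 - 2 = k + 2 := by omega
  rw [e2] at this
  exact Dvd.dvd.mul_left this q

/-- the core of the argument, with `X = q ^ (n - 2)` -/
theorem arith_core (q j X D T : ℕ) (hq : 2 ≤ q) (hj : 2 ≤ j) (hXj : X = q ^ j)
    (hD : (D + 1) * (q ^ 2 - 1) = q * ((q ^ 2 * X - 1) * (X + 1)))
    (hT : T * (q ^ 2 - 1) = (q ^ 2 * X - 1) * (q * X + 1) * (q * X - 1) * (X + 1))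
    (hdiv : (D : ℤ) ∣ (T : ℤ) * ((D : ℤ) - (q : ℤ) * (X : ℤ) ^ 2)) : False := by
  have hq2 : 1 ≤ q ^ 2 := Nat.one_le_pow _ _ (by omega)
  have hq4 : 4 ≤ q ^ 2 := by
    have : 2 ^ 2 ≤ q ^ 2 := Nat.pow_le_pow_left hq 2
    omega
  have hq21 : 0 < q ^ 2 - 1 := by omega
  have hX : q ^ 2 ≤ X := by rw [hXj]; exact Nat.pow_le_pow_right (by omega) hj
  have hX1 : 1 ≤ X := le_trans hq2 hX
  have hqX : 1 ≤ q * X := Nat.mul_pos (by omega) hX1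
  have hq2X : 1 ≤ q ^ 2 * X := Nat.mul_pos (by omega) hX1
  -- `q ∣ D + 1`
  have hqD : q ∣ D + 1 := by
    have h1 : q ∣ (D + 1) * (q ^ 2 - 1) := by rw [hD]; exact Dvd.intro _ rfl
    have hcop : Nat.Coprime q (q ^ 2 - 1) := by
      have h2 : Nat.Coprime (q ^ 2) (q ^ 2 - 1) := by
        have := Nat.coprime_self_sub_right (n := q ^ 2) (m := 1) hq2
        rw [this]
        exact Nat.coprime_one_right _
      exact Nat.Coprime.coprime_dvd_left (Dvd.intro_left (q ^ 1) (by ring)) h2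
    exact hcop.dvd_of_dvd_mul_right h1
  have hcopD : Nat.Coprime D q := by
    have h1 : Nat.Coprime D (D + 1) := by simp
    exact Nat.Coprime.coprime_dvd_right hqD h1
  have hcopDX : Nat.Coprime D (q * X ^ 2) := by
    rw [hXj]
    exact Nat.Coprime.mul_right hcopD (Nat.Coprime.pow_right _ (Nat.Coprime.pow_right _ hcopD))
  -- `D ∣ T * (q * X ^ 2)`
  have h1 : (D : ℤ) ∣ (T : ℤ) * ((q : ℤ) * (X : ℤ) ^ 2) := by
    have h2 : (D : ℤ) ∣ (T : ℤ) * (D : ℤ) := Dvd.intro_left _ rfl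
    have := dvd_sub h2 hdiv
    have e : (T : ℤ) * (D : ℤ) - (T : ℤ) * ((D : ℤ) - (q : ℤ) * (X : ℤ) ^ 2) =
        (T : ℤ) * ((q : ℤ) * (X : ℤ) ^ 2) := by ring
    rwa [e] at this
  have h1' : D ∣ T * (q * X ^ 2) := by exact_mod_cast h1
  have hDT : D ∣ T := hcopDX.dvd_of_dvd_mul_right h1'
  -- `q * T = (D + 1) * (q ^ 2 * X ^ 2 - 1)`
  have hqT : q * T = (D + 1) * (q ^ 2 * X ^ 2 - 1) := by
    apply Nat.eq_of_mul_eq_mul_right hq21
    have e1 : q ^ 2 * X ^ 2 - 1 = (q * X + 1) * (q * X - 1) := by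
      obtain ⟨r, hr⟩ : ∃ r, q * X = r + 1 := ⟨q * X - 1, by omega⟩
      have : q ^ 2 * X ^ 2 = (q * X) ^ 2 := by ring
      rw [this, hr, Nat.add_sub_cancel]
      have : (r + 1) ^ 2 = (r + 1 + 1) * r + 1 := by ring
      rw [this, Nat.add_sub_cancel]
    calc q * T * (q ^ 2 - 1) = q * (T * (q ^ 2 - 1)) := by ring
      _ = q * ((q ^ 2 * X - 1) * (q * X + 1) * (q * X - 1) * (X + 1)) := by rw [hT]
      _ = (q * ((q ^ 2 * X - 1) * (X + 1))) * ((q * X + 1) * (q * X - 1)) := by ring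
      _ = (D + 1) * (q ^ 2 - 1) * (q ^ 2 * X ^ 2 - 1) := by rw [← hD, e1]
      _ = (D + 1) * (q ^ 2 * X ^ 2 - 1) * (q ^ 2 - 1) := by ring
  have hD2 : D ∣ q ^ 2 * X ^ 2 - 1 := by
    have h2 : D ∣ (D + 1) * (q ^ 2 * X ^ 2 - 1) := by
      rw [← hqT]
      exact Dvd.dvd.mul_left hDT q
    have h3 : Nat.Coprime D (D + 1) := by simp
    exact h3.dvd_of_dvd_mul_left h2
  -- the polynomial identity, in `ℤ`
  have hDz : ((D : ℤ) + 1) * ((q : ℤ) ^ 2 - 1) = q * ((q ^ 2 * X - 1) * (X + 1)) := by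
    have := congrArg (Nat.cast : ℕ → ℤ) hD
    push_cast [hq2, hq2X] at this
    exact this
  have hid : (q : ℤ) * ((q : ℤ) ^ 2 * (X : ℤ) ^ 2 - 1) =
      ((q : ℤ) ^ 2 - 1) * ((D : ℤ) - ((q : ℤ) * X - 1)) := by
    linear_combination (-1 : ℤ) * hDz
  have hD3 : (D : ℤ) ∣ ((q : ℤ) ^ 2 - 1) * ((q : ℤ) * X - 1) := by
    have h2 : (D : ℤ) ∣ (q : ℤ) * ((q : ℤ) ^ 2 * (X : ℤ) ^ 2 - 1) := by
      have h3 : ((q ^ 2 * X ^ 2 - 1 : ℕ) : ℤ) = (q : ℤ) ^ 2 * (X : ℤ) ^ 2 - 1 := by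
        have : 1 ≤ q ^ 2 * X ^ 2 := Nat.mul_pos (by omega) (Nat.pow_pos hX1)
        push_cast [this]
        ring
      rw [← h3]
      exact Dvd.dvd.mul_left (by exact_mod_cast hD2) _
    rw [hid] at h2
    have h4 : (D : ℤ) ∣ ((q : ℤ) ^ 2 - 1) * (D : ℤ) := Dvd.intro_left _ rfl
    have := dvd_sub h4 h2
    have e : ((q : ℤ) ^ 2 - 1) * (D : ℤ) - ((q : ℤ) ^ 2 - 1) * ((D : ℤ) - ((q : ℤ) * X - 1)) =
        ((q : ℤ) ^ 2 - 1) * ((q : ℤ) * X - 1) := by ring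
    rwa [e] at this
  have hD3' : D ∣ (q ^ 2 - 1) * (q * X - 1) := by
    have e : (((q ^ 2 - 1) * (q * X - 1) : ℕ) : ℤ) = ((q : ℤ) ^ 2 - 1) * ((q : ℤ) * X - 1) := by
      push_cast [hq2, hqX]
      ring
    rw [← e] at hD3
    exact_mod_cast hD3
  -- the size comparison
  have hqX1 : 0 < q * X - 1 := by
    have : 4 ≤ q * X := by nlinarith
    omega
  have hle : D ≤ (q ^ 2 - 1) * (q * X - 1) := Nat.le_of_dvd (Nat.mul_pos hq21 hqX1) hD3'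
  -- contradiction: `((q^2-1)(qX-1) + 1)(q^2-1) < q (q^2 X - 1)(X+1) = (D+1)(q^2-1)`
  have hlt : ((q ^ 2 - 1) * (q * X - 1) + 1) * (q ^ 2 - 1) < (D + 1) * (q ^ 2 - 1) := by
    rw [hD]
    obtain ⟨a, ha⟩ : ∃ a, q ^ 2 = a + 1 := ⟨q ^ 2 - 1, by omega⟩
    obtain ⟨b, hb⟩ : ∃ b, q * X = b + 1 := ⟨q * X - 1, by omega⟩
    obtain ⟨c, hc⟩ : ∃ c, q ^ 2 * X = c + 1 := ⟨q ^ 2 * X - 1, by omega⟩
    rw [ha, Nat.add_sub_cancel, hb, Nat.add_sub_cancel]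
    rw [ha] at hc
    rw [hc, Nat.add_sub_cancel]
    -- a = q^2 - 1, b = qX - 1, c = q^2 X - 1;  (a b + 1) a < q c (X + 1)
    have h3 : 3 ≤ a := by omega
    have hXa : a + 1 ≤ X := by rw [← ha]; exact hX
    have hcb : c + 1 = q * (b + 1) := by rw [← hc, ← hb, ← ha]; ring
    have hqq : q * q = a + 1 := by rw [← ha]; ring
    nlinarith [Nat.mul_le_mul hXa hXa, Nat.mul_le_mul_left q hXa]
  have := Nat.lt_of_mul_lt_mul_right hlt
  omega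

/-- ARITH-T: `D = B_n - 1` does not divide `|T| * (D - q ^ (2 n - 3))` -/
theorem arithT (q n D T : ℕ) (hq : 2 ≤ q) (hn : 4 ≤ n)
    (hD : D + 1 = (q ^ n - 1) * (q ^ (n - 1) + q) / (q ^ 2 - 1))
    (hT : T * (q ^ 2 - 1) =
      (q ^ n - 1) * (q ^ (n - 1) + 1) * (q ^ (n - 1) - 1) * (q ^ (n - 2) + 1)) :
    ¬ ((D : ℤ) ∣ (T : ℤ) * ((D : ℤ) - (q : ℤ) ^ (2 * n - 3))) := by
  intro hdiv
  obtain ⟨k, rfl⟩ : ∃ k, n = k + 4 := ⟨n - 4, by omega⟩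
  have e1 : q ^ (k + 4) = q ^ 2 * q ^ (k + 2) := by rw [← pow_add]; congr 1; omega
  have e2 : q ^ (k + 4 - 1) = q * q ^ (k + 2) := by
    have : k + 4 - 1 = (k + 2) + 1 := by omega
    rw [this, pow_succ]; ring
  have e3 : k + 4 - 2 = k + 2 := by omega
  have e4 : (q : ℤ) ^ (2 * (k + 4) - 3) = (q : ℤ) * ((q ^ (k + 2) : ℕ) : ℤ) ^ 2 := by
    have : 2 * (k + 4) - 3 = 1 + (k + 2) * 2 := by omega
    rw [this, pow_add, pow_one, pow_mul]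
    push_cast
    ring
  refine arith_core q (k + 2) (q ^ (k + 2)) D T hq (by omega) rfl ?_ ?_ ?_
  · rw [hD, B_mul q k hq, e1]
  · rw [hT, e1, e2, e3]
  · rw [← e4]
    exact hdiv

end Cfsg.Agent.Lib.H6.OPMin
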