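import Cfsg.Agent.Lib.H6.OPMinORB4B
import Cfsg.Agent.Lib.H18.OPMinTRANS
import Cfsg.Agent.Lib.H6.OPMinSQ

/-!
# S2345 piece ORB4, part A (helper6): two distinct normal forms `J ⊕ T''` in a congruence-invariant set containing a non-zero
matrix which is not of rank two; and ORB4 itself.
-/

set_option autoImplicit false

namespace Cfsg.Agent.Lib.H6.OPMin

open Matrix Cfsg.Agent.Lib.H12.OPMin Cfsg.Agent.Lib.H12.SLMin

variable {F : Type*} [Field F]

/-- the entries of a congruence are values of the bilinear form on the rows -/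
theorem cong_apply {n : ℕ} (A T : Matrix (Fin n) (Fin n) F) (x y : Fin n) :
    (A * T * Aᵀ) x y = (fun a => A x a) ⬝ᵥ T *ᵥ (fun b => A y b) := by
  rw [Matrix.mul_assoc, Matrix.mul_apply]
  simp only [dotProduct, mulVec, Matrix.mul_apply, transpose_apply]

theorem single_not_mem_span {n : ℕ} {i j : Fin n} (hij : i ≠ j) :
    (Pi.single j 1 : Fin n → F) ∉ Submodule.span F {(Pi.single i 1 : Fin n → F)} := by
  intro h
  obtain ⟨c, hc⟩ := Submodule.mem_span_singleton.1 h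
  have := congrFun hc j
  simp [Pi.single_apply, hij] at this

theorem single_ne_zero' {n : ℕ} (i : Fin n) : (Pi.single i 1 : Fin n → F) ≠ 0 := by
  intro h
  have := congrFun h i
  simp at this

theorem trGL_mem_of_det_one {n : ℕ} (g : GL (Fin n) F) (hg : (g : Matrix (Fin n) (Fin n) F).det = 1) :
    trGL g ∈ sqGL n F := by
  rw [mem_sqGL]
  refine ⟨1, ?_⟩
  rw [one_pow, det_trGL]
  apply Units.ext
  rw [Matrix.GeneralLinearGroup.val_det_apply, hg, Units.val_one]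

/-- stage 1: a member with non-zero `(i₀, i₁)` entry -/
theorem exists_entry_ne_zero {n : ℕ} (hn : 3 ≤ n) (i₀ i₁ : Fin n) (h01 : i₀ ≠ i₁) (T : Alt n F) (hT0 : T ≠ 0) :
    ∃ A : GL (Fin n) F, A ∈ sqGL n F ∧ (congE A T).1 i₀ i₁ ≠ 0 := by
  obtain ⟨i, j, hij⟩ : ∃ i j, T.1 i j ≠ 0 := by
    by_contra hcon
    push Not at hcon
    apply hT0
    apply Subtype.ext
    ext i j
    exact hcon i j
  have hne : i ≠ j := by
    rintro rfl
    exact hij (diag_of_mem T.2 i)
  obtain ⟨g, hg, hg0, hg1⟩ := Cfsg.Agent.Lib.H18.OPMin.trans_SL_pair (F := F) hn (single_ne_zero' i₀)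
    (single_not_mem_span h01) (single_ne_zero' i) (single_not_mem_span hne)
  refine ⟨trGL g, trGL_mem_of_det_one g hg, ?_⟩
  rw [congE_val, trGL_val, cong_apply]
  have h0 : (fun a => (g.1ᵀ) i₀ a) = Pi.single i 1 := by
    rw [← hg0]
    funext a
    simp [mulVec, dotProduct, Pi.single_apply]
  have h1 : (fun b => (g.1ᵀ) i₁ b) = Pi.single j 1 := by
    rw [← hg1]
    funext a
    simp [mulVec, dotProduct, Pi.single_apply]
  rw [h0, h1]
  simpa [mulVec, dotProduct, Pi.single_apply] using hij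

/-- stage 2: a member with row `0` equal to `e₁` -/
theorem exists_row_e1 {k : ℕ} (hk : 1 ≤ k) (T : Alt (k + 2) F) (h01 : T.1 0 1 ≠ 0) :
    ∃ A : GL (Fin (k + 2)) F, A ∈ sqGL (k + 2) F ∧
      ∀ j, (congE A T).1 0 j = if j = 1 then 1 else 0 := by
  have hρ : (fun j : Fin (k + 1) => T.1 0 j.succ) ≠ 0 := by
    intro h
    apply h01
    exact congrFun h 0
  obtain ⟨B, hB, hBρ⟩ := Cfsg.Agent.Lib.H18.SLMin.trans_SL_vec (F := F) (m := k + 1) (by omega) hρ
    (single_ne_zero' (0 : Fin (k + 1)))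
  refine ⟨levG1 B, levG1_mem B hB, ?_⟩
  have h1 : (congE (levG1 B) T).1 = bm 1 0 0 B.1 * T.1 * (bm 1 0 0 B.1)ᵀ := rfl
  have h2 := bm_eta T.1
  rw [diag_of_mem T.2 0] at h2
  have h3 : (congE (levG1 B) T).1 = bm 0 (Pi.single 0 1) (B.1 *ᵥ fun i : Fin (k + 1) => T.1 i.succ 0)
      (B.1 * T.1.submatrix Fin.succ Fin.succ * B.1ᵀ) := by
    rw [h1]
    conv_lhs => rw [h2]
    rw [lev_cong, hBρ]
  intro j
  rw [h3]
  refine Fin.cases ?_ (fun j' => ?_) j
  · simp
  · rw [bm_zero_succ, Pi.single_apply]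
    by_cases hj : j' = 0
    · subst hj; simp
    · have : j'.succ ≠ 1 := by
        intro h1
        apply hj
        have : j'.succ = (0 : Fin (k + 1)).succ := h1
        exact Fin.succ_injective _ this
      rw [if_neg hj, if_neg this]

/-- stage 3: clear the column `1` below row `0` -/
theorem exists_clear {k : ℕ} (T : Alt (k + 2) F) (hrow : ∀ j, T.1 0 j = if j = 1 then 1 else 0) :
    ∃ A : GL (Fin (k + 2)) F, A ∈ sqGL (k + 2) F ∧
      (∀ j, (congE A T).1 0 j = if j = 1 then 1 else 0) ∧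
      (∀ j, j ≠ 0 → (congE A T).1 j 1 = 0) := by
  set a : Fin (k + 1) → F := Fin.cons 0 (fun i : Fin k => -T.1 i.succ.succ 1) with ha
  refine ⟨lowG a, lowG_mem a, ?_⟩
  have hnf := normal_form_eq T hrow
  have h1 : (congE (lowG a) T).1 = bm 0 (Pi.single 0 1) (-Pi.single 0 1)
      (vecMulVec (-Pi.single 0 1) a + (vecMulVec a (Pi.single 0 1) + T.1.submatrix Fin.succ Fin.succ)) := by
    rw [congE_val, lowG_val]
    conv_lhs => rw [hnf]
    rw [low_cong]
  rw [h1]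
  constructor
  · intro j
    refine Fin.cases ?_ (fun j' => ?_) j
    · simp
    · rw [bm_zero_succ, Pi.single_apply]
      by_cases hj : j' = 0
      · subst hj; simp
      · have : j'.succ ≠ 1 := by
          intro h1
          apply hj
          have : j'.succ = (0 : Fin (k + 1)).succ := h1
          exact Fin.succ_injective _ this
        rw [if_neg hj, if_neg this]
  · intro j hj
    obtain ⟨j', rfl⟩ := Fin.exists_succ_eq.2 hj
    have h10 : (1 : Fin (k + 2)) = (0 : Fin (k + 1)).succ := rfl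
    rw [h10, bm_succ_succ, Matrix.add_apply, Matrix.add_apply, vecMulVec_apply, vecMulVec_apply,
      submatrix_apply]
    refine Fin.cases ?_ (fun i => ?_) j'
    · have : T.1 (0 : Fin (k + 1)).succ (0 : Fin (k + 1)).succ = 0 := diag_of_mem T.2 _
      rw [this, ha]
      simp
    · rw [ha]
      simp [Fin.succ_ne_zero]

/-- congruences preserve rank two -/
theorem isR2_cong {n : ℕ} (A : GL (Fin n) F) {S : Matrix (Fin n) (Fin n) F} (hS : IsR2 S) :
    IsR2 (A.1 * S * A.1ᵀ) := by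
  obtain ⟨h0, a, b, rfl⟩ := hS
  refine ⟨fun h => h0 ?_, A.1 *ᵥ a, A.1 *ᵥ b, Cfsg.Agent.Lib.H18.OPMin.cong_R2 A.1 a b⟩
  have h1 : (A⁻¹ : GL (Fin n) F).1 * (A.1 * (vecMulVec a b - vecMulVec b a) * A.1ᵀ) *
      (A⁻¹ : GL (Fin n) F).1ᵀ = vecMulVec a b - vecMulVec b a := by
    have e1 : (A⁻¹ : GL (Fin n) F).1 * A.1 = 1 := by rw [← Units.val_mul, inv_mul_cancel, Units.val_one]
    have e2 : A.1ᵀ * (A⁻¹ : GL (Fin n) F).1ᵀ = 1 := by
      rw [← transpose_mul, e1, transpose_one]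
    rw [← Matrix.mul_assoc, ← Matrix.mul_assoc, e1, Matrix.one_mul, Matrix.mul_assoc, e2, Matrix.mul_one]
  rw [← h1, h, Matrix.mul_zero, Matrix.zero_mul]

theorem exists_succ_succ {k : ℕ} {x : Fin (k + 2)} (h0 : x ≠ 0) (h1 : x ≠ 1) : ∃ i : Fin k, x = i.succ.succ := by
  obtain ⟨x', rfl⟩ := Fin.exists_succ_eq.2 h0
  have hx' : x' ≠ 0 := by
    rintro rfl
    exact h1 rfl
  obtain ⟨i, rfl⟩ := Fin.exists_succ_eq.2 hx'
  exact ⟨i, rfl⟩

/-- stage 4: a normal form with zero lower block is `e₀ e₁ᵀ - e₁ e₀ᵀ` -/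
theorem eq_wedge_of_normal {k : ℕ} (T : Alt (k + 2) F)
    (hrow : ∀ j, T.1 0 j = if j = 1 then 1 else 0) (hcol : ∀ j, j ≠ 0 → T.1 j 1 = 0)
    (hz : ∀ i j : Fin k, T.1 i.succ.succ j.succ.succ = 0) :
    T.1 = vecMulVec (Pi.single 0 1) (Pi.single 1 1) - vecMulVec (Pi.single 1 1) (Pi.single 0 1) := by
  have h01 : (0 : Fin (k + 2)) ≠ 1 := by
    intro h
    have := congrArg Fin.val h
    simp at this
  ext x y
  rw [Matrix.sub_apply, vecMulVec_apply, vecMulVec_apply, Pi.single_apply, Pi.single_apply,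
    Pi.single_apply, Pi.single_apply]
  by_cases hx0 : x = 0
  · subst hx0
    rw [hrow, if_pos rfl, if_neg h01, one_mul, zero_mul, sub_zero]
  · rw [if_neg hx0, zero_mul, zero_sub]
    by_cases hy0 : y = 0
    · subst hy0
      rw [apply_swap_of_mem T.2 0 x, hrow, if_pos rfl, mul_one]
    · rw [if_neg hy0, mul_zero, neg_zero]
      by_cases hx1 : x = 1
      · subst hx1
        rw [apply_swap_of_mem T.2 y 1, hcol y hy0, neg_zero]
      · by_cases hy1 : y = 1
        · subst hy1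
          exact hcol x hx0
        · obtain ⟨i, rfl⟩ := exists_succ_succ hx0 hx1
          obtain ⟨j, rfl⟩ := exists_succ_succ hy0 hy1
          exact hz i j

/-- the diagonal matrix with `t` at `a`, `b` and `1` elsewhere -/
def diagTwo {n : ℕ} (a b : Fin n) (t : Fˣ) : GL (Fin n) F :=
  ⟨diagonal (fun x => if x = a ∨ x = b then (t : F) else 1),
    diagonal (fun x => if x = a ∨ x = b then ((t⁻¹ : Fˣ) : F) else 1), by
      rw [diagonal_mul_diagonal, ← diagonal_one]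
      congr 1
      funext x
      by_cases hx : x = a ∨ x = b <;> simp [hx], by
      rw [diagonal_mul_diagonal, ← diagonal_one]
      congr 1
      funext x
      by_cases hx : x = a ∨ x = b <;> simp [hx]⟩

theorem diagTwo_mem {n : ℕ} {a b : Fin n} (hab : a ≠ b) (t : Fˣ) : diagTwo a b t ∈ sqGL n F := by
  rw [mem_sqGL]
  refine ⟨t, ?_⟩
  apply Units.ext
  rw [Matrix.GeneralLinearGroup.val_det_apply]
  show ((t ^ 2 : Fˣ) : F) = (diagonal (fun x => if x = a ∨ x = b then (t : F) else 1)).det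
  rw [det_diagonal, Finset.prod_eq_mul a b hab]
  · simp [pow_two]
  · intro c _ hc
    rw [if_neg (by tauto)]
  · intro h; exact absurd (Finset.mem_univ a) h
  · intro h; exact absurd (Finset.mem_univ b) h

theorem diagTwo_cong {n : ℕ} (a b : Fin n) (t : Fˣ) (T : Alt n F) (x y : Fin n) :
    (congE (diagTwo a b t) T).1 x y =
      (if x = a ∨ x = b then (t : F) else 1) * T.1 x y * (if y = a ∨ y = b then (t : F) else 1) := by
  rw [congE_val]
  show (diagonal (fun x => if x = a ∨ x = b then (t : F) else 1) * T.1 *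
    (diagonal (fun x => if x = a ∨ x = b then (t : F) else 1))ᵀ) x y = _
  rw [diagonal_transpose, mul_diagonal, diagonal_mul]

variable [Fintype F]

/-- ORB4-A -/
theorem exists_normal_forms (hq : 4 ≤ Fintype.card F) {k : ℕ} (hk : 2 ≤ k)
    (Occ : Finset (Alt (k + 2) F))
    (hinv : ∀ A : GL (Fin (k + 2)) F, A ∈ sqGL (k + 2) F → ∀ T ∈ Occ, congE A T ∈ Occ)
    (T : Alt (k + 2) F) (hT : T ∈ Occ) (hT0 : T ≠ 0) (hR2 : ¬ IsR2 T.1) :
    ∃ T₀ ∈ Occ, ∃ T₁ ∈ Occ, T₀ ≠ T₁ ∧ (∀ j, T₀.1 0 j = if j = 1 then 1 else 0) ∧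
      (∀ j, j ≠ 0 → T₀.1 j 1 = 0) ∧ (∀ j, T₁.1 0 j = if j = 1 then 1 else 0) ∧
      (∀ j, j ≠ 0 → T₁.1 j 1 = 0) := by
  have h01 : (0 : Fin (k + 2)) ≠ 1 := by
    intro h
    have := congrArg Fin.val h
    simp at this
  obtain ⟨A₁, hA₁, he⟩ := exists_entry_ne_zero (F := F) (n := k + 2) (by omega) 0 1 h01 T hT0
  obtain ⟨A₂, hA₂, hrow2⟩ := exists_row_e1 (by omega) (congE A₁ T) he
  obtain ⟨A₃, hA₃, hrow3, hcol3⟩ := exists_clear (congE A₂ (congE A₁ T)) hrow2
  set T₀ := congE A₃ (congE A₂ (congE A₁ T)) with hT₀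
  have hT₀mem : T₀ ∈ Occ := hinv _ hA₃ _ (hinv _ hA₂ _ (hinv _ hA₁ _ hT))
  -- `T₀` is not of rank two
  have hT₀R2 : ¬ IsR2 T₀.1 := by
    intro hR
    apply hR2
    have e1 : T₀ = congE (A₃ * A₂ * A₁) T := by
      rw [hT₀, congE_mul, congE_mul]
    have e2 : T = (congE (A₃ * A₂ * A₁)).symm T₀ := by
      rw [e1, AddEquiv.symm_apply_apply]
    rw [e2, congE_symm_val]
    exact isR2_cong _ hR
  -- the lower block is not zero
  obtain ⟨i, j, hij⟩ : ∃ i j : Fin k, T₀.1 i.succ.succ j.succ.succ ≠ 0 := by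
    by_contra hcon
    push Not at hcon
    apply hT₀R2
    have hw := eq_wedge_of_normal T₀ hrow3 hcol3 hcon
    refine ⟨fun h => ?_, _, _, hw⟩
    have := hrow3 1
    rw [h, if_pos rfl] at this
    exact zero_ne_one this
  have hijne : i.succ.succ ≠ j.succ.succ := by
    intro h
    rw [h] at hij
    exact hij (diag_of_mem T₀.2 _)
  obtain ⟨tu, ht⟩ := exists_sq_ne_one (F := F) hq
  set T₁ := congE (diagTwo i.succ.succ j.succ.succ tu) T₀ with hT₁
  have hT₁mem : T₁ ∈ Occ := hinv _ (diagTwo_mem hijne tu) _ hT₀mem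
  have hs0 : ∀ x : Fin k, (0 : Fin (k + 2)) ≠ x.succ.succ := fun x => (Fin.succ_ne_zero _).symm
  have hs1 : ∀ x : Fin k, (1 : Fin (k + 2)) ≠ x.succ.succ := by
    intro x h
    have : (0 : Fin (k + 1)).succ = x.succ.succ := h
    exact (Fin.succ_ne_zero x).symm (Fin.succ_injective _ this)
  have hd0 : (if (0 : Fin (k + 2)) = i.succ.succ ∨ (0 : Fin (k + 2)) = j.succ.succ then (tu : F) else 1) = 1 := by
    rw [if_neg]
    rintro (h | h)
    · exact hs0 i h
    · exact hs0 j h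
  have hd1 : (if (1 : Fin (k + 2)) = i.succ.succ ∨ (1 : Fin (k + 2)) = j.succ.succ then (tu : F) else 1) = 1 := by
    rw [if_neg]
    rintro (h | h)
    · exact hs1 i h
    · exact hs1 j h
  refine ⟨T₀, hT₀mem, T₁, hT₁mem, ?_, hrow3, hcol3, ?_, ?_⟩
  · intro h
    have h1 := diagTwo_cong i.succ.succ j.succ.succ tu T₀ i.succ.succ j.succ.succ
    rw [← hT₁, ← h, if_pos (Or.inl rfl), if_pos (Or.inr rfl)] at h1
    have h2 : ((tu : F) ^ 2 - 1) * T₀.1 i.succ.succ j.succ.succ = 0 := by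
      linear_combination -h1
    rcases mul_eq_zero.1 h2 with h3 | h3
    · exact ht (sub_eq_zero.1 h3)
    · exact hij h3
  · intro y
    rw [hT₁, diagTwo_cong, hd0, one_mul, hrow3]
    by_cases hy : y = 1
    · subst hy
      rw [if_pos rfl, hd1, mul_one]
    · rw [if_neg hy, zero_mul]
  · intro x hx
    rw [hT₁, diagTwo_cong, hcol3 x hx, mul_zero, zero_mul]

/-- ORB4 -/
theorem card_ge_of_not_R2 (hq : 4 ≤ Fintype.card F) {n : ℕ} (hn : 4 ≤ n)
    (Occ : Finset (Alt n F))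
    (hinv : ∀ A : GL (Fin n) F, A ∈ sqGL n F → ∀ T ∈ Occ, congE A T ∈ Occ)
    (T : Alt n F) (hT : T ∈ Occ) (hT0 : T ≠ 0) (hR2 : ¬ IsR2 T.1) :
    2 * (Fintype.card F ^ (n - 1) - 1) * Fintype.card F ^ (n - 2) ≤ Occ.card := by
  obtain ⟨k, rfl⟩ : ∃ k, n = k + 2 := ⟨n - 2, by omega⟩
  obtain ⟨T₀, h₀, T₁, h₁, hne, hrow₀, hcol₀, hrow₁, hcol₁⟩ :=
    exists_normal_forms hq (by omega) Occ hinv T hT hT0 hR2
  have := card_ge_of_normal_forms (by omega) Occ hinv T₀ T₁ h₀ h₁ hne hrow₀ hcol₀ hrow₁ hcol₁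
  have e1 : k + 2 - 1 = k + 1 := by omega
  have e2 : k + 2 - 2 = k := by omega
  rw [e1, e2]
  exact this

end Cfsg.Agent.Lib.H6.OPMin
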