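import Cfsg.Agent.Lib.H12.OPMinDefs
import Cfsg.Agent.Lib.H18.SLMinTRANSV

/-!
# S2345 piece ORB4, part B (helper6): from two normal forms `J ⊕ T''` in a congruence-invariant set to
`2 (q^(n-1) - 1) q^(n-2)` members (`n = k + 2`)

The injection `(r, α, ε) ↦ L_r A_α T_ε A_αᵀ L_rᵀ` with `A_α = [[1, 0], [(0, α), 1]]` (adds `α` to the column `1` below the
second row, keeps row `0`) and `L_r = diag (1, B_r)`, `B_r ∈ SL_{k+1}`, `B_r e₀ = r` (moves row `0` from `e₁` to `(0, r)`).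
-/

set_option autoImplicit false

namespace Cfsg.Agent.Lib.H6.OPMin

open Matrix Cfsg.Agent.Lib.H12.OPMin Cfsg.Agent.Lib.H12.SLMin

variable {F : Type*} [Field F]

theorem bm_transpose {m : ℕ} (a : F) (r l : Fin m → F) (D : Matrix (Fin m) (Fin m) F) :
    (bm a r l D)ᵀ = bm a l r Dᵀ := by
  apply bm_ext <;> intros <;> simp [transpose_apply]

/-- congruence by `[[1, 0], [a, 1]]` -/
theorem low_cong {m : ℕ} (a ρ l : Fin m → F) (T' : Matrix (Fin m) (Fin m) F) :
    bm 1 0 a 1 * bm 0 ρ l T' * (bm 1 0 a 1)ᵀ = bm 0 ρ l (vecMulVec l a + (vecMulVec a ρ + T')) := by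
  rw [bm_transpose, bm_mul, bm_mul]
  congr 1 <;> simp

/-- congruence by `diag (1, B)` -/
theorem lev_cong {m : ℕ} (B : Matrix (Fin m) (Fin m) F) (ρ l : Fin m → F) (T' : Matrix (Fin m) (Fin m) F) :
    bm 1 0 0 B * bm 0 ρ l T' * (bm 1 0 0 B)ᵀ = bm 0 (B *ᵥ ρ) (B *ᵥ l) (B * T' * Bᵀ) := by
  rw [bm_transpose, bm_mul, bm_mul]
  congr 1 <;> simp [vecMul_transpose]

/-- the lower unitriangular element `[[1, 0], [a, 1]]` -/
noncomputable def lowG {m : ℕ} (a : Fin m → F) : GL (Fin (m + 1)) F := trGL (uG a)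

theorem lowG_val {m : ℕ} (a : Fin m → F) : (lowG a).1 = bm 1 0 a 1 := by
  show (bm 1 a 0 1)ᵀ = bm 1 0 a 1
  rw [bm_transpose, transpose_one]

theorem lowG_mem {m : ℕ} (a : Fin m → F) : lowG a ∈ sqGL (m + 1) F := by
  rw [mem_sqGL]
  refine ⟨1, ?_⟩
  rw [one_pow, lowG, det_trGL]
  apply Units.ext
  rw [Matrix.GeneralLinearGroup.val_det_apply, det_uG, Units.val_one]

theorem levG1_mem {m : ℕ} (B : GL (Fin m) F) (hB : (B : Matrix (Fin m) (Fin m) F).det = 1) :
    levG1 B ∈ sqGL (m + 1) F := by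
  rw [mem_sqGL]
  refine ⟨1, ?_⟩
  rw [one_pow]
  apply Units.ext
  rw [Matrix.GeneralLinearGroup.val_det_apply, levG1_coe, det_bm, hB, Units.val_one, mul_one]

/-- the shape of a normal form -/
theorem normal_form_eq {k : ℕ} (T : Alt (k + 2) F)
    (hrow : ∀ j, T.1 0 j = if j = 1 then 1 else 0) :
    T.1 = bm 0 (Pi.single 0 1) (-Pi.single 0 1) (T.1.submatrix Fin.succ Fin.succ) := by
  have h := bm_eta T.1
  have h00 : T.1 0 0 = 0 := by rw [hrow]; simp
  have hr : (fun j : Fin (k + 1) => T.1 0 j.succ) = Pi.single 0 1 := by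
    funext j
    rw [hrow]
    by_cases hj : j = 0
    · subst hj; simp
    · have : j.succ ≠ 1 := by
        intro h1
        apply hj
        have : j.succ = (0 : Fin (k + 1)).succ := h1
        exact Fin.succ_injective _ this
      rw [if_neg this, Pi.single_apply, if_neg hj]
  have hl : (fun i : Fin (k + 1) => T.1 i.succ 0) = -Pi.single 0 1 := by
    funext i
    rw [apply_swap_of_mem T.2 0 i.succ, Pi.neg_apply]
    congr 1
    exact congrFun hr i
  rw [h00, hr, hl] at h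
  exact h

variable [Fintype F]

/-- ORB4-B -/
theorem card_ge_of_normal_forms {k : ℕ} (hk : 1 ≤ k) (Occ : Finset (Alt (k + 2) F))
    (hinv : ∀ A : GL (Fin (k + 2)) F, A ∈ sqGL (k + 2) F → ∀ T ∈ Occ, congE A T ∈ Occ)
    (T₀ T₁ : Alt (k + 2) F) (h₀ : T₀ ∈ Occ) (h₁ : T₁ ∈ Occ) (hne : T₀ ≠ T₁)
    (hrow₀ : ∀ j, T₀.1 0 j = if j = 1 then 1 else 0) (hcol₀ : ∀ j, j ≠ 0 → T₀.1 j 1 = 0)
    (hrow₁ : ∀ j, T₁.1 0 j = if j = 1 then 1 else 0) (hcol₁ : ∀ j, j ≠ 0 → T₁.1 j 1 = 0) :
    2 * (Fintype.card F ^ (k + 1) - 1) * Fintype.card F ^ k ≤ Occ.card := by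
  classical
  -- the two normal forms, indexed by `Bool`
  set Tε : Bool → Alt (k + 2) F := fun ε => if ε then T₁ else T₀ with hTε
  have hTεmem : ∀ ε, Tε ε ∈ Occ := by
    intro ε; cases ε
    · exact h₀
    · exact h₁
  have hTεrow : ∀ ε j, (Tε ε).1 0 j = if j = 1 then 1 else 0 := by
    intro ε; cases ε
    · exact hrow₀
    · exact hrow₁
  have hTεcol : ∀ ε j, j ≠ 0 → (Tε ε).1 j 1 = 0 := by
    intro ε; cases ε
    · exact hcol₀
    · exact hcol₁
  have hTεinj : Function.Injective Tε := by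
    intro ε ε' h
    cases ε <;> cases ε'
    · rfl
    · exact absurd h hne
    · exact absurd h.symm hne
    · rfl
  -- the elements `B_r`
  have he0 : (Pi.single 0 1 : Fin (k + 1) → F) ≠ 0 := by
    intro h
    have := congrFun h 0
    simp at this
  have hB : ∀ r : {r : Fin (k + 1) → F // r ≠ 0}, ∃ g : GL (Fin (k + 1)) F,
      (g : Matrix (Fin (k + 1)) (Fin (k + 1)) F).det = 1 ∧
      (g : Matrix (Fin (k + 1)) (Fin (k + 1)) F) *ᵥ (Pi.single 0 1) = r.1 :=
    fun r => Cfsg.Agent.Lib.H18.SLMin.trans_SL_vec (by omega) he0 r.2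
  choose B hBdet hBr using hB
  -- the injection
  set f : {r : Fin (k + 1) → F // r ≠ 0} × (Fin k → F) × Bool → Alt (k + 2) F :=
    fun p => congE (levG1 (B p.1)) (congE (lowG (Fin.cons 0 p.2.1 : Fin (k + 1) → F)) (Tε p.2.2)) with hf
  have hfmem : ∀ p, f p ∈ Occ := fun p =>
    hinv _ (levG1_mem _ (hBdet p.1)) _ (hinv _ (lowG_mem _) _ (hTεmem p.2.2))
  -- the inner matrix
  have hinner : ∀ (α : Fin k → F) (ε : Bool),
      (congE (lowG (Fin.cons 0 α : Fin (k + 1) → F)) (Tε ε)).1 =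
        bm 0 (Pi.single 0 1) (-Pi.single 0 1)
          (vecMulVec (-Pi.single 0 1) (Fin.cons 0 α : Fin (k + 1) → F) +
            (vecMulVec (Fin.cons 0 α : Fin (k + 1) → F) (Pi.single 0 1) +
              (Tε ε).1.submatrix Fin.succ Fin.succ)) := by
    intro α ε
    have hnf := normal_form_eq (Tε ε) (hTεrow ε)
    rw [congE_val, lowG_val]
    conv_lhs => rw [hnf]
    rw [low_cong]
  -- decoding `r`
  have hrow : ∀ p, (fun j : Fin (k + 1) => (f p).1 0 j.succ) = p.1.1 := by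
    intro p
    have h1 : (f p).1 = (levG1 (B p.1)).1 * (congE (lowG (Fin.cons 0 p.2.1 : Fin (k + 1) → F)) (Tε p.2.2)).1 *
        (levG1 (B p.1)).1ᵀ := rfl
    have h2 : (levG1 (B p.1)).1 = bm 1 0 0 (B p.1).1 := rfl
    rw [h1, hinner, h2, lev_cong]
    funext j
    rw [bm_zero_succ, hBr]
  -- decoding `α`
  have hcol : ∀ (α : Fin k → F) (ε : Bool) (i : Fin k),
      (congE (lowG (Fin.cons 0 α : Fin (k + 1) → F)) (Tε ε)).1 i.succ.succ 1 = α i := by
    intro α ε i
    rw [hinner]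
    have h1 : (1 : Fin (k + 2)) = (0 : Fin (k + 1)).succ := rfl
    rw [h1, bm_succ_succ, Matrix.add_apply, Matrix.add_apply, vecMulVec_apply, vecMulVec_apply, submatrix_apply]
    have h2 : (Tε ε).1 i.succ.succ (0 : Fin (k + 1)).succ = 0 :=
      hTεcol ε i.succ.succ (Fin.succ_ne_zero _)
    rw [h2]
    simp [Fin.succ_ne_zero]
  have hinj : Function.Injective f := by
    rintro ⟨r, α, ε⟩ ⟨r', α', ε'⟩ h
    have hr : r = r' := by
      apply Subtype.ext
      have h1 := hrow ⟨r, α, ε⟩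
      have h2 := hrow ⟨r', α', ε'⟩
      rw [h] at h1
      exact h1.symm.trans h2
    subst hr
    have h3 : congE (lowG (Fin.cons 0 α : Fin (k + 1) → F)) (Tε ε) =
        congE (lowG (Fin.cons 0 α' : Fin (k + 1) → F)) (Tε ε') :=
      (congE (levG1 (B r))).injective h
    have hα : α = α' := by
      funext i
      rw [← hcol α ε i, ← hcol α' ε' i, h3]
    subst hα
    have hε : ε = ε' := hTεinj ((congE _).injective h3)
    subst hε
    rfl
  -- counting
  have hcard : Fintype.card ({r : Fin (k + 1) → F // r ≠ 0} × (Fin k → F) × Bool) =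
      2 * (Fintype.card F ^ (k + 1) - 1) * Fintype.card F ^ k := by
    rw [Fintype.card_prod, Fintype.card_prod, Fintype.card_bool, Fintype.card_subtype_compl,
      Fintype.card_subtype_eq, Fintype.card_fun, Fintype.card_fun, Fintype.card_fin, Fintype.card_fin]
    ring
  rw [← hcard, ← Finset.card_univ]
  have : (Finset.univ.image f) ⊆ Occ := by
    intro x hx
    obtain ⟨p, _, rfl⟩ := Finset.mem_image.1 hx
    exact hfmem p
  calc (Finset.univ : Finset ({r : Fin (k + 1) → F // r ≠ 0} × (Fin k → F) × Bool)).card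
      = (Finset.univ.image f).card := (Finset.card_image_of_injective _ hinj).symm
    _ ≤ Occ.card := Finset.card_le_card this

end Cfsg.Agent.Lib.H6.OPMin
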