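import Cfsg.Agent.Lib.H6.OPSiegel

/-!
# `levO A ∈ Ω⁺_{2n}` iff `det A` is a square (helper6, for S2345; transfer of helper13's S2611)
-/

set_option autoImplicit false

namespace Cfsg.Agent.Lib.H6.OPSiegel

open Matrix
open Cfsg.Agent.Lib.H11.IsoReindex Cfsg.Agent.Lib.H13.PlusLevi Cfsg.Agent.Lib.H13

variable {F : Type*} [Field F] {n : ℕ}

/-- `diag (A, A⁻ᵀ) ∈ Ω⁺_{2n}(F)` iff `det A` is a square -/
theorem levO_mem_iff [Fintype F] (hn : 1 ≤ n) (h : Fintype.card F ≠ 2 ∨ n ≠ 2) (A : GL (Fin n) F) :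
    levO A ∈ Cfsg.Omega F (Cfsg.quadFormPlus n F) ↔
      IsSquare (A : Matrix (Fin n) (Fin n) F).det := by
  have key : ∀ Q₀ : (I n → F) → F, ⇑(plusQF F n) = Q₀ →
      ∀ g : ↥(Cfsg.isometryGroup F Q₀),
        ((g : GL (I n) F) : Matrix (I n) (I n) F) = leviM A →
        (g ∈ Cfsg.Omega F Q₀ ↔ IsSquare (A : Matrix (Fin n) (Fin n) F).det) := by
    rintro _ rfl g hg
    have : g = levi A := Subtype.ext (Units.ext hg)
    rw [this]
    exact levi_mem_iff hn h A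
  exact key _ (Cfsg.Agent.S0287.coe_plusQF n) (levO A) rfl

/-- `levO A ∈ Ω` when `det A` is a square -/
theorem levO_mem_of_sq [Fintype F] (hn : 1 ≤ n) (h : Fintype.card F ≠ 2 ∨ n ≠ 2) (A : GL (Fin n) F)
    (hA : IsSquare (A : Matrix (Fin n) (Fin n) F).det) :
    levO A ∈ Cfsg.Omega F (Cfsg.quadFormPlus n F) :=
  (levO_mem_iff hn h A).2 hA

end Cfsg.Agent.Lib.H6.OPSiegel
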