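import Mathlib

/-!
# S5239 piece NAP (architect helper22): a nonabelian pearl contains a uniform element

`E ≤ S` nonabelian of order `27` and exponent `3` with `C_S(E) ≤ E`, `E ≠ S`, `S` a finite `3`-group:
some `e ∈ E` has `|C_S(e)| = 9`.
-/

set_option autoImplicit false

namespace Cfsg.Agent.Lib.H6.Pearl

section basics

variable {G : Type*} [Group G]

/-- In a nonabelian group of order `27` the centre has order `3` and contains all commutators. -/
theorem nap_center_of_card {R : Type*} [Group R] [Finite R] (hcard : Nat.card R = 27)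
    (hna : ∃ a b : R, a * b ≠ b * a) :
    Nat.card ↥(Subgroup.center R) = 3 ∧ ∀ x y : R, x * y * x⁻¹ * y⁻¹ ∈ Subgroup.center R := by
  have : Fact (Nat.Prime 3) := ⟨Nat.prime_three⟩
  have hcard' : Nat.card R = 3 ^ 3 := by rw [hcard]; norm_num
  have hR : IsPGroup 3 R := IsPGroup.of_card hcard'
  haveI hnt : Nontrivial R := by
    rw [← Finite.one_lt_card_iff_nontrivial, hcard]; norm_num
  obtain ⟨a, b, hab⟩ := hna
  obtain ⟨k, hk3, hk⟩ := (Nat.dvd_prime_pow Nat.prime_three).mp
    (hcard' ▸ Subgroup.card_subgroup_dvd_card (Subgroup.center R))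
  have hcmi := Subgroup.card_mul_index (Subgroup.center R)
  have hk0 : k ≠ 0 := by
    rintro rfl
    have := hR.center_nontrivial
    rw [pow_zero] at hk
    exact (Finite.one_lt_card_iff_nontrivial.mpr this).ne' hk
  have hk3' : k ≠ 3 := by
    rintro rfl
    have htop : Subgroup.center R = ⊤ := by
      apply Subgroup.eq_top_of_card_eq
      rw [hk, hcard']
    have ha : a ∈ Subgroup.center R := by rw [htop]; trivial
    exact hab ((Subgroup.mem_center_iff.mp ha b).symm)
  have hk2 : k ≠ 2 := by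
    rintro rfl
    have hidx : (Subgroup.center R).index = 3 := by
      rw [hk, hcard] at hcmi
      omega
    have hq : Nat.card (R ⧸ Subgroup.center R) = 3 := by
      rw [← Subgroup.index_eq_card]; exact hidx
    haveI : IsCyclic (R ⧸ Subgroup.center R) := isCyclic_of_prime_card hq
    exact hab (commutative_of_cyclic_center_quotient (QuotientGroup.mk' (Subgroup.center R))
      (by rw [QuotientGroup.ker_mk']) a b)
  have hk1 : k = 1 := by omega
  subst hk1
  rw [pow_one] at hk
  refine ⟨hk, ?_⟩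
  have hidx : (Subgroup.center R).index = 9 := by
    rw [hk, hcard] at hcmi
    omega
  have hq : Nat.card (R ⧸ Subgroup.center R) = 3 ^ 2 := by
    rw [← Subgroup.index_eq_card, hidx]; norm_num
  intro x y
  have hc := IsPGroup.commutative_of_card_eq_prime_sq hq
  rw [← QuotientGroup.eq_one_iff]
  have h1 := hc (QuotientGroup.mk x) (QuotientGroup.mk y)
  rw [QuotientGroup.mk_mul, QuotientGroup.mk_mul, QuotientGroup.mk_mul, QuotientGroup.mk_inv,
    QuotientGroup.mk_inv, h1]
  group

/-- A subgroup of a group of order `27` which contains two non-commuting elements is everything. -/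
theorem nap_eq_of_noncomm [Finite G] {E K : Subgroup G} (hE : Nat.card ↥E = 27) (hK : K ≤ E)
    {a b : G} (ha : a ∈ K) (hb : b ∈ K) (hab : a * b ≠ b * a) : K = E := by
  have : Fact (Nat.Prime 3) := ⟨Nat.prime_three⟩
  have hdvd : Nat.card ↥K ∣ 3 ^ 3 := by
    have := Subgroup.card_dvd_of_le hK
    rw [hE] at this
    norm_num
    exact this
  obtain ⟨k, hk3, hk⟩ := (Nat.dvd_prime_pow Nat.prime_three).mp hdvd
  have hcomm : k ≤ 2 → False := by
    intro hk2
    have hc : ∀ x y : ↥K, x * y = y * x := by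
      interval_cases k
      · intro x y
        rw [pow_zero] at hk
        haveI : Subsingleton ↥K := (Nat.card_eq_one_iff_unique.mp hk).1
        exact Subsingleton.elim _ _
      · intro x y
        rw [pow_one] at hk
        haveI : IsCyclic ↥K := isCyclic_of_prime_card hk
        exact (IsCyclic.commGroup).mul_comm x y
      · exact IsPGroup.commutative_of_card_eq_prime_sq hk
    have := hc ⟨a, ha⟩ ⟨b, hb⟩
    exact hab (congrArg Subtype.val this)
  have hk3' : k = 3 := by
    by_contra h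
    exact hcomm (by omega)
  subst hk3'
  apply Subgroup.eq_of_le_of_card_ge hK
  rw [hk, hE]
  norm_num

/-- If `g x g⁻¹ = x c` with `c` central then `g^k x g^{-k} = x c^k`. -/
theorem nap_conj_zpow {g x c : G} (hc : c ∈ Subgroup.center G) (h : g * x * g⁻¹ = x * c) (k : ℤ) :
    g ^ k * x * (g ^ k)⁻¹ = x * c ^ k := by
  have hcg : Commute c g := (Subgroup.mem_center_iff.mp hc g).symm
  have h1 : x⁻¹ * g * x = c * g := by
    have : g * x = x * c * g := by
      rw [← h]; group
    calc x⁻¹ * g * x = x⁻¹ * (g * x) := by group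
      _ = x⁻¹ * (x * c * g) := by rw [this]
      _ = c * g := by group
  have h2 : x⁻¹ * g ^ k * x = c ^ k * g ^ k := by
    have := conj_zpow (i := k) (a := x⁻¹) (b := g)
    rw [inv_inv] at this
    rw [← this, h1, hcg.mul_zpow]
  have hck : c ^ k ∈ Subgroup.center G := Subgroup.zpow_mem _ hc k
  have hckg : c ^ k * g ^ k = g ^ k * c ^ k := (Subgroup.mem_center_iff.mp hck (g ^ k)).symm
  calc g ^ k * x * (g ^ k)⁻¹ = x * (x⁻¹ * g ^ k * x) * (g ^ k)⁻¹ := by group
    _ = x * (c ^ k * g ^ k) * (g ^ k)⁻¹ := by rw [h2]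
    _ = x * c ^ k := by group

end basics

section core

variable {G : Type*} [Group G] [Finite G]

/-- **NAP**, intrinsic form. -/
theorem nap_core (hG : IsPGroup 3 G) (E : Subgroup G) (hE : Nat.card ↥E = 27)
    (hna : ∃ a ∈ E, ∃ b ∈ E, a * b ≠ b * a)
    (hcen : ∀ g : G, (∀ x ∈ E, g * x = x * g) → g ∈ E) :
    ∃ e ∈ E, e ≠ 1 ∧ Nat.card ↥(Subgroup.centralizer ({e} : Set G)) = 9 := by
  classical
  have : Fact (Nat.Prime 3) := ⟨Nat.prime_three⟩
  obtain ⟨a, ha, b, hb, hab⟩ := hna
  -- structure of `E`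
  obtain ⟨hZE3, hZEc⟩ := nap_center_of_card (R := ↥E) hE
    ⟨⟨a, ha⟩, ⟨b, hb⟩, fun h => hab (congrArg Subtype.val h)⟩
  set z : G := a * b * a⁻¹ * b⁻¹ with hz
  have hz1 : z ≠ 1 := by
    intro h
    apply hab
    have : a * b = z * (b * a) := by rw [hz]; group
    rw [this, h, one_mul]
  -- the centre of `G`
  set Z : Subgroup G := Subgroup.center G with hZ
  have hZE : Z ≤ E := fun g hg => hcen g (fun x _ => (Subgroup.mem_center_iff.mp hg x).symm)
  set ZE : Subgroup G := (Subgroup.center ↥E).map E.subtype with hZEdef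
  have hZEcard : Nat.card ↥ZE = 3 := by
    rw [hZEdef, Subgroup.card_map_of_injective E.subtype_injective, hZE3]
  have hmemZE : ∀ g : G, g ∈ ZE ↔ g ∈ E ∧ ∀ x ∈ E, x * g = g * x := by
    intro g
    constructor
    · rintro ⟨⟨g', hg'⟩, hgc, rfl⟩
      refine ⟨hg', fun x hx => ?_⟩
      have := Subgroup.mem_center_iff.mp hgc ⟨x, hx⟩
      exact congrArg Subtype.val this
    · rintro ⟨hgE, hg⟩
      refine ⟨⟨g, hgE⟩, ?_, rfl⟩
      rw [SetLike.mem_coe, Subgroup.mem_center_iff]
      intro x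
      exact Subtype.ext (hg x.1 x.2)
  have hZleZE : Z ≤ ZE := by
    intro g hg
    rw [hmemZE]
    exact ⟨hZE hg, fun x _ => Subgroup.mem_center_iff.mp hg x⟩
  haveI hntG : Nontrivial G := ⟨⟨a, b, fun h => hab (by rw [h])⟩⟩
  have hZnt : Nontrivial ↥Z := hG.center_nontrivial
  have hZcard : Nat.card ↥Z = 3 := by
    have hd : Nat.card ↥Z ∣ 3 := hZEcard ▸ Subgroup.card_dvd_of_le hZleZE
    have h1 : 1 < Nat.card ↥Z := Finite.one_lt_card_iff_nontrivial.mpr hZnt
    rcases (Nat.dvd_prime Nat.prime_three).mp hd with h | h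
    · omega
    · exact h
  have hZeq : Z = ZE := Subgroup.eq_of_le_of_card_ge hZleZE (by rw [hZcard, hZEcard])
  have hzZ : z ∈ Z := by
    rw [hZeq, hmemZE]
    have hzE : z ∈ E := by
      rw [hz]
      exact E.mul_mem (E.mul_mem (E.mul_mem ha hb) (E.inv_mem ha)) (E.inv_mem hb)
    refine ⟨hzE, fun x hx => ?_⟩
    have h1 := hZEc ⟨a, ha⟩ ⟨b, hb⟩
    have h2 := Subgroup.mem_center_iff.mp h1 ⟨x, hx⟩
    exact congrArg Subtype.val h2
  have hzc : ∀ g : G, g * z = z * g := fun g => Subgroup.mem_center_iff.mp hzZ g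
  -- `Z = ⟨z⟩`
  have hZz : ∀ c ∈ Z, ∃ k : ℤ, z ^ k = c := by
    have hle : Subgroup.zpowers z ≤ Z := by
      rw [Subgroup.zpowers_le]; exact hzZ
    have hoz : orderOf z = 3 := by
      have hd : orderOf z ∣ 3 := by
        have := Subgroup.card_dvd_of_le hle
        rwa [Nat.card_zpowers, hZcard] at this
      rcases (Nat.dvd_prime Nat.prime_three).mp hd with h | h
      · exact absurd (orderOf_eq_one_iff.mp h) hz1
      · exact h
    have heq : Subgroup.zpowers z = Z := by
      apply Subgroup.eq_of_le_of_card_ge hle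
      rw [Nat.card_zpowers, hoz, hZcard]
    intro c hc
    rw [← heq] at hc
    exact Subgroup.mem_zpowers_iff.mp hc
  -- an element of the second centre
  have hZtop : Z ≠ ⊤ := by
    intro h
    have : a ∈ Z := by rw [h]; trivial
    exact hab ((Subgroup.mem_center_iff.mp this b).symm)
  obtain ⟨y, hyZ, hy⟩ : ∃ y : G, y ∉ Z ∧ ∀ g : G, y * g * y⁻¹ * g⁻¹ ∈ Z := by
    have hQ : IsPGroup 3 (G ⧸ Z) := hG.to_quotient Z
    haveI : Nontrivial (G ⧸ Z) := by
      rw [← Finite.one_lt_card_iff_nontrivial, ← Subgroup.index_eq_card]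
      by_contra hcon
      have h0 : Z.index ≠ 0 := Subgroup.index_ne_zero_of_finite
      have : Z.index = 1 := by omega
      exact hZtop (Subgroup.index_eq_one.mp this)
    have hcnt : Nontrivial ↥(Subgroup.center (G ⧸ Z)) := hQ.center_nontrivial
    obtain ⟨⟨ybar, hybar⟩, hne⟩ := exists_ne (1 : ↥(Subgroup.center (G ⧸ Z)))
    obtain ⟨y, rfl⟩ := QuotientGroup.mk_surjective ybar
    refine ⟨y, ?_, ?_⟩
    · intro hyZ
      apply hne
      apply Subtype.ext
      exact (QuotientGroup.eq_one_iff y).mpr hyZ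
    · intro g
      rw [← QuotientGroup.eq_one_iff]
      have h1 := Subgroup.mem_center_iff.mp hybar (QuotientGroup.mk g)
      rw [QuotientGroup.mk_mul, QuotientGroup.mk_mul, QuotientGroup.mk_mul, QuotientGroup.mk_inv,
        QuotientGroup.mk_inv, ← h1]
      group
  -- `y` acts on `a`, `b` by central factors
  obtain ⟨i, hi⟩ := hZz _ (hy a)
  obtain ⟨j, hj⟩ := hZz _ (hy b)
  have hzi : ∀ k : ℤ, z ^ k ∈ Subgroup.center G := fun k => Subgroup.zpow_mem _ hzZ k
  have hya : y * a * y⁻¹ = a * z ^ i := by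
    rw [hi]
    have := Subgroup.mem_center_iff.mp (hy a) a
    rw [this]; group
  have hyb : y * b * y⁻¹ = b * z ^ j := by
    rw [hj]
    have := Subgroup.mem_center_iff.mp (hy b) b
    rw [this]; group
  -- the inner automorphism with the same effect
  have hab1 : a * b * a⁻¹ = b * z := by
    rw [hzc b, hz]; group
  have hba1 : b * a * b⁻¹ = a * z⁻¹ := by
    have hzinv : z⁻¹ ∈ Subgroup.center G := Subgroup.inv_mem _ hzZ
    rw [Subgroup.mem_center_iff.mp hzinv a, hz]; group
  set u : G := a ^ j * b ^ (-i) with hu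
  have huE : u ∈ E := E.mul_mem (E.zpow_mem ha j) (E.zpow_mem hb (-i))
  have hua : u * a * u⁻¹ = a * z ^ i := by
    have h1 := nap_conj_zpow (Subgroup.inv_mem _ hzZ) hba1 (-i)
    have h2 : (z⁻¹) ^ (-i) = z ^ i := by rw [inv_zpow, zpow_neg, inv_inv]
    rw [h2] at h1
    have hcomm : a ^ j * (a * z ^ i) * (a ^ j)⁻¹ = a * z ^ i := by
      have hc1 : z ^ i * (a ^ j)⁻¹ = (a ^ j)⁻¹ * z ^ i :=
        (Subgroup.mem_center_iff.mp (hzi i) _).symm
      calc a ^ j * (a * z ^ i) * (a ^ j)⁻¹ = a ^ j * a * (z ^ i * (a ^ j)⁻¹) := by group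
        _ = a ^ j * a * ((a ^ j)⁻¹ * z ^ i) := by rw [hc1]
        _ = (a ^ j * a * (a ^ j)⁻¹) * z ^ i := by group
        _ = a * z ^ i := by
          congr 1
          have : a ^ j * a = a * a ^ j := by
            rw [← zpow_add_one, ← zpow_one_add]; ring_nf
          rw [this]; group
    calc u * a * u⁻¹ = a ^ j * (b ^ (-i) * a * (b ^ (-i))⁻¹) * (a ^ j)⁻¹ := by rw [hu]; group
      _ = a ^ j * (a * z ^ i) * (a ^ j)⁻¹ := by rw [h1]
      _ = a * z ^ i := hcomm
  have hub : u * b * u⁻¹ = b * z ^ j := by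
    have h1 := nap_conj_zpow hzZ hab1 j
    have hbb : b ^ (-i) * b * (b ^ (-i))⁻¹ = b := by
      have : b ^ (-i) * b = b * b ^ (-i) := by
        rw [← zpow_add_one, ← zpow_one_add]; ring_nf
      rw [this]; group
    calc u * b * u⁻¹ = a ^ j * (b ^ (-i) * b * (b ^ (-i))⁻¹) * (a ^ j)⁻¹ := by rw [hu]; group
      _ = a ^ j * b * (a ^ j)⁻¹ := by rw [hbb]
      _ = b * z ^ j := h1
  -- hence `y ∈ E`
  have hyE : y ∈ E := by
    set w : G := y⁻¹ * u with hw
    have hK : E ⊓ Subgroup.centralizer ({w} : Set G) = E := by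
      apply nap_eq_of_noncomm hE inf_le_left (a := a) (b := b) _ _ hab
      · refine ⟨ha, ?_⟩
        show a ∈ Subgroup.centralizer ({w} : Set G)
        rw [Subgroup.mem_centralizer_singleton_iff]
        have : u * a = y * a * y⁻¹ * u := by
          rw [hya, ← hua]; group
        calc a * w = y⁻¹ * (y * a * y⁻¹ * u) := by rw [hw]; group
          _ = y⁻¹ * (u * a) := by rw [this]
          _ = w * a := by rw [hw]; group
      · refine ⟨hb, ?_⟩
        show b ∈ Subgroup.centralizer ({w} : Set G)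
        rw [Subgroup.mem_centralizer_singleton_iff]
        have : u * b = y * b * y⁻¹ * u := by
          rw [hyb, ← hub]; group
        calc b * w = y⁻¹ * (y * b * y⁻¹ * u) := by rw [hw]; group
          _ = y⁻¹ * (u * b) := by rw [this]
          _ = w * b := by rw [hw]; group
    have hwE : w ∈ E := by
      apply hcen
      intro x hx
      have : x ∈ E ⊓ Subgroup.centralizer ({w} : Set G) := by rw [hK]; exact hx
      exact (Subgroup.mem_centralizer_singleton_iff.mp this.2).symm
    have : y = u * w⁻¹ := by rw [hw]; group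
    rw [this]
    exact E.mul_mem huE (E.inv_mem hwE)
  -- an element of `E` not commuting with `y`
  obtain ⟨e, heE, hey⟩ : ∃ e ∈ E, e * y ≠ y * e := by
    by_contra hcon
    push_neg at hcon
    apply hyZ
    rw [hZeq, hmemZE]
    exact ⟨hyE, hcon⟩
  refine ⟨e, heE, ?_, ?_⟩
  · rintro rfl
    exact hey (by rw [one_mul, mul_one])
  -- the commutator map with `y` on `C_G(e)`
  set C : Subgroup G := Subgroup.centralizer ({e} : Set G) with hC
  have hyc : ∀ g : G, g * y * g⁻¹ * y⁻¹ ∈ Z := by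
    intro g
    have h1 := hy g
    have h2 : g * y * g⁻¹ * y⁻¹ = (y * g * y⁻¹ * g⁻¹)⁻¹ := by group
    rw [h2]
    exact Subgroup.inv_mem _ h1
  let φ : ↥C →* G := MonoidHom.mk' (fun g => (g : G) * y * (g : G)⁻¹ * y⁻¹) (by
    intro g₁ g₂
    have hc2 := Subgroup.mem_center_iff.mp (hyc (g₂ : G))
    show ((g₁ * g₂ : ↥C) : G) * y * ((g₁ * g₂ : ↥C) : G)⁻¹ * y⁻¹ = _
    rw [Subgroup.coe_mul]
    calc (g₁ : G) * g₂ * y * ((g₁ : G) * g₂)⁻¹ * y⁻¹
        = (g₁ : G) * ((g₂ : G) * y * (g₂ : G)⁻¹ * y⁻¹) * (y * (g₁ : G)⁻¹ * y⁻¹) := by group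
      _ = ((g₂ : G) * y * (g₂ : G)⁻¹ * y⁻¹) * (g₁ : G) * (y * (g₁ : G)⁻¹ * y⁻¹) := by
          rw [hc2 (g₁ : G)]
      _ = ((g₂ : G) * y * (g₂ : G)⁻¹ * y⁻¹) * ((g₁ : G) * y * (g₁ : G)⁻¹ * y⁻¹) := by group
      _ = ((g₁ : G) * y * (g₁ : G)⁻¹ * y⁻¹) * ((g₂ : G) * y * (g₂ : G)⁻¹ * y⁻¹) := by
          rw [hc2])
  have hφ : ∀ g : ↥C, φ g = (g : G) * y * (g : G)⁻¹ * y⁻¹ := fun _ => rfl
  -- the range has order 3
  have hrange : Nat.card ↥φ.range = 3 := by
    have hle : φ.range ≤ Z := by
      rintro _ ⟨g, rfl⟩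
      rw [hφ]; exact hyc _
    have hd : Nat.card ↥φ.range ∣ 3 := hZcard ▸ Subgroup.card_dvd_of_le hle
    rcases (Nat.dvd_prime Nat.prime_three).mp hd with h | h
    · exfalso
      have hbot : φ.range = ⊥ := Subgroup.card_eq_one.mp h
      have heC : e ∈ C := by
        rw [hC, Subgroup.mem_centralizer_singleton_iff]
      have : φ ⟨e, heC⟩ ∈ φ.range := ⟨_, rfl⟩
      rw [hbot, Subgroup.mem_bot, hφ] at this
      apply hey
      have h3 : e * y = (e * y * e⁻¹ * y⁻¹) * (y * e) := by group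
      rw [h3]
      show (e * y * e⁻¹ * y⁻¹) * (y * e) = y * e
      rw [this, one_mul]
    · exact h
  -- the kernel has order 3
  have hker : Nat.card ↥φ.ker = 3 := by
    have hmap : φ.ker.map C.subtype = Z := by
      apply le_antisymm
      · rintro _ ⟨g, hg, rfl⟩
        rw [SetLike.mem_coe, MonoidHom.mem_ker, hφ] at hg
        have hgy : (g : G) * y = y * g := by
          have h3 : (g : G) * y = ((g : G) * y * (g : G)⁻¹ * y⁻¹) * (y * g) := by group
          rw [h3, hg, one_mul]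
        have hge : (g : G) * e = e * g := Subgroup.mem_centralizer_singleton_iff.mp g.2
        -- `g` centralizes `E`
        have hK : E ⊓ Subgroup.centralizer ({(g : G)} : Set G) = E := by
          apply nap_eq_of_noncomm hE inf_le_left (a := e) (b := y) _ _ hey
          · exact ⟨heE, Subgroup.mem_centralizer_singleton_iff.mpr hge.symm⟩
          · exact ⟨hyE, Subgroup.mem_centralizer_singleton_iff.mpr hgy.symm⟩
        have hcE : ∀ x ∈ E, (g : G) * x = x * g := by
          intro x hx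
          have : x ∈ E ⊓ Subgroup.centralizer ({(g : G)} : Set G) := by rw [hK]; exact hx
          exact (Subgroup.mem_centralizer_singleton_iff.mp this.2).symm
        show (g : G) ∈ Z
        rw [hZeq, hmemZE]
        exact ⟨hcen _ hcE, fun x hx => (hcE x hx).symm⟩
      · intro g hg
        have hgC : g ∈ C := by
          rw [hC, Subgroup.mem_centralizer_singleton_iff]
          exact (Subgroup.mem_center_iff.mp hg e).symm
        refine ⟨⟨g, hgC⟩, ?_, rfl⟩
        rw [SetLike.mem_coe, MonoidHom.mem_ker, hφ]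
        show g * y * g⁻¹ * y⁻¹ = 1
        rw [← Subgroup.mem_center_iff.mp hg y]; group
    rw [← Subgroup.card_map_of_injective C.subtype_injective, hmap, hZcard]
  have := Subgroup.card_mul_index φ.ker
  rw [Subgroup.index_ker, hker, hrange] at this
  omega

end core

/-- **NAP**.  `E ≤ S` nonabelian of order `27` and exponent `3` with `C_S(E) ≤ E`, `E ≠ S`, `S` a finite `3`-group:
some `e ∈ E` has `|C_S(e)| = 9`. -/
theorem exists_uniform_of_nonabelian {Ω : Type*} [Group Ω] (S E : Subgroup Ω) [Finite S] (hS : IsPGroup 3 S)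
    (hES : E ≤ S) (hne : E ≠ S) (hE : Nat.card ↥E = 27) (hna : ∃ a ∈ E, ∃ b ∈ E, a * b ≠ b * a)
    (hexp : ∀ a ∈ E, a ^ 3 = 1) (hcen : ∀ g ∈ S, (∀ x ∈ E, g * x = x * g) → g ∈ E) :
    ∃ e ∈ E, e ≠ 1 ∧ Nat.card {g : Ω // g ∈ S ∧ g * e = e * g} = 9 := by
  obtain ⟨a, ha, b, hb, hab⟩ := hna
  have hE' : Nat.card ↥(E.subgroupOf S) = 27 := by
    rw [Nat.card_congr (Subgroup.subgroupOfEquivOfLe hES).toEquiv, hE]
  obtain ⟨e, heE, he1, hcard⟩ := nap_core hS (E.subgroupOf S) hE'
    ⟨⟨a, hES ha⟩, Subgroup.mem_subgroupOf.mpr ha, ⟨b, hES hb⟩, Subgroup.mem_subgroupOf.mpr hb,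
      fun h => hab (congrArg Subtype.val h)⟩
    (by
      intro g hg
      rw [Subgroup.mem_subgroupOf]
      apply hcen _ g.2
      intro x hx
      have := hg ⟨x, hES hx⟩ (Subgroup.mem_subgroupOf.mpr hx)
      exact congrArg Subtype.val this)
  refine ⟨(e : Ω), Subgroup.mem_subgroupOf.mp heE, ?_, ?_⟩
  · intro h
    apply he1
    exact Subtype.ext h
  · rw [← hcard]
    apply Nat.card_congr
    refine
      { toFun := fun g => ⟨⟨g.1, g.2.1⟩, ?_⟩
        invFun := fun g => ⟨g.1.1, g.1.2, ?_⟩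
        left_inv := fun g => rfl
        right_inv := fun g => rfl }
    · rw [Subgroup.mem_centralizer_singleton_iff]
      exact Subtype.ext g.2.2
    · have := Subgroup.mem_centralizer_singleton_iff.mp g.2
      exact congrArg Subtype.val this

end Cfsg.Agent.Lib.H6.Pearl
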