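import Mathlib
import Cfsg.Agent.Lib.H28.PSp4Defs
import Cfsg.Agent.Lib.H12.SL2Syl2

/-!
# S5320 farm-out, piece N2 (helper6): `N(St Q) = St Q · Δ(N(Q))`
-/

set_option autoImplicit false
set_option linter.unusedSectionVars false

namespace Cfsg.Agent.Lib.H6.PSp4

open Matrix Cfsg.Agent.Lib.H9.SqC Cfsg.Agent.Lib.H28.PSp4 Cfsg.Agent.Lib.H12

variable {F : Type*} [Field F]

/-- `Φ(-1,1)` is not central -/
theorem Ph_neg_one_one_not_central (h2 : (2 : F) ≠ 0) :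
    (Ph (-1 : SL2 F) 1) ∉ Subgroup.center (Sp4 F) := by
  intro h
  rcases mem_center_iff.mp h with h1 | h1
  · rw [← Ph_one] at h1
    exact sl2_neg_one_ne_one h2 (Ph_inj h1).1
  · exact sl2_neg_one_ne_one h2 (Ph_inj h1).2.symm

/-- `Φ(1,-1)` is not central -/
theorem Ph_one_neg_one_not_central (h2 : (2 : F) ≠ 0) :
    (Ph (1 : SL2 F) (-1)) ∉ Subgroup.center (Sp4 F) := by
  intro h
  rcases mem_center_iff.mp h with h1 | h1
  · rw [← Ph_one] at h1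
    exact sl2_neg_one_ne_one h2 (Ph_inj h1).2
  · exact sl2_neg_one_ne_one h2 (Ph_inj h1).1.symm

/-- a non-central involution of `Sp₄` that is a square in `St Q` is `Φ(-1,1)` or `Φ(1,-1)` -/
theorem sq_invol_cases (h2 : (2 : F) ≠ 0) {Q : Subgroup (SL2 F)} {y z : Sp4 F} (hy : y ∈ St Q)
    (hyz : y * y = z) (hz2 : z * z = 1) (hzc : z ∉ Subgroup.center (Sp4 F)) :
    z = Ph (-1) 1 ∨ z = Ph 1 (-1) := by
  obtain ⟨a, -, b, -, rfl | rfl⟩ := hy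
  · rw [Ph_mul] at hyz
    subst hyz
    rw [Ph_mul, ← Ph_one] at hz2
    obtain ⟨ha, hb⟩ := Ph_inj hz2
    rcases (sl2_mul_self_eq_one_iff h2 (a * a)).mp ha with ha | ha <;>
      rcases (sl2_mul_self_eq_one_iff h2 (b * b)).mp hb with hb | hb
    · exfalso; apply hzc; rw [ha, hb, Ph_one]; exact Subgroup.one_mem _
    · right; rw [ha, hb]
    · left; rw [ha, hb]
    · exfalso; apply hzc; rw [ha, hb]; exact mem_center_iff.mpr (Or.inr rfl)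
  · exfalso
    have e : Ph a b * sw * (Ph a b * sw) = Ph (a * b) (b * a) := by
      rw [mul_assoc, ← mul_assoc sw, sw_mul_Ph, mul_assoc (Ph b a), sw_mul_sw, mul_one, Ph_mul]
    rw [e] at hyz
    subst hyz
    rw [Ph_mul, ← Ph_one] at hz2
    obtain ⟨hab, -⟩ := Ph_inj hz2
    apply hzc
    rcases (sl2_mul_self_eq_one_iff h2 (a * b)).mp hab with h | h
    · have h' : b * a = 1 := by
        rw [mul_eq_one_iff_eq_inv] at h
        rw [h, mul_inv_cancel]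
      rw [h, h', Ph_one]; exact Subgroup.one_mem _
    · have h' : b * a = -1 := by
        have : b * a = a⁻¹ * (a * b) * a := by group
        rw [this, h, mul_neg, mul_one, neg_mul, inv_mul_cancel]
      rw [h, h']; exact mem_center_iff.mpr (Or.inr rfl)

/-- the case where `g` centralizes `Φ(-1,1)` -/
theorem normalizer_St_aux {Q : Subgroup (SL2 F)}
    (hN1 : ∀ g : Sp4 F, g * Ph (-1) 1 = Ph (-1) 1 * g → ∃ a b : SL2 F, g = Ph a b)
    (g : Sp4 F) (hg : g ∈ Subgroup.normalizer (St Q : Set (Sp4 F)))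
    (hc : g * Ph (-1) 1 * g⁻¹ = Ph (-1) 1) :
    ∃ s ∈ St Q, ∃ k ∈ Subgroup.normalizer (Q : Set (SL2 F)), g = s * Ph k k := by
  have hc' : g * Ph (-1) 1 = Ph (-1) 1 * g := by
    conv_rhs => rw [← hc]
    group
  obtain ⟨h₀, h₁, rfl⟩ := hN1 g hc'
  rw [Subgroup.mem_normalizer_iff] at hg
  -- `h₁ ∈ N(Q)`
  have hk : h₁ ∈ Subgroup.normalizer (Q : Set (SL2 F)) := by
    rw [Subgroup.mem_normalizer_iff]
    intro a
    have := hg (Ph 1 a)
    rw [Ph_inv, Ph_mul, Ph_mul, mul_one, mul_inv_cancel, Ph_mem_St, Ph_mem_St] at this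
    constructor
    · intro ha; exact (this.mp ⟨Q.one_mem, ha⟩).2
    · intro ha; exact (this.mpr ⟨Q.one_mem, ha⟩).2
  -- `h₀ h₁⁻¹ ∈ Q`
  have hq : h₀ * h₁⁻¹ ∈ Q := by
    have := (hg sw).mp (sw_mem_St Q)
    have e : Ph h₀ h₁ * sw * (Ph h₀ h₁)⁻¹ = Ph (h₀ * h₁⁻¹) (h₁ * h₀⁻¹) * sw := by
      rw [Ph_inv, mul_assoc, sw_mul_Ph, ← mul_assoc, Ph_mul]
    rw [e, Ph_mul_sw_mem_St] at this
    exact this.1
  refine ⟨Ph (h₀ * h₁⁻¹) 1, Ph_mem_St.mpr ⟨hq, Q.one_mem⟩, h₁, hk, ?_⟩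
  rw [Ph_mul, inv_mul_cancel_right, one_mul]

/-- **N2**. `N(St Q) = St Q · Δ(N(Q))`. -/
theorem normalizer_St (h2 : (2 : F) ≠ 0) {Q : Subgroup (SL2 F)} {x : SL2 F} (hxQ : x ∈ Q)
    (hxx : x * x = -1)
    (hN1 : ∀ g : Sp4 F, g * Ph (-1) 1 = Ph (-1) 1 * g → ∃ a b : SL2 F, g = Ph a b)
    (g : Sp4 F) (hg : g ∈ Subgroup.normalizer (St Q : Set (Sp4 F))) :
    ∃ s ∈ St Q, ∃ k ∈ Subgroup.normalizer (Q : Set (SL2 F)), g = s * Ph k k := by
  have hy : g * Ph x 1 * g⁻¹ ∈ St Q :=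
    (Subgroup.mem_normalizer_iff.mp hg _).mp (Ph_mem_St.mpr ⟨hxQ, Q.one_mem⟩)
  have hyz : g * Ph x 1 * g⁻¹ * (g * Ph x 1 * g⁻¹) = g * Ph (-1) 1 * g⁻¹ := by
    have : Ph x 1 * Ph x 1 = Ph (-1 : SL2 F) 1 := by rw [Ph_mul, hxx, one_mul]
    rw [← this]; group
  have hz2 : g * Ph (-1) 1 * g⁻¹ * (g * Ph (-1) 1 * g⁻¹) = 1 := by
    have : Ph (-1 : SL2 F) 1 * Ph (-1) 1 = 1 := by
      rw [Ph_mul, neg_mul_neg, one_mul, Ph_one]
    calc g * Ph (-1) 1 * g⁻¹ * (g * Ph (-1) 1 * g⁻¹)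
        = g * (Ph (-1) 1 * Ph (-1) 1) * g⁻¹ := by group
      _ = 1 := by rw [this, mul_one, mul_inv_cancel]
  have hzc : g * Ph (-1) 1 * g⁻¹ ∉ Subgroup.center (Sp4 F) := by
    intro h
    apply Ph_neg_one_one_not_central h2
    have := (Subgroup.center (Sp4 F)).normal_of_characteristic.conj_mem _ h g⁻¹
    have e : g⁻¹ * (g * Ph (-1) 1 * g⁻¹) * g⁻¹⁻¹ = Ph (-1) 1 := by group
    rwa [e] at this
  rcases sq_invol_cases h2 hy hyz hz2 hzc with hc | hc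
  · exact normalizer_St_aux hN1 g hg hc
  · -- replace `g` by `sw * g`
    have hg' : sw * g ∈ Subgroup.normalizer (St Q : Set (Sp4 F)) :=
      Subgroup.mul_mem _ (Subgroup.le_normalizer (sw_mem_St Q)) hg
    have hc' : sw * g * Ph (-1) 1 * (sw * g)⁻¹ = Ph (-1) 1 := by
      calc sw * g * Ph (-1) 1 * (sw * g)⁻¹ = sw * (g * Ph (-1) 1 * g⁻¹) * sw⁻¹ := by group
        _ = Ph (-1) 1 := by rw [hc, sw_conj_Ph]
    obtain ⟨s, hs, k, hk, e⟩ := normalizer_St_aux hN1 (sw * g) hg' hc'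
    refine ⟨sw * s, Subgroup.mul_mem _ (sw_mem_St Q) hs, k, hk, ?_⟩
    have : g = sw * (sw * g) := by rw [← mul_assoc, sw_mul_sw, one_mul]
    rw [this, e, mul_assoc]

end Cfsg.Agent.Lib.H6.PSp4
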