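import Cfsg.Agent.Lib.H6.PermTab

set_option autoImplicit false

/-!
# Orbits of a subgroup generated by some of the letters

A set of points given by a bit mask lies in one orbit of the subgroup generated by the letters
`xlo, …, xlo + cnt - 1` if every point of it other than the root is sent by one of these letters
to a point of the set of smaller rank.
-/

namespace Cfsg.Agent.Lib.H6.PermTab

open Cfsg.Agent.Lib.H17.CosetCert

section check

variable (T : ℕ → ℕ → ℕ) (R : ℕ → ℕ)

/-- one of the letters `xlo, …, xlo + cnt - 1` sends `i` into the mask with rank below `ri` -/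
noncomputable def anyDown (mask xlo i ri : ℕ) (cnt : ℕ) : Bool :=
  Nat.rec (motive := fun _ => Bool) false
    (fun k ih => force (T (Nat.add xlo k) i) fun j =>
      cond (tb mask j) (cond (Nat.blt (R j) ri) true ih) ih) cnt

theorem anyDown_sound (mask xlo i ri cnt : ℕ) (h : anyDown T R mask xlo i ri cnt = true) :
    ∃ x, xlo ≤ x ∧ x < xlo + cnt ∧ tb mask (T x i) = true ∧ R (T x i) < ri := by
  induction cnt with
  | zero => exact absurd h (by simp [anyDown])
  | succ k ih =>
    have h' : force (T (Nat.add xlo k) i) (fun j =>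
      cond (tb mask j) (cond (Nat.blt (R j) ri) true (anyDown T R mask xlo i ri k))
        (anyDown T R mask xlo i ri k)) = true := h
    rw [force_eq] at h'
    cases hb : tb mask (T (Nat.add xlo k) i) with
    | false =>
      rw [hb] at h'
      obtain ⟨x, h1, h2, h3⟩ := ih h'
      exact ⟨x, h1, by omega, h3⟩
    | true =>
      rw [hb] at h'
      cases hc : Nat.blt (R (T (Nat.add xlo k) i)) ri with
      | false =>
        rw [hc] at h'
        obtain ⟨x, h1, h2, h3⟩ := ih h'
        exact ⟨x, h1, by omega, h3⟩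
      | true =>
        refine ⟨xlo + k, by omega, by omega, hb, ?_⟩
        simpa [Nat.blt_eq] using hc

/-- the points of the mask among `lo, …, lo + n - 1` are the root or go down -/
noncomputable def checkOrb (mask root xlo cnt lo n : ℕ) : Bool :=
  Nat.rec (motive := fun _ => Bool) true
    (fun k ih => force (Nat.add lo k) fun i =>
      cond (tb mask i)
        (cond (Nat.beq i root) ih (cond (anyDown T R mask xlo i (R i) cnt) ih false)) ih) n

theorem checkOrb_sound (mask root xlo cnt lo n : ℕ)
    (h : checkOrb T R mask root xlo cnt lo n = true) :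
    ∀ i, lo ≤ i → i < lo + n → tb mask i = true →
      i = root ∨ ∃ x, xlo ≤ x ∧ x < xlo + cnt ∧ tb mask (T x i) = true ∧ R (T x i) < R i := by
  induction n with
  | zero => intro i h1 h2; omega
  | succ k ih =>
    have h' : force (Nat.add lo k) (fun i =>
      cond (tb mask i)
        (cond (Nat.beq i root) (checkOrb T R mask root xlo cnt lo k)
          (cond (anyDown T R mask xlo i (R i) cnt) (checkOrb T R mask root xlo cnt lo k) false))
        (checkOrb T R mask root xlo cnt lo k)) = true := h
    rw [force_eq] at h'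
    intro i h1 h2 hm
    rcases Nat.lt_succ_iff_lt_or_eq.mp (show i < (lo + k) + 1 by omega) with hlt | rfl
    · refine ih ?_ i h1 hlt hm
      cases hb : tb mask (Nat.add lo k) with
      | false => rw [hb] at h'; exact h'
      | true =>
        rw [hb] at h'
        cases hc : Nat.beq (Nat.add lo k) root with
        | true => rw [hc] at h'; exact h'
        | false =>
          rw [hc] at h'
          cases hd : anyDown T R mask xlo (Nat.add lo k) (R (Nat.add lo k)) cnt with
          | true => rw [hd] at h'; exact h'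
          | false => rw [hd] at h'; exact absurd h' (by simp)
    · have hm' : tb mask (Nat.add lo k) = true := hm
      rw [hm'] at h'
      cases hc : Nat.beq (Nat.add lo k) root with
      | true => exact Or.inl (Nat.eq_of_beq_eq_true hc)
      | false =>
        rw [hc] at h'
        cases hd : anyDown T R mask xlo (Nat.add lo k) (R (Nat.add lo k)) cnt with
        | true => exact Or.inr (anyDown_sound T R mask xlo _ _ cnt hd)
        | false => rw [hd] at h'; exact absurd h' (by simp)

end check

section group

variable (T : ℕ → ℕ → ℕ) (R : ℕ → ℕ) (iv : ℕ → ℕ) (ng n : ℕ)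

/-- the points of the mask lie in the orbit of the root -/
theorem orb_to_root {G : Type*} [Group G] (φ : G →* Equiv.Perm (Fin n)) (hg : Good T iv ng n)
    (Hs : Subgroup G) (mask root xlo cnt : ℕ) (hroot : root < n) (hx : xlo + cnt ≤ ng)
    (hφ : ∀ x, xlo ≤ x → x < xlo + cnt → ∃ g ∈ Hs, φ g = σ T iv ng n x)
    (hs : ∀ i < n, tb mask i = true →
      i = root ∨ ∃ x, xlo ≤ x ∧ x < xlo + cnt ∧ tb mask (T x i) = true ∧ R (T x i) < R i) :
    ∀ i : Fin n, tb mask i = true → ∃ g ∈ Hs, φ g i = ⟨root, hroot⟩ := by
  have key : ∀ r : ℕ, ∀ i : Fin n, R i = r → tb mask i = true →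
      ∃ g ∈ Hs, φ g i = ⟨root, hroot⟩ := by
    intro r
    induction r using Nat.strong_induction_on with
    | _ r ih =>
      intro i hir hm
      rcases hs i i.2 hm with h0 | ⟨x, h1, h2, h3, h4⟩
      · exact ⟨1, Hs.one_mem, by rw [map_one]; exact Fin.ext h0⟩
      · obtain ⟨gt, hgtH, hgt⟩ := hφ x h1 h2
        have hxng : x < ng := by omega
        have hj : T x i < n := hg.2.2.1 x hxng i i.2
        obtain ⟨g', hg'H, hg'⟩ := ih _ (by rw [← hir]; exact h4) ⟨T x i, hj⟩ rfl h3
        refine ⟨g' * gt, Hs.mul_mem hg'H hgtH, ?_⟩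
        rw [map_mul, Equiv.Perm.mul_apply, hgt]
        have : σ T iv ng n x i = ⟨T x i, hj⟩ := Fin.ext (σ_apply T iv ng n hg x hxng i)
        rw [this, hg']
  intro i hm
  exact key _ i rfl hm

/-- the subgroup is transitive on the points of the mask -/
theorem orb_trans {G : Type*} [Group G] (φ : G →* Equiv.Perm (Fin n)) (hg : Good T iv ng n)
    (Hs : Subgroup G) (mask root xlo cnt : ℕ) (hroot : root < n) (hx : xlo + cnt ≤ ng)
    (hφ : ∀ x, xlo ≤ x → x < xlo + cnt → ∃ g ∈ Hs, φ g = σ T iv ng n x)
    (hs : ∀ i < n, tb mask i = true →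
      i = root ∨ ∃ x, xlo ≤ x ∧ x < xlo + cnt ∧ tb mask (T x i) = true ∧ R (T x i) < R i)
    (i j : Fin n) (hi : tb mask i = true) (hj : tb mask j = true) :
    ∃ g ∈ Hs, φ g i = j := by
  obtain ⟨g1, h1, e1⟩ := orb_to_root T R iv ng n φ hg Hs mask root xlo cnt hroot hx hφ hs i hi
  obtain ⟨g2, h2, e2⟩ := orb_to_root T R iv ng n φ hg Hs mask root xlo cnt hroot hx hφ hs j hj
  refine ⟨g2⁻¹ * g1, Hs.mul_mem (Hs.inv_mem h2) h1, ?_⟩
  rw [map_mul, Equiv.Perm.mul_apply, e1, map_inv, Equiv.Perm.inv_eq_iff_eq, e2]

end group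

end Cfsg.Agent.Lib.H6.PermTab
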