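import Mathlib
import Cfsg.Prelude.Def_CaseTheorems
import Cfsg.Agent.Lib.H18.MinNormal
import Cfsg.Agent.Lib.H22.PPrimeCore
import Cfsg.Agent.Lib.H6.TwoRes2
import Cfsg.Agent.Lib.H5.CentInv

/-! A finite group with `O(G) = 1`, one class of involutions, no subgroup of index two and a Sylow
2-subgroup `S` which is non-abelian on involutions with `S / Ω₁(S)` cyclic has a simple normal
subgroup of odd index (helper6). -/

set_option autoImplicit false

namespace Cfsg.Agent.Lib.H6.Socle

section pi

variable {ι T : Type*} [Group T] [DecidableEq ι]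

/-- no automorphism of a direct power maps an element supported on one coordinate to the
corresponding element supported on two coordinates, when the entry is not central. -/
theorem pi_no_aut [Finite ι] [Finite T] {i j : ι} (hij : i ≠ j) {τ x : T} (hx : x * τ ≠ τ * x)
    (ψ : (ι → T) ≃* (ι → T)) :
    ψ (Pi.mulSingle i τ) ≠ Pi.mulSingle i τ * Pi.mulSingle j τ := by
  intro h
  set f₁ : ι → T := Pi.mulSingle i τ with hf₁
  set f₂ : ι → T := Pi.mulSingle i τ * Pi.mulSingle j τ with hf₂
  have hcard : Nat.card (Subgroup.centralizer {f₁}) = Nat.card (Subgroup.centralizer {f₂}) := by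
    apply Nat.card_congr
    refine ψ.toEquiv.subtypeEquiv ?_
    intro g
    rw [Subgroup.mem_centralizer_iff, Subgroup.mem_centralizer_iff]
    constructor
    · intro hg y hy
      rw [Set.mem_singleton_iff] at hy
      subst hy
      have := hg f₁ rfl
      show f₂ * ψ g = ψ g * f₂
      rw [← h, ← map_mul, ← map_mul, this]
    · intro hg y hy
      rw [Set.mem_singleton_iff] at hy
      subst hy
      have := hg f₂ rfl
      apply ψ.injective
      rw [map_mul, map_mul, h]
      exact this
  have hle : Subgroup.centralizer {f₂} ≤ Subgroup.centralizer {f₁} := by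
    intro g hg
    rw [Subgroup.mem_centralizer_iff] at hg ⊢
    intro y hy
    rw [Set.mem_singleton_iff] at hy
    subst hy
    have h2 := hg f₂ rfl
    funext l
    have h3 := congrFun h2 l
    simp only [hf₁, hf₂, Pi.mul_apply] at h3 ⊢
    by_cases hl : l = i
    · subst hl
      rw [Pi.mulSingle_eq_same] at h3 ⊢
      rw [Pi.mulSingle_eq_of_ne hij, mul_one] at h3
      exact h3
    · rw [Pi.mulSingle_eq_of_ne hl, one_mul, mul_one]
  have heq := Subgroup.eq_of_le_of_card_ge hle hcard.le
  have hmem : Pi.mulSingle j x ∈ Subgroup.centralizer {f₁} := by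
    rw [Subgroup.mem_centralizer_iff]
    intro y hy
    rw [Set.mem_singleton_iff] at hy
    subst hy
    exact (Pi.mulSingle_commute (f := fun _ : ι => T) hij τ x).eq
  rw [← heq, Subgroup.mem_centralizer_iff] at hmem
  have h4 := congrFun (hmem f₂ rfl) j
  simp only [hf₂, Pi.mul_apply, Pi.mulSingle_eq_same, Pi.mulSingle_eq_of_ne hij.symm, one_mul] at h4
  exact hx h4.symm

end pi

variable {G : Type*} [Group G] [Finite G]

/-- the main lemma. -/
theorem exists_simple_normal_odd_index (S : Sylow 2 G)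
    (hO : Cfsg.oddCore G = ⊥) (hno : ∀ H : Subgroup G, H.index ≠ 2)
    (hconj : ∀ g h : G, orderOf g = 2 → orderOf h = 2 → IsConj g h)
    (hnc : ∃ a b : (S : Subgroup G), orderOf a = 2 ∧ orderOf b = 2 ∧ a * b ≠ b * a)
    (hcyc : ∃ s : (S : Subgroup G),
      Subgroup.closure {x : (S : Subgroup G) | orderOf x = 2} ⊔ Subgroup.zpowers s = ⊤) :
    ∃ L : Subgroup G, L.Normal ∧ Odd L.index ∧ IsSimpleGroup L ∧ ¬ IsMulCommutative L := by
  classical
  have : Fact (Nat.Prime 2) := ⟨Nat.prime_two⟩
  obtain ⟨a, b, ha, hb, hab⟩ := hnc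
  have haG : orderOf (a : G) = 2 := by rw [Subgroup.orderOf_coe]; exact ha
  have hbG : orderOf (b : G) = 2 := by rw [Subgroup.orderOf_coe]; exact hb
  have habG : (a : G) * b ≠ b * a := by
    intro h
    apply hab
    exact Subtype.ext h
  have hnt : Nontrivial G := by
    refine ⟨⟨(a : G), 1, ?_⟩⟩
    intro h
    rw [h, orderOf_one] at haG
    omega
  obtain ⟨M₀, hM₀n, hM₀ne, hM₀min⟩ := Cfsg.Agent.Lib.H18.exists_minimal_normal (N := G)
  -- `M₀` has even order
  have heven : Even (Nat.card M₀) := by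
    by_contra hodd
    rw [Nat.not_even_iff_odd] at hodd
    have hcop : (Nat.card M₀).Coprime 2 := Nat.coprime_two_right.mpr hodd
    have := Cfsg.Agent.Lib.H22.le_pPrimeCore 2 M₀ hM₀n hcop
    have h2 : M₀ ≤ Cfsg.oddCore G := this
    rw [hO] at h2
    exact hM₀ne (le_bot_iff.mp h2)
  obtain ⟨t₀, ht₀⟩ := exists_prime_orderOf_dvd_card' 2 (even_iff_two_dvd.mp heven)
  have ht₀G : orderOf (t₀ : G) = 2 := by rw [Subgroup.orderOf_coe]; exact ht₀
  -- all involutions lie in `M₀`
  have hinv : ∀ g : G, orderOf g = 2 → g ∈ M₀ := by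
    intro g hg
    obtain ⟨c, hc⟩ := isConj_iff.mp (hconj t₀ g ht₀G hg)
    rw [← hc]
    exact hM₀n.conj_mem _ t₀.2 c
  have haM : (a : G) ∈ M₀ := hinv _ haG
  have hbM : (b : G) ∈ M₀ := hinv _ hbG
  have hM₀nt : Nontrivial M₀ := (Subgroup.nontrivial_iff_ne_bot M₀).mpr hM₀ne
  -- `M₀` is a power of a simple group
  have hminφ : ∀ M : Subgroup M₀, (∀ g : G, M.map (MulAut.conjNormal g : MulAut M₀).toMonoidHom ≤ M) →
      M = ⊥ ∨ M = ⊤ := by
    intro M hM
    have hMn : (M.map M₀.subtype).Normal := by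
      constructor
      intro y hy g
      obtain ⟨y', hy', rfl⟩ := hy
      have h1 := hM g (Subgroup.mem_map_of_mem _ hy')
      refine ⟨_, h1, ?_⟩
      simp [MulAut.conjNormal_apply]
    rcases hM₀min _ hMn (Subgroup.map_subtype_le M) with h | h
    · left
      exact (Subgroup.map_eq_bot_iff_of_injective M M₀.subtype_injective).mp h
    · right
      have := Subgroup.comap_map_eq_self_of_injective M₀.subtype_injective M
      rw [h] at this
      rw [← this]
      exact Subgroup.subgroupOf_self M₀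
  obtain ⟨T, m, hTs, hm, ⟨e⟩⟩ := Cfsg.Agent.Lib.H18.exists_simple_pow
    (MulAut.conjNormal : G →* MulAut M₀) hminφ
  -- `T` is not commutative
  obtain ⟨p, r, hpr⟩ : ∃ p r : T, p * r ≠ r * p := by
    by_contra hcomm
    push_neg at hcomm
    apply habG
    have h1 : e ⟨a, haM⟩ * e ⟨b, hbM⟩ = e ⟨b, hbM⟩ * e ⟨a, haM⟩ := by
      funext l
      exact hcomm _ _
    rw [← map_mul, ← map_mul] at h1
    have h2 := e.injective h1
    exact congrArg Subtype.val h2
  -- an involution of `T`
  obtain ⟨τ, hτ1, hττ⟩ : ∃ τ : T, τ ≠ 1 ∧ τ * τ = 1 := by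
    have h1 : e t₀ ≠ 1 := by
      intro h
      have : t₀ = 1 := e.injective (by rw [h, map_one])
      rw [this, orderOf_one] at ht₀
      omega
    have h2 : e t₀ * e t₀ = 1 := by
      rw [← map_mul, ← pow_two, ← ht₀, pow_orderOf_eq_one, map_one]
    obtain ⟨l, hl⟩ : ∃ l, e t₀ l ≠ 1 := by
      by_contra hall
      push_neg at hall
      exact h1 (funext hall)
    exact ⟨e t₀ l, hl, congrFun h2 l⟩
  -- `τ` is not central
  obtain ⟨x, hxτ⟩ : ∃ x : T, x * τ ≠ τ * x := by
    by_contra hall
    push_neg at hall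
    have hc : τ ∈ Subgroup.center T := by
      rw [Subgroup.mem_center_iff]
      exact hall
    rcases (inferInstance : (Subgroup.center T).Normal).eq_bot_or_eq_top with h | h
    · rw [h, Subgroup.mem_bot] at hc
      exact hτ1 hc
    · apply hpr
      have : p ∈ Subgroup.center T := by rw [h]; exact Subgroup.mem_top p
      exact (Subgroup.mem_center_iff.mp this r).symm
  -- `m = 1`
  have hm1 : m = 1 := by
    by_contra hne
    have hm2 : 2 ≤ m := by omega
    set i : Fin m := ⟨0, by omega⟩ with hi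
    set j : Fin m := ⟨1, by omega⟩ with hj
    have hij : i ≠ j := by
      intro h
      have := congrArg Fin.val h
      simp [hi, hj] at this
    set f₁ : Fin m → T := Pi.mulSingle i τ with hf₁
    set f₂ : Fin m → T := Pi.mulSingle i τ * Pi.mulSingle j τ with hf₂
    have hf₁1 : f₁ ≠ 1 := by
      intro h
      have := congrFun h i
      rw [hf₁, Pi.mulSingle_eq_same] at this
      exact hτ1 this
    have hf₁sq : f₁ * f₁ = 1 := by
      rw [hf₁, ← Pi.mulSingle_mul, hττ, Pi.mulSingle_one]
    have hf₂1 : f₂ ≠ 1 := by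
      intro h
      have := congrFun h i
      rw [hf₂, Pi.mul_apply, Pi.mulSingle_eq_same, Pi.mulSingle_eq_of_ne hij, mul_one] at this
      exact hτ1 this
    have hf₂sq : f₂ * f₂ = 1 := by
      funext l
      show f₂ l * f₂ l = 1
      have hl : f₂ l = τ ∨ f₂ l = 1 := by
        rw [hf₂, Pi.mul_apply]
        by_cases h1 : l = i
        · left; rw [h1, Pi.mulSingle_eq_same, Pi.mulSingle_eq_of_ne hij, mul_one]
        · by_cases h2 : l = j
          · left; rw [h2, Pi.mulSingle_eq_same, Pi.mulSingle_eq_of_ne hij.symm, one_mul]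
          · right; rw [Pi.mulSingle_eq_of_ne h1, Pi.mulSingle_eq_of_ne h2, one_mul]
      rcases hl with h | h <;> rw [h]
      · exact hττ
      · exact one_mul 1
    have ho : ∀ f : Fin m → T, f ≠ 1 → f * f = 1 → orderOf ((e.symm f : M₀) : G) = 2 := by
      intro f hf1 hff
      rw [Subgroup.orderOf_coe]
      apply orderOf_eq_prime
      · rw [pow_two, ← map_mul, hff, map_one]
      · intro h
        apply hf1
        have := congrArg e h
        rwa [MulEquiv.apply_symm_apply, map_one] at this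
    obtain ⟨c, hc⟩ := isConj_iff.mp (hconj _ _ (ho f₁ hf₁1 hf₁sq) (ho f₂ hf₂1 hf₂sq))
    let ψ : (Fin m → T) ≃* (Fin m → T) :=
      e.symm.trans ((MulAut.conjNormal c : M₀ ≃* M₀).trans e)
    have hψ : ψ f₁ = f₂ := by
      show e ((MulAut.conjNormal c : M₀ ≃* M₀) (e.symm f₁)) = f₂
      have : (MulAut.conjNormal c : M₀ ≃* M₀) (e.symm f₁) = e.symm f₂ := by
        apply Subtype.ext
        rw [MulAut.conjNormal_apply]
        exact hc
      rw [this, MulEquiv.apply_symm_apply]
    exact pi_no_aut hij hxτ ψ hψ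
  subst hm1
  -- `M₀` is simple and not commutative
  have e' : M₀ ≃* T := e.trans (MulEquiv.funUnique (Fin 1) T)
  have hsimple : IsSimpleGroup M₀ :=
    IsSimpleGroup.isSimpleGroup_of_surjective e'.symm.toMonoidHom e'.symm.surjective
  have hncomm : ¬ IsMulCommutative M₀ := by
    intro h
    apply habG
    have := h.is_comm.comm (⟨a, haM⟩ : M₀) ⟨b, hbM⟩
    exact congrArg Subtype.val this
  refine ⟨M₀, hM₀n, ?_, hsimple, hncomm⟩
  -- the index is odd
  obtain ⟨s, hs⟩ := hcyc
  have hSle : (S : Subgroup G) ≤ M₀ ⊔ Subgroup.zpowers (s : G) := by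
    intro g hg
    have h1 : (⟨g, hg⟩ : (S : Subgroup G)) ∈
        Subgroup.closure {x : (S : Subgroup G) | orderOf x = 2} ⊔ Subgroup.zpowers s := by
      rw [hs]; exact Subgroup.mem_top _
    have h2 : Subgroup.closure {x : (S : Subgroup G) | orderOf x = 2} ⊔ Subgroup.zpowers s ≤
        (M₀ ⊔ Subgroup.zpowers (s : G)).comap (S : Subgroup G).subtype := by
      apply sup_le
      · rw [Subgroup.closure_le]
        intro y hy
        have hy' : orderOf y = 2 := hy
        show (y : G) ∈ M₀ ⊔ Subgroup.zpowers (s : G)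
        apply Subgroup.mem_sup_left
        apply hinv
        rw [Subgroup.orderOf_coe]; exact hy'
      · rw [Subgroup.zpowers_le]
        show (s : G) ∈ M₀ ⊔ Subgroup.zpowers (s : G)
        exact Subgroup.mem_sup_right (Subgroup.mem_zpowers _)
    exact h2 h1
  have hπ : Function.Surjective (QuotientGroup.mk' M₀) := QuotientGroup.mk'_surjective M₀
  set Sb : Sylow 2 (G ⧸ M₀) := S.mapSurjective hπ with hSb
  have hSb_le : (Sb : Subgroup (G ⧸ M₀)) ≤ Subgroup.zpowers (QuotientGroup.mk' M₀ (s : G)) := by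
    rw [hSb, Sylow.coe_mapSurjective]
    refine (Subgroup.map_mono hSle).trans ?_
    rw [Subgroup.map_sup, MonoidHom.map_zpowers]
    apply sup_le
    · rw [(Subgroup.map_eq_bot_iff _).mpr (by rw [QuotientGroup.ker_mk'])]
      exact bot_le
    · exact le_refl _
  have hcycSb : IsCyclic (Sb : Subgroup (G ⧸ M₀)) := Subgroup.isCyclic_of_le hSb_le
  have hodd := Cfsg.Agent.Lib.H6.TwoRes.odd_card_pResidual_of_cyclic_sylow Sb hcycSb
  have hnpc := Cfsg.Agent.Lib.H6.TwoRes.hasNormalPComplement_of_odd Sb hodd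
  obtain ⟨k, hk⟩ := IsPGroup.iff_card.mp Sb.2
  have hk0 : k = 0 := by
    by_contra hk0
    obtain ⟨H, hH⟩ := Cfsg.Agent.Lib.H5.CI.exists_index_two_of_npc Sb k hk0 hk hnpc
    apply hno (H.comap (QuotientGroup.mk' M₀))
    rw [Subgroup.index_comap_of_surjective _ hπ, hH]
  rw [hk0, pow_zero] at hk
  have hSbbot : (Sb : Subgroup (G ⧸ M₀)) = ⊥ := Subgroup.card_eq_one.mp hk
  have hSM : (S : Subgroup G) ≤ M₀ := by
    rw [hSb, Sylow.coe_mapSurjective, Subgroup.map_eq_bot_iff, QuotientGroup.ker_mk'] at hSbbot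
    exact hSbbot
  have hdvd : M₀.index ∣ (S : Subgroup G).index := Subgroup.index_dvd_of_le hSM
  have hSodd : Odd (S : Subgroup G).index := by
    rw [← Nat.not_even_iff_odd, even_iff_two_dvd]
    exact S.not_dvd_index
  exact Odd.of_dvd_nat hSodd hdvd

end Cfsg.Agent.Lib.H6.Socle
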