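import Mathlib
import Cfsg.Prelude.Def_CaseTheorems
import Cfsg.Agent.Lib.H6.Socle
import Cfsg.Agent.Lib.H6.QD
import Cfsg.Agent.Lib.H5.QDCent
import Cfsg.Agent.Lib.H5.WreathedCent
import Cfsg.Agent.Lib.H9.PPrimeCore
import Cfsg.Agent.S1200

/-! Groups with quasi-dihedral or wreathed Sylow 2-subgroups and no subgroup of index two:
`G / O(G)` has a simple normal subgroup of odd index (helper6). -/

set_option autoImplicit false

namespace Cfsg.Agent.Lib.H6.QDWrSimple

open Cfsg.Agent.Lib.H6.QD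

/-- abstract properties of quasi-dihedral and wreathed 2-groups. -/
theorem abstract_props {S : Type*} [Group S] [Finite S]
    (hS : Cfsg.IsQuasiDihedral S ∨ Cfsg.IsWreathed S) :
    (∃ a b : S, orderOf a = 2 ∧ orderOf b = 2 ∧ a * b ≠ b * a) ∧
      ∃ s : S, Subgroup.closure {x : S | orderOf x = 2} ⊔ Subgroup.zpowers s = ⊤ := by
  rcases hS with hS | hS
  · obtain ⟨n, ⟨P⟩⟩ := QD.exists_pres hS
    have hn := P.hn
    constructor
    · refine ⟨P.SR 0, P.SR 2, ?_, ?_, ?_⟩
      · rw [P.orderOf_eq_two_iff]; right; exact ⟨0, by ring⟩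
      · rw [P.orderOf_eq_two_iff]; right; exact ⟨1, by ring⟩
      · rw [P.SR_mul_SR, P.SR_mul_SR, Ne, P.R_eq_R_iff]
        intro h
        have h4 : (4 : ZMod (2 ^ n)) = 0 := by
          have h2 := two_mul_hf (n := n) (by omega)
          unfold mm at h
          linear_combination (-1 : ZMod (2 ^ n)) * h + h2
        have h5 : ((4 : ℕ) : ZMod (2 ^ n)) = 0 := by push_cast; exact h4
        rw [ZMod.natCast_eq_zero_iff] at h5
        have h6 : 2 ^ 3 ≤ 2 ^ n := Nat.pow_le_pow_right (by norm_num) hn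
        have := Nat.le_of_dvd (by norm_num) h5
        omega
    · refine ⟨P.x, ?_⟩
      rw [eq_top_iff]
      intro s _
      have hR : ∀ i, P.R i ∈ Subgroup.closure {x : S | orderOf x = 2} ⊔ Subgroup.zpowers P.x := by
        intro i
        apply Subgroup.mem_sup_right
        exact Subgroup.pow_mem _ (Subgroup.mem_zpowers _) _
      rcases P.cases s with ⟨i, rfl⟩ | ⟨i, rfl⟩
      · exact hR i
      · apply Subgroup.mul_mem _ (hR i)
        apply Subgroup.mem_sup_left
        apply Subgroup.subset_closure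
        exact P.hy
  · have hS' := hS
    obtain ⟨n, hn, hcard, x, y, z, hx, hxy, hinf, hz, hzx⟩ := hS'
    constructor
    · have hpos : 0 < 2 ^ (n - 1) := by positivity
      have hxa : orderOf (x ^ 2 ^ (n - 1)) = 2 := by
        rw [orderOf_pow' x hpos.ne', hx]
        have e : 2 ^ n = 2 ^ (n - 1) * 2 := by
          rw [← pow_succ]; congr 1; omega
        rw [e, Nat.gcd_eq_right (Dvd.intro _ rfl)]
        exact Nat.mul_div_cancel_left 2 hpos
      refine ⟨z, x ^ 2 ^ (n - 1), hz, hxa, ?_⟩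
      intro h
      have h1 : z * x ^ 2 ^ (n - 1) * z⁻¹ = x ^ 2 ^ (n - 1) := by
        rw [h]; group
      have h2 : z * x ^ 2 ^ (n - 1) * z⁻¹ = y ^ 2 ^ (n - 1) := by
        rw [← hzx, conj_pow]
      have h3 : x ^ 2 ^ (n - 1) ∈ Subgroup.zpowers x ⊓ Subgroup.zpowers y := by
        refine Subgroup.mem_inf.mpr ⟨Subgroup.pow_mem _ (Subgroup.mem_zpowers _) _, ?_⟩
        rw [← h1, h2]
        exact Subgroup.pow_mem _ (Subgroup.mem_zpowers _) _
      rw [hinf, Subgroup.mem_bot] at h3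
      rw [h3, orderOf_one] at hxa
      omega
    · exact (Cfsg.Agent.S1200.result hS n hcard).2

variable {G : Type*} [Group G] [Finite G]

/-- no subgroup of index two implies one class of involutions. -/
theorem isConj_of_no_index_two (S : Sylow 2 G)
    (hS : Cfsg.IsQuasiDihedral (S : Subgroup G) ∨ Cfsg.IsWreathed (S : Subgroup G))
    (hno : ∀ H : Subgroup G, H.index ≠ 2) (g h : G) (hg : orderOf g = 2) (hh : orderOf h = 2) :
    IsConj g h := by
  rcases hS with hS | hS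
  · obtain ⟨n, ⟨P⟩⟩ := QD.exists_pres hS
    obtain ⟨hz, -⟩ := Cfsg.Agent.Lib.H5.QC.fusion_of_no_index_two P hno
    exact (Cfsg.Agent.Lib.H5.QC.isConj_zG_of P hz g hg).symm.trans
      (Cfsg.Agent.Lib.H5.QC.isConj_zG_of P hz h hh)
  · have hS' := hS
    obtain ⟨n, -, hcard, -⟩ := hS'
    obtain ⟨x, y, z, d⟩ := Cfsg.Agent.Lib.H5.WS.exists_gens' S hS n hcard
    have hG := d.good_q8Sub_sup (Cfsg.Agent.Lib.H5.SD.hh n) 0 (by ring)
    obtain ⟨h₁, h₂⟩ := Cfsg.Agent.Lib.H5.WS.six_six_of_no_index_two d hG hno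
    exact (Cfsg.Agent.Lib.H5.WS.isConj_zeta_of_six_six d hG h₁ h₂ g hg).symm.trans
      (Cfsg.Agent.Lib.H5.WS.isConj_zeta_of_six_six d hG h₁ h₂ h hh)

/-- the Sylow 2-subgroup of `G / O(G)` is isomorphic to that of `G`. -/
theorem sylow_quotient_equiv (S : Sylow 2 G) :
    Nonempty ((S : Subgroup G) ≃*
      ((S : Subgroup G).map (QuotientGroup.mk' (Cfsg.oddCore G)) : Subgroup (G ⧸ Cfsg.oddCore G))) := by
  have : Fact (Nat.Prime 2) := ⟨Nat.prime_two⟩
  set N := Cfsg.oddCore G with hN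
  let f : (S : Subgroup G) →* (G ⧸ N) := (QuotientGroup.mk' N).comp (S : Subgroup G).subtype
  have hinj : Function.Injective f := by
    rw [injective_iff_map_eq_one]
    intro s hs
    have hsN : (s : G) ∈ N := by
      have : (QuotientGroup.mk' N) (s : G) = 1 := hs
      rwa [QuotientGroup.mk'_apply, QuotientGroup.eq_one_iff] at this
    have hcop : (Nat.card (S : Subgroup G)).Coprime (Nat.card N) := by
      obtain ⟨k, hk⟩ := IsPGroup.iff_card.mp S.2
      rw [hk]
      apply Nat.Coprime.pow_left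
      exact (Cfsg.Agent.Lib.H22.card_pPrimeCore_coprime (G := G) 2).symm
    have hdisj := (Subgroup.disjoint_of_coprime_natCard hcop).eq_bot
    have : (s : G) ∈ (S : Subgroup G) ⊓ N := Subgroup.mem_inf.mpr ⟨s.2, hsN⟩
    rw [hdisj, Subgroup.mem_bot] at this
    exact Subtype.ext this
  have hrange : f.range = (S : Subgroup G).map (QuotientGroup.mk' N) := by
    rw [MonoidHom.range_comp, Subgroup.range_subtype]
  exact ⟨(MonoidHom.ofInjective hinj).trans (MulEquiv.subgroupCongr hrange)⟩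

/-- the main theorem. -/
theorem main (S : Sylow 2 G)
    (hS : Cfsg.IsQuasiDihedral (S : Subgroup G) ∨ Cfsg.IsWreathed (S : Subgroup G))
    (hG : ∀ H : Subgroup G, H.index ≠ 2) :
    ∃ L : Subgroup (G ⧸ Cfsg.oddCore G), L.Normal ∧ Odd L.index ∧ IsSimpleGroup L ∧
      ¬ IsMulCommutative L := by
  have : Fact (Nat.Prime 2) := ⟨Nat.prime_two⟩
  have hπ : Function.Surjective (QuotientGroup.mk' (Cfsg.oddCore G)) :=
    QuotientGroup.mk'_surjective _
  set Sb : Sylow 2 (G ⧸ Cfsg.oddCore G) := S.mapSurjective hπ with hSb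
  obtain ⟨e⟩ := sylow_quotient_equiv S
  have e' : (S : Subgroup G) ≃* (Sb : Subgroup (G ⧸ Cfsg.oddCore G)) := e
  have hSb' : Cfsg.IsQuasiDihedral (Sb : Subgroup (G ⧸ Cfsg.oddCore G)) ∨
      Cfsg.IsWreathed (Sb : Subgroup (G ⧸ Cfsg.oddCore G)) := by
    rcases hS with h | h
    · exact Or.inl (Cfsg.Agent.Lib.H5.CI.isQuasiDihedral_of_equiv e' h)
    · exact Or.inr (Cfsg.Agent.Lib.H5.CI.isWreathed_of_equiv e' h)
  have hno : ∀ H : Subgroup (G ⧸ Cfsg.oddCore G), H.index ≠ 2 := by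
    intro H hH
    apply hG (H.comap (QuotientGroup.mk' (Cfsg.oddCore G)))
    rw [Subgroup.index_comap_of_surjective _ hπ, hH]
  have hO : Cfsg.oddCore (G ⧸ Cfsg.oddCore G) = ⊥ :=
    Cfsg.Agent.Lib.H9.pPrimeCore_quotient_eq_bot 2
  obtain ⟨hnc, hcyc⟩ := abstract_props hSb'
  exact Cfsg.Agent.Lib.H6.Socle.exists_simple_normal_odd_index Sb hO hno
    (isConj_of_no_index_two Sb hSb' hno) hnc hcyc

end Cfsg.Agent.Lib.H6.QDWrSimple
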