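import Mathlib
import Cfsg.Prelude.Def_RootSubgroups
import Cfsg.Agent.Lib.H6.QuadAct2

set_option autoImplicit false

/-! Quadratic faithful action of a rank one group: `A` is torsion-free or of prime exponent. -/

namespace Cfsg.Agent.Lib.H6.QuadAct

open Cfsg Cfsg.Agent.Lib.H25

variable {X : Type*} [Group X] {N : Type*} [AddCommGroup N] [DistribMulAction X N]

theorem rho_injective (hf : ∀ x : X, (∀ v : N, x • v = v) → x = 1) :
    Function.Injective (rho (X := X) N) := by
  intro x y hxy
  have h1 : x * y⁻¹ = 1 := by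
    apply hf
    intro v
    have h2 : rho N (x * y⁻¹) = 1 := by
      rw [map_mul, hxy, ← map_mul, mul_inv_cancel, map_one]
    exact congrArg (fun f : AddMonoid.End N => f v) h2
  exact mul_inv_eq_one.1 h1

theorem comm_of_quad (hf : ∀ x : X, (∀ v : N, x • v = v) → x = 1) {P : Subgroup X}
    (hq : Quad N P) {a a' : X} (ha : a ∈ P) (ha' : a' ∈ P) : a * a' = a' * a := by
  apply rho_injective hf
  rw [map_mul, map_mul, rho_eq N a, rho_eq N a']
  have h1 := hq a' ha' a ha
  have h2 := hq a ha a' ha'
  have e1 : (1 + al N a) * (1 + al N a') = 1 + al N a + al N a' + al N a * al N a' := by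
    noncomm_ring
  have e2 : (1 + al N a') * (1 + al N a) = 1 + al N a + al N a' + al N a' * al N a := by
    noncomm_ring
  rw [e1, e2, h1, h2]

theorem al_pow {P : Subgroup X} (hq : Quad N P) {a : X} (ha : a ∈ P) (k : ℕ) :
    al N (a ^ k) = k • al N a := by
  induction k with
  | zero => rw [pow_zero, al_one, zero_smul]
  | succ k ih =>
    rw [pow_succ, al_mul, rho_eq N (a ^ k), ih]
    have h1 := hq a ha a ha
    have e : (1 + k • al N a) * al N a + k • al N a = (k + 1) • al N a + k • (al N a * al N a) := by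
      rw [add_mul, one_mul, smul_mul_assoc, add_smul, one_smul]; abel
    rw [e, h1, nsmul_zero, add_zero]

/-- If `K0 = ⊤` and the action is faithful then `X` is abelian. -/
theorem comm_of_K0_top (hf : ∀ x : X, (∀ v : N, x • v = v) → x = 1) (htop : K0 X N = ⊤)
    (x y : X) : x * y = y * x := by
  apply rho_injective hf
  rw [map_mul, map_mul, rho_eq N x, rho_eq N y]
  have hx : InC X (al N x) := by
    have : x ∈ K0 X N := by rw [htop]; trivial
    exact this
  have hy : InC X (al N y) := by
    have : y ∈ K0 X N := by rw [htop]; trivial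
    exact this
  have h1 := hy.al_mul x
  have h2 := hx.al_mul y
  have e1 : (1 + al N x) * (1 + al N y) = 1 + al N x + al N y + al N x * al N y := by
    noncomm_ring
  have e2 : (1 + al N y) * (1 + al N x) = 1 + al N x + al N y + al N y * al N x := by
    noncomm_ring
  rw [e1, e2, h1, h2]

variable (X N) in
/-- The kernel of the action on `p N`. -/
def K1 (p : ℕ) : Subgroup X where
  carrier := {x | ∀ v : N, x • (p • v) = p • v}
  one_mem' := fun v => one_smul _ _
  mul_mem' := by
    intro x y hx hy v
    rw [mul_smul, hy v, hx v]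
  inv_mem' := by
    intro x hx v
    have := hx v
    rw [inv_smul_eq_iff, this]

instance K1_normal (p : ℕ) : (K1 X N p).Normal := by
  constructor
  intro x hx g v
  rw [mul_smul, mul_smul, smul_comm g⁻¹ p v, hx, ← smul_comm g⁻¹ p v, smul_inv_smul]

/-- The main torsion statement. -/
theorem pow_eq_one {A B : Subgroup X} (h : IsRankOneGroup X A B)
    (hf : ∀ x : X, (∀ v : N, x • v = v) → x = 1) (hqA : Quad N A) {p : ℕ} {a₂ : X}
    (ha₂ : a₂ ∈ A) (ha₂1 : a₂ ≠ 1) (ha₂p : a₂ ^ p = 1) {a : X} (ha : a ∈ A) : a ^ p = 1 := by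
  by_contra hap
  -- `a₂ ∈ K1`
  have h1 : a₂ ∈ K1 X N p := by
    intro v
    have e1 : al N (a₂ ^ p) = p • al N a₂ := al_pow hqA ha₂ p
    rw [ha₂p, al_one] at e1
    have e2 : al N a₂ (p • v) = 0 := by
      rw [map_nsmul]
      have := congrArg (fun f : AddMonoid.End N => f v) e1
      exact this.symm
    rw [al_apply, sub_eq_zero] at e2
    exact e2
  have hK1 : K1 X N p ⊔ A = ⊤ := by
    rcases rankOne_normal_dichotomy h (K1 X N p) with hK | hK
    · exact hK
    · exact absurd (hK h1) (not_mem_center h.2 ha₂ ha₂1)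
  -- `p [N, A] ⊆ C`
  have h2 : ∀ m ∈ NP N A, p • m ∈ fixC X N := by
    intro m hm
    have := phi_mem_fixC h hqA (nsmulAddMonoidHom p) (fun x v => by
      show p • (x • v) = x • (p • v)
      rw [smul_comm]) (K1 X N p) hK1 (fun k hk v => by
      have : al N k ((nsmulAddMonoidHom p) v) = 0 := by
        show k • (p • v) - p • v = 0
        rw [hk v, sub_self]
      rw [this]; exact (fixC X N).zero_mem) hm
    exact this
  -- `a ^ p ∈ K0`
  have h3 : a ^ p ∈ K0 X N := by
    rw [mem_K0]
    intro v
    rw [al_pow hqA ha p]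
    exact h2 _ (al_mem_NP ha v)
  have hK0 : K0 X N ⊔ A = ⊤ := by
    rcases rankOne_normal_dichotomy h (K0 X N) with hK | hK
    · exact hK
    · exact absurd (hK h3) (not_mem_center h.2 (A.pow_mem ha p) hap)
  have htop := K0_eq_top_of_sup h hqA hK0
  apply rankOne_center_ne_top h
  rw [eq_top_iff]
  intro x _
  rw [Subgroup.mem_center_iff]
  intro y
  exact comm_of_K0_top hf htop y x

end Cfsg.Agent.Lib.H6.QuadAct
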