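import Mathlib
import Cfsg.Prelude.Def_OddOrderLocal
import Cfsg.Prelude.Def_CaseTheorems
import Cfsg.Prelude.Def_PLocal
import Cfsg.Agent.Lib.H19.R2Defs

/-!
# S3888 piece B2: `G' ≤ ℧₁(G') γ₃(G)` forces `G' = 1` in a finite `p`-group
-/

set_option autoImplicit false
set_option linter.unusedVariables false

namespace Cfsg.Agent.Lib.H6.R2

open Cfsg Cfsg.Agent.Lib.H19.R2
open scoped commutatorElement

universe u

variable {p : ℕ} [Fact p.Prime] {G : Type u} [Group G] [Finite G]

omit [Fact p.Prime] in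
/-- an abelian subgroup of a finite `p`-group which is generated by its `p`-th powers is trivial -/
theorem b2_eq_bot_of_le_agemoOf {Q : Type*} [Group Q] [Finite Q] (hQ : IsPGroup p Q)
    (C : Subgroup Q) (hc : ∀ a ∈ C, ∀ b ∈ C, a * b = b * a) (h : C ≤ agemoOf p C) : C = ⊥ := by
  let P : Subgroup Q :=
    { carrier := {x | ∃ d ∈ C, d ^ p = x}
      mul_mem' := by
        rintro _ _ ⟨d, hd, rfl⟩ ⟨e, he, rfl⟩
        exact ⟨d * e, C.mul_mem hd he, Commute.mul_pow (hc d hd e he) p⟩
      one_mem' := ⟨1, C.one_mem, one_pow p⟩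
      inv_mem' := by
        rintro _ ⟨d, hd, rfl⟩
        exact ⟨d⁻¹, C.inv_mem hd, inv_pow d p⟩ }
  have hle : agemoOf p C ≤ P := agemoOf_le (fun d hd => ⟨d, hd, rfl⟩)
  have hsurj : ∀ c ∈ C, ∃ d ∈ C, d ^ p = c := fun c hcC => hle (h hcC)
  let f : C → C := fun d => ⟨d.1 ^ p, C.pow_mem d.2 p⟩
  have hfs : Function.Surjective f := by
    rintro ⟨c, hcC⟩
    obtain ⟨d, hd, rfl⟩ := hsurj c hcC
    exact ⟨⟨d, hd⟩, rfl⟩
  have hfi : Function.Injective f := Finite.injective_iff_surjective.mpr hfs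
  rw [Subgroup.eq_bot_iff_forall]
  intro x hx
  obtain ⟨k, hk⟩ := hQ x
  induction k generalizing x with
  | zero => simpa using hk
  | succ k ih =>
    have h0 : (x ^ p) ^ (p ^ k) = 1 := by rw [← pow_mul, ← pow_succ']; exact hk
    have h1 := ih (x ^ p) (C.pow_mem hx p) h0
    have h2 : f ⟨x, hx⟩ = f ⟨1, C.one_mem⟩ := Subtype.ext (by simp [f, h1])
    exact congrArg Subtype.val (hfi h2)

/-- B2.  `G' ≤ ℧₁(G') γ₃(G)` ⇒ `G' = 1`. -/
theorem commutator_eq_bot_of_le_LB (hG : IsPGroup p G) (h : commutator G ≤ LB p G) :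
    commutator G = ⊥ := by
  have hp : p.Prime := Fact.out
  set B : Subgroup G := (⊤ : Subgroup G).lowerCentralSeries 2 with hB
  have hBn : B.Normal := inferInstance
  let π : G →* G ⧸ B := QuotientGroup.mk' B
  have hπ : Function.Surjective π := QuotientGroup.mk'_surjective B
  have htop : (⊤ : Subgroup G).map π = ⊤ := by
    rw [← MonoidHom.range_eq_map, MonoidHom.range_eq_top.mpr hπ]
  have hmapc : (commutator G).map π = commutator (G ⧸ B) := by
    unfold commutator
    rw [Subgroup.map_commutator, htop]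
  have hlcs2 : (⊤ : Subgroup (G ⧸ B)).lowerCentralSeries 2 = ⊥ := by
    have h1 := Subgroup.map_lowerCentralSeries (S := (⊤ : Subgroup G)) π 2
    rw [htop] at h1
    rw [← h1, Subgroup.map_eq_bot_iff, QuotientGroup.ker_mk']
  have hQ : commutator (G ⧸ B) ≤ agemoOf p (commutator (G ⧸ B)) := by
    have h1 := Subgroup.map_mono (f := π) h
    rw [hmapc, map_LB_of_surjective π hπ] at h1
    unfold LB at h1
    rwa [hlcs2, sup_bot_eq] at h1
  have hcen : commutator (G ⧸ B) ≤ Subgroup.centralizer ((⊤ : Subgroup (G ⧸ B)) : Set (G ⧸ B)) := by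
    rw [← Subgroup.commutator_eq_bot_iff_le_centralizer, ← Subgroup.top_lowerCentralSeries_one,
      ← Subgroup.lowerCentralSeries_succ]
    exact hlcs2
  have hQp : IsPGroup p (G ⧸ B) := hG.to_quotient B
  have hcQ : commutator (G ⧸ B) = ⊥ := by
    apply b2_eq_bot_of_le_agemoOf hQp _ _ hQ
    intro a ha b hb
    exact (hcen hb a (Subgroup.mem_top a))
  have h12 : commutator G ≤ B := by
    rw [← hmapc, Subgroup.map_eq_bot_iff, QuotientGroup.ker_mk'] at hcQ
    exact hcQ
  -- `lcs 1 ≤ lcs (n + 1)` for all `n`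
  have hall : ∀ n : ℕ, commutator G ≤ (⊤ : Subgroup G).lowerCentralSeries (n + 1) := by
    intro n
    induction n with
    | zero => rw [Subgroup.top_lowerCentralSeries_one]
    | succ n ih =>
      refine h12.trans ?_
      rw [hB, Subgroup.lowerCentralSeries_succ, Subgroup.lowerCentralSeries_succ (n := n + 1),
        Subgroup.top_lowerCentralSeries_one]
      exact Subgroup.commutator_mono ih le_rfl
  have hnil : Group.IsNilpotent G := hG.isNilpotent
  obtain ⟨n, hn⟩ := Subgroup.nilpotent_iff_lowerCentralSeries.mp hnil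
  rw [eq_bot_iff]
  calc commutator G ≤ (⊤ : Subgroup G).lowerCentralSeries (n + 1) := hall n
    _ ≤ (⊤ : Subgroup G).lowerCentralSeries n := Subgroup.lowerCentralSeries_antitone _ (Nat.le_succ n)
    _ = ⊥ := hn

end Cfsg.Agent.Lib.H6.R2
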