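import Mathlib
import Cfsg.Agent.Lib.H11.RK2Defs
import Cfsg.Agent.Lib.H6.RK2T3NF

/-!
# S5289 farm-out, piece T3B (helper6): `T3.m4` (`G' ≤ ⟨y, w⟩`) and `T3.m2` (`M₀' ≤ ⟨w⟩`)
-/

set_option autoImplicit false
set_option linter.unusedSectionVars false

namespace Cfsg.Agent.Lib.H6.RK2

open Cfsg.Agent.Lib.H11.RK2

section T3

variable {G : Type*} [Group G] [Finite G] {p n s : ℕ} [Fact p.Prime] {x y z : G}

/-- `z ^ (k * p ^ (n - 3))` is central -/
theorem T3.wk_central (h : T3 p n s x y z) (k : ℕ) :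
    ∀ g : G, g * z ^ (k * p ^ (n - 3)) = z ^ (k * p ^ (n - 3)) * g := by
  intro g
  rw [mul_comm k, pow_mul]
  exact ((show Commute g (z ^ p ^ (n - 3)) from T3.w_central h g).pow_right _).eq

/-- **T3M4**.  `G' ≤ ⟨y, w⟩`, `w = z^(p^(n-3))`. -/
theorem T3.m4 (h : T3 p n s x y z) :
    ∀ a b : G, a * b * a⁻¹ * b⁻¹ ∈ Subgroup.closure ({y, z ^ p ^ (n - 3)} : Set G) := by
  have hyK : y ∈ Subgroup.closure ({y, z ^ p ^ (n - 3)} : Set G) := Subgroup.subset_closure (by simp)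
  have hwK : z ^ p ^ (n - 3) ∈ Subgroup.closure ({y, z ^ p ^ (n - 3)} : Set G) :=
    Subgroup.subset_closure (by simp)
  have hvK : z ^ (s * p ^ (n - 3)) ∈ Subgroup.closure ({y, z ^ p ^ (n - 3)} : Set G) := by
    rw [mul_comm, pow_mul]; exact pow_mem hwK _
  have hv := T3.wk_central h s
  have hK : (Subgroup.closure ({y, z ^ p ^ (n - 3)} : Set G)).Normal := by
    apply normal_closure_of_gens ({x, y, z} : Set G) _ h.gen
    intro t ht u hu
    rcases hu with hu | hu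
    · rw [hu]
      rcases ht with ht | ht | ht
      · -- `x y x⁻¹ = y v⁻¹`
        rw [ht]
        have e : x * y * x⁻¹ = y * (z ^ (s * p ^ (n - 3)))⁻¹ := by
          rw [mul_inv_eq_iff_eq_mul]
          have e1 := T3.yx h
          have e2 : (z ^ (s * p ^ (n - 3)))⁻¹ * x = x * (z ^ (s * p ^ (n - 3)))⁻¹ := by
            rw [inv_mul_eq_iff_eq_mul, ← mul_assoc, ← hv x, mul_assoc, mul_inv_cancel, mul_one]
          calc x * y = x * (y * z ^ (s * p ^ (n - 3))) * (z ^ (s * p ^ (n - 3)))⁻¹ := by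
                simp only [mul_assoc, mul_inv_cancel, mul_one]
            _ = y * x * (z ^ (s * p ^ (n - 3)))⁻¹ := by rw [← e1]
            _ = y * (z ^ (s * p ^ (n - 3)))⁻¹ * x := by rw [mul_assoc, ← e2, ← mul_assoc]
        rw [e]
        exact mul_mem hyK (inv_mem hvK)
      · rw [ht, mul_inv_cancel_right]; exact hyK
      · rw [ht]
        have : z * y * z⁻¹ = y := by rw [← h.hyz, mul_inv_cancel_right]
        rw [this]; exact hyK
    · rw [Set.mem_singleton_iff] at hu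
      rw [hu]
      have : t * z ^ p ^ (n - 3) * t⁻¹ = z ^ p ^ (n - 3) := by
        rw [T3.w_central h t, mul_inv_cancel_right]
      rw [this]; exact hwK
  have key := comm_mem_of_three _ hK x y z
    ⟨z ^ (s * p ^ (n - 3)), hvK, by rw [T3.yx h, mul_assoc]⟩
    ⟨y, hyK, by rw [T3.zx h, h.hyz, mul_assoc]⟩
    ⟨1, one_mem _, by rw [mul_one, h.hyz]⟩
  intro a b
  exact key a (by rw [h.gen]; trivial) b (by rw [h.gen]; trivial)

/-- **T3M2**.  `M₀' ≤ ⟨w⟩`. -/
theorem T3.m2 (h : T3 p n s x y z) :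
    ∀ a ∈ Subgroup.closure ({x, y, z ^ p} : Set G), ∀ b ∈ Subgroup.closure ({x, y, z ^ p} : Set G),
      a * b * a⁻¹ * b⁻¹ ∈ Subgroup.zpowers (z ^ p ^ (n - 3)) := by
  have hK : (Subgroup.zpowers (z ^ p ^ (n - 3))).Normal := by
    refine ⟨fun k hk g => ?_⟩
    obtain ⟨i, rfl⟩ := Subgroup.mem_zpowers_iff.mp hk
    have hc : Commute g ((z ^ p ^ (n - 3)) ^ i) :=
      (show Commute g (z ^ p ^ (n - 3)) from T3.w_central h g).zpow_right i
    rw [hc.eq, mul_inv_cancel_right]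
    exact Subgroup.zpow_mem_zpowers _ i
  have hvK : z ^ (s * p ^ (n - 3)) ∈ Subgroup.zpowers (z ^ p ^ (n - 3)) := by
    rw [mul_comm, pow_mul]; exact Subgroup.npow_mem_zpowers _ _
  exact comm_mem_of_three _ hK x y (z ^ p)
    ⟨z ^ (s * p ^ (n - 3)), hvK, by rw [T3.yx h, mul_assoc]⟩
    ⟨1, one_mem _, by rw [mul_one, T3.zp_comm_x h]⟩
    ⟨1, one_mem _, by rw [mul_one]; exact ((show Commute y z from h.hyz).pow_right p).eq.symm⟩

end T3

end Cfsg.Agent.Lib.H6.RK2
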