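import Mathlib
import Cfsg.Agent.Lib.H11.RK2Defs
import Cfsg.Agent.Lib.H6.RK2T3NF

/-!
# S5289 farm-out, piece T3C (helper6): `T3.m1` (`Z(M₀) = ⟨z^p⟩`) and `T3.m5`
(fixed points of `c_z` on `M₀/⟨z^p⟩`)
-/

set_option autoImplicit false
set_option linter.unusedSectionVars false

namespace Cfsg.Agent.Lib.H6.RK2

open Cfsg.Agent.Lib.H11.RK2

section T3

variable {G : Type*} [Group G] [Finite G] {p n s : ℕ} [Fact p.Prime] {x y z : G}

/-- `z ^ (k * p ^ (n - 3))` is central -/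
theorem T3.wk_central' (h : T3 p n s x y z) (k : ℕ) :
    ∀ g : G, g * z ^ (k * p ^ (n - 3)) = z ^ (k * p ^ (n - 3)) * g := by
  intro g
  rw [mul_comm k, pow_mul]
  exact ((show Commute g (z ^ p ^ (n - 3)) from T3.w_central h g).pow_right _).eq

/-- `p ∣ s * a → x ^ a = 1`-type helper: `p ∣ s * a → p ∣ a` -/
theorem T3.dvd_of_dvd_s_mul (h : T3 p n s x y z) {a : ℕ} (hd : p ∣ s * a) : p ∣ a := by
  have hpp : p.Prime := Fact.out
  rcases (Nat.Prime.dvd_mul hpp).mp hd with h1 | h1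
  · exact absurd h1 h.hs
  · exact h1

/-- **T3M1**.  `Z(M₀) = ⟨z^p⟩`. -/
theorem T3.m1 (h : T3 p n s x y z) :
    ∀ g ∈ Subgroup.closure ({x, y, z ^ p} : Set G),
      (∀ k ∈ Subgroup.closure ({x, y, z ^ p} : Set G), g * k = k * g) →
        g ∈ Subgroup.zpowers (z ^ p) := by
  intro g hg hcen
  have hc : Commute y z := h.hyz
  have hxM : x ∈ Subgroup.closure ({x, y, z ^ p} : Set G) := Subgroup.subset_closure (by simp)
  have hyM : y ∈ Subgroup.closure ({x, y, z ^ p} : Set G) := Subgroup.subset_closure (by simp)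
  obtain ⟨a, b, c, rfl⟩ := (T3.mem_m0_iff h g).mp hg
  -- step 1: commuting with `y` forces `p ∣ a`
  have hv := T3.wk_central' h (s * a)
  have e1 : x ^ a * y ^ b * z ^ (p * c) * y = x ^ a * y ^ (b + 1) * z ^ (p * c) := by
    rw [mul_assoc _ (z ^ (p * c)), ← (hc.pow_right (p * c)).eq, pow_succ]; simp only [mul_assoc]
  have e2 : y * (x ^ a * y ^ b * z ^ (p * c)) =
      x ^ a * y ^ (b + 1) * z ^ (p * c) * z ^ (s * a * p ^ (n - 3)) := by
    calc y * (x ^ a * y ^ b * z ^ (p * c)) = (y * x ^ a) * (y ^ b * z ^ (p * c)) := by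
          simp only [mul_assoc]
      _ = x ^ a * (y * z ^ (s * a * p ^ (n - 3))) * (y ^ b * z ^ (p * c)) := by
          rw [T3.y_mul_x_pow h]
      _ = x ^ a * y * ((y ^ b * z ^ (p * c)) * z ^ (s * a * p ^ (n - 3))) := by
          rw [hv (y ^ b * z ^ (p * c))]; simp only [mul_assoc]
      _ = x ^ a * y ^ (b + 1) * z ^ (p * c) * z ^ (s * a * p ^ (n - 3)) := by
          rw [pow_succ' y b]; simp only [mul_assoc]
  have e3 := hcen y hyM
  rw [e1, e2] at e3
  have e4 : z ^ (s * a * p ^ (n - 3)) = 1 := by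
    have := mul_left_cancel (e3.symm.trans (mul_one _).symm)
    exact this
  have ha : p ∣ a := T3.dvd_of_dvd_s_mul h ((T3.w_pow_eq_one_iff h _).mp e4)
  have hxa : x ^ a = 1 := by
    obtain ⟨k, rfl⟩ := ha
    rw [pow_mul, h.hx, one_pow]
  rw [hxa, one_mul] at hcen ⊢
  -- step 2: commuting with `x` forces `p ∣ b`
  have e5 : y ^ b * z ^ (p * c) * x = x * (y ^ b * z ^ (p * c)) * z ^ (s * b * p ^ (n - 3)) := by
    rw [T3.conj_yz h, pow_add y, pow_mul y, h.hy, one_pow, mul_one, pow_add z]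
    simp only [mul_assoc]
  have e6 := hcen x hxM
  rw [e5] at e6
  have e7 : z ^ (s * b * p ^ (n - 3)) = 1 := by
    have := mul_left_cancel (e6.trans (mul_one _).symm)
    exact this
  have hb : p ∣ b := T3.dvd_of_dvd_s_mul h ((T3.w_pow_eq_one_iff h _).mp e7)
  have hyb : y ^ b = 1 := by
    obtain ⟨k, rfl⟩ := hb
    rw [pow_mul, h.hy, one_pow]
  rw [hyb, one_mul, pow_mul]
  exact Subgroup.npow_mem_zpowers _ _

/-- **T3M5**.  The fixed points of `c_z` on `M₀/⟨z^p⟩` are `Y/⟨z^p⟩`. -/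
theorem T3.m5 (h : T3 p n s x y z) :
    ∀ r ∈ Subgroup.closure ({x, y, z ^ p} : Set G),
      z * r * z⁻¹ * r⁻¹ ∈ Subgroup.zpowers (z ^ p) → r ∈ Subgroup.closure ({y, z ^ p} : Set G) := by
  intro r hr hfix
  have hc : Commute y z := h.hyz
  obtain ⟨a, b, c, rfl⟩ := (T3.mem_m0_iff h r).mp hr
  rw [← mem_powers_iff_mem_zpowers] at hfix
  obtain ⟨k, hk⟩ := Submonoid.mem_powers_iff _ _ |>.mp hfix
  -- `z r = (z^p)^k r z`
  have e0 : z * (x ^ a * y ^ b * z ^ (p * c)) = (z ^ p) ^ k * (x ^ a * y ^ b * z ^ (p * c)) * z := by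
    rw [hk]; group
  obtain ⟨c', -, e1⟩ := T3.z_mul_x_pow h a
  have e2 : z * (x ^ a * y ^ b * z ^ (p * c)) = x ^ a * y ^ (a + b) * z ^ (c' + p * c) := by
    calc z * (x ^ a * y ^ b * z ^ (p * c)) = (z * x ^ a) * y ^ b * z ^ (p * c) := by
          simp only [mul_assoc]
      _ = x ^ a * (y ^ a * z ^ c') * y ^ b * z ^ (p * c) := by rw [e1]
      _ = x ^ a * y ^ a * (z ^ c' * y ^ b) * z ^ (p * c) := by simp only [mul_assoc]
      _ = x ^ a * y ^ a * (y ^ b * z ^ c') * z ^ (p * c) := by rw [(hc.pow_pow b c').eq]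
      _ = x ^ a * y ^ (a + b) * z ^ (c' + p * c) := by
          rw [pow_add y, pow_add z]; simp only [mul_assoc]
  have e3 : (z ^ p) ^ k * (x ^ a * y ^ b * z ^ (p * c)) * z =
      x ^ a * y ^ b * z ^ (p * c + p * k + 1) := by
    rw [← pow_mul, ← T3.zp_pow_central h k (x ^ a * y ^ b * z ^ (p * c)), pow_add, pow_add, pow_one]
    simp only [mul_assoc]
  rw [e2, e3] at e0
  obtain ⟨-, h2, -⟩ := T3.nf_inj h e0
  have ha : p ∣ a := by
    have h3 : a + b ≡ 0 + b [MOD p] := by simpa using h2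
    exact (Nat.modEq_zero_iff_dvd).mp (Nat.ModEq.add_right_cancel' b h3)
  have hxa : x ^ a = 1 := by
    obtain ⟨k, rfl⟩ := ha
    rw [pow_mul, h.hx, one_pow]
  rw [hxa, one_mul, pow_mul]
  have h2 : y ∈ Subgroup.closure ({y, z ^ p} : Set G) := Subgroup.subset_closure (by simp)
  have h3 : z ^ p ∈ Subgroup.closure ({y, z ^ p} : Set G) := Subgroup.subset_closure (by simp)
  exact mul_mem (pow_mem h2 _) (pow_mem h3 _)

end T3

end Cfsg.Agent.Lib.H6.RK2
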