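import Mathlib
import Cfsg.Prelude.Def_LieRecognition
import Cfsg.Agent.Lib.H6.RankOne3

set_option autoImplicit false

namespace Cfsg.Agent.Lib.H6.RankOne

open MulAction

variable {G Ω : Type*} [Group G] [MulAction G Ω] {a : Ω} {t : G} {Q : Subgroup G}

/-- an element commuting with a non-trivial involution fixes its fixed point. -/
theorem smul_eq_of_commute [Finite G] (hS : Cfsg.IsRankOneSetup G Ω a t Q) {x w : G} (hx1 : x ≠ 1)
    (hxx : x * x = 1) {c : Ω} (hc : x • c = c) (hcomm : x * w = w * x) : w • c = c := by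
  apply fixed_point_unique hS hx1 hxx ?_ hc
  rw [← mul_smul, hcomm, mul_smul, hc]

/-- two commuting involutions have a common fixed point. -/
theorem common_fixed_point [Finite G] (hS : Cfsg.IsRankOneSetup G Ω a t Q) {x y : G} (hx1 : x ≠ 1)
    (hxx : x * x = 1) (hcomm : x * y = y * x) : ∃ c : Ω, x • c = c ∧ y • c = c := by
  obtain ⟨c, hc⟩ := exists_fixed_point hS x hxx
  exact ⟨c, hc, smul_eq_of_commute hS hx1 hxx hc hcomm⟩

/-- If `G` has two distinct commuting involutions, every normal subgroup of odd order fixes `a`. -/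
theorem odd_normal_le_stabilizer [Finite G] (hS : Cfsg.IsRankOneSetup G Ω a t Q)
    (h2 : ∃ x y : G, x ≠ 1 ∧ y ≠ 1 ∧ x ≠ y ∧ x * x = 1 ∧ y * y = 1 ∧ x * y = y * x)
    (N : Subgroup G) [hNn : N.Normal] (hN : (Nat.card N).Coprime 2) : N ≤ stabilizer G a := by
  obtain ⟨x, y, hx1, hy1, hxy, hxx, hyy, hcomm⟩ := h2
  obtain ⟨c, hc, hyc⟩ := common_fixed_point hS hx1 hxx hcomm
  have hNodd : Odd (Nat.card N) := Nat.coprime_two_right.mp hN
  have hyinv : y⁻¹ = y := inv_eq_of_mul_eq_one_right hyy
  have hxinv : x⁻¹ = x := inv_eq_of_mul_eq_one_right hxx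
  have key : ∀ m ∈ N, m • c = c := by
    intro m hm
    obtain ⟨x', hx'⟩ : ∃ x', x' = m * x * m⁻¹ := ⟨_, rfl⟩
    have hx'x' : x' * x' = 1 := by rw [hx']; exact Cfsg.Agent.Lib.H6.conj_mul_self hxx m
    have hx'1 : x' ≠ 1 := by
      rw [hx']
      intro h
      apply hx1
      have e : x = m⁻¹ * (m * x * m⁻¹) * m := by group
      rw [e, h]; group
    have hx'fix : x' • (m • c) = m • c := by rw [hx', mul_smul, mul_smul, inv_smul_smul, hc]
    obtain ⟨u, hu⟩ : ∃ u, u = x' * y := ⟨_, rfl⟩
    have hm1 : ((m : G) : G ⧸ N) = 1 := (QuotientGroup.eq_one_iff m).mpr hm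
    have hxyxy : x * y * (x * y) = 1 := by
      calc x * y * (x * y) = x * (y * x) * y := by group
        _ = x * (x * y) * y := by rw [hcomm]
        _ = (x * x) * (y * y) := by group
        _ = 1 := by rw [hxx, hyy, one_mul]
    have huq : ((u : G) : G ⧸ N) = ((x * y : G) : G ⧸ N) := by
      rw [hu, hx']
      simp only [QuotientGroup.mk_mul, QuotientGroup.mk_inv, hm1, one_mul, inv_one, mul_one]
    have huuN : u * u ∈ N := by
      rw [← QuotientGroup.eq_one_iff, QuotientGroup.mk_mul, huq, ← QuotientGroup.mk_mul, hxyxy]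
      rfl
    have hodd : Odd (orderOf (u * u)) := by
      have h1 : orderOf (u * u) ∣ Nat.card N := by
        have := orderOf_dvd_natCard (⟨u * u, huuN⟩ : N)
        rwa [Subgroup.orderOf_mk] at this
      exact Odd.of_dvd_nat hNodd h1
    obtain ⟨n, hn⟩ : ∃ n, n = orderOf (u * u) := ⟨_, rfl⟩
    rw [← hn] at hodd
    obtain ⟨w, hw⟩ : ∃ w, w = u ^ n := ⟨_, rfl⟩
    have hww : w * w = 1 := by
      rw [hw, ← pow_add, ← two_mul, pow_mul, pow_two, hn, pow_orderOf_eq_one]
    have hwinv : w⁻¹ = w := inv_eq_of_mul_eq_one_right hww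
    have hw1 : w ≠ 1 := by
      intro h
      have h1 : ((x * y : G) : G ⧸ N) ^ n = 1 := by
        rw [← huq, ← QuotientGroup.mk_pow, ← hw, h]; rfl
      obtain ⟨j, hj⟩ := hodd
      have h2 : ((x * y : G) : G ⧸ N) * ((x * y : G) : G ⧸ N) = 1 := by
        rw [← QuotientGroup.mk_mul, hxyxy]; rfl
      rw [hj, pow_succ, pow_mul, pow_two, h2, one_pow, one_mul] at h1
      have h3 : x * y ∈ N := (QuotientGroup.eq_one_iff _).mp h1
      have h4 : orderOf (x * y) = 2 := by
        apply orderOf_eq_prime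
        · rw [pow_two]; exact hxyxy
        · intro h5
          apply hxy
          calc x = (x * y) * y⁻¹ := by group
            _ = y := by rw [h5, hyinv, one_mul]
      have h5 : orderOf (x * y) ∣ Nat.card N := by
        have := orderOf_dvd_natCard (⟨x * y, h3⟩ : N)
        rwa [Subgroup.orderOf_mk] at this
      rw [h4] at h5
      have := Odd.of_dvd_nat hNodd h5
      exact absurd this (by decide)
    have hcx : x' * w = w * x' := by
      have h1 : x' * u * x'⁻¹ = u⁻¹ := by
        rw [hu]; exact Cfsg.Agent.Lib.H6.inverts_left hx'x' hyy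
      have h2 : x' * w * x'⁻¹ = w := by
        rw [hw, ← conj_pow, h1, inv_pow, ← hw, hwinv]
      calc x' * w = (x' * w * x'⁻¹) * x' := by group
        _ = w * x' := by rw [h2]
    have hcy : y * w = w * y := by
      have h1 : y * u * y⁻¹ = u⁻¹ := by
        rw [hu]; exact Cfsg.Agent.Lib.H6.inverts_right hx'x' hyy
      have h2 : y * w * y⁻¹ = w := by
        rw [hw, ← conj_pow, h1, inv_pow, ← hw, hwinv]
      calc y * w = (y * w * y⁻¹) * y := by group
        _ = w * y := by rw [h2]
    have hwc : w • c = c := smul_eq_of_commute hS hy1 hyy hyc hcy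
    have hwmc : w • (m • c) = m • c := smul_eq_of_commute hS hx'1 hx'x' hx'fix hcx
    exact fixed_point_unique hS hw1 hww hwmc hwc
  intro m hm
  rw [mem_stabilizer_iff]
  have := isPretransitive hS
  obtain ⟨g, hg⟩ := exists_smul_eq G c a
  have h1 : g⁻¹ * m * g ∈ N := by
    have := hNn.conj_mem m hm g⁻¹
    rwa [inv_inv] at this
  have h2 := key _ h1
  rw [← hg]
  calc m • g • c = g • (g⁻¹ * m * g) • c := by
        rw [← mul_smul, ← mul_smul]; congr 1; group
    _ = g • c := by rw [h2]

end Cfsg.Agent.Lib.H6.RankOne
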