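import Mathlib
import Cfsg.Prelude.Def_LieRecognition
import Cfsg.Agent.Lib.H6.RankOne4
import Cfsg.Agent.Lib.H6.Conj

set_option autoImplicit false

namespace Cfsg.Agent.Lib.H6.RankOne

open MulAction

variable {G Ω : Type*} [Group G] [MulAction G Ω] {a : Ω} {t : G} {Q : Subgroup G}

/-- the conjugate of a rank-one setup by a group element is again a rank-one setup. -/
theorem setup_conj (hS : Cfsg.IsRankOneSetup G Ω a t Q) (g : G) :
    Cfsg.IsRankOneSetup G Ω (g • a) (g * t * g⁻¹) (Q.map (MulAut.conj g).toMonoidHom) := by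
  have hinj : Function.Injective (MulAut.conj g).toMonoidHom := (MulAut.conj g).injective
  have hpt : (g * t * g⁻¹) • g • a = g • t • a := by
    rw [mul_smul, mul_smul, inv_smul_smul]
  refine { two_transitive := hS.two_transitive,
           mul_self := Cfsg.Agent.Lib.H6.conj_mul_self hS.mul_self g,
           ne_one := ?_, not_mem := ?_, le := ?_, conj_mem := ?_, inf_eq_bot := ?_, sup_eq := ?_,
           even_card := ?_, odd_card := ?_ }
  · intro h
    apply hS.ne_one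
    have e : t = g⁻¹ * (g * t * g⁻¹) * g := by group
    rw [e, h]; group
  · rw [mem_stabilizer_iff, hpt]
    intro h
    exact ta_ne hS (MulAction.injective g h)
  · rw [stabilizer_smul_eq_stabilizer_map_conj]
    exact Subgroup.map_mono hS.le
  · rw [stabilizer_smul_eq_stabilizer_map_conj]
    rintro h ⟨h₀, hh₀, rfl⟩ x ⟨x₀, hx₀, rfl⟩
    refine ⟨h₀ * x₀ * h₀⁻¹, hS.conj_mem h₀ hh₀ x₀ hx₀, ?_⟩
    simp only [map_mul, map_inv]
  · rw [hpt, stabilizer_smul_eq_stabilizer_map_conj, ← Subgroup.map_inf _ _ _ hinj, hS.inf_eq_bot,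
      Subgroup.map_bot]
  · rw [hpt, stabilizer_smul_eq_stabilizer_map_conj, stabilizer_smul_eq_stabilizer_map_conj,
      ← Subgroup.map_inf _ _ _ hinj, ← Subgroup.map_sup, hS.sup_eq]
  · rw [Subgroup.card_map_of_injective hinj]; exact hS.even_card
  · rw [hpt, stabilizer_smul_eq_stabilizer_map_conj, stabilizer_smul_eq_stabilizer_map_conj,
      ← Subgroup.map_inf _ _ _ hinj, Subgroup.card_map_of_injective hinj]
    exact hS.odd_card

/-- the setup seen from the point `t • a`. -/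
theorem setup_swap (hS : Cfsg.IsRankOneSetup G Ω a t Q) :
    Cfsg.IsRankOneSetup G Ω (t • a) t (Q.map (MulAut.conj t).toMonoidHom) := by
  have h := setup_conj hS t
  have e : t * t * t⁻¹ = t := by group
  rwa [e] at h

/-- `C_Q(X)` is transitive on the fixed points of `X` other than `a`, for `X ⊆ G_a`. -/
theorem exists_centralizer_Q_smul (hS : Cfsg.IsRankOneSetup G Ω a t Q) {X : Set G}
    (hX : X ⊆ (stabilizer G a : Set G)) {c c' : Ω} (hc : c ≠ a) (hc' : c' ≠ a)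
    (hXc : ∀ x ∈ X, x • c = c) (hXc' : ∀ x ∈ X, x • c' = c') :
    ∃ q ∈ Subgroup.centralizer X ⊓ Q, q • c = c' := by
  obtain ⟨⟨q, hq⟩, hqc, -⟩ := Q_regular hS hc hc'
  simp only at hqc
  refine ⟨q, Subgroup.mem_inf.mpr ⟨?_, hq⟩, hqc⟩
  rw [Subgroup.mem_centralizer_iff]
  intro x hx
  have hxa : x ∈ stabilizer G a := hX hx
  have h1 : x * q * x⁻¹ ∈ Q := hS.conj_mem x hxa q hq
  have hxc : x⁻¹ • c = c := by
    have := hXc x hx
    calc x⁻¹ • c = x⁻¹ • (x • c) := by rw [this]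
      _ = c := inv_smul_smul x c
  have h2 : (x * q * x⁻¹) • c = q • c := by
    rw [mul_smul, mul_smul, hxc, hqc, hXc' x hx]
  have h3 := Q_smul_inj hS h1 hq hc h2
  calc x * q = (x * q * x⁻¹) * x := by group
    _ = q * x := by rw [h3]

/-- For `X ⊆ D` fixing at least three points, `C_G(X)` is transitive on the fixed points of `X`. -/
theorem exists_centralizer_smul (hS : Cfsg.IsRankOneSetup G Ω a t Q) {X : Set G}
    (hX : X ⊆ ((stabilizer G a ⊓ stabilizer G (t • a) : Subgroup G) : Set G))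
    (h3 : ∃ b c d : Ω, b ≠ c ∧ b ≠ d ∧ c ≠ d ∧ ∀ x ∈ X, x • b = b ∧ x • c = c ∧ x • d = d)
    {c : Ω} (hXc : ∀ x ∈ X, x • c = c) : ∃ g ∈ Subgroup.centralizer X, g • a = c := by
  have hS' := setup_swap hS
  have hXa : X ⊆ (stabilizer G a : Set G) := fun x hx => (Subgroup.mem_inf.mp (hX hx)).1
  have hXb : X ⊆ (stabilizer G (t • a) : Set G) := fun x hx => (Subgroup.mem_inf.mp (hX hx)).2
  have hfa : ∀ x ∈ X, x • a = a := fun x hx => mem_stabilizer_iff.mp (hXa hx)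
  have hfb : ∀ x ∈ X, x • (t • a) = t • a := fun x hx => mem_stabilizer_iff.mp (hXb hx)
  -- a fixed point different from a and t • a
  obtain ⟨d, hda, hdb, hXd⟩ : ∃ d : Ω, d ≠ a ∧ d ≠ t • a ∧ ∀ x ∈ X, x • d = d := by
    obtain ⟨p₁, p₂, p₃, h12, h13, h23, hp⟩ := h3
    by_cases h1 : p₁ ≠ a ∧ p₁ ≠ t • a
    · exact ⟨p₁, h1.1, h1.2, fun x hx => (hp x hx).1⟩
    by_cases h2 : p₂ ≠ a ∧ p₂ ≠ t • a
    · exact ⟨p₂, h2.1, h2.2, fun x hx => (hp x hx).2.1⟩
    refine ⟨p₃, ?_, ?_, fun x hx => (hp x hx).2.2⟩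
    · intro h
      rw [not_and_or, not_not, not_not] at h1 h2
      rcases h1 with h1 | h1 <;> rcases h2 with h2 | h2
      · exact h12 (h1.trans h2.symm)
      · exact h13 (h1.trans h.symm)
      · exact h23 (h2.trans h.symm)
      · exact h12 (h1.trans h2.symm)
    · intro h
      rw [not_and_or, not_not, not_not] at h1 h2
      rcases h1 with h1 | h1 <;> rcases h2 with h2 | h2
      · exact h12 (h1.trans h2.symm)
      · exact h23 (h2.trans h.symm)
      · exact h13 (h1.trans h.symm)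
      · exact h12 (h1.trans h2.symm)
  have hab : a ≠ t • a := (ta_ne hS).symm
  by_cases hcb : c = t • a
  · obtain ⟨q', hq', hq'a⟩ := exists_centralizer_Q_smul hS' hXb hab hdb hfa hXd
    obtain ⟨q, hq, hqd⟩ := exists_centralizer_Q_smul hS hXa hda (ta_ne hS) hXd hfb
    refine ⟨q * q', Subgroup.mul_mem _ (Subgroup.mem_inf.mp hq).1 (Subgroup.mem_inf.mp hq').1, ?_⟩
    rw [mul_smul, hq'a, hqd, hcb]
  · obtain ⟨q', hq', hq'a⟩ := exists_centralizer_Q_smul hS' hXb hab hcb hfa hXc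
    exact ⟨q', (Subgroup.mem_inf.mp hq').1, hq'a⟩

/-- an element of the centralizer of `X` permutes the fixed points of `X`. -/
theorem centralizer_smul_fixed {X : Set G} {g : G} (hg : g ∈ Subgroup.centralizer X) {c : Ω}
    (hXc : ∀ x ∈ X, x • c = c) : ∀ x ∈ X, x • (g • c) = g • c := by
  intro x hx
  rw [Subgroup.mem_centralizer_iff] at hg
  rw [← mul_smul, hg x hx, mul_smul, hXc x hx]

/-- For `X ⊆ D` fixing at least three points, `C_G(X)` is doubly transitive on the fixed points of `X`. -/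
theorem centralizer_two_transitive (hS : Cfsg.IsRankOneSetup G Ω a t Q) {X : Set G}
    (hX : X ⊆ ((stabilizer G a ⊓ stabilizer G (t • a) : Subgroup G) : Set G))
    (h3 : ∃ b c d : Ω, b ≠ c ∧ b ≠ d ∧ c ≠ d ∧ ∀ x ∈ X, x • b = b ∧ x • c = c ∧ x • d = d)
    {b₁ b₂ c₁ c₂ : Ω} (hb₁ : ∀ x ∈ X, x • b₁ = b₁) (hb₂ : ∀ x ∈ X, x • b₂ = b₂)
    (hc₁ : ∀ x ∈ X, x • c₁ = c₁) (hc₂ : ∀ x ∈ X, x • c₂ = c₂) (hb : b₁ ≠ b₂) (hc : c₁ ≠ c₂) :
    ∃ g ∈ Subgroup.centralizer X, g • b₁ = c₁ ∧ g • b₂ = c₂ := by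
  have hXa : X ⊆ (stabilizer G a : Set G) := fun x hx => (Subgroup.mem_inf.mp (hX hx)).1
  obtain ⟨g₁, hg₁, hg₁a⟩ := exists_centralizer_smul hS hX h3 hb₁
  obtain ⟨g₂, hg₂, hg₂a⟩ := exists_centralizer_smul hS hX h3 hc₁
  have h1 : g₁⁻¹ • b₂ ≠ a := by
    intro h
    apply hb
    rw [← hg₁a, ← h, smul_inv_smul]
  have h2 : g₂⁻¹ • c₂ ≠ a := by
    intro h
    apply hc
    rw [← hg₂a, ← h, smul_inv_smul]
  have h1' := centralizer_smul_fixed (Subgroup.inv_mem _ hg₁) hb₂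
  have h2' := centralizer_smul_fixed (Subgroup.inv_mem _ hg₂) hc₂
  obtain ⟨q, hq, hqc⟩ := exists_centralizer_Q_smul hS hXa h1 h2 h1' h2'
  have hqC := (Subgroup.mem_inf.mp hq).1
  have hqQ := (Subgroup.mem_inf.mp hq).2
  refine ⟨g₂ * q * g₁⁻¹, Subgroup.mul_mem _ (Subgroup.mul_mem _ hg₂ hqC) (Subgroup.inv_mem _ hg₁),
    ?_, ?_⟩
  · rw [mul_smul, mul_smul, ← hg₁a, inv_smul_smul, Q_smul_a hS hqQ, hg₂a]
  · rw [mul_smul, mul_smul, hqc, smul_inv_smul]

end Cfsg.Agent.Lib.H6.RankOne
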