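import Mathlib
import Cfsg.Prelude.Def_LieRecognition
import Cfsg.Agent.Lib.H6.RankOne5

set_option autoImplicit false

namespace Cfsg.Agent.Lib.H6.RankOne

open MulAction

variable {G Ω : Type*} [Group G] [MulAction G Ω] {a : Ω} {t : G} {Q : Subgroup G}

/-- odd powers of an element swapping two points swap them. -/
theorem pow_swap {g : G} {b c : Ω} (h1 : g • b = c) (h2 : g • c = b) (j : ℕ) :
    (g ^ (2 * j)) • b = b ∧ (g ^ (2 * j)) • c = c ∧ (g ^ (2 * j + 1)) • b = c ∧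
      (g ^ (2 * j + 1)) • c = b := by
  induction j with
  | zero => simp [h1, h2]
  | succ j ih =>
    obtain ⟨i1, i2, i3, i4⟩ := ih
    have e1 : g ^ (2 * (j + 1)) = g * g ^ (2 * j + 1) := by
      have : 2 * (j + 1) = (2 * j + 1) + 1 := by ring
      rw [this, pow_succ']
    have e2 : g ^ (2 * (j + 1) + 1) = g * (g * g ^ (2 * j + 1)) := by
      have : 2 * (j + 1) + 1 = ((2 * j + 1) + 1) + 1 := by ring
      rw [this, pow_succ', pow_succ']
    refine ⟨?_, ?_, ?_, ?_⟩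
    · rw [e1, mul_smul, i3, h2]
    · rw [e1, mul_smul, i4, h1]
    · rw [e2, mul_smul, mul_smul, i3, h2, h1]
    · rw [e2, mul_smul, mul_smul, i4, h1, h2]

/-- For `X ⊆ D` fixing at least three points, `C_G(X)` contains an involution swapping `a` and `t • a`. -/
theorem exists_centralizer_swap [Finite G] (hS : Cfsg.IsRankOneSetup G Ω a t Q) {X : Set G}
    (hX : X ⊆ ((stabilizer G a ⊓ stabilizer G (t • a) : Subgroup G) : Set G))
    (h3 : ∃ b c d : Ω, b ≠ c ∧ b ≠ d ∧ c ≠ d ∧ ∀ x ∈ X, x • b = b ∧ x • c = c ∧ x • d = d) :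
    ∃ g ∈ Subgroup.centralizer X, g * g = 1 ∧ g • a = t • a := by
  have hfa : ∀ x ∈ X, x • a = a := fun x hx => mem_stabilizer_iff.mp (Subgroup.mem_inf.mp (hX hx)).1
  have hfb : ∀ x ∈ X, x • (t • a) = t • a :=
    fun x hx => mem_stabilizer_iff.mp (Subgroup.mem_inf.mp (hX hx)).2
  obtain ⟨g₀, hg₀, h1, h2⟩ := centralizer_two_transitive hS hX h3 hfa hfb hfb hfa
    (ta_ne hS).symm (ta_ne hS)
  have hn : orderOf g₀ ≠ 0 := (orderOf_pos g₀).ne'
  obtain ⟨e, m, hm, hnm⟩ := Nat.exists_eq_two_pow_mul_odd hn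
  obtain ⟨j, hj⟩ := hm
  obtain ⟨-, -, h3', h4'⟩ := pow_swap h1 h2 j
  rw [← hj] at h3' h4'
  refine ⟨g₀ ^ m, Subgroup.pow_mem _ hg₀ m, ?_, h3'⟩
  have hD : g₀ ^ m * g₀ ^ m ∈ stabilizer G a ⊓ stabilizer G (t • a) := by
    rw [Subgroup.mem_inf, mem_stabilizer_iff, mem_stabilizer_iff]
    constructor
    · rw [mul_smul, h3', h4']
    · rw [mul_smul, h4', h3']
  have hpow : (g₀ ^ m * g₀ ^ m) ^ (2 ^ e) = 1 := by
    rw [← pow_add, ← pow_mul, ← two_mul]
    have : 2 * m * 2 ^ e = orderOf g₀ * 2 := by rw [hnm]; ring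
    rw [this, pow_mul, pow_orderOf_eq_one, one_pow]
  have hd1 : orderOf (g₀ ^ m * g₀ ^ m) ∣ 2 ^ e := orderOf_dvd_of_pow_eq_one hpow
  have hd2 : orderOf (g₀ ^ m * g₀ ^ m) ∣
      Nat.card ↥(stabilizer G a ⊓ stabilizer G (t • a)) := by
    have := orderOf_dvd_natCard (⟨g₀ ^ m * g₀ ^ m, hD⟩ : ↥(stabilizer G a ⊓ stabilizer G (t • a)))
    rwa [Subgroup.orderOf_mk] at this
  have hcop : Nat.Coprime (2 ^ e) (Nat.card ↥(stabilizer G a ⊓ stabilizer G (t • a))) := by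
    apply Nat.Coprime.pow_left
    rw [Nat.coprime_two_left]
    exact hS.odd_card
  have := Nat.eq_one_of_dvd_coprimes hcop hd1 hd2
  exact orderOf_eq_one_iff.mp this

/-- every involution swapping `a` and `t • a` is conjugate to `t` under `D`. -/
theorem exists_D_conj_of_swap [Finite G] (hS : Cfsg.IsRankOneSetup G Ω a t Q) {g : G}
    (hgg : g * g = 1) (hga : g • a = t • a) :
    ∃ j ∈ stabilizer G a ⊓ stabilizer G (t • a), g = j⁻¹ * t * j := by
  have htinv := t_inv hS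
  obtain ⟨hkD, hkinv⟩ := mem_K_of_swap hS hgg hga
  obtain ⟨k, hk⟩ : ∃ k, k = t * g := ⟨_, rfl⟩
  rw [← hk] at hkD hkinv
  have hodd : Odd (orderOf k) := by
    have h1 : orderOf k ∣ Nat.card ↥(stabilizer G a ⊓ stabilizer G (t • a)) := by
      have := orderOf_dvd_natCard (⟨k, hkD⟩ : ↥(stabilizer G a ⊓ stabilizer G (t • a)))
      rwa [Subgroup.orderOf_mk] at this
    exact Odd.of_dvd_nat hS.odd_card h1
  obtain ⟨i, hi⟩ := hodd
  have hjj : k ^ (i + 1) * k ^ (i + 1) = k := by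
    rw [← pow_add]
    have : i + 1 + (i + 1) = orderOf k + 1 := by omega
    rw [this, pow_succ, pow_orderOf_eq_one, one_mul]
  have hjinv : t * k ^ (i + 1) * t⁻¹ = (k ^ (i + 1))⁻¹ := by
    rw [← conj_pow, hkinv, inv_pow]
  refine ⟨k ^ (i + 1), Subgroup.pow_mem _ hkD _, ?_⟩
  obtain ⟨j, hj⟩ : ∃ j, j = k ^ (i + 1) := ⟨_, rfl⟩
  rw [← hj] at hjj hjinv ⊢
  have e1 : j⁻¹ * t * j = t * (t * j * t⁻¹)⁻¹ * j := by
    have : t * (t * j * t⁻¹)⁻¹ * j = (t * t) * j⁻¹ * t⁻¹ * j := by group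
    rw [this, hS.mul_self, htinv, one_mul]
  rw [e1, hjinv, inv_inv, mul_assoc, hjj, hk]
  have : t * (t * g) = (t * t) * g := by group
  rw [this, hS.mul_self, one_mul]

/-- For `X ⊆ D` fixing at least three points, `|C_Q(X)|` is even. -/
theorem even_card_centralizer_Q [Finite G] (hS : Cfsg.IsRankOneSetup G Ω a t Q) {X : Set G}
    (hX : X ⊆ ((stabilizer G a ⊓ stabilizer G (t • a) : Subgroup G) : Set G))
    (h3 : ∃ b c d : Ω, b ≠ c ∧ b ≠ d ∧ c ≠ d ∧ ∀ x ∈ X, x • b = b ∧ x • c = c ∧ x • d = d) :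
    Even (Nat.card ↥(Subgroup.centralizer X ⊓ Q)) := by
  obtain ⟨g, hgC, hgg, hga⟩ := exists_centralizer_swap hS hX h3
  have hg1 : g ≠ 1 := by
    intro h
    rw [h, one_smul] at hga
    exact ta_ne hS hga.symm
  obtain ⟨p, hp⟩ := exists_fixed_point hS g hgg
  have hXp : ∀ x ∈ X, x • p = p := by
    intro x hx
    rw [Subgroup.mem_centralizer_iff] at hgC
    exact smul_eq_of_commute hS hg1 hgg hp (hgC x hx).symm
  obtain ⟨h, hhC, hha⟩ := exists_centralizer_smul hS hX h3 hXp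
  -- h⁻¹ g h is an involution of G_a centralising X
  have h1 : h⁻¹ * g * h ∈ Subgroup.centralizer X :=
    Subgroup.mul_mem _ (Subgroup.mul_mem _ (Subgroup.inv_mem _ hhC) hgC) hhC
  have h2 : (h⁻¹ * g * h) * (h⁻¹ * g * h) = 1 := by
    have := Cfsg.Agent.Lib.H6.conj_mul_self hgg h⁻¹
    rwa [inv_inv] at this
  have h3' : h⁻¹ * g * h ∈ stabilizer G a := by
    rw [mem_stabilizer_iff, mul_smul, mul_smul, hha, hp, ← hha, inv_smul_smul]
  have h4 : h⁻¹ * g * h ∈ Q := involution_Ga_mem_Q hS h3' h2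
  have h5 : h⁻¹ * g * h ≠ 1 := by
    intro h6
    apply hg1
    have e : g = h * (h⁻¹ * g * h) * h⁻¹ := by group
    rw [e, h6]; group
  have h6 : orderOf (h⁻¹ * g * h) = 2 := orderOf_eq_prime (by rw [pow_two]; exact h2) h5
  have h7 : orderOf (h⁻¹ * g * h) ∣ Nat.card ↥(Subgroup.centralizer X ⊓ Q) := by
    have := orderOf_dvd_natCard (⟨h⁻¹ * g * h, Subgroup.mem_inf.mpr ⟨h1, h4⟩⟩ :
      ↥(Subgroup.centralizer X ⊓ Q))
    rwa [Subgroup.orderOf_mk] at this
  rw [h6] at h7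
  exact even_iff_two_dvd.mpr h7

/-- For `X ⊆ D` fixing at least three points, `C_{G_a}(X) = C_Q(X) C_D(X)`. -/
theorem centralizer_sup_eq (hS : Cfsg.IsRankOneSetup G Ω a t Q) {X : Set G}
    (hX : X ⊆ ((stabilizer G a ⊓ stabilizer G (t • a) : Subgroup G) : Set G)) :
    (Subgroup.centralizer X ⊓ Q) ⊔
      (Subgroup.centralizer X ⊓ (stabilizer G a ⊓ stabilizer G (t • a))) =
      Subgroup.centralizer X ⊓ stabilizer G a := by
  have hXa : X ⊆ (stabilizer G a : Set G) := fun x hx => (Subgroup.mem_inf.mp (hX hx)).1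
  have hfb : ∀ x ∈ X, x • (t • a) = t • a :=
    fun x hx => mem_stabilizer_iff.mp (Subgroup.mem_inf.mp (hX hx)).2
  apply le_antisymm
  · apply sup_le
    · exact inf_le_inf_left _ hS.le
    · exact inf_le_inf_left _ inf_le_left
  · intro g hg
    obtain ⟨hgC, hga⟩ := Subgroup.mem_inf.mp hg
    have hgb := centralizer_smul_fixed hgC hfb
    have hne : g • (t • a) ≠ a := by
      intro h
      have h1 : g⁻¹ • a = a := by
        rw [mem_stabilizer_iff] at hga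
        calc g⁻¹ • a = g⁻¹ • (g • a) := by rw [hga]
          _ = a := inv_smul_smul g a
      apply ta_ne hS
      calc t • a = g⁻¹ • (g • (t • a)) := (inv_smul_smul g _).symm
        _ = a := by rw [h, h1]
    obtain ⟨q, hq, hqb⟩ := exists_centralizer_Q_smul hS hXa (ta_ne hS) hne hfb hgb
    have hqC := (Subgroup.mem_inf.mp hq).1
    have hqQ := (Subgroup.mem_inf.mp hq).2
    have e : g = q * (q⁻¹ * g) := by group
    rw [e]
    apply Subgroup.mul_mem_sup hq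
    rw [Subgroup.mem_inf, Subgroup.mem_inf]
    refine ⟨Subgroup.mul_mem _ (Subgroup.inv_mem _ hqC) hgC, ?_, ?_⟩
    · exact Subgroup.mul_mem _ (Subgroup.inv_mem _ (hS.le hqQ)) hga
    · rw [mem_stabilizer_iff, mul_smul, ← hqb, inv_smul_smul]

end Cfsg.Agent.Lib.H6.RankOne
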