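import Mathlib
import Cfsg.Prelude.Def_LieRecognition
import Cfsg.Agent.Lib.H6.RankOne6

set_option autoImplicit false

namespace Cfsg.Agent.Lib.H6.RankOne

open MulAction

section general

variable {G : Type*} [Group G]

/-- conjugation by an element of the normalizer, as an automorphism of the subgroup. -/
def conjOn (N : Subgroup G) (g : G) (hg : g ∈ Subgroup.normalizer (N : Set G)) : N ≃* N where
  toFun x := ⟨g * x * g⁻¹, (Subgroup.mem_normalizer_iff.mp hg x).mp x.2⟩
  invFun x := ⟨g⁻¹ * x * g, by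
    have := (Subgroup.mem_normalizer_iff.mp (Subgroup.inv_mem _ hg) x).mp x.2
    rwa [inv_inv] at this⟩
  left_inv x := by ext; simp [mul_assoc]
  right_inv x := by ext; simp [mul_assoc]
  map_mul' x y := by ext; simp [mul_assoc]

@[simp] theorem conjOn_apply (N : Subgroup G) (g : G) (hg : g ∈ Subgroup.normalizer (N : Set G))
    (x : N) : ((conjOn N g hg x : N) : G) = g * x * g⁻¹ := rfl

/-- conjugation as a hom from the normalizer to the automorphism group. -/
def conjHom (N : Subgroup G) : Subgroup.normalizer (N : Set G) →* MulAut N where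
  toFun g := conjOn N g g.2
  map_one' := by ext x; simp
  map_mul' g h := by ext x; simp [mul_assoc]

theorem conjHom_apply (N : Subgroup G) (g : Subgroup.normalizer (N : Set G)) (x : N) :
    ((conjHom N g x : N) : G) = g * x * (g : G)⁻¹ := rfl

/-- an element of prime order `p` normalizing `N ≠ ⊥` with `N ⊓ C(g) = ⊥` induces a fixed point
free automorphism of order `p`. -/
theorem conjHom_fpf_orderOf (N : Subgroup G) (g : G) (hg : g ∈ Subgroup.normalizer (N : Set G))
    (hC : N ⊓ Subgroup.centralizer {g} = ⊥) (hN : N ≠ ⊥) (p : ℕ) (hp : p.Prime)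
    (hord : orderOf g = p) :
    MonoidHom.FixedPointFree ((conjHom N ⟨g, hg⟩ : N ≃* N) : N →* N) ∧
      orderOf (conjHom N ⟨g, hg⟩ : N ≃* N) = p := by
  have hfpf : MonoidHom.FixedPointFree ((conjHom N ⟨g, hg⟩ : N ≃* N) : N →* N) := by
    intro x hx
    have h1 : g * (x : G) * g⁻¹ = x := by
      have := congrArg Subtype.val hx
      exact this
    have h2 : (x : G) ∈ N ⊓ Subgroup.centralizer {g} := by
      refine Subgroup.mem_inf.mpr ⟨x.2, ?_⟩
      rw [Subgroup.mem_centralizer_iff]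
      intro y hy
      rw [Set.mem_singleton_iff] at hy
      subst hy
      calc y * (x : G) = (y * x * y⁻¹) * y := by group
        _ = x * y := by rw [h1]
    rw [hC, Subgroup.mem_bot] at h2
    exact Subtype.ext h2
  refine ⟨hfpf, ?_⟩
  have hdvd : orderOf (conjHom N ⟨g, hg⟩ : N ≃* N) ∣ p := by
    apply orderOf_dvd_of_pow_eq_one
    rw [← map_pow]
    have : (⟨g, hg⟩ : Subgroup.normalizer (N : Set G)) ^ p = 1 := by
      apply Subtype.ext
      rw [Subgroup.coe_pow, Subgroup.coe_one]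
      show g ^ p = 1
      rw [← hord]; exact pow_orderOf_eq_one g
    rw [this, map_one]
  rcases (Nat.dvd_prime hp).mp hdvd with h | h
  · exfalso
    apply hN
    rw [eq_bot_iff]
    intro x hx
    rw [Subgroup.mem_bot]
    have h1 : (conjHom N ⟨g, hg⟩ : N ≃* N) = 1 := orderOf_eq_one_iff.mp h
    have h2 : (conjHom N ⟨g, hg⟩ : N ≃* N) ⟨x, hx⟩ = ⟨x, hx⟩ := by rw [h1]; rfl
    exact congrArg Subtype.val (hfpf ⟨x, hx⟩ h2)
  · exact h

end general

variable {G Ω : Type*} [Group G] [MulAction G Ω] {a : Ω} {t : G} {Q : Subgroup G}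

theorem K_pow {k : G} (hk : k ∈ Cfsg.invertedBy (stabilizer G a ⊓ stabilizer G (t • a)) t) (n : ℕ) :
    k ^ n ∈ Cfsg.invertedBy (stabilizer G a ⊓ stabilizer G (t • a)) t := by
  obtain ⟨h1, h2⟩ := hk
  refine ⟨Subgroup.pow_mem _ h1 n, ?_⟩
  have : t * k ^ n * t⁻¹ = (t * k * t⁻¹) ^ n := by
    rw [conj_pow]
  rw [this, h2, inv_pow]

/-- two distinct involutions in `G_a`. -/
theorem exists_two_involutions_Ga [Finite G] (hS : Cfsg.IsRankOneSetup G Ω a t Q)
    (h2 : ∃ x y : G, x ≠ 1 ∧ y ≠ 1 ∧ x ≠ y ∧ x * x = 1 ∧ y * y = 1 ∧ x * y = y * x) :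
    ∃ s s' : G, s ∈ Cfsg.involutionsIn (stabilizer G a : Set G) ∧
      s' ∈ Cfsg.involutionsIn (stabilizer G a : Set G) ∧ s ≠ s' := by
  obtain ⟨x, y, hx1, hy1, hxy, hxx, hyy, hcomm⟩ := h2
  obtain ⟨c, hc, hyc⟩ := common_fixed_point hS hx1 hxx hcomm
  have := isPretransitive hS
  obtain ⟨g, hg⟩ := MulAction.exists_smul_eq G c a
  refine ⟨g * x * g⁻¹, g * y * g⁻¹, ⟨?_, ?_, ?_⟩, ⟨?_, ?_, ?_⟩, ?_⟩
  · rw [SetLike.mem_coe, mem_stabilizer_iff, mul_smul, mul_smul, ← hg, inv_smul_smul, hc]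
  · intro h; apply hx1
    have e : x = g⁻¹ * (g * x * g⁻¹) * g := by group
    rw [e, h]; group
  · exact Cfsg.Agent.Lib.H6.conj_mul_self hxx g
  · rw [SetLike.mem_coe, mem_stabilizer_iff, mul_smul, mul_smul, ← hg, inv_smul_smul, hyc]
  · intro h; apply hy1
    have e : y = g⁻¹ * (g * y * g⁻¹) * g := by group
    rw [e, h]; group
  · exact Cfsg.Agent.Lib.H6.conj_mul_self hyy g
  · intro h; apply hxy
    have e : x = g⁻¹ * (g * x * g⁻¹) * g := by group
    rw [e, h]; group

/-- there is an element of prime order inverted by `t` in `D`. -/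
theorem exists_K_prime_order [Finite G] (hS : Cfsg.IsRankOneSetup G Ω a t Q)
    (h2 : ∃ x y : G, x ≠ 1 ∧ y ≠ 1 ∧ x ≠ y ∧ x * x = 1 ∧ y * y = 1 ∧ x * y = y * x) :
    ∃ k ∈ Cfsg.invertedBy (stabilizer G a ⊓ stabilizer G (t • a)) t, ∃ p : ℕ, p.Prime ∧
      orderOf k = p := by
  obtain ⟨s, s', hs, hs', hne⟩ := exists_two_involutions_Ga hS h2
  obtain ⟨k, hk, hks⟩ := exists_K_conj hS hs hs'
  have hk1 : k ≠ 1 := by
    rintro rfl
    apply hne
    rw [← hks]; group
  have hord : orderOf k ≠ 1 := by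
    intro h; exact hk1 (orderOf_eq_one_iff.mp h)
  obtain ⟨p, hp, hpd⟩ := Nat.exists_prime_and_dvd hord
  obtain ⟨m, hm⟩ := hpd
  refine ⟨k ^ m, K_pow hk m, p, hp, ?_⟩
  have hpos : 0 < orderOf k := orderOf_pos k
  have hmpos : 0 < m := by
    rcases Nat.eq_zero_or_pos m with h | h
    · rw [h, mul_zero] at hm; omega
    · exact h
  rw [orderOf_pow' k hmpos.ne', hm, Nat.gcd_eq_right (Dvd.intro_left p rfl)]
  exact Nat.mul_div_cancel p hmpos

end Cfsg.Agent.Lib.H6.RankOne
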