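import Mathlib
import Cfsg.Prelude.Def_LieRecognition
import Cfsg.Agent.Lib.H6.RankOne7

set_option autoImplicit false

namespace Cfsg.Agent.Lib.H6.RankOne

open MulAction

section general

variable {G : Type*} [Group G]

/-- in odd order, an element commuting with `k ^ 2` commutes with `k`. -/
theorem commute_of_sq_commute {k z : G} (hodd : Odd (orderOf k)) (h : Commute (k ^ 2) z) :
    Commute k z := by
  obtain ⟨m, hm⟩ := hodd
  have e : k = (k ^ 2) ^ (m + 1) := by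
    rw [← pow_mul, show 2 * (m + 1) = orderOf k + 1 by omega, pow_succ, pow_orderOf_eq_one, one_mul]
  rw [e]
  exact h.pow_left _

/-- square roots in odd order. -/
theorem exists_sqrt_of_odd {y : G} (hodd : Odd (orderOf y)) : ∃ m : ℕ, (y ^ m) ^ 2 = y := by
  obtain ⟨m, hm⟩ := hodd
  refine ⟨m + 1, ?_⟩
  rw [← pow_mul, show (m + 1) * 2 = orderOf y + 1 by omega, pow_succ, pow_orderOf_eq_one, one_mul]

end general

variable {G Ω : Type*} [Group G] [MulAction G Ω] {a : Ω} {t : G} {Q : Subgroup G}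

theorem odd_orderOf_D [Finite G] (hS : Cfsg.IsRankOneSetup G Ω a t Q) {d : G}
    (hd : d ∈ stabilizer G a ⊓ stabilizer G (t • a)) : Odd (orderOf d) := by
  have h1 : orderOf (⟨d, hd⟩ : (stabilizer G a ⊓ stabilizer G (t • a) : Subgroup G)) ∣
      Nat.card (stabilizer G a ⊓ stabilizer G (t • a) : Subgroup G) := orderOf_dvd_natCard _
  rw [← Subgroup.orderOf_coe] at h1
  exact Odd.of_dvd_nat hS.odd_card h1

/-- `D = K V`: every element of `D` is `k v`, `k` inverted by `t`, `v` centralizing `t`. -/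
theorem exists_K_V [Finite G] (hS : Cfsg.IsRankOneSetup G Ω a t Q) {d : G}
    (hd : d ∈ stabilizer G a ⊓ stabilizer G (t • a)) :
    ∃ k ∈ Cfsg.invertedBy (stabilizer G a ⊓ stabilizer G (t • a)) t,
      ∃ v ∈ (stabilizer G a ⊓ stabilizer G (t • a)) ⊓ Subgroup.centralizer {t}, d = k * v := by
  have htinv := t_inv hS
  obtain ⟨y, hy⟩ : ∃ y, y = d * (t * d * t⁻¹)⁻¹ := ⟨_, rfl⟩
  have hyD : y ∈ stabilizer G a ⊓ stabilizer G (t • a) := by
    rw [hy]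
    exact Subgroup.mul_mem _ hd (Subgroup.inv_mem _ (t_conj_mem_D' hS hd))
  have hyK : y ∈ Cfsg.invertedBy (stabilizer G a ⊓ stabilizer G (t • a)) t := by
    refine ⟨hyD, ?_⟩
    rw [hy]
    have e : t * (d * (t * d * t⁻¹)⁻¹) * t⁻¹ = (t * d * t⁻¹) * (t * t) * d⁻¹ * (t⁻¹ * t⁻¹) := by group
    rw [e, htinv, hS.mul_self]
    group
  obtain ⟨m, hm⟩ := exists_sqrt_of_odd (odd_orderOf_D hS hyD)
  have hkK := K_pow hyK m
  refine ⟨y ^ m, hkK, (y ^ m)⁻¹ * d, ?_, by group⟩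
  have hvD : (y ^ m)⁻¹ * d ∈ stabilizer G a ⊓ stabilizer G (t • a) :=
    Subgroup.mul_mem _ (Subgroup.inv_mem _ hkK.1) hd
  refine Subgroup.mem_inf.mpr ⟨hvD, ?_⟩
  rw [Subgroup.mem_centralizer_iff]
  intro z hz
  rw [Set.mem_singleton_iff] at hz
  subst hz
  -- t v t⁻¹ = v
  have h1 : z * (y ^ m)⁻¹ * z⁻¹ = y ^ m := by
    have : z * (y ^ m)⁻¹ * z⁻¹ = (z * (y ^ m) * z⁻¹)⁻¹ := by group
    rw [this, hkK.2, inv_inv]
  have h2 : z * d * z⁻¹ = y⁻¹ * d := by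
    rw [hy]; group
  have h3 : z * ((y ^ m)⁻¹ * d) * z⁻¹ = (y ^ m)⁻¹ * d := by
    have : z * ((y ^ m)⁻¹ * d) * z⁻¹ = (z * (y ^ m)⁻¹ * z⁻¹) * (z * d * z⁻¹) := by group
    rw [this, h1, h2]
    have e : y ^ m * (y⁻¹ * d) = (y ^ m)⁻¹ * ((y ^ m) ^ 2 * y⁻¹) * d := by group
    rw [e, hm]; group
  calc z * ((y ^ m)⁻¹ * d) = (z * ((y ^ m)⁻¹ * d) * z⁻¹) * z := by group
    _ = (y ^ m)⁻¹ * d * z := by rw [h3]

/-- `V = C_D(t)` fixes the fixed point of `t`. -/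
theorem V_smul_fix [Finite G] (hS : Cfsg.IsRankOneSetup G Ω a t Q) {v : G}
    (hv : v ∈ Subgroup.centralizer {t}) {c : Ω} (hc : t • c = c) : v • c = c := by
  rw [Subgroup.mem_centralizer_iff] at hv
  have := hv t rfl
  exact smul_eq_of_commute hS hS.ne_one hS.mul_self hc this

/-- `G`-conjugacy of subsets of `V = C_D(t)` is realised by `V`, pointwise. -/
theorem exists_V_conj [Finite G] (hS : Cfsg.IsRankOneSetup G Ω a t Q)
    (X : Set G) (hX : X ⊆ (((stabilizer G a ⊓ stabilizer G (t • a)) ⊓ Subgroup.centralizer {t} : Subgroup G) : Set G))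
    (g : G)
    (hY : (fun x => g * x * g⁻¹) '' X ⊆ (((stabilizer G a ⊓ stabilizer G (t • a)) ⊓ Subgroup.centralizer {t} : Subgroup G) : Set G)) :
    ∃ v ∈ (stabilizer G a ⊓ stabilizer G (t • a)) ⊓ Subgroup.centralizer {t},
      ∀ x ∈ X, v * x * v⁻¹ = g * x * g⁻¹ := by
  have htinv := t_inv hS
  have hXD : X ⊆ ((stabilizer G a ⊓ stabilizer G (t • a) : Subgroup G) : Set G) :=
    fun x hx => (Subgroup.mem_inf.mp (hX hx)).1
  have hXt : ∀ x ∈ X, x ∈ Subgroup.centralizer {t} := fun x hx => (Subgroup.mem_inf.mp (hX hx)).2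
  obtain ⟨p, hp, hpa, hpb⟩ := exists_t_fix hS
  have hfa : ∀ x ∈ X, x • a = a := fun x hx =>
    mem_stabilizer_iff.mp (Subgroup.mem_inf.mp (hXD hx)).1
  have hfb : ∀ x ∈ X, x • (t • a) = t • a := fun x hx =>
    mem_stabilizer_iff.mp (Subgroup.mem_inf.mp (hXD hx)).2
  have hfp : ∀ x ∈ X, x • p = p := fun x hx => V_smul_fix hS (hXt x hx) hp
  have h3 : ∃ b c d : Ω, b ≠ c ∧ b ≠ d ∧ c ≠ d ∧ ∀ x ∈ X, x • b = b ∧ x • c = c ∧ x • d = d :=
    ⟨a, t • a, p, (ta_ne hS).symm, hpa.symm, hpb.symm, fun x hx => ⟨hfa x hx, hfb x hx, hfp x hx⟩⟩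
  have hYmem : ∀ x ∈ X, g * x * g⁻¹ ∈ (stabilizer G a ⊓ stabilizer G (t • a)) ⊓ Subgroup.centralizer {t} :=
    fun x hx => hY ⟨x, hx, rfl⟩
  have hga : ∀ x ∈ X, x • (g⁻¹ • a) = g⁻¹ • a := by
    intro x hx
    have := mem_stabilizer_iff.mp (Subgroup.mem_inf.mp (Subgroup.mem_inf.mp (hYmem x hx)).1).1
    rw [mul_smul, mul_smul] at this
    calc x • (g⁻¹ • a) = g⁻¹ • (g • (x • (g⁻¹ • a))) := (inv_smul_smul g _).symm
      _ = g⁻¹ • a := by rw [this]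
  have hgb : ∀ x ∈ X, x • (g⁻¹ • (t • a)) = g⁻¹ • (t • a) := by
    intro x hx
    have := mem_stabilizer_iff.mp (Subgroup.mem_inf.mp (Subgroup.mem_inf.mp (hYmem x hx)).1).2
    rw [mul_smul, mul_smul] at this
    calc x • (g⁻¹ • (t • a)) = g⁻¹ • (g • (x • (g⁻¹ • (t • a)))) := (inv_smul_smul g _).symm
      _ = g⁻¹ • (t • a) := by rw [this]
  have hne : g⁻¹ • a ≠ g⁻¹ • (t • a) := by
    intro h
    exact (ta_ne hS).symm (MulAction.injective g⁻¹ h)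
  obtain ⟨c, hcC, hca, hcb⟩ := centralizer_two_transitive hS hXD h3 hfa hfb hga hgb
    (ta_ne hS).symm hne
  have hdD : g * c ∈ stabilizer G a ⊓ stabilizer G (t • a) := by
    rw [Subgroup.mem_inf, mem_stabilizer_iff, mem_stabilizer_iff, mul_smul, mul_smul, hca, hcb,
      smul_inv_smul, smul_inv_smul]
    exact ⟨rfl, rfl⟩
  have hdx : ∀ x ∈ X, (g * c) * x * (g * c)⁻¹ = g * x * g⁻¹ := by
    intro x hx
    rw [Subgroup.mem_centralizer_iff] at hcC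
    have := hcC x hx
    calc (g * c) * x * (g * c)⁻¹ = g * (c * x) * c⁻¹ * g⁻¹ := by group
      _ = g * (x * c) * c⁻¹ * g⁻¹ := by rw [this]
      _ = g * x * g⁻¹ := by group
  obtain ⟨k, hk, v, hv, hdkv⟩ := exists_K_V hS hdD
  refine ⟨v, hv, ?_⟩
  intro x hx
  rw [← hdx x hx, hdkv]
  obtain ⟨x', hx'⟩ : ∃ x', x' = v * x * v⁻¹ := ⟨_, rfl⟩
  have hx'V : x' ∈ (stabilizer G a ⊓ stabilizer G (t • a)) ⊓ Subgroup.centralizer {t} := by
    rw [hx']
    exact Subgroup.mul_mem _ (Subgroup.mul_mem _ hv (hX hx)) (Subgroup.inv_mem _ hv)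
  have hkx' : k * x' * k⁻¹ ∈ Subgroup.centralizer {t} := by
    have := (Subgroup.mem_inf.mp (hYmem x hx)).2
    rw [← hdx x hx, hdkv] at this
    have e : k * v * x * (k * v)⁻¹ = k * (v * x * v⁻¹) * k⁻¹ := by group
    rw [e, ← hx'] at this
    exact this
  have hx't : t * x' * t⁻¹ = x' := by
    have := (Subgroup.mem_centralizer_iff.mp (Subgroup.mem_inf.mp hx'V).2) t rfl
    calc t * x' * t⁻¹ = (x' * t) * t⁻¹ := by rw [this]
      _ = x' := by group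
  have hkt : t * (k * x' * k⁻¹) * t⁻¹ = k * x' * k⁻¹ := by
    have := (Subgroup.mem_centralizer_iff.mp hkx') t rfl
    calc t * (k * x' * k⁻¹) * t⁻¹ = ((k * x' * k⁻¹) * t) * t⁻¹ := by rw [this]
      _ = k * x' * k⁻¹ := by group
  have hkt2 : t * (k * x' * k⁻¹) * t⁻¹ = k⁻¹ * x' * k := by
    have e : t * (k * x' * k⁻¹) * t⁻¹ = (t * k * t⁻¹) * (t * x' * t⁻¹) * (t * k * t⁻¹)⁻¹ := by group
    rw [e, hk.2, hx't, inv_inv]
  have hcomm2 : Commute (k ^ 2) x' := by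
    rw [hkt] at hkt2
    show k ^ 2 * x' = x' * k ^ 2
    rw [pow_two]
    calc k * k * x' = k * (k * x' * k⁻¹) * k := by group
      _ = k * (k⁻¹ * x' * k) * k := by rw [hkt2]
      _ = x' * (k * k) := by group
  have hcomm := commute_of_sq_commute (odd_orderOf_D hS hk.1) hcomm2
  have e : k * v * x * (k * v)⁻¹ = k * (v * x * v⁻¹) * k⁻¹ := by group
  rw [e, ← hx', hcomm.eq]
  group

end Cfsg.Agent.Lib.H6.RankOne
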