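import Mathlib
import Cfsg.Agent.Lib.H1.NilpotentBasic

set_option autoImplicit false

namespace Cfsg.Agent.Lib.H6.RankOne

/-- a finite nilpotent group of even order has a central involution. -/
theorem exists_central_involution_of_nilpotent {H : Type*} [Group H] [Finite H]
    [hnil : Group.IsNilpotent H] (heven : Even (Nat.card H)) :
    ∃ z : H, z ≠ 1 ∧ z * z = 1 ∧ ∀ x : H, z * x = x * z := by
  classical
  have : Fact (Nat.Prime 2) := ⟨Nat.prime_two⟩
  obtain P : Sylow 2 H := default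
  have hPn : (P : Subgroup H).Normal :=
    Sylow.normal_of_normalizerCondition Group.normalizerCondition_of_isNilpotent P
  have hPne : (P : Subgroup H) ≠ ⊥ := P.ne_bot_of_dvd_card (even_iff_two_dvd.mp heven)
  have hne := Cfsg.Agent.Lib.H1.normal_inf_center_ne_bot (P : Subgroup H) hPne
  obtain ⟨⟨z, hz⟩, hz1'⟩ := (Subgroup.ne_bot_iff_exists_ne_one).mp hne
  have hz1 : z ≠ 1 := fun h => hz1' (Subtype.ext h)
  obtain ⟨hzP, hzZ⟩ := Subgroup.mem_inf.mp hz
  -- order of z is a power of 2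
  obtain ⟨k, hk⟩ := (P.2 ⟨z, hzP⟩)
  have hk' : z ^ 2 ^ k = 1 := by
    have := congrArg Subtype.val hk
    simpa using this
  obtain ⟨j, hjle, hj⟩ := (Nat.dvd_prime_pow Nat.prime_two).mp (orderOf_dvd_of_pow_eq_one hk')
  have hj0 : j ≠ 0 := by
    rintro rfl
    rw [pow_zero] at hj
    exact hz1 (orderOf_eq_one_iff.mp hj)
  obtain ⟨i, rfl⟩ := Nat.exists_eq_succ_of_ne_zero hj0
  refine ⟨z ^ 2 ^ i, ?_, ?_, ?_⟩
  · intro h
    have := orderOf_dvd_of_pow_eq_one h
    rw [hj, Nat.succ_eq_add_one, pow_succ] at this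
    have h2 : 2 ^ i * 2 ≤ 2 ^ i := Nat.le_of_dvd (by positivity) this
    have : 0 < 2 ^ i := by positivity
    omega
  · rw [← pow_add, ← two_mul, mul_comm, ← pow_succ, ← Nat.succ_eq_add_one, ← hj]
    exact pow_orderOf_eq_one z
  · intro x
    have hc : Commute z x := (Subgroup.mem_center_iff.mp hzZ x).symm
    exact (hc.pow_left _).eq

end Cfsg.Agent.Lib.H6.RankOne
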