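import Mathlib
import Cfsg.Prelude.Def_LieRecognition
import Cfsg.Agent.Lib.H6.RankOne9
import Cfsg.Agent.S1121
import Cfsg.Agent.S1130

set_option autoImplicit false

namespace Cfsg.Agent.Lib.H6.RankOne

open MulAction

section parity

variable {α : Type*} [Finite α]

theorem card_modEq_fixed_of_involutive (f : α → α) (hf : ∀ x, f (f x) = x) :
    Nat.card α ≡ Nat.card {x : α // f x = x} [MOD 2] := by
  classical
  have := Fintype.ofFinite α
  have : Fact (Nat.Prime 2) := ⟨Nat.prime_two⟩
  obtain ⟨F, hF⟩ : ∃ F : Function.End α, F = f := ⟨f, rfl⟩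
  have h1 : F ^ 2 ^ 1 = 1 := by
    rw [pow_one, pow_two]
    funext x
    show F (F x) = x
    rw [hF]
    exact hf x
  have h2 := Equiv.Perm.card_fixedPoints_modEq (f := F) (p := 2) (n := 1) h1
  rw [hF] at h2
  rw [Nat.card_eq_fintype_card, Nat.card_eq_fintype_card]
  refine h2.trans ?_
  have : Fintype.card (Function.fixedPoints f) = Fintype.card {x : α // f x = x} := by
    apply Fintype.card_congr
    exact Equiv.subtypeEquivRight (fun x => Iff.rfl)
  rw [this]

theorem even_card_of_involutive_no_fix (f : α → α) (hf : ∀ x, f (f x) = x) (hnf : ∀ x, f x ≠ x) :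
    Even (Nat.card α) := by
  have h := card_modEq_fixed_of_involutive f hf
  have : IsEmpty {x : α // f x = x} := ⟨fun x => hnf x.1 x.2⟩
  have h0 : Nat.card {x : α // f x = x} = 0 := Nat.card_of_isEmpty
  rw [h0] at h
  exact Nat.even_iff.mpr h

theorem odd_card_of_involutive_unique_fix (f : α → α) (hf : ∀ x, f (f x) = x) (e : α)
    (he : f e = e) (huniq : ∀ x, f x = x → x = e) : Odd (Nat.card α) := by
  have h := card_modEq_fixed_of_involutive f hf
  have : Nat.card {x : α // f x = x} = 1 := by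
    rw [Nat.card_eq_one_iff_unique]
    exact ⟨⟨fun x y => Subtype.ext ((huniq x.1 x.2).trans (huniq y.1 y.2).symm)⟩, ⟨⟨e, he⟩⟩⟩
  rw [this] at h
  exact Nat.odd_iff.mpr h

end parity

variable {G Ω : Type*} [Group G] [MulAction G Ω] {a : Ω} {t : G} {Q : Subgroup G}

theorem finite_Omega [Finite G] (hS : Cfsg.IsRankOneSetup G Ω a t Q) : Finite Ω := by
  have := card_Omega hS
  apply Nat.finite_of_card_ne_zero
  omega

/-- two involutions with a common fixed point have a product squaring to one. -/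
theorem mul_sq_of_common_fix [Finite G] [FaithfulSMul G Ω] (hS : Cfsg.IsRankOneSetup G Ω a t Q)
    (h2 : ∃ x y : G, x ≠ 1 ∧ y ≠ 1 ∧ x ≠ y ∧ x * x = 1 ∧ y * y = 1 ∧ x * y = y * x)
    {u v : G} (hu1 : u ≠ 1) (huu : u * u = 1) (hv1 : v ≠ 1) (hvv : v * v = 1) {c : Ω}
    (huc : u • c = c) (hvc : v • c = c) : (u * v) * (u * v) = 1 := by
  have := isPretransitive hS
  obtain ⟨g, hg⟩ := MulAction.exists_smul_eq G c a
  have hu' : g * u * g⁻¹ ∈ Cfsg.involutionsIn (stabilizer G a : Set G) := by
    refine ⟨?_, ?_, Cfsg.Agent.Lib.H6.conj_mul_self huu g⟩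
    · rw [SetLike.mem_coe, mem_stabilizer_iff, mul_smul, mul_smul, ← hg, inv_smul_smul, huc]
    · intro h; apply hu1
      have e : u = g⁻¹ * (g * u * g⁻¹) * g := by group
      rw [e, h]; group
  have hv' : g * v * g⁻¹ ∈ Cfsg.involutionsIn (stabilizer G a : Set G) := by
    refine ⟨?_, ?_, Cfsg.Agent.Lib.H6.conj_mul_self hvv g⟩
    · rw [SetLike.mem_coe, mem_stabilizer_iff, mul_smul, mul_smul, ← hg, inv_smul_smul, hvc]
    · intro h; apply hv1
      have e : v = g⁻¹ * (g * v * g⁻¹) * g := by group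
      rw [e, h]; group
  have key : (g * u * g⁻¹ * (g * v * g⁻¹)) * (g * u * g⁻¹ * (g * v * g⁻¹)) = 1 := by
    rcases (Cfsg.Agent.S1130.result hS h2).2 _ hu' _ hv' with h | h
    · rw [h, one_mul]
    · exact h.2.2
  have e : (u * v) * (u * v) = g⁻¹ * ((g * u * g⁻¹ * (g * v * g⁻¹)) * (g * u * g⁻¹ * (g * v * g⁻¹))) * g := by
    group
  rw [e, key]; group

/-- `t` commutes with an element moving any given point (other than the fixed point of `t`) to `a`. -/
theorem exists_centralizer_t_smul [Finite G] [FaithfulSMul G Ω] (hS : Cfsg.IsRankOneSetup G Ω a t Q)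
    (h2 : ∃ x y : G, x ≠ 1 ∧ y ≠ 1 ∧ x ≠ y ∧ x * x = 1 ∧ y * y = 1 ∧ x * y = y * x)
    {b : Ω} (hb : t • b ≠ b) : ∃ r : G, r * t = t * r ∧ r • b = a := by
  obtain ⟨p, hp, hpa, hpb⟩ := exists_t_fix hS
  have := isPretransitive hS
  obtain ⟨g, hg⟩ := MulAction.exists_smul_eq G a p
  have hS' := setup_conj hS g
  rw [hg] at hS'
  have htI : t ∈ Cfsg.involutionsIn (stabilizer G p : Set G) :=
    ⟨mem_stabilizer_iff.mpr hp, hS.ne_one, hS.mul_self⟩
  obtain ⟨-, hcomm⟩ := (Cfsg.Agent.S1130.result hS' h2).1 t htI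
  have hbp : b ≠ p := by
    rintro rfl
    exact hb hp
  obtain ⟨⟨r, hr⟩, hrb, -⟩ := Q_regular hS' hbp hpa.symm
  exact ⟨r, (hcomm r hr).symm, hrb⟩

/-- the main lemma for products of two involutions. -/
theorem mul_involutions [Finite G] [FaithfulSMul G Ω] (hS : Cfsg.IsRankOneSetup G Ω a t Q)
    (h2 : ∃ x y : G, x ≠ 1 ∧ y ≠ 1 ∧ x ≠ y ∧ x * x = 1 ∧ y * y = 1 ∧ x * y = y * x)
    (u v : G) (hu1 : u ≠ 1) (huu : u * u = 1) (hv1 : v ≠ 1) (hvv : v * v = 1)
    (hx : (u * v) * (u * v) ≠ 1) :
    (∃ g : G, ∃ u' ∈ Cfsg.involutionsIn (stabilizer G a : Set G), g * (u * v) * g⁻¹ = u' * t) ∧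
      Odd (Nat.card ↥(Subgroup.centralizer {u * v})) := by
  classical
  have hfin := finite_Omega hS
  have huinv : u⁻¹ = u := inv_eq_of_mul_eq_one_right huu
  have hvinv : v⁻¹ = v := inv_eq_of_mul_eq_one_right hvv
  -- no common fixed point
  have hnocommon : ∀ c : Ω, u • c = c → v • c ≠ c := by
    intro c huc hvc
    exact hx (mul_sq_of_common_fix hS h2 hu1 huu hv1 hvv huc hvc)
  constructor
  · obtain ⟨g₁, hg₁⟩ := (Cfsg.Agent.S1121.result hS).2 v t hv1 hvv hS.ne_one hS.mul_self
    obtain ⟨b, hb⟩ := exists_fixed_point hS u huu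
    have hb' : t • (g₁ • b) ≠ g₁ • b := by
      intro h
      apply hnocommon b hb
      rw [← hg₁, mul_smul, mul_smul, inv_smul_smul] at h
      exact MulAction.injective g₁ h
    obtain ⟨r, hrt, hrb⟩ := exists_centralizer_t_smul hS h2 hb'
    refine ⟨r * g₁, (r * g₁) * u * (r * g₁)⁻¹, ⟨?_, ?_, Cfsg.Agent.Lib.H6.conj_mul_self huu _⟩, ?_⟩
    · rw [SetLike.mem_coe, mem_stabilizer_iff, mul_smul, mul_smul]
      have : (r * g₁)⁻¹ • a = b := by
        rw [← hrb, ← mul_smul, ← mul_smul]
        have : (r * g₁)⁻¹ * r * g₁ = 1 := by group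
        rw [this, one_smul]
      rw [this, hb, ← this, smul_inv_smul]
    · intro h; apply hu1
      have e : u = (r * g₁)⁻¹ * ((r * g₁) * u * (r * g₁)⁻¹) * (r * g₁) := by group
      rw [e, h]; group
    · have e : r * g₁ * (u * v) * (r * g₁)⁻¹ = (r * g₁ * u * (r * g₁)⁻¹) * (r * (g₁ * v * g₁⁻¹) * r⁻¹) := by
        group
      rw [e, hg₁, hrt]
      group
  · by_contra hodd
    rw [Nat.not_odd_iff_even] at hodd
    have : Fact (Nat.Prime 2) := ⟨Nat.prime_two⟩
    obtain ⟨⟨w, hwC⟩, hw⟩ := exists_prime_orderOf_dvd_card' 2 (even_iff_two_dvd.mp hodd)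
    have hw2 : orderOf w = 2 := by
      rw [← hw, Subgroup.orderOf_mk]
    have hw1 : w ≠ 1 := by
      rintro rfl
      rw [orderOf_one] at hw2; omega
    have hww : w * w = 1 := by
      rw [← pow_two, ← hw2]; exact pow_orderOf_eq_one w
    have hwx : w * (u * v) = (u * v) * w := by
      rw [Subgroup.mem_centralizer_iff] at hwC
      exact (hwC (u * v) rfl).symm
    -- the fixed points of x
    let F := {e : Ω // (u * v) • e = e}
    have hxu : ∀ e : Ω, (u * v) • e = e → (u * v) • (u • e) = u • e := by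
      intro e he
      have h1 : (v * u) • e = e := by
        have : (v * u) = (u * v)⁻¹ := by rw [mul_inv_rev, huinv, hvinv]
        rw [this, inv_smul_eq_iff, he]
      calc (u * v) • (u • e) = u • ((v * u) • e) := by rw [← mul_smul, ← mul_smul, mul_assoc]
        _ = u • e := by rw [h1]
    have hxw : ∀ e : Ω, (u * v) • e = e → (u * v) • (w • e) = w • e := by
      intro e he
      rw [← mul_smul, ← hwx, mul_smul, he]
    let fu : F → F := fun e => ⟨u • e.1, hxu e.1 e.2⟩
    let fw : F → F := fun e => ⟨w • e.1, hxw e.1 e.2⟩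
    have hfu : ∀ e, fu (fu e) = e := by
      intro e
      apply Subtype.ext
      show u • (u • e.1) = e.1
      rw [← mul_smul, huu, one_smul]
    have hfw : ∀ e, fw (fw e) = e := by
      intro e
      apply Subtype.ext
      show w • (w • e.1) = e.1
      rw [← mul_smul, hww, one_smul]
    have heven : Even (Nat.card F) := by
      apply even_card_of_involutive_no_fix fu hfu
      intro e he
      have hue : u • e.1 = e.1 := congrArg Subtype.val he
      apply hnocommon e.1 hue
      calc v • e.1 = (u * (u * v)) • e.1 := by rw [← mul_assoc, huu, one_mul]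
        _ = u • ((u * v) • e.1) := mul_smul _ _ _
        _ = u • e.1 := by rw [e.2]
        _ = e.1 := hue
    obtain ⟨c, hc⟩ := exists_fixed_point hS w hww
    have hxc : (u * v) • c = c := by
      apply fixed_point_unique hS hw1 hww ?_ hc
      rw [← mul_smul, hwx, mul_smul, hc]
    have hoddF : Odd (Nat.card F) := by
      apply odd_card_of_involutive_unique_fix fw hfw ⟨c, hxc⟩
      · apply Subtype.ext; exact hc
      · intro e he
        apply Subtype.ext
        have hwe : w • e.1 = e.1 := congrArg Subtype.val he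
        exact fixed_point_unique hS hw1 hww hwe hc
    exact (Nat.not_even_iff_odd.mpr hoddF) heven

end Cfsg.Agent.Lib.H6.RankOne
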