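import Cfsg.Agent.Lib.H12.ReeU5
import Cfsg.Agent.Lib.H7.ReeD3b

/-!
# REE-F4a (helper6, for helper12's Ree tori project): the normaliser of a cyclic subgroup of order
`(q+1)/4` of a Ree group has order `6 (q+1)`, and it is the normaliser of each of its non-trivial subgroups.
-/

set_option autoImplicit false
set_option linter.unusedSectionVars false
set_option linter.unusedSimpArgs false
set_option linter.unusedVariables false

namespace Cfsg.Agent.Lib.H6.Ree

open Cfsg.Agent.Lib.H12.ReeC Cfsg.Agent.Lib.H12.ReeC.RSys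

section Generic

variable {Γ : Type*} [Group Γ]

theorem f4_conj_pow_eq_one_iff (g x : Γ) (d : ℕ) : (g * x * g⁻¹) ^ d = 1 ↔ x ^ d = 1 := by
  rw [conj_pow]
  constructor
  · intro h
    have h1 : x ^ d = g⁻¹ * (g * x ^ d * g⁻¹) * g := by group
    rw [h1, h]; group
  · intro h
    rw [h]; group

/-- the normaliser of a subgroup normalises its `d`-torsion -/
theorem f4_normalizer_le_of_torsion (C T : Subgroup Γ) (d : ℕ)
    (hT : ∀ u, u ∈ T ↔ u ∈ C ∧ u ^ d = 1) :
    Subgroup.normalizer (C : Set Γ) ≤ Subgroup.normalizer (T : Set Γ) := by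
  intro g hg
  rw [Subgroup.mem_normalizer_iff] at hg ⊢
  intro x
  rw [hT, hT, ← hg x, f4_conj_pow_eq_one_iff]

/-- the normaliser of a subgroup normalises its centraliser -/
theorem f4_normalizer_le_normalizer_centralizer (H : Subgroup Γ) :
    Subgroup.normalizer (H : Set Γ) ≤
      Subgroup.normalizer ((Subgroup.centralizer (H : Set Γ) : Subgroup Γ) : Set Γ) := by
  intro g hg
  rw [Subgroup.mem_normalizer_iff] at hg ⊢
  intro x
  rw [Subgroup.mem_centralizer_iff, Subgroup.mem_centralizer_iff]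
  constructor
  · intro hx h hh
    have hh' : h ∈ H := hh
    have h1 : g⁻¹ * h * g ∈ H := by
      rw [hg]
      have e : g * (g⁻¹ * h * g) * g⁻¹ = h := by group
      rw [e]; exact hh'
    have h2 := hx _ h1
    calc h * (g * x * g⁻¹) = g * (g⁻¹ * h * g * x) * g⁻¹ := by group
      _ = g * (x * (g⁻¹ * h * g)) * g⁻¹ := by rw [h2]
      _ = g * x * g⁻¹ * h := by group
  · intro hx h hh
    have hh' : h ∈ H := hh
    have h1 := hx _ ((hg h).mp hh')
    calc h * x = g⁻¹ * (g * h * g⁻¹ * (g * x * g⁻¹)) * g := by group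
      _ = g⁻¹ * ((g * x * g⁻¹) * (g * h * g⁻¹)) * g := by rw [h1]
      _ = x * h := by group

/-- in a finite cyclic group the equation `x ^ m = 1`, `m ∣ |G|`, has exactly `m` solutions -/
theorem f4_card_pow_eq_one_of_cyclic {Δ : Type*} [Group Δ] [Finite Δ] [IsCyclic Δ] (m : ℕ)
    (hm : m ∣ Nat.card Δ) : Nat.card {x : Δ // x ^ m = 1} = m := by
  let _ : CommGroup Δ := IsCyclic.commGroup
  have h := IsCyclic.card_powMonoidHom_ker Δ m
  rw [Nat.gcd_eq_right hm] at h
  calc Nat.card {x : Δ // x ^ m = 1} = Nat.card (powMonoidHom m : Δ →* Δ).ker := by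
        apply Nat.card_congr
        exact Equiv.subtypeEquivRight (fun x => by rw [MonoidHom.mem_ker, powMonoidHom_apply])
    _ = m := h

/-- a subgroup of a finite cyclic subgroup is its torsion subgroup for its own order -/
theorem f4_mem_iff_of_le_cyclic (C A₀ : Subgroup Γ) [Finite C] (hC : IsCyclic C) (h₀ : A₀ ≤ C) (u : Γ) :
    u ∈ A₀ ↔ u ∈ C ∧ u ^ (Nat.card A₀) = 1 := by
  constructor
  · intro hu
    refine ⟨h₀ hu, ?_⟩
    have h1 := pow_card_eq_one' (G := A₀) (x := ⟨u, hu⟩)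
    have h2 := congrArg Subtype.val h1
    rw [Subgroup.coe_pow, Subgroup.coe_one] at h2
    exact h2
  · rintro ⟨huC, hu⟩
    have hfin : Finite A₀ := Finite.of_injective (Subgroup.inclusion h₀) (Subgroup.inclusion_injective h₀)
    have hcard := f4_card_pow_eq_one_of_cyclic (Δ := C) (Nat.card A₀) (Subgroup.card_dvd_of_le h₀)
    let f : A₀ → {x : C // x ^ (Nat.card A₀) = 1} := fun a => ⟨⟨a.1, h₀ a.2⟩, by
      apply Subtype.ext
      have h1 := pow_card_eq_one' (G := A₀) (x := a)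
      have h2 := congrArg Subtype.val h1
      rw [Subgroup.coe_pow, Subgroup.coe_one] at h2
      rw [Subgroup.coe_pow, Subgroup.coe_one]
      exact h2⟩
    have hinj : Function.Injective f := by
      intro a b hab
      apply Subtype.ext
      exact congrArg (fun z : {x : C // x ^ (Nat.card A₀) = 1} => (z.1.1 : Γ)) hab
    have hbij : Function.Bijective f :=
      (Nat.bijective_iff_injective_and_card f).mpr ⟨hinj, hcard.symm⟩
    obtain ⟨a, ha⟩ := hbij.2 ⟨⟨u, huC⟩, Subtype.ext (by simpa using hu)⟩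
    have h3 : a.1 = u := congrArg (fun z : {x : C // x ^ (Nat.card A₀) = 1} => (z.1.1 : Γ)) ha
    rw [← h3]; exact a.2

/-- subgroups of a finite cyclic subgroup are normalised by its normaliser -/
theorem f4_normalizer_le_of_le_cyclic (C A₀ : Subgroup Γ) [Finite C] (hC : IsCyclic C) (h₀ : A₀ ≤ C) :
    Subgroup.normalizer (C : Set Γ) ≤ Subgroup.normalizer (A₀ : Set Γ) :=
  f4_normalizer_le_of_torsion C A₀ (Nat.card A₀) (f4_mem_iff_of_le_cyclic C A₀ hC h₀)

/-- the `d`-torsion of a commutative subgroup -/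
def f4Tor (C : Subgroup Γ) (hcomm : ∀ u ∈ C, ∀ v ∈ C, u * v = v * u) (d : ℕ) : Subgroup Γ where
  carrier := {u | u ∈ C ∧ u ^ d = 1}
  mul_mem' := by
    rintro u v ⟨hu, hu'⟩ ⟨hv, hv'⟩
    refine ⟨mul_mem hu hv, ?_⟩
    have hc : Commute u v := hcomm u hu v hv
    rw [hc.mul_pow, hu', hv', one_mul]
  one_mem' := ⟨one_mem C, one_pow d⟩
  inv_mem' := by
    rintro u ⟨hu, hu'⟩
    exact ⟨inv_mem hu, by rw [inv_pow, hu', inv_one]⟩

theorem f4_mem_Tor (C : Subgroup Γ) (hcomm : ∀ u ∈ C, ∀ v ∈ C, u * v = v * u) (d : ℕ) (u : Γ) :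
    u ∈ f4Tor C hcomm d ↔ u ∈ C ∧ u ^ d = 1 := Iff.rfl

end Generic

variable {G K : Type*} [Group G] [Field K] {R : RSys G K} [Fintype K] [Finite G]

/-- (1) a cyclic subgroup `A` of order `(q+1)/4` is the `(q+1)/4`-torsion of its centraliser -/
theorem f4_mem_A_iff {q : ℕ} (D : R.ReeData q) (hq27 : 27 ≤ q) (A : Subgroup G) (hA : IsCyclic A)
    (hAc : Nat.card A = (q + 1) / 4) (u : G) :
    u ∈ A ↔ u ∈ Subgroup.centralizer (A : Set G) ∧ u ^ ((q + 1) / 4) = 1 := by
  have hAcomm : ∀ u ∈ A, ∀ v ∈ A, u * v = v * u := by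
    intro u hu v hv
    letI := IsCyclic.commGroup (α := A)
    have h1 := mul_comm (⟨u, hu⟩ : A) ⟨v, hv⟩
    exact congrArg Subtype.val h1
  have hApow : ∀ u ∈ A, u ^ ((q + 1) / 4) = 1 := by
    intro u hu
    have h1 := pow_card_eq_one' (G := A) (x := ⟨u, hu⟩)
    have h2 := congrArg Subtype.val h1
    rw [Subgroup.coe_pow, Subgroup.coe_one, hAc] at h2
    exact h2
  have hAle : A ≤ Subgroup.centralizer (A : Set G) := by
    intro u hu
    rw [Subgroup.mem_centralizer_iff]
    intro h hh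
    exact hAcomm h hh u hu
  obtain ⟨⟨y, hyA⟩, hy⟩ := hA.exists_generator
  have hy1 : y ≠ 1 := by
    rintro rfl
    have hsub : Subsingleton A := by
      constructor
      intro a b
      have ha := hy a
      have hb := hy b
      have e1 : (⟨1, hyA⟩ : A) = 1 := rfl
      rw [e1, Subgroup.zpowers_one_eq_bot, Subgroup.mem_bot] at ha hb
      rw [ha, hb]
    have : Nat.card A = 1 := Nat.card_eq_one_iff_unique.mpr ⟨hsub, ⟨1⟩⟩
    omega
  have hye : y ^ ((q + 1) / 4) = 1 := hApow y hyA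
  obtain ⟨A', hcyc', hcard', hle', hmem'⟩ := D.tor_cyclic y hy1 hye
  have hAleCy : A ≤ Subgroup.centralizer {y} := by
    intro u hu
    rw [Subgroup.mem_centralizer_singleton_iff]
    exact hAcomm u hu y hyA
  have hAA' : A ≤ A' := fun u hu => hmem' u (hAleCy hu) (hApow u hu)
  have hfin' : Finite A' := inferInstance
  have hAeq : A = A' := Subgroup.eq_of_le_of_card_ge hAA' (by rw [hAc, hcard'])
  constructor
  · intro hu
    exact ⟨hAle hu, hApow u hu⟩
  · rintro ⟨hu, hue⟩
    rw [hAeq]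
    apply hmem' u _ hue
    rw [Subgroup.mem_centralizer_singleton_iff]
    exact ((Subgroup.mem_centralizer_iff.mp hu) y hyA).symm

/-- (2) the 2-torsion of a commutative subgroup of order `q + 1` has order 4 -/
theorem f4_card_V {q : ℕ} (D : R.ReeData q) (C : Subgroup G)
    (hcomm : ∀ u ∈ C, ∀ v ∈ C, u * v = v * u) (hCc : Nat.card C = q + 1) :
    Nat.card (f4Tor C hcomm 2) = 4 := by
  obtain ⟨k, hN, hk⟩ := D.two_part
  have : Fact (Nat.Prime 2) := ⟨Nat.prime_two⟩
  have hVle : f4Tor C hcomm 2 ≤ C := fun u hu => hu.1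
  have hVp : IsPGroup 2 (f4Tor C hcomm 2) := by
    rintro ⟨u, hu⟩
    refine ⟨1, ?_⟩
    apply Subtype.ext
    rw [Subgroup.coe_pow, Subgroup.coe_one, pow_one]
    exact hu.2
  obtain ⟨n, hn⟩ := hVp.exists_card_eq
  have hdvd : Nat.card (f4Tor C hcomm 2) ∣ q + 1 := hCc ▸ Subgroup.card_dvd_of_le hVle
  have h4 : 2 ^ 2 ∣ Nat.card C := by rw [hCc, D.e4]; exact Dvd.intro _ rfl
  obtain ⟨P, hP⟩ := Sylow.exists_subgroup_card_pow_prime 2 h4
  have hPp : IsPGroup 2 (P.map C.subtype) := (IsPGroup.of_card hP).map _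
  have hPle : P.map C.subtype ≤ f4Tor C hcomm 2 := by
    rintro _ ⟨x, hx, rfl⟩
    refine ⟨x.2, ?_⟩
    rw [pow_two]
    exact R.two_group_sq D.hq8' k hN hk _ hPp _ (Subgroup.mem_map_of_mem _ hx)
  have hPc : Nat.card (P.map C.subtype) = 4 := by
    rw [Subgroup.card_map_of_injective C.subtype_injective, hP]; norm_num
  have h4V : 4 ∣ Nat.card (f4Tor C hcomm 2) := hPc ▸ Subgroup.card_dvd_of_le hPle
  rw [hn] at h4V hdvd ⊢
  have h8 := D.hq8
  rcases n with _ | _ | _ | m
  · norm_num at h4V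
  · norm_num at h4V
  · norm_num
  · exfalso
    have h1 : 8 ∣ q + 1 := dvd_trans ⟨2 ^ m, by ring⟩ hdvd
    omega

/-- (6) `A` is the `(q+1)/4`-torsion of the centraliser of the four-group of `C(A)` -/
theorem f4_mem_A_iff_CV {q : ℕ} (D : R.ReeData q) (hq27 : 27 ≤ q) (A : Subgroup G) (hA : IsCyclic A)
    (hAc : Nat.card A = (q + 1) / 4)
    (hcomm : ∀ u ∈ Subgroup.centralizer (A : Set G), ∀ v ∈ Subgroup.centralizer (A : Set G),
      u * v = v * u)
    (hCc : Nat.card (Subgroup.centralizer (A : Set G)) = q + 1) (u : G) :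
    u ∈ A ↔ u ∈ Subgroup.centralizer
      ((f4Tor (Subgroup.centralizer (A : Set G)) hcomm 2 : Subgroup G) : Set G) ∧
        u ^ ((q + 1) / 4) = 1 := by
  obtain ⟨k, hN, hk⟩ := D.two_part
  have hVc : Nat.card (f4Tor (Subgroup.centralizer (A : Set G)) hcomm 2) = 4 :=
    f4_card_V D _ hcomm hCc
  have hV2 : ∀ v ∈ f4Tor (Subgroup.centralizer (A : Set G)) hcomm 2, v * v = 1 :=
    fun v hv => by rw [← pow_two]; exact hv.2
  have hCV : Nat.card (Subgroup.centralizer
      ((f4Tor (Subgroup.centralizer (A : Set G)) hcomm 2 : Subgroup G) : Set G)) = 2 * (q + 1) := by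
    rw [Cfsg.Agent.Lib.H7.Ree.card_centralizer_four R D.hq8' k hN hk D.hZ _ hVc hV2, D.hq]
  have hle : Subgroup.centralizer (A : Set G) ≤ Subgroup.centralizer
      ((f4Tor (Subgroup.centralizer (A : Set G)) hcomm 2 : Subgroup G) : Set G) := by
    intro u hu
    rw [Subgroup.mem_centralizer_iff]
    intro v hv
    exact hcomm v hv.1 u hu
  have hidx : ((Subgroup.centralizer (A : Set G)).subgroupOf (Subgroup.centralizer
      ((f4Tor (Subgroup.centralizer (A : Set G)) hcomm 2 : Subgroup G) : Set G))).index = 2 := by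
    have h1 := Subgroup.index_mul_card ((Subgroup.centralizer (A : Set G)).subgroupOf
      (Subgroup.centralizer ((f4Tor (Subgroup.centralizer (A : Set G)) hcomm 2 : Subgroup G) : Set G)))
    rw [Nat.card_congr (Subgroup.subgroupOfEquivOfLe hle).toEquiv, hCc, hCV] at h1
    exact Nat.eq_of_mul_eq_mul_right (by omega) h1
  constructor
  · intro hu
    have h1 := (f4_mem_A_iff D hq27 A hA hAc u).mp hu
    exact ⟨hle h1.1, h1.2⟩
  · rintro ⟨hu, hue⟩
    rw [f4_mem_A_iff D hq27 A hA hAc u]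
    refine ⟨?_, hue⟩
    have h1 := Subgroup.mul_self_mem_of_index_two hidx ⟨u, hu⟩
    rw [Subgroup.mem_subgroupOf] at h1
    have h2 : u * u ∈ Subgroup.centralizer (A : Set G) := h1
    obtain ⟨m, hm⟩ := D.odd_e
    have h3 : u = (u * u) ^ (m + 1) := by
      rw [← pow_two, ← pow_mul]
      have e : 2 * (m + 1) = (q + 1) / 4 + 1 := by omega
      rw [e, pow_succ, hue, one_mul]
    rw [h3]
    exact pow_mem h2 _

/-- **REE-F4a** the normaliser of a cyclic subgroup `A` of order `(q+1)/4` has order `6 (q+1)` and is the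
normaliser of every non-trivial subgroup of `A` -/
theorem normalizer_nonsplit {q : ℕ} (D : R.ReeData q) (hq27 : 27 ≤ q) (A : Subgroup G) (hA : IsCyclic A)
    (hAc : Nat.card A = (q + 1) / 4) :
    Nat.card (Subgroup.normalizer (A : Set G)) = 6 * (q + 1) ∧
      ∀ A₀ : Subgroup G, A₀ ≤ A → A₀ ≠ ⊥ →
        Subgroup.normalizer (A₀ : Set G) = Subgroup.normalizer (A : Set G) := by
  obtain ⟨k, hN, hk⟩ := D.two_part
  obtain ⟨hcomm, hCc, -, hsub⟩ := D.nonsplit_torus_centralizer hq27 A hA hAc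
  have hVc : Nat.card (f4Tor (Subgroup.centralizer (A : Set G)) hcomm 2) = 4 :=
    f4_card_V D _ hcomm hCc
  have hV2 : ∀ v ∈ f4Tor (Subgroup.centralizer (A : Set G)) hcomm 2, v * v = 1 :=
    fun v hv => by rw [← pow_two]; exact hv.2
  have h5 : Subgroup.normalizer ((Subgroup.centralizer (A : Set G) : Subgroup G) : Set G) ≤
      Subgroup.normalizer ((f4Tor (Subgroup.centralizer (A : Set G)) hcomm 2 : Subgroup G) : Set G) :=
    f4_normalizer_le_of_torsion _ _ 2 (f4_mem_Tor _ hcomm 2)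
  have h6 : Subgroup.normalizer ((f4Tor (Subgroup.centralizer (A : Set G)) hcomm 2 : Subgroup G) : Set G) ≤
      Subgroup.normalizer (A : Set G) :=
    le_trans (f4_normalizer_le_normalizer_centralizer _)
      (f4_normalizer_le_of_torsion _ A ((q + 1) / 4) (f4_mem_A_iff_CV D hq27 A hA hAc hcomm hCc))
  have h4 : ∀ A₀ : Subgroup G, A₀ ≤ A → A₀ ≠ ⊥ → Subgroup.normalizer (A₀ : Set G) ≤
      Subgroup.normalizer ((Subgroup.centralizer (A : Set G) : Subgroup G) : Set G) := by
    intro A₀ h1 h2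
    have h3 := f4_normalizer_le_normalizer_centralizer A₀
    rw [hsub A₀ h1 h2] at h3
    exact h3
  have hAne : A ≠ ⊥ := by
    intro h
    rw [h, Subgroup.card_bot] at hAc
    omega
  have hfinA : Finite A := inferInstance
  have hNA : Subgroup.normalizer (A : Set G) =
      Subgroup.normalizer ((f4Tor (Subgroup.centralizer (A : Set G)) hcomm 2 : Subgroup G) : Set G) :=
    le_antisymm (le_trans (h4 A le_rfl hAne) h5) h6
  refine ⟨?_, ?_⟩
  · rw [hNA, Cfsg.Agent.Lib.H7.Ree.card_normalizer_four R D.hq8' k hN hk D.hZ _ hVc hV2,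
      Cfsg.Agent.Lib.H7.Ree.card_centralizer_four R D.hq8' k hN hk D.hZ _ hVc hV2, D.hq]
    ring
  · intro A₀ h1 h2
    apply le_antisymm
    · exact le_trans (h4 A₀ h1 h2) (le_trans h5 h6)
    · exact f4_normalizer_le_of_le_cyclic A A₀ hA h1

end Cfsg.Agent.Lib.H6.Ree
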