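import Mathlib
import Cfsg.Prelude.Def_RootSubgroups

set_option autoImplicit false
set_option linter.unusedSectionVars false
set_option linter.unusedSimpArgs false
set_option linter.unusedVariables false

/-! The commutator case from parametrized subgroups (helper6). -/

namespace Cfsg.Agent.Lib.H6.RootSub

open Cfsg

theorem rootCommutatorCase_of_param {G : Type*} [Group G] {F : Type*} [Field F]
    {S : Set (Subgroup G)} {A B C : Subgroup G} (eA eB eC : F → G)
    (hA : ∀ x, x ∈ A ↔ ∃ s, x = eA s) (hB : ∀ x, x ∈ B ↔ ∃ t, x = eB t)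
    (hC : ∀ x, x ∈ C ↔ ∃ e, x = eC e) (hA0 : eA 0 = 1) (hB0 : eB 0 = 1) {κ : F} (hκ : κ ≠ 0)
    (hcomm : ∀ s t, eA s * eB t * (eA s)⁻¹ * (eB t)⁻¹ = eC (κ * s * t))
    (hCA : ∀ e s, eC e * eA s = eA s * eC e) (hCB : ∀ e t, eC e * eB t = eB t * eC e)
    (hS : C ∈ S) : RootCommutatorCase S A B := by
  have hle : ∀ a ∈ A, ∀ b ∈ B, a * b * a⁻¹ * b⁻¹ ∈ C := by
    intro a ha b hb
    obtain ⟨s, rfl⟩ := (hA a).mp ha
    obtain ⟨t, rfl⟩ := (hB b).mp hb
    rw [hcomm]
    exact (hC _).mpr ⟨_, rfl⟩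
  have hge : ∀ s, s ≠ 0 → ∀ x ∈ C, ∃ b ∈ B, eA s * b * (eA s)⁻¹ * b⁻¹ = x := by
    intro s hs x hx
    obtain ⟨e, rfl⟩ := (hC x).mp hx
    refine ⟨eB (e / (κ * s)), (hB _).mpr ⟨_, rfl⟩, ?_⟩
    rw [hcomm]
    congr 1
    field_simp
  have hge' : ∀ t, t ≠ 0 → ∀ x ∈ C, ∃ a ∈ A, a * eB t * a⁻¹ * (eB t)⁻¹ = x := by
    intro t ht x hx
    obtain ⟨e, rfl⟩ := (hC x).mp hx
    refine ⟨eA (e / (κ * t)), (hA _).mpr ⟨_, rfl⟩, ?_⟩
    rw [hcomm]
    congr 1
    field_simp
  have hcomm_eq : ⁅A, B⁆ = C := by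
    apply le_antisymm
    · rw [Subgroup.commutator_le]
      intro a ha b hb
      rw [commutatorElement_def]
      exact hle a ha b hb
    · intro x hx
      obtain ⟨b, hb, hab⟩ := hge 1 one_ne_zero x hx
      rw [← hab, ← commutatorElement_def]
      exact Subgroup.commutator_mem_commutator ((hA _).mpr ⟨_, rfl⟩) hb
  refine ⟨?_, ?_, ?_, ?_⟩
  · rw [hcomm_eq]; exact hS
  · intro z hz x hx
    rw [hcomm_eq] at hz
    obtain ⟨e, rfl⟩ := (hC z).mp hz
    have : A ⊔ B ≤ Subgroup.centralizer ({eC e} : Set G) := by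
      apply sup_le
      · intro a ha
        obtain ⟨s, rfl⟩ := (hA a).mp ha
        rw [Subgroup.mem_centralizer_iff]
        intro y hy
        rw [Set.mem_singleton_iff] at hy
        rw [hy]; exact hCA e s
      · intro b hb
        obtain ⟨t, rfl⟩ := (hB b).mp hb
        rw [Subgroup.mem_centralizer_iff]
        intro y hy
        rw [Set.mem_singleton_iff] at hy
        rw [hy]; exact hCB e t
    have h1 := this hx
    rw [Subgroup.mem_centralizer_iff] at h1
    exact h1 _ rfl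
  · intro a ha ha1
    rw [hcomm_eq]
    obtain ⟨s, rfl⟩ := (hA a).mp ha
    have hs : s ≠ 0 := by
      rintro rfl
      exact ha1 hA0
    apply le_antisymm
    · rw [Subgroup.closure_le]
      rintro _ ⟨b, hb, rfl⟩
      exact hle _ ha b hb
    · intro x hx
      obtain ⟨b, hb, hab⟩ := hge s hs x hx
      apply Subgroup.subset_closure
      exact ⟨b, hb, hab⟩
  · intro b hb hb1
    rw [hcomm_eq]
    obtain ⟨t, rfl⟩ := (hB b).mp hb
    have ht : t ≠ 0 := by
      rintro rfl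
      exact hb1 hB0
    apply le_antisymm
    · rw [Subgroup.closure_le]
      rintro _ ⟨a, ha, rfl⟩
      exact hle a ha _ hb
    · intro x hx
      obtain ⟨a, ha, hab⟩ := hge' t ht x hx
      apply Subgroup.subset_closure
      exact ⟨a, ha, hab⟩

end Cfsg.Agent.Lib.H6.RootSub
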