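import Mathlib
import Cfsg.Prelude.Def_RootSubgroups
import Cfsg.Agent.Lib.H6.RootGrpSL2

set_option autoImplicit false
set_option linter.unusedSectionVars false
set_option linter.unusedSimpArgs false

/-! The root groups of `SL(ι, F)` are `F`-root subgroups (helper6). -/

namespace Cfsg.Agent.Lib.H6.RootGrp

open Matrix Cfsg Cfsg.Agent.Lib.H6.TransvCent Cfsg.Agent.Lib.H6.TransvSL Cfsg.Agent.Lib.H6.TransvPair
open Cfsg.Agent.Lib.H25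

variable {ι : Type*} [Fintype ι] [DecidableEq ι] {F : Type*} [Field F]
variable {v φ w ψ : ι → F}

theorem mk_ne_one (hv : v ≠ 0) (hφ : φ ≠ 0) (h : φ ⬝ᵥ v = 0) : mk v φ h ≠ 1 := by
  intro h1
  have h2 : (mk v φ h).1 = 1 := by rw [h1]; rfl
  rw [mk_val] at h2
  exact Matrix.vecMulVec_ne_zero hv hφ (add_eq_left.mp h2)

theorem mk_mem_RG (h : φ ⬝ᵥ v = 0) : mk v φ h ∈ RG v φ :=
  mem_RG'.mpr ⟨1, by rw [one_smul]; rfl⟩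

theorem not_rankOne_of_zero (hv : v ≠ 0) (hφ : φ ≠ 0) (hw : w ≠ 0) (hψ : ψ ≠ 0)
    (hφv : φ ⬝ᵥ v = 0) (hψw : ψ ⬝ᵥ w = 0) (hα : φ ⬝ᵥ w = 0) (hβ : ψ ⬝ᵥ v = 0) :
    ¬ IsRankOnePair (RG v φ) (RG w ψ) := by
  intro hR
  have hab := RG_commute hφv hψw hα hβ (mk_mem_RG hφv) (mk_mem_RG hψw)
  exact mk_ne_one hw hψ hψw
    (RankOne.eq_one_of_commute hR (mk_mem_RG hφv) (mk_ne_one hv hφ hφv) (mk_mem_RG hψw) hab)

theorem not_rankOne_of_beta (hv : v ≠ 0) (hφ : φ ≠ 0) (hw : w ≠ 0) (hψ : ψ ≠ 0)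
    (hφv : φ ⬝ᵥ v = 0) (hψw : ψ ⬝ᵥ w = 0) (hα : φ ⬝ᵥ w ≠ 0) (hβ : ψ ⬝ᵥ v = 0) :
    ¬ IsRankOnePair (RG v φ) (RG w ψ) := by
  intro hR
  set a := mk v φ hφv with ha
  set b := mk w ψ hψw with hb
  have hav : a.1 = 1 + (1 : F) • vecMulVec v φ := by rw [one_smul]; rfl
  have hbv : b.1 = 1 + (1 : F) • vecMulVec w ψ := by rw [one_smul]; rfl
  have hd := comm_val_beta hφv hψw hβ hav hbv
  have hdm : a * b * a⁻¹ * b⁻¹ ∈ RG v ψ := ⟨_, hd⟩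
  have h1 : a * b * a⁻¹ * b⁻¹ = 1 := by
    apply RankOne.commutator_eq_one_of_central hR (mk_mem_RG hφv) (mk_ne_one hv hφ hφv)
      (mk_mem_RG hψw)
    · exact RG_commute hβ hφv hβ hφv hdm (mk_mem_RG hφv)
    · intro y hy
      exact RG_commute hβ hψw hψw hβ hdm hy
  have h2 : (a * b * a⁻¹ * b⁻¹).1 = 1 := by rw [h1]; rfl
  rw [hd, one_mul, one_mul] at h2
  have h3 : (φ ⬝ᵥ w) • vecMulVec v ψ = 0 := add_eq_left.mp h2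
  rcases smul_eq_zero.mp h3 with h | h
  · exact hα h
  · exact Matrix.vecMulVec_ne_zero hv hψ h

theorem ne_zero_of_rankOne (hv : v ≠ 0) (hφ : φ ≠ 0) (hw : w ≠ 0) (hψ : ψ ≠ 0)
    (hφv : φ ⬝ᵥ v = 0) (hψw : ψ ⬝ᵥ w = 0) (hR : IsRankOnePair (RG v φ) (RG w ψ)) :
    φ ⬝ᵥ w ≠ 0 ∧ ψ ⬝ᵥ v ≠ 0 := by
  by_cases hα : φ ⬝ᵥ w = 0
  · by_cases hβ : ψ ⬝ᵥ v = 0
    · exact absurd hR (not_rankOne_of_zero hv hφ hw hψ hφv hψw hα hβ)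
    · exact absurd (RankOnePair_symm hR) (not_rankOne_of_beta hw hψ hv hφ hψw hφv hβ hα)
  · by_cases hβ : ψ ⬝ᵥ v = 0
    · exact absurd hR (not_rankOne_of_beta hv hφ hw hψ hφv hψw hα hβ)
    · exact ⟨hα, hβ⟩

variable {i₀ i₁ : ι}

theorem isKRoot (h3 : 3 ≤ Fintype.card ι) (h01 : i₀ ≠ i₁) :
    IsKRootSubgroupSet F (Sig (F := F) i₀ i₁) := by
  refine ⟨isRootSubgroupSet h3 h01, ?_⟩
  intro A hA B hB hR
  rw [mem_Sig_iff h3 h01] at hA hB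
  obtain ⟨v, φ, hv, hφ, hφv, rfl⟩ := hA
  obtain ⟨w, ψ, hw, hψ, hψw, rfl⟩ := hB
  obtain ⟨hα, hβ⟩ := ne_zero_of_rankOne hv hφ hw hψ hφv hψw hR
  exact isPSL2Pair hφv hψw hα hβ

/-- all four properties together -/
theorem main (h3 : 3 ≤ Fintype.card ι) (h01 : i₀ ≠ i₁) :
    IsRootSubgroupClass (Sig (F := F) i₀ i₁) ∧ IsNondegenerateRootSet (Sig (F := F) i₀ i₁) ∧
    IsKRootSubgroupSet F (Sig (F := F) i₀ i₁) ∧
    IsConnectedFamily (FAdj (Sig (F := F) i₀ i₁)) (Sig (F := F) i₀ i₁) :=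
  ⟨isRootSubgroupClass h3 h01, isNondegenerate h3 h01, isKRoot h3 h01, isConnected h3 h01⟩

end Cfsg.Agent.Lib.H6.RootGrp
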