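import Mathlib
import Cfsg.Prelude.Def_RootSubgroups
import Cfsg.Agent.Lib.H6.RootMap
import Cfsg.Agent.Lib.H6.FConn

set_option autoImplicit false

/-! Images of a set of abstract root subgroups under a surjective homomorphism. -/

namespace Cfsg.Agent.Lib.H6.RootImage

open Cfsg Cfsg.Agent.Lib.H25 Cfsg.Agent.Lib.H6.RootSub Cfsg.Agent.Lib.H6.FConn
open scoped commutatorElement

variable {G H : Type*} [Group G] [Group H] (f : G →* H)

theorem rankOneCondition_map_of_ne {A B : Subgroup G} (h : RankOneCondition A B)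
    (hne : A.map f ≠ B.map f) : RankOneCondition (A.map f) (B.map f) := by
  rintro _ ⟨a, ha, rfl⟩ ha1
  have ha1' : a ≠ 1 := by
    rintro rfl
    exact ha1 (map_one f)
  obtain ⟨b, hb, hb1, hE⟩ := h a ha ha1'
  have hE' : conjBy (A.map f) (f b)⁻¹ = conjBy (B.map f) (f a)⁻¹ := by
    rw [← map_inv, ← map_inv, conjBy_map, conjBy_map, hE]
  refine ⟨f b, Subgroup.mem_map_of_mem f hb, ?_, hE'⟩
  intro hfb
  apply hne
  rw [hfb, inv_one, conjBy_one] at hE'
  have h1 := conjBy_eq_iff.1 hE'.symm
  rw [inv_inv, conjBy_of_mem (Subgroup.mem_map_of_mem f ha)] at h1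
  exact h1.symm

theorem isNilpotent_map {A : Subgroup G} (h : Group.IsNilpotent A) :
    Group.IsNilpotent (A.map f) := by
  have hs : Function.Surjective (f.subgroupMap A) := f.subgroupMap_surjective A
  exact Group.nilpotent_of_surjective (f.subgroupMap A) hs

/-- The image of a rank one pair is a rank one pair unless the two images coincide. -/
theorem isRankOnePair_map_or {A B : Subgroup G} (h : IsRankOnePair A B) :
    A.map f = B.map f ∨ IsRankOnePair (A.map f) (B.map f) := by
  by_cases hne : A.map f = B.map f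
  · left; exact hne
  · right
    exact ⟨hne, isNilpotent_map f h.nilpotent_left, isNilpotent_map f h.nilpotent_right,
      rankOneCondition_map_of_ne f h.cond_left hne,
      rankOneCondition_map_of_ne f h.cond_right (fun hh => hne hh.symm)⟩

theorem isMulCommutative_map {A : Subgroup G} (h : IsMulCommutative A) :
    IsMulCommutative (A.map f) := by
  refine ⟨⟨?_⟩⟩
  rintro ⟨_, x, hx, rfl⟩ ⟨_, y, hy, rfl⟩
  apply Subtype.ext
  show f x * f y = f y * f x
  rw [← map_mul, ← map_mul, comm_of_isMulCommutative h hx hy]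

/-- The commutator case is preserved by homomorphisms. -/
theorem rootCommutatorCase_map {S : Set (Subgroup G)} {A B : Subgroup G}
    (h : RootCommutatorCase S A B) :
    RootCommutatorCase ((fun C : Subgroup G => C.map f) '' S) (A.map f) (B.map f) := by
  obtain ⟨h1, h2, h3, h4⟩ := h
  have hc : ⁅A.map f, B.map f⁆ = (⁅A, B⁆).map f := (Subgroup.map_commutator A B f).symm
  refine ⟨?_, ?_, ?_, ?_⟩
  · rw [hc]; exact ⟨_, h1, rfl⟩
  · rw [hc, ← Subgroup.map_sup]
    rintro _ ⟨c, hcm, rfl⟩ _ ⟨x, hx, rfl⟩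
    rw [← map_mul, ← map_mul, h2 c hcm x hx]
  · rintro _ ⟨a, ha, rfl⟩ ha1
    have ha1' : a ≠ 1 := by
      rintro rfl
      exact ha1 (map_one f)
    rw [hc, ← h3 a ha ha1', MonoidHom.map_closure]
    congr 1
    ext y
    constructor
    · rintro ⟨_, ⟨b, hb, rfl⟩, rfl⟩
      refine ⟨_, ⟨b, hb, rfl⟩, ?_⟩
      simp only [map_mul, map_inv]
    · rintro ⟨_, ⟨b, hb, rfl⟩, rfl⟩
      refine ⟨_, ⟨b, hb, rfl⟩, ?_⟩
      simp only [map_mul, map_inv]
  · rintro _ ⟨b, hb, rfl⟩ hb1
    have hb1' : b ≠ 1 := by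
      rintro rfl
      exact hb1 (map_one f)
    rw [hc, ← h4 b hb hb1', MonoidHom.map_closure]
    congr 1
    ext y
    constructor
    · rintro ⟨_, ⟨a, ha, rfl⟩, rfl⟩
      refine ⟨_, ⟨a, ha, rfl⟩, ?_⟩
      simp only [map_mul, map_inv]
    · rintro ⟨_, ⟨a, ha, rfl⟩, rfl⟩
      refine ⟨_, ⟨a, ha, rfl⟩, ?_⟩
      simp only [map_mul, map_inv]

variable {f}

/-- The images form a set of abstract root subgroups provided none of them is trivial. -/
theorem isRootSubgroupSet_image (hf : Function.Surjective f) {S : Set (Subgroup G)}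
    (hS : IsRootSubgroupSet S) (hne : ∀ A ∈ S, A.map f ≠ ⊥) :
    IsRootSubgroupSet ((fun C : Subgroup G => C.map f) '' S) := by
  refine ⟨?_, ?_, ?_, ?_, ?_⟩
  · rintro _ ⟨A, hA, rfl⟩
    exact isMulCommutative_map f (hS.commutative A hA)
  · rintro _ ⟨A, hA, rfl⟩
    exact hne A hA
  · rw [iSup_image]
    have h1 : (⨆ A ∈ S, A : Subgroup G).map f = ⨆ A ∈ S, A.map f := by
      rw [Subgroup.map_iSup]
      congr 1
      ext A
      rw [Subgroup.map_iSup]
    rw [← h1, hS.generates, ← MonoidHom.range_eq_map, MonoidHom.range_eq_top]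
    exact hf
  · rintro _ ⟨A, hA, rfl⟩ h
    obtain ⟨g, rfl⟩ := hf h
    rw [conjBy_map]
    exact ⟨_, hS.conj_mem A hA g, rfl⟩
  · rintro _ ⟨A, hA, rfl⟩ _ ⟨B, hB, rfl⟩
    show ⁅A.map f, B.map f⁆ = ⊥ ∨ IsRankOnePair (A.map f) (B.map f) ∨
      RootCommutatorCase ((fun C : Subgroup G => C.map f) '' S) (A.map f) (B.map f)
    rcases hS.pair A hA B hB with h0 | hr | hcc
    · left
      rw [← Subgroup.map_commutator, h0, Subgroup.map_bot]
    · rcases isRankOnePair_map_or f hr with h1 | h1
      · left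
        have hab := isMulCommutative_map f (hS.commutative A hA)
        rw [← h1, Subgroup.commutator_eq_bot_iff_le_centralizer]
        intro x hx
        rw [Subgroup.mem_centralizer_iff]
        intro y hy
        exact comm_of_isMulCommutative hab hy hx
      · right; left; exact h1
    · right; right
      exact rootCommutatorCase_map f hcc

/-- Paths map to paths. -/
theorem rtg_image {S : Set (Subgroup G)} {A B : Subgroup G}
    (h : Relation.ReflTransGen (FAdj S) A B) :
    Relation.ReflTransGen (FAdj ((fun C : Subgroup G => C.map f) '' S)) (A.map f) (B.map f) := by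
  induction h with
  | refl => exact Relation.ReflTransGen.refl
  | tail _ hbc ih =>
    rcases isRankOnePair_map_or f hbc.2.2 with h1 | h1
    · rw [← h1]; exact ih
    · exact Relation.ReflTransGen.tail ih ⟨⟨_, hbc.1, rfl⟩, ⟨_, hbc.2.1, rfl⟩, h1⟩

/-- Along a path, a trivial image propagates. -/
theorem map_eq_bot_of_rtg {S : Set (Subgroup G)} {A B : Subgroup G}
    (h : Relation.ReflTransGen (FAdj S) A B) (hA : A.map f = ⊥) : B.map f = ⊥ := by
  induction h with
  | refl => exact hA
  | tail _ hbc ih =>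
    rcases isRankOnePair_map_or f hbc.2.2 with h1 | h1
    · rw [← h1]; exact ih
    · exact absurd ih (RankOne.left_ne_bot h1)

end Cfsg.Agent.Lib.H6.RootImage
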