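import Mathlib
import Cfsg.Prelude.Def_RootSubgroups
import Cfsg.Prelude.Def_QuasithinSetup
import Cfsg.Agent.Lib.H6.RootInv6
import Cfsg.Agent.Lib.H1.PCore

set_option autoImplicit false

/-! Root involutions (Timmesfeld): a proper normal subgroup lies in the preimage of the centre of
`G / O₂(G)` (connected graph, some commuting product in `D`). -/

open Cfsg

namespace Cfsg.Agent.Lib.H6.RootInv

variable {G : Type*} [Group G] {D : Set G}

section

variable [Finite G] (hD : IsRootInvolutionSet D) (hc : IsConnectedSet (OddAdj D) D)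
  (hDD : (D ∩ commutingProducts D).Nonempty) (N : Subgroup G) [N.Normal] (hNtop : N ≠ ⊤)

include hD hc hNtop in
theorem not_mem_of_ne_top {x : G} (hx : x ∈ D) : x ∉ N := fun h =>
  hNtop (eq_top_of_mem hD hc N hx h)

include hD hc hDD hNtop in
/-- Members of `D` congruent modulo `N` have product of order dividing 4. -/
theorem pow_four_of_congr {x y : G} (hx : x ∈ D) (hy : y ∈ D) (hxy : x⁻¹ * y ∈ N) :
    (x * y) ^ 4 = 1 := by
  obtain ⟨b, hb⟩ := exists_productPartner hD hc hDD hx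
  exact pow_four_of_not_adj hD hx hy
    (not_adj_of_congr hD N (fun z hz => not_mem_of_ne_top hD hc N hNtop hz) hx hb hxy)

include hD hc hDD hNtop in
/-- The commutator of `n ∈ N` and `d ∈ D` lies in a normal 2-subgroup of `N`. -/
theorem commutator_mem_pCore_sub {d n : G} (hd : d ∈ D) (hn : n ∈ N) :
    n * d * n⁻¹ * d⁻¹ ∈ (Cfsg.pCore 2 ↥N).map N.subtype := by
  have : Fact (Nat.Prime 2) := Nat.fact_prime_two
  obtain ⟨H, hH⟩ : ∃ H : Subgroup G, H = N ⊔ Subgroup.zpowers d := ⟨_, rfl⟩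
  have hNH : N ≤ H := by rw [hH]; exact le_sup_left
  have hdH : d ∈ H := by rw [hH]; exact Subgroup.mem_sup_right (Subgroup.mem_zpowers d)
  have hdinv := inv_eq hD hd
  -- images in the quotient of elements of H commute with the image of d
  have hcomm : ∀ g ∈ H, Commute ((QuotientGroup.mk' N) g) ((QuotientGroup.mk' N) d) := by
    intro g hg
    have h1 : (QuotientGroup.mk' N) g ∈ Subgroup.map (QuotientGroup.mk' N) H :=
      Subgroup.mem_map_of_mem _ hg
    rw [hH, Subgroup.map_sup, QuotientGroup.map_mk'_self, bot_sup_eq, MonoidHom.map_zpowers] at h1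
    obtain ⟨i, hi⟩ := Subgroup.mem_zpowers_iff.mp h1
    rw [← hi]
    exact (Commute.refl _).zpow_left i
  -- the set K of members of D congruent to d, inside H
  obtain ⟨K, hK⟩ : ∃ K : Set ↥H, K = {x : ↥H | (x : G) ∈ D ∧ d⁻¹ * (x : G) ∈ N} := ⟨_, rfl⟩
  have hKconj : ∀ g : ↥H, ∀ x ∈ K, g * x * g⁻¹ ∈ K := by
    intro g x hx
    rw [hK] at hx ⊢
    obtain ⟨hx1, hx2⟩ := hx
    refine ⟨?_, ?_⟩
    · have : ((g * x * g⁻¹ : ↥H) : G) = (g : G) * (x : G) * (g : G)⁻¹ := by simp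
      rw [this]
      exact hD.conj_mem _ hx1 _
    · have e1 : ((g * x * g⁻¹ : ↥H) : G) = (g : G) * (x : G) * (g : G)⁻¹ := by simp
      rw [e1]
      have hφx : (QuotientGroup.mk' N) (x : G) = (QuotientGroup.mk' N) d := by
        have : (QuotientGroup.mk' N) (d⁻¹ * (x : G)) = 1 := by
          rw [QuotientGroup.mk'_apply, QuotientGroup.eq_one_iff]; exact hx2
        rw [map_mul, map_inv] at this
        exact (inv_mul_eq_one.mp this).symm
      have : (QuotientGroup.mk' N) (d⁻¹ * ((g : G) * (x : G) * (g : G)⁻¹)) = 1 := by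
        rw [map_mul, map_mul, map_mul, map_inv, map_inv, hφx]
        have hcg := hcomm (g : G) g.2
        rw [hcg.eq, mul_assoc, mul_inv_cancel, mul_one, inv_mul_cancel]
      rw [QuotientGroup.mk'_apply, QuotientGroup.eq_one_iff] at this
      exact this
  have hKpair : ∀ x ∈ K, ∀ y ∈ K, IsPGroup 2 (Subgroup.closure ({x, y} : Set ↥H)) := by
    intro x hx y hy
    rw [hK] at hx hy
    obtain ⟨hx1, hx2⟩ := hx
    obtain ⟨hy1, hy2⟩ := hy
    apply isPGroup_two_closure_pair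
    · rw [← Subgroup.orderOf_coe]; exact hD.orderOf_eq _ hx1
    · rw [← Subgroup.orderOf_coe]; exact hD.orderOf_eq _ hy1
    · apply Subtype.ext
      have : (((x * y) ^ 4 : ↥H) : G) = ((x : G) * (y : G)) ^ 4 := by simp
      rw [this, Subgroup.coe_one]
      apply pow_four_of_congr hD hc hDD N hNtop hx1 hy1
      have : (x : G)⁻¹ * (y : G) = (d⁻¹ * (x : G))⁻¹ * (d⁻¹ * (y : G)) := by group
      rw [this]
      exact N.mul_mem (N.inv_mem hx2) hy2
  have hYp : IsPGroup 2 (Subgroup.closure K) :=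
    Cfsg.Agent.Lib.H16.isPGroup_closure_of_pairwise (p := 2) K hKconj hKpair
  have hYn : (Subgroup.closure K).Normal :=
    Cfsg.Agent.Lib.H16.closure_normal_of_conj_mem K hKconj
  -- the elements d and n d n⁻¹ of K
  have hndn : n * d * n⁻¹ ∈ H := H.mul_mem (H.mul_mem (hNH hn) hdH) (H.inv_mem (hNH hn))
  have hdK : (⟨d, hdH⟩ : ↥H) ∈ K := by
    rw [hK]; exact ⟨hd, by simp [N.one_mem]⟩
  have hnK : (⟨n * d * n⁻¹, hndn⟩ : ↥H) ∈ K := by
    rw [hK]
    refine ⟨hD.conj_mem d hd n, ?_⟩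
    have : d⁻¹ * (n * d * n⁻¹) = (d⁻¹ * n * d⁻¹⁻¹) * n⁻¹ := by group
    show d⁻¹ * (n * d * n⁻¹) ∈ N
    rw [this]
    exact N.mul_mem (Subgroup.Normal.conj_mem inferInstance n hn d⁻¹) (N.inv_mem hn)
  have hcY : (⟨n * d * n⁻¹, hndn⟩ : ↥H) * (⟨d, hdH⟩ : ↥H)⁻¹ ∈ Subgroup.closure K :=
    (Subgroup.closure K).mul_mem (Subgroup.subset_closure hnK)
      ((Subgroup.closure K).inv_mem (Subgroup.subset_closure hdK))
  -- the normal 2-subgroup of N
  obtain ⟨Rn, hRn⟩ : ∃ Rn : Subgroup ↥N,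
      Rn = ((Subgroup.closure K).map H.subtype).comap N.subtype := ⟨_, rfl⟩
  have hRnp : IsPGroup 2 Rn := by
    rw [hRn]
    exact (hYp.map H.subtype).comap_of_injective N.subtype N.subtype_injective
  have hRnn : Rn.Normal := by
    constructor
    intro x hx g
    rw [hRn, Subgroup.mem_comap] at hx ⊢
    obtain ⟨y, hy, hyx⟩ := hx
    refine ⟨(⟨(g : G), hNH g.2⟩ : ↥H) * y * (⟨(g : G), hNH g.2⟩ : ↥H)⁻¹, hYn.conj_mem y hy _, ?_⟩
    simp only [Subgroup.coe_subtype] at hyx ⊢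
    simp [hyx]
  have hle : Rn ≤ Cfsg.pCore 2 ↥N := Cfsg.Agent.Lib.H1.le_pCore hRnn hRnp
  have hcN : n * d * n⁻¹ * d⁻¹ ∈ N := by
    have : n * d * n⁻¹ * d⁻¹ = n * (d * n⁻¹ * d⁻¹) := by group
    rw [this]
    exact N.mul_mem hn (Subgroup.Normal.conj_mem inferInstance _ (N.inv_mem hn) d)
  refine ⟨⟨n * d * n⁻¹ * d⁻¹, hcN⟩, hle ?_, rfl⟩
  rw [hRn, Subgroup.mem_comap]
  exact ⟨_, hcY, by simp⟩

include hD hc hDD hNtop in
theorem commutator_mem_pCore {d n : G} (hd : d ∈ D) (hn : n ∈ N) :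
    n * d * n⁻¹ * d⁻¹ ∈ Cfsg.pCore 2 G := by
  have : Fact (Nat.Prime 2) := Nat.fact_prime_two
  obtain ⟨C, hC⟩ : ∃ C : Set G, C = {c | ∃ n ∈ N, ∃ d ∈ D, c = n * d * n⁻¹ * d⁻¹} := ⟨_, rfl⟩
  have hCconj : ∀ g : G, ∀ x ∈ C, g * x * g⁻¹ ∈ C := by
    intro g x hx
    rw [hC] at hx ⊢
    obtain ⟨n, hn, d, hd, rfl⟩ := hx
    refine ⟨g * n * g⁻¹, Subgroup.Normal.conj_mem inferInstance n hn g, g * d * g⁻¹,
      hD.conj_mem d hd g, by group⟩
  have hnorm := Cfsg.Agent.Lib.H16.closure_normal_of_conj_mem C hCconj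
  have hle : Subgroup.closure C ≤ (Cfsg.pCore 2 ↥N).map N.subtype := by
    rw [Subgroup.closure_le]
    intro x hx
    rw [hC] at hx
    obtain ⟨n, hn, d, hd, rfl⟩ := hx
    exact commutator_mem_pCore_sub hD hc hDD N hNtop hd hn
  have hp : IsPGroup 2 (Subgroup.closure C) :=
    ((Cfsg.Agent.Lib.H1.pCore_isPGroup 2 ↥N).map N.subtype).to_le hle
  have := Cfsg.Agent.Lib.H1.le_pCore hnorm hp
  apply this
  apply Subgroup.subset_closure
  rw [hC]
  exact ⟨n, hn, d, hd, rfl⟩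

include hD hc hDD hNtop in
/-- A proper normal subgroup lies in `O_{2,Z}(G)`. -/
theorem le_twoZCore : N ≤ Cfsg.twoZCore G := by
  intro n hn
  show (QuotientGroup.mk' (pCore 2 G)) n ∈ Subgroup.center (G ⧸ pCore 2 G)
  rw [Subgroup.mem_center_iff]
  intro g
  obtain ⟨g, rfl⟩ := QuotientGroup.mk'_surjective (pCore 2 G) g
  have hg : g ∈ Subgroup.closure D := by rw [hD.generates]; exact Subgroup.mem_top g
  have key : ∀ g ∈ Subgroup.closure D,
      Commute ((QuotientGroup.mk' (pCore 2 G)) g) ((QuotientGroup.mk' (pCore 2 G)) n) := by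
    intro g hg
    induction hg using Subgroup.closure_induction with
    | mem d hd =>
      have h1 := commutator_mem_pCore hD hc hDD N hNtop hd hn
      have h2 : (QuotientGroup.mk' (pCore 2 G)) (n * d * n⁻¹ * d⁻¹) = 1 := by
        rw [QuotientGroup.mk'_apply, QuotientGroup.eq_one_iff]; exact h1
      rw [map_mul, map_mul, map_mul, map_inv, map_inv] at h2
      have h3 := mul_inv_eq_one.mp h2
      -- n d n⁻¹ = d  in the quotient
      have h4 := mul_inv_eq_iff_eq_mul.mp h3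
      exact h4.symm
    | one => rw [map_one]; exact Commute.one_left _
    | mul x y _ _ hx hy => rw [map_mul]; exact hx.mul_left hy
    | inv x _ hx => rw [map_inv]; exact hx.inv_left
  exact (key g hg).eq

end

end Cfsg.Agent.Lib.H6.RootInv
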