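import Mathlib
import Cfsg.Prelude.Def_RootSubgroups
import Cfsg.Prelude.Def_QuasithinSetup
import Cfsg.Agent.Lib.H6.RootInv7

set_option autoImplicit false

/-! Root involutions (Timmesfeld): `S(G) = O_{2,Z}(G)` and `G / O_{2,Z}(G)` is simple (connected
graph, some commuting product in `D`). -/

open Cfsg

namespace Cfsg.Agent.Lib.H6.RootInv

variable {G : Type*} [Group G] {D : Set G}

section

variable [Finite G] (hD : IsRootInvolutionSet D) (hc : IsConnectedSet (OddAdj D) D)
  (hDD : (D ∩ commutingProducts D).Nonempty)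

include hD hc hDD in
theorem exists_adj : ∃ d e, OddAdj D d e := by
  obtain ⟨c, hcD, a, ha, b, hb, hab, hne, rfl⟩ := hDD
  have hab' : a ≠ b := by
    rintro rfl
    exact hne (mul_self hD ha)
  rcases Relation.ReflTransGen.cases_head (hc a ha b hb) with h | ⟨g, hg, -⟩
  · exact absurd h hab'
  · exact ⟨a, g, hg⟩

include hD hc hDD in
/-- The quotient by a proper normal subgroup is not abelian. -/
theorem not_comm_quotient (N : Subgroup G) [N.Normal] (hNtop : N ≠ ⊤) :
    ¬ ∀ x y : G ⧸ N, x * y = y * x := by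
  intro hcomm
  obtain ⟨d, e, hadj⟩ := exists_adj hD hc hDD
  have hd := hadj.1
  have he := hadj.2.1
  obtain ⟨b, hb⟩ := exists_productPartner hD hc hDD hd
  apply not_adj_of_congr hD N (fun z hz => not_mem_of_ne_top hD hc N hNtop hz) hd hb _ hadj
  rw [inv_eq hD hd]
  have h2 : ((QuotientGroup.mk' N) (d * e)) ^ 2 = 1 := by
    rw [map_mul, pow_two]
    calc (QuotientGroup.mk' N) d * (QuotientGroup.mk' N) e *
          ((QuotientGroup.mk' N) d * (QuotientGroup.mk' N) e)
        = (QuotientGroup.mk' N) d * ((QuotientGroup.mk' N) e * (QuotientGroup.mk' N) d) *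
          (QuotientGroup.mk' N) e := by simp only [mul_assoc]
      _ = (QuotientGroup.mk' N) d * ((QuotientGroup.mk' N) d * (QuotientGroup.mk' N) e) *
          (QuotientGroup.mk' N) e := by rw [hcomm ((QuotientGroup.mk' N) e)]
      _ = (QuotientGroup.mk' N) (d * d) * (QuotientGroup.mk' N) (e * e) := by
          simp only [map_mul, mul_assoc]
      _ = 1 := by rw [mul_self hD hd, mul_self hD he, map_one, one_mul]
  have h1 : ((QuotientGroup.mk' N) (d * e)) ^ orderOf (d * e) = 1 := by
    rw [← map_pow, pow_orderOf_eq_one, map_one]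
  have h3 := eq_one_of_sq_of_odd_pow h2 hadj.2.2.2 h1
  rw [QuotientGroup.mk'_apply, QuotientGroup.eq_one_iff] at h3
  exact h3

include hD hc hDD in
theorem twoZCore_ne_top : Cfsg.twoZCore G ≠ ⊤ := by
  intro htop
  have : Fact (Nat.Prime 2) := Nat.fact_prime_two
  obtain ⟨d, e, hadj⟩ := exists_adj hD hc hDD
  have hd := hadj.1
  have he := hadj.2.1
  have hdZ : d ∈ Cfsg.twoZCore G := by rw [htop]; exact Subgroup.mem_top d
  have hdc : (QuotientGroup.mk' (pCore 2 G)) d ∈ Subgroup.center (G ⧸ pCore 2 G) := hdZ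
  rw [Subgroup.mem_center_iff] at hdc
  have h2 : ((QuotientGroup.mk' (pCore 2 G)) (d * e)) ^ 2 = 1 := by
    rw [map_mul, pow_two]
    calc (QuotientGroup.mk' (pCore 2 G)) d * (QuotientGroup.mk' (pCore 2 G)) e *
          ((QuotientGroup.mk' (pCore 2 G)) d * (QuotientGroup.mk' (pCore 2 G)) e)
        = (QuotientGroup.mk' (pCore 2 G)) d * ((QuotientGroup.mk' (pCore 2 G)) e *
          (QuotientGroup.mk' (pCore 2 G)) d) * (QuotientGroup.mk' (pCore 2 G)) e := by
          simp only [mul_assoc]
      _ = (QuotientGroup.mk' (pCore 2 G)) d * ((QuotientGroup.mk' (pCore 2 G)) d *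
          (QuotientGroup.mk' (pCore 2 G)) e) * (QuotientGroup.mk' (pCore 2 G)) e := by
          rw [hdc ((QuotientGroup.mk' (pCore 2 G)) e)]
      _ = (QuotientGroup.mk' (pCore 2 G)) (d * d) * (QuotientGroup.mk' (pCore 2 G)) (e * e) := by
          simp only [map_mul, mul_assoc]
      _ = 1 := by rw [mul_self hD hd, mul_self hD he, map_one, one_mul]
  rw [← map_pow, QuotientGroup.mk'_apply, QuotientGroup.eq_one_iff] at h2
  obtain ⟨k, hk⟩ := (Cfsg.Agent.Lib.H1.pCore_isPGroup 2 G) ⟨(d * e) ^ 2, h2⟩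
  have hk' : (d * e) ^ (2 ^ (k + 1)) = 1 := by
    have := congrArg Subtype.val hk
    simp only [Subgroup.coe_pow, Subgroup.coe_one] at this
    rw [pow_succ, mul_comm, pow_mul]
    exact this
  have h1 := eq_one_of_odd_of_pow_two_pow hadj.2.2.2 (k + 1) hk'
  apply hadj.2.2.1
  have : e = d⁻¹ := by
    calc e = d⁻¹ * (d * e) := by group
      _ = d⁻¹ := by rw [h1, mul_one]
  rw [this, inv_eq hD hd]

include hD hc hDD in
theorem isSimpleGroup_quotient : IsSimpleGroup (G ⧸ Cfsg.twoZCore G) := by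
  have hnt : Nontrivial (G ⧸ Cfsg.twoZCore G) :=
    QuotientGroup.nontrivial_iff.mpr (twoZCore_ne_top hD hc hDD)
  refine ⟨?_⟩
  intro M hM
  have hsurj := QuotientGroup.mk'_surjective (Cfsg.twoZCore G)
  have hN : (M.comap (QuotientGroup.mk' (Cfsg.twoZCore G))).Normal := hM.comap _
  by_cases htop : M.comap (QuotientGroup.mk' (Cfsg.twoZCore G)) = ⊤
  · right
    rw [← Subgroup.map_comap_eq_self_of_surjective hsurj M, htop, ← MonoidHom.range_eq_map,
      MonoidHom.range_eq_top]
    exact hsurj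
  · left
    have hle := le_twoZCore hD hc hDD _ htop
    rw [eq_bot_iff]
    intro m hm
    obtain ⟨g, rfl⟩ := hsurj m
    have hg : g ∈ M.comap (QuotientGroup.mk' (Cfsg.twoZCore G)) := hm
    rw [Subgroup.mem_bot, QuotientGroup.mk'_apply, QuotientGroup.eq_one_iff]
    exact hle hg

include hD hc hDD in
theorem not_isSolvable : ¬ Group.IsSolvable G := by
  intro hsol
  have hnt : Nontrivial G := by
    obtain ⟨d, e, hadj⟩ := exists_adj hD hc hDD
    exact ⟨d, e, hadj.2.2.1⟩
  have hlt := Group.IsSolvable.commutator_lt_top_of_nontrivial G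
  have hN : (commutator G).Normal := inferInstance
  apply not_comm_quotient hD hc hDD (commutator G) (ne_of_lt hlt)
  intro x y
  exact mul_comm (G := Abelianization G) x y

theorem isSolvable_twoZCore : Group.IsSolvable ↥(Cfsg.twoZCore G) := by
  have : Fact (Nat.Prime 2) := Nat.fact_prime_two
  have hQle : pCore 2 G ≤ Cfsg.twoZCore G := by
    intro x hx
    show (QuotientGroup.mk' (pCore 2 G)) x ∈ Subgroup.center (G ⧸ pCore 2 G)
    have : (QuotientGroup.mk' (pCore 2 G)) x = 1 := by
      rw [QuotientGroup.mk'_apply, QuotientGroup.eq_one_iff]; exact hx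
    rw [this]; exact Subgroup.one_mem _
  have hQsol : Group.IsSolvable ↥(pCore 2 G) := by
    have := (Cfsg.Agent.Lib.H1.pCore_isPGroup 2 G).isNilpotent
    infer_instance
  have hCsol : Group.IsSolvable ↥(Subgroup.center (G ⧸ pCore 2 G)) :=
    Group.isSolvable_of_comm (fun a b => Subtype.ext (Subgroup.mem_center_iff.mp b.2 a))
  let g : ↥(Cfsg.twoZCore G) →* ↥(Subgroup.center (G ⧸ pCore 2 G)) :=
    ((QuotientGroup.mk' (pCore 2 G)).comp (Subgroup.subtype _)).codRestrict _ (fun x => x.2)
  apply Group.isSolvable_of_ker_le_range (Subgroup.inclusion hQle) g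
  intro x hx
  rw [MonoidHom.mem_ker] at hx
  have hx' : (QuotientGroup.mk' (pCore 2 G)) (x : G) = 1 := congrArg Subtype.val hx
  rw [QuotientGroup.mk'_apply, QuotientGroup.eq_one_iff] at hx'
  exact ⟨⟨x, hx'⟩, rfl⟩

include hD hc hDD in
theorem solvableRadical_eq : Cfsg.solvableRadical G = Cfsg.twoZCore G := by
  apply le_antisymm
  · apply sSup_le
    rintro N ⟨hN, hsol⟩
    by_cases htop : N = ⊤
    · exfalso
      apply not_isSolvable hD hc hDD
      subst htop
      exact Group.isSolvable_of_surjective (f := (Subgroup.topEquiv : (⊤ : Subgroup G) ≃* G).toMonoidHom)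
        (Subgroup.topEquiv : (⊤ : Subgroup G) ≃* G).surjective
    · exact le_twoZCore hD hc hDD N htop
  · exact le_sSup ⟨inferInstance, isSolvable_twoZCore⟩

end

end Cfsg.Agent.Lib.H6.RootInv
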