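import Mathlib

set_option autoImplicit false

/-! # Words for presentations of `L2(25)`, the Tits group and the Rudvalis group (generated) -/

namespace Cfsg.Agent.Lib.H6.RuData

/-- the word of the first generator of `L2(25)` in the generators of the Tits group -/
def W1 : List ℕ := [2, 0, 3, 0, 3, 0, 2, 0, 3, 0, 3, 0, 3, 0, 2, 0, 2, 0, 2]

/-- the word of the second generator of `L2(25)` -/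
def W2 : List ℕ := [0, 2, 0, 2, 0, 2, 0, 2, 0, 3, 0, 3, 0, 2, 0, 2, 0, 2, 0, 3, 0, 2, 0, 2, 0]

/-- relators of `L2(25)` on two generators (letters `0 ↦ m, 1 ↦ m⁻¹, 2 ↦ n, 3 ↦ n⁻¹`) -/
def WD : List (List ℕ) := [
  [0, 0, 0, 3, 3, 1, 2, 2, 1, 2, 2],
  [0, 0, 2, 1, 1, 2, 1, 2, 3, 1, 2],
  [0, 2, 1, 3, 0, 2, 1, 3, 0, 2, 1, 3],
  [0, 0, 0, 0]]

/-- relators of the Tits group (letters `0 ↦ a, 1 ↦ a⁻¹, 2 ↦ b, 3 ↦ b⁻¹`) -/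
def tits : List (List ℕ) := [
  [0, 0],
  [2, 2, 2],
  [0, 2, 0, 2, 0, 2, 0, 2, 0, 2, 0, 2, 0, 2, 0, 2, 0, 2, 0, 2, 0, 2, 0, 2, 0, 2],
  [1, 3, 0, 2, 1, 3, 0, 2, 1, 3, 0, 2, 1, 3, 0, 2, 1, 3, 0, 2],
  [1, 3, 1, 3, 0, 2, 0, 2, 1, 3, 1, 3, 0, 2, 0, 2, 1, 3, 1, 3, 0, 2, 0, 2, 1, 3, 1, 3, 0, 2, 0, 2],
  [0, 2, 0, 2, 0, 2, 0, 2, 0, 3, 0, 2, 0, 2, 0, 2, 0, 2, 0, 3, 0, 2, 0, 2, 0, 2, 0, 2, 0, 3, 0, 2, 0, 2, 0, 2, 0, 2, 0, 3, 0, 2, 0, 2, 0, 2, 0, 2, 0, 3, 0, 2, 0, 2, 0, 2, 0, 2, 0, 3]]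

/-- further relators of the Rudvalis group (letters `a, b, m, n, s, t` and inverses) -/
def extraR : List (List ℕ) := [
  [8, 2, 9, 1, 3, 1, 3, 1, 3, 1, 3, 1, 3, 1, 2, 1, 3, 1, 3, 1, 3, 1, 2, 1, 2, 1, 2, 1, 2, 1, 3, 1, 3, 1, 3, 1, 2, 1, 3],
  [8, 0, 9, 3, 1, 2, 1, 2, 1, 2, 1, 3, 1, 2, 1, 2, 1, 2, 1, 3, 1, 3, 1, 3, 1, 2, 1, 3, 1, 3, 1, 3, 1, 2],
  [0, 2, 0, 2, 0, 2, 0, 2, 0, 3, 0, 3, 0, 2, 0, 2, 0, 2, 0, 3, 0, 2, 0, 2, 0, 7],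
  [10, 2, 9, 3, 9, 2, 0, 3, 8, 10, 9, 2, 8, 0, 3, 0, 2, 10, 3, 0, 3, 9, 3, 8, 0, 8],
  [10, 9, 0, 3, 8, 8, 0, 8, 8, 10, 8, 0, 9, 0, 9, 10, 0, 3, 8, 2, 0, 9, 9],
  [10, 3, 0, 8, 2, 8, 2, 8, 10, 8, 0, 8, 0, 9, 10, 0, 2, 9, 2, 9, 9, 3, 0],
  [10, 9, 0, 3, 0, 8, 3, 10, 8, 0, 9, 0, 9, 2, 8, 10, 2, 8, 0, 9, 2],
  [2, 0, 3, 0, 3, 0, 2, 0, 3, 0, 3, 0, 3, 0, 2, 0, 2, 0, 2, 5],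
  [10, 6, 10, 5, 6, 4, 6, 5, 6, 5, 7, 4, 7, 5],
  [10, 8, 10, 6, 5, 6, 4, 7, 7, 5, 7, 9],
  [10, 4, 10, 5, 7, 4, 6, 4],
  [8, 8, 5, 5],
  [8, 4, 9, 4],
  [10, 10]]

/-- the relators used in the coset enumeration of the Rudvalis group -/
def tcR : List (List ℕ) := [
  [0, 2, 0, 2, 0, 2, 0, 2, 0, 3, 0, 2, 0, 2, 0, 2, 0, 2, 0, 3, 0, 2, 0, 2, 0, 2, 0, 2, 0, 3, 0, 2, 0, 2, 0, 2, 0, 2, 0, 3, 0, 2, 0, 2, 0, 2, 0, 2, 0, 3, 0, 2, 0, 2, 0, 2, 0, 2, 0, 3],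
  [8, 2, 9, 1, 3, 1, 3, 1, 3, 1, 3, 1, 3, 1, 2, 1, 3, 1, 3, 1, 3, 1, 2, 1, 2, 1, 2, 1, 2, 1, 3, 1, 3, 1, 3, 1, 2, 1, 3],
  [8, 0, 9, 3, 1, 2, 1, 2, 1, 2, 1, 3, 1, 2, 1, 2, 1, 2, 1, 3, 1, 3, 1, 3, 1, 2, 1, 3, 1, 3, 1, 3, 1, 2],
  [1, 3, 1, 3, 0, 2, 0, 2, 1, 3, 1, 3, 0, 2, 0, 2, 1, 3, 1, 3, 0, 2, 0, 2, 1, 3, 1, 3, 0, 2, 0, 2],
  [0, 2, 0, 2, 0, 2, 0, 2, 0, 2, 0, 2, 0, 2, 0, 2, 0, 2, 0, 2, 0, 2, 0, 2, 0, 2],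
  [0, 2, 0, 2, 0, 2, 0, 2, 0, 3, 0, 3, 0, 2, 0, 2, 0, 2, 0, 3, 0, 2, 0, 2, 0, 7],
  [10, 2, 9, 3, 9, 2, 0, 3, 8, 10, 9, 2, 8, 0, 3, 0, 2, 10, 3, 0, 3, 9, 3, 8, 0, 8],
  [10, 9, 0, 3, 8, 8, 0, 8, 8, 10, 8, 0, 9, 0, 9, 10, 0, 3, 8, 2, 0, 9, 9],
  [10, 3, 0, 8, 2, 8, 2, 8, 10, 8, 0, 8, 0, 9, 10, 0, 2, 9, 2, 9, 9, 3, 0],
  [10, 9, 0, 3, 0, 8, 3, 10, 8, 0, 9, 0, 9, 2, 8, 10, 2, 8, 0, 9, 2],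
  [1, 3, 0, 2, 1, 3, 0, 2, 1, 3, 0, 2, 1, 3, 0, 2, 1, 3, 0, 2],
  [2, 0, 3, 0, 3, 0, 2, 0, 3, 0, 3, 0, 3, 0, 2, 0, 2, 0, 2, 5],
  [10, 6, 10, 5, 6, 4, 6, 5, 6, 5, 7, 4, 7, 5],
  [10, 8, 10, 6, 5, 6, 4, 7, 7, 5, 7, 9],
  [10, 4, 10, 5, 7, 4, 6, 4],
  [8, 8, 5, 5],
  [8, 4, 9, 4],
  [2, 2, 2],
  [0, 0],
  [10, 10]]

/-- words for generators of a point stabiliser of the Tits group on `1755` points -/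
def pW : List (List ℕ) := [
  [2, 0, 3, 0, 2, 0, 3, 0, 2],
  [2, 0, 2, 0, 3, 0, 3, 0, 2, 0, 2, 0, 3, 0, 3],
  [2, 0, 2, 0, 2, 0, 3, 0, 2, 0, 2, 0, 3, 0, 3, 0, 3, 0, 2, 0, 3, 0, 3, 0, 2, 0, 2, 0, 3, 0, 2, 0, 2, 0, 3, 0, 3, 0, 3]]

end Cfsg.Agent.Lib.H6.RuData
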