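import Cfsg.Agent.Lib.H6.RuPres
import Cfsg.Agent.Lib.H6.RuP.Good
import Cfsg.Agent.Lib.H6.RuP.Orb

set_option autoImplicit false
set_option maxRecDepth 100000

/-!
# The presented Rudvalis group on `4060` points: the order

The permutation representation `φ` of the presented group on `4060` points and the chain of
stabilisers of the points `0, 1, 1451, 9` with orbits of lengths `4060, 2304, 650, 24`: the
presented group has exactly `145926144000` elements and acts faithfully.
-/

namespace Cfsg.Agent.Lib.H6.RuPerm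

open Cfsg.Agent.Lib.H6.WordPres Cfsg.Agent.Lib.H17.CosetCert Cfsg.Agent.Lib.H6.RuData
  Cfsg.Agent.Lib.H6.RuPres Cfsg.Agent.Lib.H6.PermTab Cfsg.Agent.Lib.H6.PermFast
  Cfsg.Agent.Lib.H6.Chain Cfsg.Agent.Lib.H17.Sgs

/-- the number of points -/
abbrev n : ℕ := 4060

theorem good : Good RuP.T RuP.iv 18 n := by
  refine ⟨by decide, by decide, fun x hx i hi => (RuP.all_chunks i hi).2.1 x hx, ?_⟩
  intro x hx i hi
  have hmem : ([x, RuP.iv x], ([] : List ℕ)) ∈ RuP.eqPairs := by
    interval_cases x <;> decide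
  have := (RuP.all_chunks i hi).1 _ hmem
  rw [applyW_cons, applyW_cons, applyW_nil, applyW_nil] at this
  exact this

/-- the permutation of a letter -/
noncomputable def sg (x : ℕ) : Equiv.Perm (Fin n) := σ RuP.T RuP.iv 18 n x

/-- the letter assignment -/
noncomputable def eps (x : ℕ) : Equiv.Perm (Fin n) := (sg x)⁻¹

theorem sg_iv (x : ℕ) (hx : x < 18) : sg (RuP.iv x) = (sg x)⁻¹ := σ_iv _ _ _ _ good x hx

theorem eps_iv (x : ℕ) (hx : x < 18) : eps (RuP.iv x) = (eps x)⁻¹ := by
  unfold eps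
  rw [sg_iv x hx]

theorem eps_eq (u v : List ℕ) (hmem : (u, v) ∈ RuP.eqPairs) (hu : ∀ x ∈ u, x < 18)
    (hv : ∀ x ∈ v, x < 18) : (u.map eps).prod = (v.map eps).prod :=
  prod_inv_eq_of_apply_eq _ _ _ _ good u v hu hv
    (fun i hi => (RuP.all_chunks i hi).1 _ hmem)

theorem eps_one (w : List ℕ) (hmem : (w, ([] : List ℕ)) ∈ RuP.eqPairs) (hw : ∀ x ∈ w, x < 18) :
    (w.map eps).prod = 1 := by
  have := eps_eq w [] hmem hw (by simp)
  simpa using this

/-- the images of the generators -/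
noncomputable def fφ (j : ℕ) : Equiv.Perm (Fin n) := eps (2 * j)

theorem ltv_fφ : ∀ x < 12, ltv fφ x = eps x := by
  intro x hx
  unfold ltv fφ
  by_cases h : x % 2 = 0
  · rw [if_pos h]
    congr 1
    omega
  · rw [if_neg h, ← eps_iv _ (by omega)]
    congr 1
    unfold RuP.iv
    have : (2 * (x / 2)) % 2 = 0 := by omega
    rw [if_pos this]
    omega

set_option maxHeartbeats 0 in
theorem WR_sub : ∀ w ∈ WR, (w, ([] : List ℕ)) ∈ RuP.eqPairs ∧ ∀ x ∈ w, x < 18 := by
  decide +kernel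

theorem map_ltv_fφ (w : List ℕ) (hw : ∀ x ∈ w, x < 12) : w.map (ltv fφ) = w.map eps := by
  apply List.map_congr_left
  intro x hx
  exact ltv_fφ x (hw x hx)

theorem fφ_rel : ∀ w ∈ WR, (w.map (ltv fφ)).prod = 1 := by
  intro w hw
  rw [map_ltv_fφ w (WR_lt w hw)]
  exact eps_one w (WR_sub w hw).1 (WR_sub w hw).2

/-- the permutation representation on `4060` points -/
noncomputable def φ : R →* Equiv.Perm (Fin n) := lift 6 WR fφ WR_lt fφ_rel

theorem φ_e (x : ℕ) (hx : x < 12) : φ (e 6 WR x) = eps x := by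
  unfold φ
  rw [lift_e 6 WR fφ WR_lt fφ_rel x hx, ltv_fφ x hx]

theorem φ_prod (w : List ℕ) (hw : ∀ x ∈ w, x < 12) :
    φ ((w.map (e 6 WR)).prod) = (w.map eps).prod := by
  unfold φ
  rw [lift_prod_e 6 WR fφ WR_lt fφ_rel w hw, map_ltv_fφ w hw]

/-! ## The elements of the stabiliser of three points -/

/-- the words of the generators of the stabiliser of three points -/
def uw (k : ℕ) : List ℕ :=
  if k = 0 then [7, 4, 6, 5, 6] else if k = 1 then [4, 6, 8, 6, 4, 8] else [5, 7, 4, 9, 7, 9]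

/-- the generators of the stabiliser of three points -/
noncomputable def ue (k : ℕ) : R := ((uw k).map (e 6 WR)).prod

theorem uw_lt : ∀ k < 3, ∀ x ∈ uw k, x < 12 := by decide

theorem uw_pair : ∀ k < 3, (uw k, [12 + 2 * k]) ∈ RuP.eqPairs := by decide

theorem φ_ue (k : ℕ) (hk : k < 3) : φ (ue k) = eps (12 + 2 * k) := by
  unfold ue
  rw [φ_prod (uw k) (uw_lt k hk)]
  have h := eps_eq (uw k) [12 + 2 * k] (uw_pair k hk)
    (fun x hx => lt_trans (uw_lt k hk x hx) (by norm_num))
    (by intro x hx; rw [List.mem_singleton] at hx; omega)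
  simpa using h

/-- the value of a letter `12 ≤ x < 18` -/
noncomputable def ul (x : ℕ) : R := if x % 2 = 0 then ue ((x - 12) / 2) else (ue ((x - 13) / 2))⁻¹

theorem φ_ul : ∀ x, 12 ≤ x → x < 18 → φ (ul x) = eps x := by
  intro x h1 h2
  unfold ul
  by_cases h : x % 2 = 0
  · rw [if_pos h, φ_ue _ (by omega)]
    congr 1
    omega
  · rw [if_neg h, map_inv, φ_ue _ (by omega), ← eps_iv _ (by omega)]
    congr 1
    unfold RuP.iv
    have : (12 + 2 * ((x - 13) / 2)) % 2 = 0 := by omega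
    rw [if_pos this]
    omega

/-- the group element of every letter -/
noncomputable def lv (x : ℕ) : R := if x < 12 then e 6 WR x else ul x

theorem φ_lv : ∀ x < 18, φ (lv x) = eps x := by
  intro x hx
  unfold lv
  by_cases h : x < 12
  · rw [if_pos h, φ_e x h]
  · rw [if_neg h, φ_ul x (by omega) hx]

theorem sg_ex : ∀ x < 18, ∃ g : R, φ g = σ RuP.T RuP.iv 18 n x := by
  intro x hx
  refine ⟨(lv x)⁻¹, ?_⟩
  rw [map_inv, φ_lv x hx]
  exact inv_inv _

/-! ## The chain of stabilisers -/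

theorem allbits : ∀ i < n, tb RuP.mALL i = true :=
  Cfsg.Agent.Lib.H17.Masks.all_of_count RuP.mALL n RuP.countALL

theorem fix0 : ∀ x < 10, RuP.T x 0 = 0 := by
  intro x h2
  interval_cases x <;> decide +kernel

theorem fix0' : ∀ x, 12 ≤ x → x < 18 → RuP.T x 0 = 0 := by
  intro x h1 h2
  interval_cases x <;> decide +kernel

theorem fix1 : ∀ x, 4 ≤ x → x < 10 → RuP.T x 1 = 1 := by
  intro x h1 h2
  interval_cases x <;> decide +kernel

theorem fix1' : ∀ x, 12 ≤ x → x < 18 → RuP.T x 1 = 1 := by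
  intro x h1 h2
  interval_cases x <;> decide +kernel

theorem fix1451 : ∀ x, 12 ≤ x → x < 18 → RuP.T x 1451 = 1451 := by
  intro x h1 h2
  interval_cases x <;> decide +kernel

theorem hs0 : ∀ i < n, tb RuP.mALL i = true →
    i = 0 ∨ ∃ x, 0 ≤ x ∧ x < 0 + 12 ∧ tb RuP.mALL (RuP.T x i) = true ∧
      (fun j : ℕ => j) (RuP.T x i) < (fun j : ℕ => j) i := by
  intro i hi _
  by_cases h0 : i = 0
  · exact Or.inl h0
  · obtain ⟨x, hx, hlt⟩ := (RuP.all_chunks i hi).2.2 h0
    exact Or.inr ⟨x, Nat.zero_le _, by omega,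
      allbits _ ((RuP.all_chunks i hi).2.1 x (by omega)), hlt⟩

theorem lv0 : 4060 * Nat.card (stabL φ [0]) ≤ Nat.card (stabL φ []) := by
  refine step' RuP.T (fun i => i) RuP.iv 18 n φ good [] 0 (by norm_num) RuP.mALL 0 12 4060
    (by norm_num) ?_ ?_ (allbits 0 (by norm_num)) hs0 RuP.countALL
  · intro x _ h2
    exact sg_ex x (by omega)
  · intro x _ _ c hc
    simp at hc

theorem lv1 : 2304 * Nat.card (stabL φ [1, 0]) ≤ Nat.card (stabL φ [0]) := by
  refine step' RuP.T RuP.RA RuP.iv 18 n φ good [0] 1 (by norm_num) RuP.mO2 0 4 2304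
    (by norm_num) ?_ ?_ RuP.rootO2 RuP.orbO2_all RuP.countO2
  · intro x _ h2
    exact sg_ex x (by omega)
  · intro x _ h2 c hc
    rw [List.mem_singleton] at hc
    subst hc
    exact fix0 x (by omega)

theorem lv2 : 650 * Nat.card (stabL φ [1451, 1, 0]) ≤ Nat.card (stabL φ [1, 0]) := by
  refine step' RuP.T RuP.RB RuP.iv 18 n φ good [1, 0] 1451 (by norm_num) RuP.mL2 4 6 650
    (by norm_num) ?_ ?_ RuP.rootL2 RuP.orbL2_all RuP.countL2
  · intro x _ h2
    exact sg_ex x (by omega)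
  · intro x h1 h2 c hc
    simp only [List.mem_cons, List.not_mem_nil, or_false] at hc
    rcases hc with rfl | rfl
    · exact fix1 x h1 (by omega)
    · exact fix0 x (by omega)

theorem lv3 : 24 * Nat.card (stabL φ [9, 1451, 1, 0]) ≤ Nat.card (stabL φ [1451, 1, 0]) := by
  refine step' RuP.T RuP.RC RuP.iv 18 n φ good [1451, 1, 0] 9 (by norm_num) RuP.mL3 12 6 24
    (by norm_num) ?_ ?_ RuP.rootL3 RuP.orbL3_all RuP.countL3
  · intro x _ h2
    exact sg_ex x (by omega)
  · intro x h1 h2 c hc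
    simp only [List.mem_cons, List.not_mem_nil, or_false] at hc
    rcases hc with rfl | rfl | rfl
    · exact fix1451 x h1 (by omega)
    · exact fix1' x h1 (by omega)
    · exact fix0' x h1 (by omega)

theorem card_eq : Nat.card R = 145926144000 := by
  apply le_antisymm RuPres.card_le.2
  have h0 := lv0
  have h1 := lv1
  have h2 := lv2
  have h3 := lv3
  have h4 : 1 ≤ Nat.card (stabL φ [9, 1451, 1, 0]) := one_le_card φ _
  rw [card_stabL_nil] at h0
  nlinarith

theorem card_stab_last : Nat.card (stabL φ [9, 1451, 1, 0]) = 1 := by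
  have h0 := lv0
  have h1 := lv1
  have h2 := lv2
  have h3 := lv3
  have h4 : 1 ≤ Nat.card (stabL φ [9, 1451, 1, 0]) := one_le_card φ _
  rw [card_stabL_nil, card_eq] at h0
  nlinarith

theorem φ_injective : Function.Injective φ := by
  rw [← MonoidHom.ker_eq_bot_iff, eq_bot_iff]
  intro g hg
  have hmem : g ∈ stabL φ [9, 1451, 1, 0] := by
    intro c _ hc
    rw [MonoidHom.mem_ker.mp hg]
    rfl
  have hbot : stabL φ [9, 1451, 1, 0] = ⊥ :=
    Subgroup.eq_bot_of_card_le _ (le_of_eq card_stab_last)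
  rw [hbot] at hmem
  exact hmem

end Cfsg.Agent.Lib.H6.RuPerm
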