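import Cfsg.Agent.Lib.H6.TitsSimple
import Cfsg.Agent.Lib.H6.RuTC.Cert

set_option autoImplicit false
set_option maxRecDepth 100000

/-!
# A presentation of the Rudvalis group: the upper bound for the order

The group `R` has generators `a, b, m, n, s, t`: the first two satisfy the relators of the
presented Tits group, `m` and `n` are words in them generating `L2(25)`, `s` normalises
`⟨a, b⟩` with square in `⟨m, n⟩`, and `t` is an involution normalising `⟨m, n, s⟩`; four further
relators `t x₁ t x₂ t x₃` close the coset enumeration over `⟨a, b⟩` with `8120` cosets.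
-/

namespace Cfsg.Agent.Lib.H6.RuPres

open Cfsg.Agent.Lib.H6.WordPres Cfsg.Agent.Lib.H6.TCApply Cfsg.Agent.Lib.H6.RuData

/-- the relators -/
def WR : List (List ℕ) := TitsPres.WT ++ extraR

/-- the presented Rudvalis group -/
abbrev R : Type := P 6 WR

set_option maxHeartbeats 0 in
theorem WR_lt : ∀ w ∈ WR, ∀ x ∈ w, x < 2 * 6 := by decide +kernel

/-! ## The image of the Tits group -/

/-- the images of the generators of the Tits group -/
def fι (j : ℕ) : R := g 6 WR j

theorem fι_rel : ∀ w ∈ TitsPres.WT, (w.map (ltv fι)).prod = 1 := fun w hw =>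
  rel_trivial 6 WR w (List.mem_append_left _ hw)

/-- the homomorphism from the presented Tits group -/
noncomputable def ι : TitsPres.G →* R := lift 2 TitsPres.WT fι TitsPres.WT_lt fι_rel

theorem ι_e (x : ℕ) (hx : x < 4) : ι (e 2 TitsPres.WT x) = e 6 WR x := by
  unfold ι
  rw [lift_e 2 TitsPres.WT fι TitsPres.WT_lt fι_rel x hx]
  rfl

/-- the subgroup `⟨a, b⟩` -/
def H0 : Subgroup R := Subgroup.closure {e 6 WR 0, e 6 WR 2}

theorem H0_le : H0 ≤ ι.range := by
  unfold H0
  rw [Subgroup.closure_le]
  rintro x (rfl | rfl)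
  · exact ⟨_, ι_e 0 (by norm_num)⟩
  · exact ⟨_, ι_e 2 (by norm_num)⟩

instance : Finite ι.range := Finite.of_surjective ι.rangeRestrict ι.rangeRestrict_surjective

instance : Finite H0 :=
  Finite.of_injective (Subgroup.inclusion H0_le) (Subgroup.inclusion_injective H0_le)

theorem card_H0 : Nat.card H0 ≤ 17971200 := by
  have h1 : Nat.card H0 ≤ Nat.card ι.range := Subgroup.card_le_of_le H0_le
  have h2 : Nat.card ι.range ≤ Nat.card TitsPres.G :=
    Nat.card_le_card_of_surjective ι.rangeRestrict ι.rangeRestrict_surjective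
  exact le_trans h1 (le_trans h2 TitsPres.card_le.2)

/-! ## The coset enumeration -/

theorem ru_bound : Bound RuTC.iv 12 RuTC.words 8120 := fun _ _ _ _ _ γ hiv q0 hw hgen =>
  RuTC.bound γ hiv q0 hw hgen

theorem ru_iv : ∀ x < 12, RuTC.iv x = iv x := by decide

set_option maxHeartbeats 0 in
theorem ru_words : RuTC.words.toList.all (okWord RuTC.iv 12 tcR [[0], [2]]) = true := by
  decide +kernel

set_option maxHeartbeats 0 in
theorem tcR_sub : ∀ w ∈ tcR, w ∈ WR := by decide +kernel

theorem index_le_H0 : H0.index ≠ 0 ∧ H0.index ≤ 8120 := by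
  refine index_le (e 6 WR) H0 RuTC.iv 12 ?_ tcR [[0], [2]] ?_ ?_ RuTC.words ru_words
    (closure_e 6 WR) 8120 ru_bound
  · intro x hx
    rw [ru_iv x hx]
    exact e_iv 6 WR x
  · intro w hw
    exact rel_trivial 6 WR w (tcR_sub w hw)
  · intro w hw
    simp only [List.mem_cons, List.not_mem_nil, or_false] at hw
    rcases hw with rfl | rfl
    · rw [List.map_singleton, List.prod_singleton]
      exact Subgroup.subset_closure (Or.inl rfl)
    · rw [List.map_singleton, List.prod_singleton]
      exact Subgroup.subset_closure (Or.inr rfl)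

theorem card_le : Finite R ∧ Nat.card R ≤ 145926144000 := by
  have hmul := H0.card_mul_index
  have hpos : 0 < Nat.card H0 := Nat.card_pos
  have hfin : Finite R := by
    apply Nat.finite_of_card_ne_zero
    rw [← hmul]
    exact Nat.mul_ne_zero hpos.ne' index_le_H0.1
  refine ⟨hfin, ?_⟩
  rw [← hmul]
  calc Nat.card H0 * H0.index ≤ 17971200 * 8120 := Nat.mul_le_mul card_H0 index_le_H0.2
    _ = 145926144000 := by norm_num

instance : Finite R := card_le.1

end Cfsg.Agent.Lib.H6.RuPres
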