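import Cfsg.Agent.Lib.H6.RuPerm
import Cfsg.Prelude.Def_Sporadic

set_option autoImplicit false
set_option maxRecDepth 100000

/-!
# The presented Rudvalis group is simple

The action on `4060` points is primitive, with suborbits of lengths `1755` and `2304`.  A normal
subgroup `N ≠ 1` is transitive.  If it contains the image of the (simple) Tits group, it
contains all generators.  Otherwise it meets this image trivially, so it has `4060` or `8120`
elements and a normal Sylow `29`-subgroup, which is normal in the whole group but too small to be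
transitive.
-/

namespace Cfsg.Agent.Lib.H6.RuPerm

open Cfsg.Agent.Lib.H6.WordPres Cfsg.Agent.Lib.H17.CosetCert Cfsg.Agent.Lib.H6.RuData
  Cfsg.Agent.Lib.H6.RuPres Cfsg.Agent.Lib.H6.PermTab Cfsg.Agent.Lib.H6.PermFast
  Cfsg.Agent.Lib.H6.Chain Cfsg.Agent.Lib.H17.Sgs Cfsg.Agent.Lib.H17.Masks MulAction
open scoped Pointwise

/-! ## A normal subgroup containing `a` and `b` is everything -/

theorem prod_filter {K : Type*} [Monoid K] (f : ℕ → K) (p : ℕ → Bool)
    (hp : ∀ x, p x = true → f x = 1) (w : List ℕ) :
    (w.map f).prod = ((w.filter fun x => !p x).map f).prod := by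
  induction w with
  | nil => rfl
  | cons x w ih =>
    rw [List.map_cons, List.prod_cons, ih, List.filter_cons]
    cases h : p x
    · simp
    · simp [hp x h]

set_option maxHeartbeats 0 in
theorem rel_mem : W1 ++ [5] ∈ WR ∧ W2 ++ [7] ∈ WR ∧ [10, 10] ∈ WR ∧ extraR.getD 6 [] ∈ WR ∧
    extraR.getD 4 [] ∈ WR := by
  decide +kernel

theorem filt_m : ((W1 ++ [5]).filter fun x => !decide (x < 4)) = [5] := by decide

theorem filt_n : ((W2 ++ [7]).filter fun x => !decide (x < 4)) = [7] := by decide

theorem filt_t : ((extraR.getD 6 []).filter fun x => !decide (x < 8)) =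
    [10, 9, 8, 10, 8, 9, 9, 8, 10, 8, 9] := by decide

theorem filt_s : ((extraR.getD 4 []).filter fun x => !decide (x < 8)) =
    [10, 9, 8, 8, 8, 8, 10, 8, 9, 9, 10, 8, 9, 9] := by decide

theorem kill_t {Q : Type*} [Group Q] (q : ℕ → Q) (h9 : q 9 = (q 8)⁻¹)
    (h2 : q 10 * q 10 = 1)
    (h : ([10, 9, 8, 10, 8, 9, 9, 8, 10, 8, 9].map q).prod = 1) : q 10 = 1 := by
  simp only [List.map_cons, List.map_nil, List.prod_cons, List.prod_nil, h9, mul_one,
    inv_mul_cancel_left, mul_inv_cancel_left, mul_inv_cancel] at h
  rw [h2, mul_one] at h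
  exact h

theorem kill_s {Q : Type*} [Group Q] (q : ℕ → Q) (h9 : q 9 = (q 8)⁻¹) (h10 : q 10 = 1)
    (h : ([10, 9, 8, 8, 8, 8, 10, 8, 9, 9, 10, 8, 9, 9].map q).prod = 1) : q 8 = 1 := by
  simp only [List.map_cons, List.map_nil, List.prod_cons, List.prod_nil, h9, h10, mul_one,
    one_mul, inv_mul_cancel_left, mul_inv_cancel_left, mul_inv_cancel] at h
  exact h

theorem top_of_ab (N : Subgroup R) [N.Normal] (ha : e 6 WR 0 ∈ N) (hb : e 6 WR 2 ∈ N) :
    N = ⊤ := by
  let q : ℕ → R ⧸ N := fun x => ((e 6 WR x : R) : R ⧸ N)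
  have hrel : ∀ w ∈ WR, (w.map q).prod = 1 := by
    intro w hw
    have h1 : (w.map q).prod = (((w.map (e 6 WR)).prod : R) : R ⧸ N) := by
      have := map_list_prod (QuotientGroup.mk' N) (w.map (e 6 WR))
      rw [List.map_map] at this
      exact this.symm
    rw [h1, rel_trivial 6 WR w hw]
    rfl
  have hinv : ∀ x, q (iv x) = (q x)⁻¹ := by
    intro x
    change ((e 6 WR (iv x) : R) : R ⧸ N) = _
    rw [e_iv]
    rfl
  have h0 : q 0 = 1 := (QuotientGroup.eq_one_iff _).mpr ha
  have h2 : q 2 = 1 := (QuotientGroup.eq_one_iff _).mpr hb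
  have h1 : q 1 = 1 := by
    have := hinv 0
    rw [h0, inv_one] at this
    exact this
  have h3 : q 3 = 1 := by
    have := hinv 2
    rw [h2, inv_one] at this
    exact this
  have hp4 : ∀ x, decide (x < 4) = true → q x = 1 := by
    intro x hx
    rw [decide_eq_true_eq] at hx
    interval_cases x
    · exact h0
    · exact h1
    · exact h2
    · exact h3
  obtain ⟨m1, m2, m3, m4, m5⟩ := rel_mem
  have h5 : q 5 = 1 := by
    have := hrel _ m1
    rw [prod_filter q (fun x => decide (x < 4)) hp4, filt_m] at this
    simpa using this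
  have h4 : q 4 = 1 := by
    have := hinv 4
    rw [show iv 4 = 5 from rfl, h5] at this
    exact inv_eq_one.mp this.symm
  have h7 : q 7 = 1 := by
    have := hrel _ m2
    rw [prod_filter q (fun x => decide (x < 4)) hp4, filt_n] at this
    simpa using this
  have h6 : q 6 = 1 := by
    have := hinv 6
    rw [show iv 6 = 7 from rfl, h7] at this
    exact inv_eq_one.mp this.symm
  have hp8 : ∀ x, decide (x < 8) = true → q x = 1 := by
    intro x hx
    rw [decide_eq_true_eq] at hx
    interval_cases x
    · exact h0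
    · exact h1
    · exact h2
    · exact h3
    · exact h4
    · exact h5
    · exact h6
    · exact h7
  have h9 : q 9 = (q 8)⁻¹ := hinv 8
  have h11 : q 11 = (q 10)⁻¹ := hinv 10
  have htt : q 10 * q 10 = 1 := by
    have := hrel _ m3
    simpa using this
  have h10 : q 10 = 1 := by
    have := hrel _ m4
    rw [prod_filter q (fun x => decide (x < 8)) hp8, filt_t] at this
    exact kill_t q h9 htt this
  have h8 : q 8 = 1 := by
    have := hrel _ m5
    rw [prod_filter q (fun x => decide (x < 8)) hp8, filt_s] at this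
    exact kill_s q h9 h10 this
  rw [eq_top_iff, ← closure_e 6 WR, Subgroup.closure_le]
  rintro _ ⟨l, hl, rfl⟩
  rw [SetLike.mem_coe, ← QuotientGroup.eq_one_iff]
  change q l = 1
  by_cases hl8 : l < 8
  · exact hp8 l (by simpa using hl8)
  · have : l = 8 ∨ l = 9 ∨ l = 10 ∨ l = 11 := by omega
    rcases this with rfl | rfl | rfl | rfl
    · exact h8
    · rw [h9, h8, inv_one]
    · exact h10
    · rw [h11, h10, inv_one]

/-! ## The action -/

/-- the action on the points -/
noncomputable local instance actInst : MulAction R (Fin n) := MulAction.compHom (Fin n) φ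

theorem smul_eq (g : R) (i : Fin n) : g • i = φ g i := rfl

/-- the base point -/
abbrev z : Fin n := ⟨0, by norm_num⟩

theorem φ_trans : ∀ i : Fin n, ∃ g : R, φ g z = i := by
  refine trans_of_conn' RuP.T RuP.iv 18 n (by norm_num) φ good 12 (by norm_num) ?_
    (fun i hi hi0 => (RuP.all_chunks i hi).2.2 hi0)
  intro x hx
  exact sg_ex x (by omega)

instance pretrans : IsPretransitive R (Fin n) := (isPretransitive_iff_base z).mpr φ_trans

instance faithful : FaithfulSMul R (Fin n) :=
  ⟨fun heq => φ_injective (Equiv.ext heq)⟩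

theorem mem_stabL0 (g : R) : g ∈ stabL φ [0] ↔ g • z = z := by
  rw [mem_stabL, smul_eq]
  constructor
  · intro h
    exact h 0 (by simp) (by norm_num)
  · intro h c hc hcn
    rw [List.mem_singleton] at hc
    subst hc
    exact h

/-! ## Primitivity -/

theorem stab_ex : ∀ x, 0 ≤ x → x < 0 + 4 → ∃ g ∈ stabL φ [0], φ g = σ RuP.T RuP.iv 18 n x := by
  intro x _ h2
  obtain ⟨g, hg⟩ := sg_ex x (by omega)
  refine ⟨g, mem_stabL_of_fix RuP.T RuP.iv 18 n φ good [0] x (by omega) g hg ?_, hg⟩
  intro c hc
  rw [List.mem_singleton] at hc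
  subst hc
  exact fix0 x (by omega)

theorem trans_of_mask (mask root : ℕ) (hroot : root < n)
    (hs : ∀ i < n, tb mask i = true → i = root ∨ ∃ x, 0 ≤ x ∧ x < 0 + 4 ∧
      tb mask (RuP.T x i) = true ∧ RuP.RA (RuP.T x i) < RuP.RA i)
    (x y : Fin n) (hx : tb mask x = true) (hy : tb mask y = true) :
    ∃ g : R, g • z = z ∧ g • x = y := by
  obtain ⟨g, hg, hgx⟩ := orb_trans RuP.T RuP.RA RuP.iv 18 n φ good (stabL φ [0]) mask root 0 4
    hroot (by norm_num) stab_ex hs x y hx hy
  exact ⟨g, (mem_stabL0 g).mp hg, hgx⟩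

/-- the orbit masks -/
def masks : Fin 2 → ℕ := ![RuP.mO1, RuP.mO2]

set_option maxHeartbeats 0 in
theorem cover_count : countBits (Nat.lor (Nat.lor RuP.mO1 RuP.mO2) 1) 4060 0 = 4060 := by
  decide +kernel

set_option maxHeartbeats 0 in
theorem disj_all : Nat.land RuP.mO1 RuP.mO2 = 0 ∧ Nat.land RuP.mO2 RuP.mO1 = 0 := by
  decide +kernel

set_option maxHeartbeats 0 in
theorem zbits : tb RuP.mO1 0 = false ∧ tb RuP.mO2 0 = false := by
  decide +kernel

instance prim : IsPreprimitive R (Fin n) := by
  apply prim_of_masks z masks ![1755, 2304]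
  · intro j
    fin_cases j
    · exact RuP.countO1
    · exact RuP.countO2
  · intro i hi
    have h := all_of_count _ _ cover_count i i.2
    rw [tb_lor, tb_lor, tb_one] at h
    have hi0 : (i : ℕ) ≠ 0 := fun h0 => hi (Fin.ext h0)
    simp only [hi0, decide_false, Bool.or_false, Bool.or_eq_true] at h
    rcases h with h | h
    · exact ⟨0, h⟩
    · exact ⟨1, h⟩
  · intro i j hij
    obtain ⟨d1, d2⟩ := disj_all
    fin_cases i <;> fin_cases j
    · exact absurd rfl hij
    · exact d1
    · exact d2
    · exact absurd rfl hij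
  · intro j
    obtain ⟨z1, z2⟩ := zbits
    fin_cases j
    · exact z1
    · exact z2
  · intro j x y hx hy
    fin_cases j
    · exact trans_of_mask RuP.mO1 _ (by norm_num) RuP.orbO1_all x y hx hy
    · exact trans_of_mask RuP.mO2 _ (by norm_num) RuP.orbO2_all x y hx hy
  · decide

/-! ## Normal subgroups -/

/-- a normal subgroup other than `1` has order divisible by `4060` -/
theorem dvd_card_of_normal (N : Subgroup R) [N.Normal] (hN : N ≠ ⊥) : 4060 ∣ Nat.card N := by
  have hfix : fixedPoints N (Fin n) ≠ Set.univ := by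
    intro h
    apply hN
    rw [eq_bot_iff]
    intro g hg
    rw [Subgroup.mem_bot]
    apply φ_injective
    rw [map_one]
    ext i
    have hi : i ∈ fixedPoints N (Fin n) := by rw [h]; trivial
    have := hi ⟨g, hg⟩
    exact congrArg Fin.val this
  haveI : IsPretransitive N (Fin n) := IsQuasiPreprimitive.isPretransitive_of_normal hfix
  have h1 := index_stabilizer_of_transitive N z
  have h2 := (stabilizer N z).card_mul_index
  have h3 : Nat.card (Fin n) = 4060 := by rw [Nat.card_eq_fintype_card, Fintype.card_fin]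
  rw [h1, h3] at h2
  exact ⟨_, by rw [← h2, mul_comm]⟩

/-- the image of the Tits group -/
noncomputable def TT : Subgroup R := ι.range

theorem φ_a_ne : φ (e 6 WR 0) ≠ 1 := by
  rw [φ_e 0 (by norm_num)]
  intro h1
  have h2 : sg 0 = 1 := by
    unfold eps at h1
    exact inv_eq_one.mp h1
  have h3 := σ_apply RuP.T RuP.iv 18 n good 0 (by norm_num) ⟨1, by norm_num⟩
  unfold sg at h2
  rw [h2] at h3
  have h4 : RuP.T 0 1 ≠ 1 := by decide +kernel
  exact h4 h3.symm

/-- a homomorphism from a simple group which is not trivial is injective -/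
theorem injective_of_simple' {A B : Type*} [Group A] [Group B] [IsSimpleGroup A] (f : A →* B)
    (a : A) (h : f a ≠ 1) : Function.Injective f := by
  rw [← MonoidHom.ker_eq_bot_iff]
  rcases (inferInstance : f.ker.Normal).eq_bot_or_eq_top with h1 | h1
  · exact h1
  · exfalso
    apply h
    rw [← MonoidHom.mem_ker, h1]
    exact Subgroup.mem_top a

theorem ι_injective : Function.Injective ι := by
  haveI := TitsPerm.simple
  apply injective_of_simple' ι (e 2 TitsPres.WT 0)
  rw [ι_e 0 (by norm_num)]
  intro h
  apply φ_a_ne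
  rw [h, map_one]

instance : IsSimpleGroup TT := by
  haveI := TitsPerm.simple
  exact (MonoidHom.ofInjective ι_injective).symm.isSimpleGroup

theorem card_TT : Nat.card TT = 17971200 := by
  rw [← TitsPerm.card_eq]
  exact (Nat.card_congr (MonoidHom.ofInjective ι_injective).toEquiv).symm

theorem sylow_count : ∀ k ≤ 280, k ∣ 280 → k % 29 = 1 → k = 1 := by decide

theorem simple : IsSimpleGroup R := by
  haveI : Nontrivial R := by
    rw [← Finite.one_lt_card_iff_nontrivial, card_eq]
    norm_num
  refine ⟨fun N hN => ?_⟩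
  by_contra hcon
  push Not at hcon
  obtain ⟨hbot, htop⟩ := hcon
  have hdvd := dvd_card_of_normal N hbot
  rcases (Subgroup.normal_subgroupOf (H := TT) (N := N)).eq_bot_or_eq_top with h | h
  · -- the normal subgroup meets the Tits group trivially
    have hdisj : Disjoint N TT := Subgroup.subgroupOf_eq_bot.mp h
    have hinj := Subgroup.mul_injective_of_disjoint hdisj
    have hle := Nat.card_le_card_of_injective _ hinj
    rw [Nat.card_prod, card_TT, card_eq] at hle
    have hpos : 0 < Nat.card N := Nat.card_pos
    have hle' : Nat.card N ≤ 8120 := by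
      by_contra hgt
      push Not at hgt
      have : 8121 * 17971200 ≤ Nat.card N * 17971200 := Nat.mul_le_mul_right _ hgt
      omega
    obtain ⟨c, hc⟩ := hdvd
    have hc12 : c = 1 ∨ c = 2 := by
      have : 0 < c := by
        rcases Nat.eq_zero_or_pos c with h0 | h0
        · rw [h0, mul_zero] at hc; omega
        · exact h0
      have : c ≤ 2 := by
        by_contra h3
        push Not at h3
        have : 4060 * 3 ≤ 4060 * c := Nat.mul_le_mul_left _ h3
        omega
      omega
    haveI : Fact (Nat.Prime 29) := ⟨by norm_num⟩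
    have h29 : 29 ∣ Nat.card N := by
      rw [hc]
      exact Dvd.dvd.mul_right (by norm_num) c
    let P : Sylow 29 N := default
    have hP1 : 29 ∣ Nat.card P := P.dvd_card_of_dvd_card h29
    obtain ⟨k, hk⟩ := IsPGroup.iff_card.mp P.isPGroup'
    have hPdvd : Nat.card P ∣ Nat.card N := Subgroup.card_subgroup_dvd_card _
    have hk1 : k = 1 := by
      have hk0 : k ≠ 0 := by
        intro h0
        rw [h0, pow_zero] at hk
        rw [hk] at hP1
        omega
      have hk2 : k < 2 := by
        by_contra h2
        push Not at h2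
        have h841 : 29 ^ 2 ∣ Nat.card N :=
          dvd_trans (pow_dvd_pow 29 h2) (by rw [← hk]; exact hPdvd)
        rw [hc] at h841
        rcases hc12 with rfl | rfl <;> omega
      omega
    rw [hk1, pow_one] at hk
    have hidx : (P : Subgroup N).index ∣ 280 := by
      have := (P : Subgroup N).card_mul_index
      rw [hk, hc] at this
      rcases hc12 with rfl | rfl
      · have h140 : (P : Subgroup N).index = 140 := by omega
        rw [h140]
        norm_num
      · have h280 : (P : Subgroup N).index = 280 := by omega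
        rw [h280]
    have hn1 := card_sylow_modEq_one 29 N
    have hn2 := dvd_trans (Sylow.card_dvd_index P) hidx
    have hn3 : Nat.card (Sylow 29 N) = 1 :=
      sylow_count _ (Nat.le_of_dvd (by norm_num) hn2) hn2 hn1
    haveI : Subsingleton (Sylow 29 N) := (Nat.card_eq_one_iff_unique.mp hn3).1
    haveI := Sylow.characteristic_of_subsingleton P
    let Q : Subgroup R := (P : Subgroup N).map N.subtype
    haveI : Q.Normal := ConjAct.normal_of_characteristic_of_normal
    have hQ : Nat.card Q = 29 := by
      rw [Subgroup.card_map_of_injective N.subtype_injective, hk]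
    have hQbot : Q ≠ ⊥ := by
      intro hb
      rw [hb, Subgroup.card_bot] at hQ
      omega
    have := dvd_card_of_normal Q hQbot
    rw [hQ] at this
    omega
  · -- the normal subgroup contains the Tits group
    have hle : TT ≤ N := Subgroup.subgroupOf_eq_top.mp h
    apply htop
    apply top_of_ab N
    · exact hle ⟨_, ι_e 0 (by norm_num)⟩
    · exact hle ⟨_, ι_e 2 (by norm_num)⟩

theorem isRu : Cfsg.IsRu R := ⟨simple, card_eq⟩

end Cfsg.Agent.Lib.H6.RuPerm
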