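import Mathlib
import Cfsg.Agent.Lib.H9.S3571Defs
import Cfsg.Agent.Lib.H18.AGN1
import Cfsg.Agent.S0713

/-!
# S3571, GROUP block, piece (C4a) (helper6)

A primitive subgroup `H` of `Sym(m)`, `m ≥ 8`, not containing `A_m`: there is a prime `p'` with
`m/2 < p' ≤ m` not dividing `|H|`.  Take a prime `p'` with `m < 2 p'` and `p' + 3 ≤ m`
(`5, 7, 11` for `m ≤ 16`, helper18's `exists_primes_gap` above); an element of `H` of order `p'`
(Cauchy) is a `p'`-cycle, and Jordan's theorem (landed S0713) gives `A_m ≤ H`.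
-/

set_option autoImplicit false

namespace Cfsg.Agent.Lib.H6.S3571C4a

open Equiv

/-- a prime `p` with `m < 2 p` and `p + 3 ≤ m`, for `m ≥ 8` -/
theorem exists_prime_jordan (m : ℕ) (hm : 8 ≤ m) :
    ∃ p : ℕ, p.Prime ∧ m < 2 * p ∧ p + 3 ≤ m := by
  by_cases h1 : m ≤ 9
  · exact ⟨5, by norm_num, by omega, by omega⟩
  by_cases h2 : m ≤ 13
  · exact ⟨7, by norm_num, by omega, by omega⟩
  by_cases h3 : m ≤ 16
  · exact ⟨11, by norm_num, by omega, by omega⟩
  obtain ⟨p, q, hp, _, h4, h5, h6⟩ := Cfsg.Agent.Lib.H18.AG.exists_primes_gap m (by omega)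
  exact ⟨p, hp, h4, by omega⟩

/-- a permutation of `m` points of prime order `p` with `m < 2 p` is a `p`-cycle -/
theorem isCycle_of_orderOf_prime {m p : ℕ} (hp : p.Prime) (hmp : m < 2 * p)
    (g : Perm (Fin m)) (hg : orderOf g = p) : g.IsCycle ∧ g.support.card = p := by
  have hpr : (orderOf g).Prime := by rw [hg]; exact hp
  obtain ⟨n, hn⟩ := Equiv.Perm.cycleType_prime_order hpr
  rw [hg] at hn
  have hsum : g.cycleType.sum = g.support.card := Equiv.Perm.sum_cycleType g
  rw [hn, Multiset.sum_replicate, smul_eq_mul] at hsum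
  have hle : g.support.card ≤ m := by
    have := Finset.card_le_univ g.support
    simpa using this
  have hn0 : n = 0 := by
    by_contra hne
    have h2 : 2 ≤ n + 1 := by omega
    have : 2 * p ≤ (n + 1) * p := Nat.mul_le_mul_right p h2
    omega
  subst hn0
  refine ⟨?_, by omega⟩
  rw [← Equiv.Perm.card_cycleType_eq_one, hn]
  simp

/-- (C4a) -/
theorem c4a : Cfsg.Agent.Lib.H9.S3571.C4aStmt := by
  intro m H hm hprim hA
  obtain ⟨p, hp, h1, h2⟩ := exists_prime_jordan m hm
  refine ⟨p, hp, h1, by omega, ?_⟩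
  intro hdvd
  apply hA
  have : Fact p.Prime := ⟨hp⟩
  obtain ⟨x, hx⟩ := exists_prime_orderOf_dvd_card' p hdvd
  have hg : orderOf (x : Perm (Fin m)) = p := by rw [Subgroup.orderOf_coe]; exact hx
  obtain ⟨hc, hs⟩ := isCycle_of_orderOf_prime hp h1 (x : Perm (Fin m)) hg
  exact Cfsg.Agent.S0713.result H hprim hp (by simp; omega) (by simp; omega) hc hs x.2

end Cfsg.Agent.Lib.H6.S3571C4a
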