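import Mathlib
import Cfsg.Agent.Lib.H9.S3571Defs

/-!
# S3571, GROUP block, piece (M6C) split (helper6): the cases `r = 5`, `r = 2` and the assembly

`A = A_6`, `|A| = 360`, `K < A`, `r` the largest prime divisor of `|A : K|`.
* (L1) if `r ∣ 360` and `r ∤ |K|` any element of order `r` (Cauchy) has no conjugate in `K`;
* `r = 5`: `25 ∤ 360`;
* `r = 2`: the index is `2, 4, 8`; `A` is simple, so it embeds in `Sym(A/K)`: `360 ∣ index!`, so the
  index is `8` and `|K| = 45` is odd;
* `r = 3` is an input (helper12's `m6c3`).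
-/

set_option autoImplicit false

namespace Cfsg.Agent.Lib.H6.S3571M6C25

open Equiv

theorem card_A6 : Nat.card ↥(alternatingGroup (Fin 6)) = 360 := by
  rw [nat_card_alternatingGroup]
  simp [Nat.factorial]

theorem index_mul_card_eq (K : Subgroup ↥(alternatingGroup (Fin 6))) :
    K.index * Nat.card ↥K = 360 := by
  rw [Subgroup.index_mul_card, card_A6]

/-- (L1) -/
theorem exists_of_not_dvd (K : Subgroup ↥(alternatingGroup (Fin 6))) (r : ℕ) (hr : r.Prime)
    (h360 : r ∣ 360) (hK : ¬ r ∣ Nat.card ↥K) :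
    ∃ t : ↥(alternatingGroup (Fin 6)), orderOf t = r ∧ ∀ g, g⁻¹ * t * g ∉ K := by
  have : Fact r.Prime := ⟨hr⟩
  obtain ⟨t, ht⟩ := exists_prime_orderOf_dvd_card' (G := ↥(alternatingGroup (Fin 6))) r
    (by rw [card_A6]; exact h360)
  refine ⟨t, ht, ?_⟩
  intro g hg
  apply hK
  have h1 : orderOf (g⁻¹ * t * g) = r := by
    have : g⁻¹ * t * g = MulAut.conj g⁻¹ t := by rw [MulAut.conj_apply, inv_inv]
    rw [this, MulEquiv.orderOf_eq, ht]
  have h2 : orderOf (⟨g⁻¹ * t * g, hg⟩ : ↥K) = r := by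
    rw [← Subgroup.orderOf_coe]
    exact h1
  rw [← h2]
  exact orderOf_dvd_natCard _

/-- the case `r = 5` -/
theorem m6c5 (K : Subgroup ↥(alternatingGroup (Fin 6))) (h5 : 5 ∣ K.index) :
    ∃ t : ↥(alternatingGroup (Fin 6)), orderOf t = 5 ∧ ∀ g, g⁻¹ * t * g ∉ K := by
  apply exists_of_not_dvd K 5 (by norm_num) (by norm_num)
  intro h
  have h1 : 5 * 5 ∣ K.index * Nat.card ↥K := Nat.mul_dvd_mul h5 h
  rw [index_mul_card_eq] at h1
  omega

/-- the case `r = 2` -/
theorem m6c2 (K : Subgroup ↥(alternatingGroup (Fin 6))) (hK : K ≠ ⊤)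
    (h : ∀ s : ℕ, s.Prime → s ∣ K.index → s ≤ 2) :
    ∃ t : ↥(alternatingGroup (Fin 6)), orderOf t = 2 ∧ ∀ g, g⁻¹ * t * g ∉ K := by
  have hmul := index_mul_card_eq K
  have h3 : ¬ 3 ∣ K.index := fun h3 => by have := h 3 (by norm_num) h3; omega
  have h5 : ¬ 5 ∣ K.index := fun h5 => by have := h 5 (by norm_num) h5; omega
  have hd : K.index ∣ 8 * 45 := ⟨Nat.card ↥K, by rw [hmul]⟩
  have hcop : Nat.Coprime K.index 45 := by
    have e : (45 : ℕ) = 3 * 3 * 5 := by norm_num
    rw [e]
    refine Nat.Coprime.mul_right (Nat.Coprime.mul_right ?_ ?_) ?_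
    · exact ((Nat.Prime.coprime_iff_not_dvd (by norm_num)).2 h3).symm
    · exact ((Nat.Prime.coprime_iff_not_dvd (by norm_num)).2 h3).symm
    · exact ((Nat.Prime.coprime_iff_not_dvd (by norm_num)).2 h5).symm
  have hd8 : K.index ∣ 8 := hcop.dvd_of_dvd_mul_right hd
  have hne1 : K.index ≠ 1 := fun h1 => hK (Subgroup.index_eq_one.1 h1)
  -- the simple group `A_6` acts faithfully on the cosets of `K`
  have hsimple : IsSimpleGroup ↥(alternatingGroup (Fin 6)) :=
    alternatingGroup.isSimpleGroup (by simp)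
  have hcore : K.normalCore = ⊥ := by
    rcases (K.normalCore_normal).eq_bot_or_eq_top with h0 | h0
    · exact h0
    · exfalso
      apply hK
      rw [eq_top_iff, ← h0]
      exact Subgroup.normalCore_le K
  have hinj : Function.Injective
      (MulAction.toPermHom ↥(alternatingGroup (Fin 6)) (↥(alternatingGroup (Fin 6)) ⧸ K)) := by
    rw [← MonoidHom.ker_eq_bot_iff, ← Subgroup.normalCore_eq_ker, hcore]
  have hdvd : 360 ∣ K.index.factorial := by
    have h1 := Subgroup.card_dvd_of_injective _ hinj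
    rw [card_A6, Nat.card_perm] at h1
    exact h1
  have h8 : K.index = 8 := by
    have hle : K.index ≤ 8 := Nat.le_of_dvd (by norm_num) hd8
    have hpos : 0 < K.index := Nat.pos_of_dvd_of_pos hd8 (by norm_num)
    interval_cases hi : K.index
    · exact absurd rfl hne1
    · exfalso; revert hdvd; decide
    · exfalso; revert hd8; decide
    · exfalso; revert hdvd; decide
    · exfalso; revert hd8; decide
    · exfalso; revert hd8; decide
    · exfalso; revert hd8; decide
    · rfl
  rw [h8] at hmul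
  have h45 : Nat.card ↥K = 45 := by omega
  apply exists_of_not_dvd K 2 (by norm_num) (by norm_num)
  rw [h45]
  decide

/-- the assembly of (M6C) from the case `r = 3` -/
theorem m6core_of
    (h3 : ∀ K : Subgroup ↥(alternatingGroup (Fin 6)), K ≠ ⊤ → 3 ∣ K.index →
      ∃ t : ↥(alternatingGroup (Fin 6)), orderOf t = 3 ∧ ∀ g, g⁻¹ * t * g ∉ K) :
    Cfsg.Agent.Lib.H9.S3571.M6CoreStmt := by
  intro K r hK hr hrd hmax
  have hr360 : r ∣ 2 * 2 * 2 * 3 * 3 * 5 := by
    have : r ∣ K.index * Nat.card ↥K := Dvd.dvd.mul_right hrd _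
    rw [index_mul_card_eq] at this
    exact this
  have hcases : r = 2 ∨ r = 3 ∨ r = 5 := by
    have p2 : Nat.Prime 2 := by norm_num
    have p3 : Nat.Prime 3 := by norm_num
    have p5 : Nat.Prime 5 := by norm_num
    rcases (Nat.Prime.dvd_mul hr).1 hr360 with h | h
    · rcases (Nat.Prime.dvd_mul hr).1 h with h | h
      · rcases (Nat.Prime.dvd_mul hr).1 h with h | h
        · rcases (Nat.Prime.dvd_mul hr).1 h with h | h
          · rcases (Nat.Prime.dvd_mul hr).1 h with h | h
            · left; exact (Nat.prime_dvd_prime_iff_eq hr p2).1 h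
            · left; exact (Nat.prime_dvd_prime_iff_eq hr p2).1 h
          · left; exact (Nat.prime_dvd_prime_iff_eq hr p2).1 h
        · right; left; exact (Nat.prime_dvd_prime_iff_eq hr p3).1 h
      · right; left; exact (Nat.prime_dvd_prime_iff_eq hr p3).1 h
    · right; right; exact (Nat.prime_dvd_prime_iff_eq hr p5).1 h
  rcases hcases with rfl | rfl | rfl
  · exact m6c2 K hK hmax
  · exact h3 K hK hrd
  · exact m6c5 K hrd

end Cfsg.Agent.Lib.H6.S3571M6C25
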