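import Mathlib
import Cfsg.Agent.Lib.H9.S3571Defs

/-!
# S3571, GROUP block, piece (P0) (helper6): the socle is transitive

A primitive action is quasiprimitive (Mathlib): the normal subgroup `T` is transitive unless it
fixes every point; then `T = ⊥` by faithfulness, against `T ≃* A_m`, `m ≥ 5`.
-/

set_option autoImplicit false

namespace Cfsg.Agent.Lib.H6.S3571P0

universe u v

/-- (P0) -/
theorem p0 : Cfsg.Agent.Lib.H9.S3571.P0Stmt.{u, v} := by
  intro G Ω _ _ _ _ _ T hT m hm eT hprim hΩ
  have := hT
  apply MulAction.IsQuasiPreprimitive.isPretransitive_of_normal (G := G) (X := Ω) (N := T)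
  intro hfix
  have hbot : ∀ t ∈ T, t = 1 := by
    intro t ht
    apply FaithfulSMul.eq_of_smul_eq_smul (α := Ω)
    intro ω
    have h1 : ω ∈ MulAction.fixedPoints (↥T) Ω := by rw [hfix]; trivial
    have h2 := h1 ⟨t, ht⟩
    rw [one_smul]
    exact h2
  have : Nontrivial ↥(alternatingGroup (Fin m)) :=
    alternatingGroup.nontrivial_of_three_le_card (by simp; omega)
  have : Nontrivial ↥T := eT.toEquiv.nontrivial
  obtain ⟨t, ht⟩ := exists_ne (1 : ↥T)
  apply ht
  apply Subtype.ext
  exact hbot t t.2

end Cfsg.Agent.Lib.H6.S3571P0
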