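import Mathlib
import Cfsg.Agent.Lib.H27.FrobAut

/-!
The "Frobenius-conjugate" step of LEMMA E for S3776: two injective additive
maps `f g : T → F` into a finite field of characteristic `2` that are semi-invariant
under one additive map `θ : T → T` with multipliers `lam`, `mu` have Frobenius-conjugate
multipliers: `mu = lam ^ (2 ^ s)`.
-/

set_option autoImplicit false

namespace Cfsg.Agent.Lib.H6.S3776FC

open Polynomial

/-- semi-invariance propagates to integer polynomials in `θ`. -/
theorem aeval_end_apply {T : Type*} [AddCommGroup T] {F : Type*} [Field F]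
    (θ : AddMonoid.End T) (f : T →+ F) (lam : F) (h : ∀ t, f (θ t) = lam * f t)
    (P : ℤ[X]) (t : T) : f ((aeval θ P) t) = (aeval lam P) * f t := by
  have hpow : ∀ (k : ℕ) (t : T), f ((θ ^ k) t) = lam ^ k * f t := by
    intro k
    induction k with
    | zero => intro t; simp
    | succ k ih =>
      intro t
      rw [pow_succ]
      show f ((θ ^ k) (θ t)) = _
      rw [ih, h, pow_succ, mul_assoc]
  induction P using Polynomial.induction_on' with
  | add p q hp hq =>
    rw [map_add, map_add]
    show f ((aeval θ p) t + (aeval θ q) t) = _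
    rw [map_add, hp, hq, add_mul]
  | monomial k a =>
    rw [aeval_monomial, aeval_monomial]
    show f ((algebraMap ℤ (AddMonoid.End T) a) ((θ ^ k) t)) = _
    have : ∀ (u : T), f ((algebraMap ℤ (AddMonoid.End T) a) u) = algebraMap ℤ F a * f u := by
      intro u
      simp
    rw [this, hpow, mul_assoc]

/-- **Frobenius-conjugate step of LEMMA E.** -/
theorem frob_conj {F : Type*} [Field F] [Finite F] [CharP F 2] {n : ℕ}
    (hn : Nat.card F = 2 ^ n)
    {T : Type*} [AddCommGroup T] (θ : T → T) (hθ : ∀ a b, θ (a + b) = θ a + θ b)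
    (f g : T → F) (hf : ∀ a b, f (a + b) = f a + f b) (hg : ∀ a b, g (a + b) = g a + g b)
    (hfi : Function.Injective f) (t0 : T) (hg0 : g t0 ≠ 0)
    (lam mu : F) (hfl : ∀ t, f (θ t) = lam * f t) (hgm : ∀ t, g (θ t) = mu * g t) :
    ∃ s : Fin n, mu = lam ^ (2 ^ (s : ℕ)) := by
  classical
  let _ : Algebra (ZMod 2) F := ZMod.algebra F 2
  have : Fact (Nat.Prime 2) := ⟨Nat.prime_two⟩
  let θ' : AddMonoid.End T := AddMonoidHom.mk' θ hθ
  let f' : T →+ F := AddMonoidHom.mk' f hf
  let g' : T →+ F := AddMonoidHom.mk' g hg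
  have hint : IsIntegral (ZMod 2) lam := Algebra.IsIntegral.isIntegral lam
  obtain ⟨P, hP⟩ := Polynomial.map_surjective (Int.castRingHom (ZMod 2))
    (ZMod.intCast_surjective) (minpoly (ZMod 2) lam)
  have key : ∀ x : F, aeval x P = aeval x (minpoly (ZMod 2) lam) := by
    intro x
    rw [← hP]
    exact (aeval_map_algebraMap (ZMod 2) x P).symm
  have h1 : aeval lam P = 0 := by rw [key, minpoly.aeval]
  have h2 : ∀ t, (aeval θ' P) t = 0 := by
    intro t
    apply hfi
    have := aeval_end_apply θ' f' lam hfl P t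
    rw [h1, zero_mul] at this
    rw [show f 0 = 0 from map_zero f']
    exact this
  have h3 : aeval mu P = 0 := by
    have := aeval_end_apply θ' g' mu hgm P t0
    rw [h2, map_zero] at this
    exact (mul_eq_zero.1 this.symm).resolve_right hg0
  have h4 : IsConjRoot (ZMod 2) lam mu :=
    isConjRoot_of_aeval_eq_zero hint (by rw [← key]; exact h3)
  obtain ⟨σ, hσ⟩ := h4.exists_algEquiv
  obtain ⟨s, hs⟩ := Cfsg.Agent.Lib.H27.FrobAut.exists_frobenius_pow_eq hn
    ((σ.symm : F ≃ₐ[ZMod 2] F) : F →+* F)
  refine ⟨s, ?_⟩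
  rw [← hs lam, ← hσ]
  simp

end Cfsg.Agent.Lib.H6.S3776FC
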