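import Cfsg.Agent.Lib.H6.S3797M0A
import Cfsg.Agent.Lib.H9.S3797M1W

/-!
# S3776 brick (helper6): the count (M1) of the S3797 main lemma in GROUP form

`V = {x | x² = 1} ≤ Z(K)`, `V ≤ K ≤ G` with `k² ∈ V` for `k ∈ K`, and automorphisms of `G` stabilising `K`
and transitive on `V ∖ 1`.  Then `|K| ∈ {|V|, |V|², |V|³}`, and if `|K| = |V|³` every commutator map
`b ↦ [b, a]` (`a ∈ K ∖ V`) maps `K` onto `V`.
-/

set_option autoImplicit false

namespace Cfsg.Agent.Lib.H6.S3776QB

universe u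

open Cfsg.Agent.Lib.H5.S3797ML Cfsg.Agent.Lib.H6.S3797M0A

/-- (M1) in multiplicative clothes -/
theorem m1_mul (hm1 : M1Stmt.{u}) (Q V' : Type u) [Group Q] [Group V'] [Finite Q] [Finite V']
    (hQc : ∀ x y : Q, x * y = y * x) (hVc : ∀ v w : V', v * w = w * v)
    (κ : Q → V') (β : Q → Q → V')
    (two_U : ∀ x : Q, x * x = 1) (two_V : ∀ v : V', v * v = 1)
    (polar : ∀ x y : Q, κ (x * y) = κ x * κ y * β x y)
    (add_left : ∀ x y z : Q, β (x * y) z = β x z * β y z)
    (anis : ∀ x : Q, κ x = 1 → x = 1)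
    (hfib : ∀ v w : V', v ≠ 1 → w ≠ 1 →
      Nat.card {x : Q // κ x = v} = Nat.card {x : Q // κ x = w}) :
    Nat.card Q = 1 ∨ Nat.card Q = Nat.card V' ∨
      (Nat.card Q = Nat.card V' ^ 2 ∧ ∀ a : Q, a ≠ 1 → Function.Surjective (β a)) := by
  letI iQ : CommGroup Q := { (inferInstance : Group Q) with mul_comm := hQc }
  letI iV : CommGroup V' := { (inferInstance : Group V') with mul_comm := hVc }
  exact hm1 (Additive Q) (Additive V') κ β ⟨two_U, two_V, polar, add_left, anis⟩ hfib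

/-- **the count in group form.** -/
theorem quad_count {G : Type u} [Group G] [Finite G] (V K : Subgroup G) (hVn : V.Normal)
    (hVK : V ≤ K) (hV : ∀ x : G, x ∈ V ↔ x ^ 2 = 1) (hcen : ∀ v ∈ V, ∀ k ∈ K, k * v = v * k)
    (hsq : ∀ k ∈ K, k ^ 2 ∈ V)
    (htr : ∀ v w : G, v ∈ V → w ∈ V → v ≠ 1 → w ≠ 1 → ∃ f : G ≃* G, (∀ k ∈ K, f k ∈ K) ∧ f v = w) :
    Nat.card K = Nat.card V ∨ Nat.card K = Nat.card V ^ 2 ∨
      (Nat.card K = Nat.card V ^ 3 ∧
        ∀ a ∈ K, a ∉ V → ∀ v ∈ V, ∃ b ∈ K, b * a * b⁻¹ * a⁻¹ = v) := by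
  haveI := hVn
  have hQ2 : ∀ x : ↥K ⧸ V.subgroupOf K, x * x = 1 := by
    intro x
    induction x using QuotientGroup.induction_on with
    | H k =>
      rw [← QuotientGroup.mk_mul, QuotientGroup.eq_one_iff, Subgroup.mem_subgroupOf,
        Subgroup.coe_mul, ← pow_two]
      exact hsq k k.2
  have hQc : ∀ x y : ↥K ⧸ V.subgroupOf K, x * y = y * x := by
    intro x y
    have hx : x⁻¹ = x := inv_eq_of_mul_eq_one_right (hQ2 x)
    have hy : y⁻¹ = y := inv_eq_of_mul_eq_one_right (hQ2 y)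
    have hxy : (x * y)⁻¹ = x * y := inv_eq_of_mul_eq_one_right (hQ2 (x * y))
    calc x * y = (x * y)⁻¹ := hxy.symm
      _ = y⁻¹ * x⁻¹ := mul_inv_rev x y
      _ = y * x := by rw [hx, hy]
  have hVc : ∀ v w : ↥V, v * w = w * v := by
    intro v w
    apply Subtype.ext
    rw [Subgroup.coe_mul, Subgroup.coe_mul]
    exact (hcen v v.2 w (hVK w.2)).symm
  have hV2 : ∀ v : ↥V, v * v = 1 := by
    intro v
    apply Subtype.ext
    rw [Subgroup.coe_mul, Subgroup.coe_one, ← pow_two]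
    exact (hV v).mp v.2
  have hcomm : ∀ a b : ↥K, (b : G) * a * (b : G)⁻¹ * (a : G)⁻¹ ∈ V := by
    intro a b
    have h1 : ((b * a * b⁻¹ * a⁻¹ : ↥K) : ↥K ⧸ V.subgroupOf K) = 1 := by
      rw [QuotientGroup.mk_mul, QuotientGroup.mk_mul, QuotientGroup.mk_mul, QuotientGroup.mk_inv,
        QuotientGroup.mk_inv, hQc (b : ↥K ⧸ V.subgroupOf K) a, mul_inv_cancel_right, mul_inv_cancel]
    rw [QuotientGroup.eq_one_iff, Subgroup.mem_subgroupOf] at h1
    simpa using h1
  obtain ⟨κ, hκ⟩ : ∃ κ : (↥K ⧸ V.subgroupOf K) → ↥V,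
      ∀ k : ↥K, ((κ (QuotientGroup.mk k) : ↥V) : G) = (k : G) ^ 2 :=
    ⟨kap V K hsq, fun k => kap_mk V K hsq hV hcen k⟩
  obtain ⟨β, hβdef⟩ : ∃ β : (↥K ⧸ V.subgroupOf K) → (↥K ⧸ V.subgroupOf K) → ↥V,
      ∀ x y, β x y = κ (x * y) * κ x * κ y := ⟨fun x y => κ (x * y) * κ x * κ y, fun _ _ => rfl⟩
  have hβ : ∀ a b : ↥K, ((β (QuotientGroup.mk a) (QuotientGroup.mk b) : ↥V) : G)
      = (b : G) * a * (b : G)⁻¹ * (a : G)⁻¹ := by
    intro a b
    have hc := hcomm a b
    have hsqm : ((a : G) * b) ^ 2 = (a : G) ^ 2 * (b : G) ^ 2 * ((b : G) * a * (b : G)⁻¹ * (a : G)⁻¹) :=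
      sq_mul_comm (a : G) b _ rfl (hcen _ hc a a.2) (hcen _ hc b b.2)
    let pv : ↥V := κ (QuotientGroup.mk a)
    let qv : ↥V := κ (QuotientGroup.mk b)
    let cv : ↥V := ⟨_, hc⟩
    have e1 : κ (QuotientGroup.mk a * QuotientGroup.mk b) = pv * qv * cv := by
      apply Subtype.ext
      rw [← QuotientGroup.mk_mul, hκ, Subgroup.coe_mul, Subgroup.coe_mul, Subgroup.coe_mul]
      show ((a : G) * b) ^ 2 = ((κ (QuotientGroup.mk a) : ↥V) : G) * ((κ (QuotientGroup.mk b) : ↥V) : G) * _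
      rw [hκ, hκ]
      exact hsqm
    have e2 : β (QuotientGroup.mk a) (QuotientGroup.mk b) = cv := by
      rw [hβdef]
      show κ (QuotientGroup.mk a * QuotientGroup.mk b) * pv * qv = cv
      rw [e1]
      calc pv * qv * cv * pv * qv = (pv * qv * cv) * (pv * qv) := mul_assoc _ _ _
        _ = (cv * (pv * qv)) * (pv * qv) := by rw [hVc (pv * qv) cv]
        _ = cv * ((pv * qv) * (pv * qv)) := mul_assoc _ _ _
        _ = cv := by rw [hV2, mul_one]
    rw [e2]
  -- equal fibres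
  have hfle : ∀ v w : ↥V, v ≠ 1 → w ≠ 1 →
      Nat.card {x : ↥K ⧸ V.subgroupOf K // κ x = v} ≤ Nat.card {x : ↥K ⧸ V.subgroupOf K // κ x = w} := by
    intro v w hv hw
    have hv' : (v : G) ≠ 1 := fun h => hv (Subtype.ext h)
    have hw' : (w : G) ≠ 1 := fun h => hw (Subtype.ext h)
    obtain ⟨f, hfK, hfv⟩ := htr v w v.2 w.2 hv' hw'
    let fK : ↥K →* ↥K := (f.toMonoidHom.comp K.subtype).codRestrict K (fun k => hfK k k.2)
    have hfKv : ∀ k : ↥K, ((fK k : ↥K) : G) = f (k : G) := fun k => rfl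
    have hcom : V.subgroupOf K ≤ (V.subgroupOf K).comap fK := by
      intro k hk
      rw [Subgroup.mem_comap, Subgroup.mem_subgroupOf, hfKv, hV, ← map_pow]
      rw [Subgroup.mem_subgroupOf, hV] at hk
      rw [hk, map_one]
    let ψ : (↥K ⧸ V.subgroupOf K) →* (↥K ⧸ V.subgroupOf K) :=
      QuotientGroup.map (V.subgroupOf K) (V.subgroupOf K) fK hcom
    have hψmk : ∀ k : ↥K, ψ (QuotientGroup.mk k) = QuotientGroup.mk (fK k) := fun k => rfl
    have hψinj : Function.Injective ψ := by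
      rw [injective_iff_map_eq_one]
      intro x hx
      induction x using QuotientGroup.induction_on with
      | H k =>
        rw [hψmk, QuotientGroup.eq_one_iff, Subgroup.mem_subgroupOf, hfKv, hV, ← map_pow] at hx
        have h1 : (k : G) ^ 2 = 1 := by
          have := f.injective (hx.trans (map_one f).symm)
          exact this
        rw [QuotientGroup.eq_one_iff, Subgroup.mem_subgroupOf, hV]
        exact h1
    have hψκ : ∀ x, ((κ (ψ x) : ↥V) : G) = f ((κ x : ↥V) : G) := by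
      intro x
      induction x using QuotientGroup.induction_on with
      | H k => rw [hψmk, hκ, hκ, hfKv, map_pow]
    refine Nat.card_le_card_of_injective
      (fun x : {x : ↥K ⧸ V.subgroupOf K // κ x = v} =>
        (⟨ψ x.1, by
          apply Subtype.ext
          rw [hψκ, x.2]
          exact hfv⟩ : {x : ↥K ⧸ V.subgroupOf K // κ x = w})) ?_
    intro x y hxy
    apply Subtype.ext
    apply hψinj
    exact congrArg Subtype.val hxy
  have hfib : ∀ v w : ↥V, v ≠ 1 → w ≠ 1 →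
      Nat.card {x : ↥K ⧸ V.subgroupOf K // κ x = v} = Nat.card {x : ↥K ⧸ V.subgroupOf K // κ x = w} :=
    fun v w hv hw => le_antisymm (hfle v w hv hw) (hfle w v hw hv)
  have key := m1_mul Cfsg.Agent.Lib.H9.S3797M1W.m1 (↥K ⧸ V.subgroupOf K) ↥V hQc hVc κ β hQ2 hV2
    (by
      intro x y
      rw [hβdef]
      symm
      calc κ x * κ y * (κ (x * y) * κ x * κ y)
          = (κ x * κ y) * ((κ x * κ y) * κ (x * y)) := by
            rw [mul_assoc (κ (x * y)) (κ x) (κ y), hVc (κ (x * y)) (κ x * κ y)]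
        _ = ((κ x * κ y) * (κ x * κ y)) * κ (x * y) := (mul_assoc _ _ _).symm
        _ = κ (x * y) := by rw [hV2, one_mul])
    (by
      intro x y z
      induction x using QuotientGroup.induction_on with
      | H a0 =>
      induction y using QuotientGroup.induction_on with
      | H b0 =>
      induction z using QuotientGroup.induction_on with
      | H d0 =>
        apply Subtype.ext
        rw [← QuotientGroup.mk_mul, Subgroup.coe_mul, hβ, hβ, hβ, Subgroup.coe_mul]
        exact comm_mul_left (a0 : G) b0 d0 (hcen _ (hcomm b0 d0) a0 a0.2))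
    (by
      intro x hx
      induction x using QuotientGroup.induction_on with
      | H k =>
        have h1 : (k : G) ^ 2 = 1 := by rw [← hκ k, hx]; rfl
        rw [QuotientGroup.eq_one_iff, Subgroup.mem_subgroupOf]
        exact (hV _).mpr h1)
    hfib
  -- cardinalities
  have hcardN : Nat.card (V.subgroupOf K) = Nat.card V :=
    Nat.card_congr (Subgroup.subgroupOfEquivOfLe hVK).toEquiv
  have hcardK : Nat.card K = Nat.card (↥K ⧸ V.subgroupOf K) * Nat.card V := by
    rw [← hcardN]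
    exact Subgroup.card_eq_card_quotient_mul_card_subgroup (V.subgroupOf K)
  rcases key with h1 | h2 | ⟨h3, hsurj⟩
  · left
    rw [hcardK, h1, one_mul]
  · right; left
    rw [hcardK, h2, pow_two]
  · right; right
    refine ⟨by rw [hcardK, h3]; ring, ?_⟩
    intro a ha haV v hv
    have hne : (QuotientGroup.mk (⟨a, ha⟩ : ↥K) : ↥K ⧸ V.subgroupOf K) ≠ 1 := by
      intro h
      rw [QuotientGroup.eq_one_iff, Subgroup.mem_subgroupOf] at h
      exact haV h
    obtain ⟨y, hy⟩ := hsurj _ hne (⟨v, hv⟩ : ↥V)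
    induction y using QuotientGroup.induction_on with
    | H b =>
      refine ⟨b, b.2, ?_⟩
      have := hβ ⟨a, ha⟩ b
      rw [hy] at this
      exact this.symm

end Cfsg.Agent.Lib.H6.S3776QB
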