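import Cfsg.Agent.Lib.H9.S3776Defs
import Cfsg.Agent.Lib.H6.S3776QB

/-!
# S3776 piece (11) S2B (helper6)

`W := {z² | z ∈ Z(K)}` is an `E`-invariant subgroup of `V`.  If `W = 1` then `Z(K) ≤ V`; if `W = V`
then `K = Z(K)` is abelian, the squares of `K` fill `V`, and the count `quad_count` gives `|K| = |V|²`.
-/

set_option autoImplicit false

namespace Cfsg.Agent.Lib.H6.S3776S2B

universe u

open Cfsg.Agent.Lib.H9.S3776

theorem s2b : S2BStmt.{u} := by
  intro G E _ _ _ _ φ V K hyp fr kd hkV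
  obtain ⟨k0, hk0K, hk0V⟩ := hkV
  have hsqK : ∀ k ∈ K, k ^ 2 ∈ V := fun k hk => ((kd.mem k).1 hk).1
  have hVn : V.Normal := ⟨fun v hv g => by
      have := fr.cen v hv g
      rw [this, mul_inv_cancel_right]; exact hv⟩
  let W : Subgroup G :=
    { carrier := {v | ∃ z ∈ K, (∀ k' ∈ K, z * k' = k' * z) ∧ z ^ 2 = v}
      one_mem' := ⟨1, K.one_mem, fun k' _ => by simp, by simp⟩
      mul_mem' := by
        rintro a b ⟨z, hz, hzc, rfl⟩ ⟨z', hz', hzc', rfl⟩
        refine ⟨z * z', K.mul_mem hz hz', fun k' hk' => ?_, ?_⟩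
        · rw [mul_assoc, hzc' k' hk', ← mul_assoc, hzc k' hk', mul_assoc]
        · have : Commute z z' := hzc z' hz'
          exact this.mul_pow 2
      inv_mem' := by
        rintro a ⟨z, hz, hzc, rfl⟩
        refine ⟨z⁻¹, K.inv_mem hz, fun k' hk' => ?_, by simp⟩
        have := hzc k' hk'
        rw [eq_mul_inv_iff_mul_eq, mul_assoc, ← this, inv_mul_cancel_left] }
  have hWV : W ≤ V := by
    rintro a ⟨z, hz, _, rfl⟩; exact hsqK z hz
  have hWinv : Inv φ W := by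
    rintro e a ⟨z, hz, hzc, rfl⟩
    refine ⟨φ e z, kd.inv e z hz, fun k' hk' => ?_, by rw [map_pow]⟩
    have h1 : (φ e⁻¹) k' ∈ K := kd.inv e⁻¹ k' hk'
    have h2 := hzc _ h1
    have h3 := congrArg (φ e) h2
    rw [map_mul, map_mul] at h3
    have h4 : φ e (φ e⁻¹ k') = k' := by
      rw [← MulAut.mul_apply, ← map_mul, mul_inv_cancel, map_one]; rfl
    rw [h4] at h3; exact h3
  rcases fr.irr W hWV hWinv with hW | hW
  · left
    intro k hk hkc
    have : k ^ 2 ∈ W := ⟨k, hk, hkc, rfl⟩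
    rw [hW, Subgroup.mem_bot] at this
    exact (fr.mem k).2 this
  · right
    have hVcen : ∀ v ∈ V, ∀ k' ∈ K, v * k' = k' * v := fun v hv k' _ => (fr.cen v hv k').symm
    have hKZ : ∀ k ∈ K, ∀ k' ∈ K, k * k' = k' * k := by
      intro k hk
      have : k ^ 2 ∈ W := by rw [hW]; exact hsqK k hk
      obtain ⟨z, hz, hzc, hzk⟩ := this
      have hcomm : Commute k z⁻¹ := (show Commute k z from (hzc k hk).symm).inv_right
      have h1 : (k * z⁻¹) ^ 2 = 1 := by
        rw [hcomm.mul_pow, inv_pow, hzk, mul_inv_cancel]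
      have h2 : k * z⁻¹ ∈ V := (fr.mem _).2 h1
      intro k' hk'
      have hk_eq : k = (k * z⁻¹) * z := by group
      rw [hk_eq, mul_assoc, hzc k' hk', ← mul_assoc, hVcen _ h2 k' hk', mul_assoc]
    have hsurj : ∀ v ∈ V, ∃ k ∈ K, k ^ 2 = v := by
      intro v hv
      rw [← hW] at hv
      obtain ⟨z, hz, _, hzv⟩ := hv
      exact ⟨z, hz, hzv⟩
    refine ⟨hKZ, ?_, hsurj⟩
    have hq := Cfsg.Agent.Lib.H6.S3776QB.quad_count V K hVn kd.VK fr.mem
      (fun v hv k _ => fr.cen v hv k) hsqK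
      (fun v w hv hw hv1 hw1 => by
        obtain ⟨e, he⟩ := fr.trans v w hv hw hv1 hw1
        exact ⟨φ e, fun k hk => kd.inv e k hk, he⟩)
    rcases hq with h | h | ⟨_, h⟩
    · exfalso
      have hVK : V = K := Subgroup.eq_of_le_of_card_ge kd.VK (le_of_eq h)
      exact hk0V (hVK ▸ hk0K)
    · exact h
    · exfalso
      obtain ⟨x, y, hx, hy, hxy, hx1, hy1⟩ := fr.two
      obtain ⟨b, hb, hbx⟩ := h k0 hk0K hk0V x hx
      apply hx1
      rw [← hbx, hKZ b hb k0 hk0K, mul_inv_cancel_right, mul_inv_cancel]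

example : S2BStmt.{0} := s2b

end Cfsg.Agent.Lib.H6.S3776S2B
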