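import Mathlib
import Cfsg.Agent.Lib.H5.S3777P1Defs
import Cfsg.Agent.Lib.H6.S3777Sub

/-!
# S3777, `P1` step, piece (S4) (helper6): the sub-pair `(K₀, A)`, `K₀ = A ⊔ zpowers y₀`

`K₀ ⊓ M = A`, `|K₀ : A| = p`, `|G : K₀| = p^λ`; for `k ∈ K₀ \ A`: `k ∉ M`, `C_G(k) ≤ K₀` and
`|K₀ : C_G(k)| = |A : C_A(k)| ≤ p^Δ`; so `(↥K₀, A)` is a pair with bound `Δ` in a smaller group and
the induction hypothesis (`P1` if non-residual, `P2` if residual) applies.
-/

set_option autoImplicit false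

namespace Cfsg.Agent.Lib.H6.S3777S4

open Cfsg.Agent.Lib.H5.S3777 Cfsg.Agent.Lib.H6.S3777Sub

universe u

variable {G : Type u} [Group G]

/-- for `y ∉ M`, `M` normal of prime index: `y ^ i ∈ M ↔ p ∣ i` -/
theorem zpow_mem_iff [Finite G] {p : ℕ} [hp : Fact p.Prime] (M : Subgroup G) [M.Normal]
    (hM : M.index = p) {y : G} (hy : y ∉ M) (i : ℤ) : y ^ i ∈ M ↔ (p : ℤ) ∣ i := by
  have h1 : orderOf (QuotientGroup.mk y : G ⧸ M) = p := by
    have hd : orderOf (QuotientGroup.mk y : G ⧸ M) ∣ p := by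
      have := orderOf_dvd_natCard (QuotientGroup.mk y : G ⧸ M)
      rwa [← Subgroup.index_eq_card, hM] at this
    rcases (Nat.dvd_prime hp.out).1 hd with h | h
    · exfalso
      rw [orderOf_eq_one_iff, QuotientGroup.eq_one_iff] at h
      exact hy h
    · exact h
  rw [← QuotientGroup.eq_one_iff, QuotientGroup.mk_zpow, ← orderOf_dvd_iff_zpow_eq_one, h1]

/-- elements of `A ⊔ zpowers y` for `A` normal -/
theorem mem_sup_zpowers (A : Subgroup G) [A.Normal] (y x : G) :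
    x ∈ A ⊔ Subgroup.zpowers y ↔ ∃ a ∈ A, ∃ i : ℤ, x = a * y ^ i := by
  rw [← SetLike.mem_coe, Subgroup.normal_mul, Set.mem_mul]
  constructor
  · rintro ⟨a, ha, z, hz, rfl⟩
    obtain ⟨i, rfl⟩ := Subgroup.mem_zpowers_iff.1 hz
    exact ⟨a, ha, i, rfl⟩
  · rintro ⟨a, ha, i, rfl⟩
    exact ⟨a, ha, y ^ i, Subgroup.mem_zpowers_iff.2 ⟨i, rfl⟩, rfl⟩

/-- `K₀ ⊓ M = A` -/
theorem sup_zpowers_inf [Finite G] {p : ℕ} [Fact p.Prime] (M A : Subgroup G) [M.Normal]
    [A.Normal] (hM : M.index = p) (hAM : A ≤ M) {y : G} (hy : y ∉ M) (hpow : y ^ p ∈ A) :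
    (A ⊔ Subgroup.zpowers y) ⊓ M = A := by
  apply le_antisymm
  · intro x hx
    obtain ⟨hx1, hx2⟩ := Subgroup.mem_inf.1 hx
    obtain ⟨a, ha, i, rfl⟩ := (mem_sup_zpowers A y x).1 hx1
    have hz : y ^ i ∈ M := by
      have := M.mul_mem (M.inv_mem (hAM ha)) hx2
      simpa using this
    obtain ⟨j, rfl⟩ := (zpow_mem_iff M hM hy i).1 hz
    have : y ^ ((p : ℤ) * j) ∈ A := by
      rw [zpow_mul, zpow_natCast]
      exact A.zpow_mem hpow j
    exact A.mul_mem ha this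
  · exact le_inf le_sup_left hAM

/-- (S4) -/
theorem s4 : S4Stmt.{u} := by
  intro p hp G _ _ hG hIH M A lam Delta hMidx hAn hAM hlam hrel hpow hcent hidx hD y0 hy0
  have hMn : M.Normal := normal_of_index_eq hG M hMidx
  set K := A ⊔ Subgroup.zpowers y0 with hKdef
  have hAK : A ≤ K := le_sup_left
  have hy0K : y0 ∈ K := (le_sup_right : Subgroup.zpowers y0 ≤ K) (Subgroup.mem_zpowers y0)
  have hKM : ¬ K ≤ M := fun h => hy0 (h hy0K)
  have hinf : K ⊓ M = A := sup_zpowers_inf M A hMidx hAM hy0 (hpow y0 hy0)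
  -- `|K : A| = p`
  have hAKp : A.relIndex K = p := by
    have h1 := relIndex_eq_of_not_le hG M hMidx K hKM
    rw [← Subgroup.inf_relIndex_right, inf_comm, hinf] at h1
    exact h1
  -- `|G : K| = p ^ lam`
  have hAidx : A.index = p ^ lam * p := by
    rw [← Subgroup.relIndex_mul_index hAM, hrel, hMidx]
  have hKidx : K.index = p ^ lam := by
    have h1 := Subgroup.relIndex_mul_index hAK
    rw [hAKp, hAidx, mul_comm] at h1
    exact Nat.eq_of_mul_eq_mul_right hp.out.pos h1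
  have hKtop : K ≠ ⊤ := by
    intro h
    rw [h, Subgroup.index_top] at hKidx
    have : 1 < p ^ lam := Nat.one_lt_pow (by omega) hp.out.one_lt
    omega
  -- the pair `(↥K, A)` with bound `Delta`
  have hpair : IsPair p (A.subgroupOf K) Delta := by
    apply isPair_of_relIndex K A Delta hAKp
    intro k hkK hkA
    have hkM : k ∉ M := fun h => hkA (hinf ▸ Subgroup.mem_inf.2 ⟨hkK, h⟩)
    have hCK : Subgroup.centralizer ({k} : Set G) ≤ K := by
      refine (hcent k hkM).trans (sup_le hAK ?_)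
      rw [Subgroup.zpowers_le]
      exact hkK
    have e1 := Subgroup.relIndex_mul_index hCK
    rw [hKidx, hidx k hkM, mul_comm] at e1
    have hpos : 0 < p ^ lam := Nat.pow_pos hp.out.pos
    have e2 := Nat.eq_of_mul_eq_mul_left hpos e1
    rw [e2]
    exact hD k hkM
  obtain ⟨ihP1, ihP2, -⟩ := ih_subgroup hG hIH K hKtop
  have hcard := card_commutator_subtype K
  have hres := residual_iff K A hAK
  have hP1 : ⁅K, K⁆ ≠ ⁅A, A⁆ → Nat.card ↥⁅K, K⁆ ≤ p ^ tri Delta := by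
    intro hne
    rw [← hcard]
    apply ihP1 (A.subgroupOf K) Delta hpair
    intro h
    exact hne (hres.1 h).symm
  refine ⟨?_, hP1⟩
  by_cases hKA : ⁅K, K⁆ = ⁅A, A⁆
  · rw [← hcard]
    exact ihP2 (A.subgroupOf K) Delta hpair (hres.2 hKA.symm)
  · exact (hP1 hKA).trans (Nat.pow_le_pow_right hp.out.pos (Nat.le_add_right _ _))

end Cfsg.Agent.Lib.H6.S3777S4
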