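import Cfsg.Agent.Lib.H5.S3797MLDefs
import Cfsg.Agent.Lib.H25.S3797MLDefs

/-!
# S3797, main lemma, piece (M0A) (twin, helper6): the quotient bridge `AMLStmt → GCoreStmt`

`Q = K ⧸ V` (exponent 2, hence commutative), `κ (kV) = k²`, `β` = polar form of `κ`
(= the commutator), `cjQ g` = the map induced on `Q` by conjugation with `g`.
-/

set_option autoImplicit false

namespace Cfsg.Agent.Lib.H6.S3797M0A

universe u

open Cfsg.Agent.Lib.H5.S3797ML

section toolkit

variable {G : Type u} [Group G] (V K : Subgroup G) [hVn : V.Normal] [hKn : K.Normal]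

/-- conjugation by `g` on `K ⧸ V` -/
noncomputable def cjQ (g : G) : (↥K ⧸ V.subgroupOf K) →* (↥K ⧸ V.subgroupOf K) :=
  QuotientGroup.map (V.subgroupOf K) (V.subgroupOf K)
    ((MulAut.conjNormal g : MulAut ↥K).toMonoidHom) (by
      intro k hk
      rw [Subgroup.mem_comap, Subgroup.mem_subgroupOf]
      rw [Subgroup.mem_subgroupOf] at hk
      have : ((MulAut.conjNormal g : MulAut ↥K) k : G) = g * k * g⁻¹ := MulAut.conjNormal_apply g k
      show ((MulAut.conjNormal g : MulAut ↥K) k : G) ∈ V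
      rw [this]
      exact hVn.conj_mem _ hk g)

theorem cjQ_mk (g : G) (k : ↥K) :
    cjQ V K g (QuotientGroup.mk k) = QuotientGroup.mk ((MulAut.conjNormal g : MulAut ↥K) k) := rfl

theorem cjQ_mul (g h : G) (x : ↥K ⧸ V.subgroupOf K) :
    cjQ V K (g * h) x = cjQ V K g (cjQ V K h x) := by
  induction x using QuotientGroup.induction_on with
  | H k =>
    rw [cjQ_mk, cjQ_mk, cjQ_mk, map_mul]
    rfl

theorem cjQ_one (x : ↥K ⧸ V.subgroupOf K) : cjQ V K 1 x = x := by
  induction x using QuotientGroup.induction_on with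
  | H k =>
    rw [cjQ_mk, map_one]
    rfl

theorem cjQ_fix_iff (g : G) (k : ↥K) :
    cjQ V K g (QuotientGroup.mk k) = QuotientGroup.mk k ↔ g * k * g⁻¹ * (k : G)⁻¹ ∈ V := by
  rw [cjQ_mk, QuotientGroup.eq_iff_div_mem, Subgroup.mem_subgroupOf]
  have : (((MulAut.conjNormal g : MulAut ↥K) k / k : ↥K) : G) = g * k * g⁻¹ * (k : G)⁻¹ := by
    rw [div_eq_mul_inv, Subgroup.coe_mul, Subgroup.coe_inv, MulAut.conjNormal_apply]
  rw [this]

theorem cjQ_triv (g : G) (hg : Cfsg.Agent.Lib.H25.S3797ML.TrivOn V K g)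
    (x : ↥K ⧸ V.subgroupOf K) : cjQ V K g x = x := by
  induction x using QuotientGroup.induction_on with
  | H k => exact (cjQ_fix_iff V K g k).mpr (hg k k.2)

end toolkit

section elems

variable {G : Type u} [Group G]

/-- `(ab)² = a² b² [b,a]` when `[b,a]` commutes with `a` and `b`. -/
theorem sq_mul_comm (a b c : G) (hc : c = b * a * b⁻¹ * a⁻¹) (ha : a * c = c * a) (hb : b * c = c * b) :
    (a * b) ^ 2 = a ^ 2 * b ^ 2 * c := by
  have hba : b * a = c * a * b := by rw [hc]; group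
  have e1 : (a * b) ^ 2 = c * (a * a * b * b) := by
    calc (a * b) ^ 2 = a * (b * a) * b := by rw [pow_two]; group
      _ = a * (c * a * b) * b := by rw [hba]
      _ = (a * c) * a * b * b := by group
      _ = (c * a) * a * b * b := by rw [ha]
      _ = c * (a * a * b * b) := by group
  have e2 : a ^ 2 * b ^ 2 * c = c * (a * a * b * b) := by
    calc a ^ 2 * b ^ 2 * c = a * a * b * (b * c) := by rw [pow_two, pow_two]; group
      _ = a * a * b * (c * b) := by rw [hb]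
      _ = a * a * (b * c) * b := by group
      _ = a * a * (c * b) * b := by rw [hb]
      _ = a * (a * c) * b * b := by group
      _ = a * (c * a) * b * b := by rw [ha]
      _ = (a * c) * a * b * b := by group
      _ = (c * a) * a * b * b := by rw [ha]
      _ = c * (a * a * b * b) := by group
  rw [e1, e2]

/-- `[d, ab] = [d,a] [d,b]` when `[d,b]` commutes with `a`. -/
theorem comm_mul_left (a b d : G)
    (h : a * (d * b * d⁻¹ * b⁻¹) = (d * b * d⁻¹ * b⁻¹) * a) :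
    d * (a * b) * d⁻¹ * (a * b)⁻¹ = (d * a * d⁻¹ * a⁻¹) * (d * b * d⁻¹ * b⁻¹) := by
  calc d * (a * b) * d⁻¹ * (a * b)⁻¹
      = (d * a * d⁻¹ * a⁻¹) * (a * (d * b * d⁻¹ * b⁻¹)) * a⁻¹ := by group
    _ = (d * a * d⁻¹ * a⁻¹) * ((d * b * d⁻¹ * b⁻¹) * a) * a⁻¹ := by rw [h]
    _ = (d * a * d⁻¹ * a⁻¹) * (d * b * d⁻¹ * b⁻¹) := by group

end elems

section kappa

variable {G : Type u} [Group G] (V K : Subgroup G)

/-- the squaring map `K ⧸ V → V` -/
noncomputable def kap (hsq : ∀ k ∈ K, k ^ 2 ∈ V) (q : ↥K ⧸ V.subgroupOf K) : ↥V :=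
  ⟨((q.out : ↥K) : G) ^ 2, hsq _ (q.out).2⟩

theorem kap_mk (hsq : ∀ k ∈ K, k ^ 2 ∈ V) (hV : ∀ x : G, x ∈ V ↔ x ^ 2 = 1)
    (hcen : ∀ v ∈ V, ∀ k ∈ K, k * v = v * k) (k : ↥K) :
    ((kap V K hsq (QuotientGroup.mk k) : ↥V) : G) = (k : G) ^ 2 := by
  obtain ⟨n, hn⟩ := QuotientGroup.mk_out_eq_mul (V.subgroupOf K) k
  show (((QuotientGroup.mk k : ↥K ⧸ V.subgroupOf K).out : ↥K) : G) ^ 2 = _
  rw [hn]
  have hnV : ((n : ↥K) : G) ∈ V := Subgroup.mem_subgroupOf.mp n.2
  have h1 := hcen _ hnV k k.2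
  have h2 : ((n : ↥K) : G) ^ 2 = 1 := (hV _).mp hnV
  rw [Subgroup.coe_mul, pow_two]
  calc (k : G) * ((n : ↥K) : G) * ((k : G) * ((n : ↥K) : G))
      = (k : G) * (((n : ↥K) : G) * (k : G)) * ((n : ↥K) : G) := by group
    _ = (k : G) * ((k : G) * ((n : ↥K) : G)) * ((n : ↥K) : G) := by rw [h1]
    _ = (k : G) ^ 2 * ((n : ↥K) : G) ^ 2 := by simp only [pow_two, mul_assoc]
    _ = (k : G) ^ 2 := by rw [h2, mul_one]

end kappa

/-- the abstract main lemma in multiplicative clothes -/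
theorem aml_mul (haml : AMLStmt.{u}) (Q V' : Type u) [Group Q] [Group V'] [Finite Q] [Finite V']
    (hQc : ∀ x y : Q, x * y = y * x) (hVc : ∀ v w : V', v * w = w * v)
    (κ : Q → V') (β : Q → Q → V') (W : Set (Q → Q)) (I : Type u) (a : I → Q → Q) (b : I → V' → V')
    (two_U : ∀ x : Q, x * x = 1) (two_V : ∀ v : V', v * v = 1)
    (polar : ∀ x y : Q, κ (x * y) = κ x * κ y * β x y)
    (add_left : ∀ x y z : Q, β (x * y) z = β x z * β y z)
    (anis : ∀ x : Q, κ x = 1 → x = 1)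
    (wadd : ∀ g ∈ W, ∀ x y : Q, g (x * y) = g x * g y)
    (winvol : ∀ g ∈ W, ∀ x : Q, g (g x) = x)
    (wpres : ∀ g ∈ W, ∀ x : Q, κ (g x) = κ x)
    (wcomm : ∀ g ∈ W, ∀ h ∈ W, ∀ x : Q, g (h x) = h (g x))
    (a_add : ∀ i, ∀ x y : Q, a i (x * y) = a i x * a i y)
    (a_inj : ∀ i, Function.Injective (a i))
    (b_add : ∀ i, ∀ v w : V', b i (v * w) = b i v * b i w)
    (equiv : ∀ i, ∀ x : Q, κ (a i x) = b i (κ x))
    (trans : ∀ v w : V', v ≠ 1 → w ≠ 1 → ∃ i, b i v = w)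
    (Winv : ∀ i, ∀ g ∈ W, ∃ h ∈ W, ∀ x : Q, a i (g x) = h (a i x)) :
    ∀ g ∈ W, ∀ h ∈ W, (∃ x : Q, g x ≠ x) → (∃ x : Q, h x ≠ x) → ∀ x : Q, g x = h x := by
  letI iQ : CommGroup Q := { (inferInstance : Group Q) with mul_comm := hQc }
  letI iV : CommGroup V' := { (inferInstance : Group V') with mul_comm := hVc }
  exact haml (Additive Q) (Additive V') κ β W I a b
    ⟨two_U, two_V, polar, add_left, anis⟩ ⟨wadd, winvol, wpres, wcomm⟩
    ⟨a_add, a_inj, b_add, equiv, trans, Winv⟩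

/-- **(M0A)** the quotient bridge. -/
theorem m0a : AMLStmt.{u} → Cfsg.Agent.Lib.H25.S3797ML.GCoreStmt.{u} := by
  intro haml G _ _ V K E T hVn hKn hVK hV hcen hsq hTV hET htrans hT2 hTc t ht t' ht' hnt hnt'
  haveI := hVn
  haveI := hKn
  -- `Q` has exponent two, hence is commutative
  have hQ2 : ∀ x : ↥K ⧸ V.subgroupOf K, x * x = 1 := by
    intro x
    induction x using QuotientGroup.induction_on with
    | H k =>
      rw [← QuotientGroup.mk_mul, QuotientGroup.eq_one_iff, Subgroup.mem_subgroupOf,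
        Subgroup.coe_mul, ← pow_two]
      exact hsq k k.2
  have hQc : ∀ x y : ↥K ⧸ V.subgroupOf K, x * y = y * x := by
    intro x y
    have hx : x⁻¹ = x := inv_eq_of_mul_eq_one_right (hQ2 x)
    have hy : y⁻¹ = y := inv_eq_of_mul_eq_one_right (hQ2 y)
    have hxy : (x * y)⁻¹ = x * y := inv_eq_of_mul_eq_one_right (hQ2 (x * y))
    calc x * y = (x * y)⁻¹ := hxy.symm
      _ = y⁻¹ * x⁻¹ := mul_inv_rev x y
      _ = y * x := by rw [hx, hy]
  have hVc : ∀ v w : ↥V, v * w = w * v := by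
    intro v w
    apply Subtype.ext
    rw [Subgroup.coe_mul, Subgroup.coe_mul]
    exact (hcen v v.2 w (hVK w.2)).symm
  have hV2 : ∀ v : ↥V, v * v = 1 := by
    intro v
    apply Subtype.ext
    rw [Subgroup.coe_mul, Subgroup.coe_one, ← pow_two]
    exact (hV v).mp v.2
  -- commutators of `K` lie in `V`
  have hcomm : ∀ a b : ↥K, (b : G) * a * (b : G)⁻¹ * (a : G)⁻¹ ∈ V := by
    intro a b
    have h1 : ((b * a * b⁻¹ * a⁻¹ : ↥K) : ↥K ⧸ V.subgroupOf K) = 1 := by
      rw [QuotientGroup.mk_mul, QuotientGroup.mk_mul, QuotientGroup.mk_mul, QuotientGroup.mk_inv,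
        QuotientGroup.mk_inv, hQc (b : ↥K ⧸ V.subgroupOf K) a, mul_inv_cancel_right, mul_inv_cancel]
    rw [QuotientGroup.eq_one_iff, Subgroup.mem_subgroupOf] at h1
    simpa using h1
  -- the data
  obtain ⟨κ, hκ⟩ : ∃ κ : (↥K ⧸ V.subgroupOf K) → ↥V,
      ∀ k : ↥K, ((κ (QuotientGroup.mk k) : ↥V) : G) = (k : G) ^ 2 :=
    ⟨kap V K hsq, fun k => kap_mk V K hsq hV hcen k⟩
  obtain ⟨β, hβdef⟩ : ∃ β : (↥K ⧸ V.subgroupOf K) → (↥K ⧸ V.subgroupOf K) → ↥V,
      ∀ x y, β x y = κ (x * y) * κ x * κ y := ⟨fun x y => κ (x * y) * κ x * κ y, fun _ _ => rfl⟩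
  have hβ : ∀ a b : ↥K, ((β (QuotientGroup.mk a) (QuotientGroup.mk b) : ↥V) : G)
      = (b : G) * a * (b : G)⁻¹ * (a : G)⁻¹ := by
    intro a b
    have hc := hcomm a b
    have hsqm : ((a : G) * b) ^ 2 = (a : G) ^ 2 * (b : G) ^ 2 * ((b : G) * a * (b : G)⁻¹ * (a : G)⁻¹) :=
      sq_mul_comm (a : G) b _ rfl (hcen _ hc a a.2) (hcen _ hc b b.2)
    -- compute in `V`
    let pv : ↥V := κ (QuotientGroup.mk a)
    let qv : ↥V := κ (QuotientGroup.mk b)
    let cv : ↥V := ⟨_, hc⟩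
    have e1 : κ (QuotientGroup.mk a * QuotientGroup.mk b) = pv * qv * cv := by
      apply Subtype.ext
      rw [← QuotientGroup.mk_mul, hκ, Subgroup.coe_mul, Subgroup.coe_mul, Subgroup.coe_mul]
      show ((a : G) * b) ^ 2 = ((κ (QuotientGroup.mk a) : ↥V) : G) * ((κ (QuotientGroup.mk b) : ↥V) : G) * _
      rw [hκ, hκ]
      exact hsqm
    have e2 : β (QuotientGroup.mk a) (QuotientGroup.mk b) = cv := by
      rw [hβdef]
      show κ (QuotientGroup.mk a * QuotientGroup.mk b) * pv * qv = cv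
      rw [e1]
      calc pv * qv * cv * pv * qv = (pv * qv * cv) * (pv * qv) := mul_assoc _ _ _
        _ = (cv * (pv * qv)) * (pv * qv) := by rw [hVc (pv * qv) cv]
        _ = cv * ((pv * qv) * (pv * qv)) := mul_assoc _ _ _
        _ = cv := by rw [hV2, mul_one]
    rw [e2]
  -- the conjugation maps
  let W : Set ((↥K ⧸ V.subgroupOf K) → (↥K ⧸ V.subgroupOf K)) :=
    {f | ∃ s ∈ T, f = fun x => cjQ V K s x}
  let a : ↥E → (↥K ⧸ V.subgroupOf K) → (↥K ⧸ V.subgroupOf K) := fun e x => cjQ V K (e : G) x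
  let b : ↥E → ↥V → ↥V := fun e v => (MulAut.conjNormal (e : G) : MulAut ↥V) v
  have hκconj : ∀ (g : G) (k : ↥K), ((κ (cjQ V K g (QuotientGroup.mk k)) : ↥V) : G)
      = g * (k : G) ^ 2 * g⁻¹ := by
    intro g k
    rw [cjQ_mk, hκ, MulAut.conjNormal_apply, conj_pow]
  have key := aml_mul haml (↥K ⧸ V.subgroupOf K) ↥V hQc hVc κ β W ↥E a b hQ2 hV2
    (by
      -- polar
      intro x y
      rw [hβdef]
      symm
      calc κ x * κ y * (κ (x * y) * κ x * κ y)
          = (κ x * κ y) * ((κ x * κ y) * κ (x * y)) := by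
            rw [mul_assoc (κ (x * y)) (κ x) (κ y), hVc (κ (x * y)) (κ x * κ y)]
        _ = ((κ x * κ y) * (κ x * κ y)) * κ (x * y) := (mul_assoc _ _ _).symm
        _ = κ (x * y) := by rw [hV2, one_mul])
    (by
      -- add_left
      intro x y z
      induction x using QuotientGroup.induction_on with
      | H a0 =>
      induction y using QuotientGroup.induction_on with
      | H b0 =>
      induction z using QuotientGroup.induction_on with
      | H d0 =>
        apply Subtype.ext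
        rw [← QuotientGroup.mk_mul, Subgroup.coe_mul, hβ, hβ, hβ, Subgroup.coe_mul]
        exact comm_mul_left (a0 : G) b0 d0 (hcen _ (hcomm b0 d0) a0 a0.2))
    (by
      -- anis
      intro x hx
      induction x using QuotientGroup.induction_on with
      | H k =>
        have h1 : (k : G) ^ 2 = 1 := by rw [← hκ k, hx]; rfl
        rw [QuotientGroup.eq_one_iff, Subgroup.mem_subgroupOf]
        exact (hV _).mpr h1)
    (by
      -- wadd
      rintro g ⟨s, hs, rfl⟩ x y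
      exact map_mul (cjQ V K s) x y)
    (by
      -- winvol
      rintro g ⟨s, hs, rfl⟩ x
      show cjQ V K s (cjQ V K s x) = x
      rw [← cjQ_mul, ← pow_two]
      exact cjQ_triv V K _ (hT2 s hs) x)
    (by
      -- wpres
      rintro g ⟨s, hs, rfl⟩ x
      induction x using QuotientGroup.induction_on with
      | H k =>
        apply Subtype.ext
        show ((κ (cjQ V K s (QuotientGroup.mk k)) : ↥V) : G) = _
        rw [hκconj, hκ, hTV s hs _ (hsq k k.2), mul_inv_cancel_right])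
    (by
      -- wcomm
      rintro g ⟨s, hs, rfl⟩ h ⟨s', hs', rfl⟩ x
      show cjQ V K s (cjQ V K s' x) = cjQ V K s' (cjQ V K s x)
      rw [← cjQ_mul, ← cjQ_mul]
      have : s * s' = (s * s' * s⁻¹ * s'⁻¹) * (s' * s) := by group
      rw [this, cjQ_mul]
      exact cjQ_triv V K _ (hTc s hs s' hs') _)
    (by
      -- a_add
      intro e x y
      exact map_mul (cjQ V K (e : G)) x y)
    (by
      -- a_inj
      intro e
      apply Function.LeftInverse.injective (g := fun x => cjQ V K ((e : G)⁻¹) x)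
      intro x
      show cjQ V K ((e : G)⁻¹) (cjQ V K (e : G) x) = x
      rw [← cjQ_mul, inv_mul_cancel, cjQ_one])
    (by
      -- b_add
      intro e v w
      exact map_mul (MulAut.conjNormal (e : G) : MulAut ↥V) v w)
    (by
      -- equiv
      intro e x
      induction x using QuotientGroup.induction_on with
      | H k =>
        apply Subtype.ext
        show ((κ (cjQ V K (e : G) (QuotientGroup.mk k)) : ↥V) : G)
          = (((MulAut.conjNormal (e : G) : MulAut ↥V) (κ (QuotientGroup.mk k)) : ↥V) : G)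
        rw [hκconj, MulAut.conjNormal_apply, hκ])
    (by
      -- trans
      intro v w hv hw
      have hv' : (v : G) ≠ 1 := fun h => hv (Subtype.ext h)
      have hw' : (w : G) ≠ 1 := fun h => hw (Subtype.ext h)
      obtain ⟨e, he, hew⟩ := htrans v w v.2 w.2 hv' hw'
      refine ⟨⟨e, he⟩, ?_⟩
      apply Subtype.ext
      show (((MulAut.conjNormal e : MulAut ↥V) v : ↥V) : G) = w
      rw [MulAut.conjNormal_apply]
      exact hew)
    (by
      -- Winv
      rintro e g ⟨s, hs, rfl⟩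
      refine ⟨fun x => cjQ V K ((e : G) * s * (e : G)⁻¹) x, ⟨_, hET e e.2 s hs, rfl⟩, ?_⟩
      intro x
      show cjQ V K (e : G) (cjQ V K s x) = cjQ V K ((e : G) * s * (e : G)⁻¹) (cjQ V K (e : G) x)
      rw [← cjQ_mul, ← cjQ_mul, inv_mul_cancel_right])
  -- the two non-trivial elements act in the same way
  have hmove : ∀ s : G, ¬ Cfsg.Agent.Lib.H25.S3797ML.TrivOn V K s →
      ∃ x : ↥K ⧸ V.subgroupOf K, cjQ V K s x ≠ x := by
    intro s hs
    unfold Cfsg.Agent.Lib.H25.S3797ML.TrivOn at hs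
    obtain ⟨k, hk'⟩ := not_forall.mp hs
    obtain ⟨hk, hkV⟩ := Classical.not_imp.mp hk'
    exact ⟨QuotientGroup.mk ⟨k, hk⟩, fun h => hkV ((cjQ_fix_iff V K s ⟨k, hk⟩).mp h)⟩
  have heq : ∀ x : ↥K ⧸ V.subgroupOf K, cjQ V K t x = cjQ V K t' x :=
    key (fun x => cjQ V K t x) ⟨t, ht, rfl⟩ (fun x => cjQ V K t' x) ⟨t', ht', rfl⟩
      (hmove t hnt) (hmove t' hnt')
  intro k hk
  refine (cjQ_fix_iff V K (t⁻¹ * t') ⟨k, hk⟩).mp ?_
  rw [cjQ_mul, ← heq, ← cjQ_mul, inv_mul_cancel, cjQ_one]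

example : AMLStmt.{0} → Cfsg.Agent.Lib.H25.S3797ML.GCoreStmt.{0} := m0a

example : AMLStmt.{3} → Cfsg.Agent.Lib.H25.S3797ML.GCoreStmt.{3} := m0a

end Cfsg.Agent.Lib.H6.S3797M0A
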