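import Cfsg.Agent.Lib.H27.S3814C1Defs
import Cfsg.Agent.Lib.H6.FrobActG
import Cfsg.Agent.Lib.H6.CommFpf

/-!
# S3814, Case 1, piece (20) A13 (helper6)

`e₁` centralises every `e₁`-invariant abelian `t`-subgroup `L` of `X`: `N = [L, e₁]` has `C_N(e₁) = 1`, T1 on
`M` (where `e₁` is fixed-point-free) makes `N` centralise `M`; a nontrivial `N` would contain the unique
subgroup `⟨u0⟩` of order `t` of `A0`, but `e₁` centralises `u0`.
-/

set_option autoImplicit false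

namespace Cfsg.Agent.Lib.H6.S3814C1A13

open Cfsg.Agent.H7.S3814Defs Cfsg.Agent.H27.S3814C1

universe u

/-- a nonidentity element of `t`-power order has a power of order `t` -/
theorem exists_pow_prime {G : Type*} [Group G] {t : ℕ} (ht : t.Prime) (n : G) (k : ℕ)
    (hk : n ^ (t ^ k) = 1) (hn : n ≠ 1) : ∃ j : ℕ, orderOf (n ^ j) = t := by
  obtain ⟨j, _, hj⟩ := (Nat.dvd_prime_pow ht).1 (orderOf_dvd_of_pow_eq_one hk)
  have hj1 : j ≠ 0 := by
    intro h0
    rw [h0, pow_zero, orderOf_eq_one_iff] at hj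
    exact hn hj
  obtain ⟨i, rfl⟩ := Nat.exists_eq_succ_of_ne_zero hj1
  refine ⟨t ^ i, ?_⟩
  have : Fact t.Prime := ⟨ht⟩
  apply orderOf_eq_prime
  · rw [← pow_mul, ← pow_succ, ← hj, pow_orderOf_eq_one]
  · apply pow_ne_one_of_lt_orderOf (pow_pos ht.pos i).ne'
    rw [hj]
    exact Nat.pow_lt_pow_right ht.one_lt (Nat.lt_succ_self i)

theorem a13 : A13Stmt.{u} := by
  intro G _ σ p V K c M X t t' u0 e₁ h hE L hLX hLp hLc hLe a ha
  obtain ⟨he1X, he1o, he1u, he1M⟩ := hE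
  have := h.c1.c0.cex.fin
  have hc : c.Prime := h.c1.c0.hc
  have ht : t.Prime := h.c1.c0.cex.prime t h.c1.oth.ht
  have ht' : t'.Prime := h.c1.c0.cex.prime t' h.c1.oth.ht'
  have htt' : t ≠ t' := h.c1.oth.tt'
  have htc : t ≠ c := h.c1.oth.tc
  have hXK : X ≤ K := h.c1.compl.le
  have hKM : ∀ k ∈ K, ∀ m ∈ M, k * m * k⁻¹ ∈ M := fun k hk m hm =>
    ((Subgroup.mem_normalizer_iff.1 (h.c1.c0.hMn hk)) m).1 hm
  -- elements of `L` have `t`-power order
  have hLpow : ∀ n ∈ L, ∃ k : ℕ, n ^ (t ^ k) = 1 := by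
    intro n hn
    obtain ⟨k, hk⟩ := hLp ⟨n, hn⟩
    refine ⟨k, ?_⟩
    have := congrArg Subtype.val hk
    simpa using this
  have htor : ∀ n ∈ L, n ^ t' = 1 → n = 1 := by
    intro n hn hnt'
    obtain ⟨k, hk⟩ := hLpow n hn
    have h1 : orderOf n ∣ t ^ k := orderOf_dvd_of_pow_eq_one hk
    have h2 : orderOf n ∣ t' := orderOf_dvd_of_pow_eq_one hnt'
    have h3 : orderOf n ∣ Nat.gcd (t ^ k) t' := Nat.dvd_gcd h1 h2
    rw [Nat.Coprime.pow_left k ((Nat.coprime_primes ht ht').2 htt')] at h3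
    exact orderOf_eq_one_iff.1 (Nat.dvd_one.1 h3)
  obtain ⟨N, hNL, hγ, hNe, hNfpf⟩ := Cfsg.Agent.Lib.H6.CommFpf.comm_fpf L hLc e₁ t'
    (by rw [← he1o, pow_orderOf_eq_one]) hLe htor
  -- `N` is a `t`-group
  have hNp : IsPGroup t N := by
    intro n
    obtain ⟨k, hk⟩ := hLpow n (hNL n.2)
    refine ⟨k, ?_⟩
    apply Subtype.ext
    simpa using hk
  have : Fact t.Prime := ⟨ht⟩
  obtain ⟨kN, hkN⟩ := hNp.exists_card_eq
  -- T1 on `M`
  have hcent := Cfsg.Agent.Lib.H6.FrobActG.t1_group N M e₁ ht' he1o hNe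
    (hKM e₁ (hXK he1X)) (fun n hn m hm => hKM n (hXK (hLX (hNL hn))) m hm) h.c1.c0.hMe.1 hNfpf
    (fun m hm hmN => by
      rw [hkN] at hmN
      have h1 : orderOf m ∣ t ^ kN := orderOf_dvd_of_pow_eq_one hmN
      have h2 : orderOf m ∣ c := orderOf_dvd_of_pow_eq_one (h.c1.c0.hMe.2 m hm)
      have h3 : orderOf m ∣ Nat.gcd (t ^ kN) c := Nat.dvd_gcd h1 h2
      rw [Nat.Coprime.pow_left kN ((Nat.coprime_primes ht hc).2 htc)] at h3
      exact orderOf_eq_one_iff.1 (Nat.dvd_one.1 h3))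
    (fun m hm hme => he1M m hm (by
      have := congrArg (· * e₁) hme
      simpa [mul_assoc] using this))
  have hNcent : ∀ n ∈ N, Cent n M := by
    intro n hn m hm
    have := hcent n hn m hm
    have h2 := congrArg (· * n) this
    simpa [mul_assoc] using h2
  -- `N` is trivial
  have hNbot : ∀ n ∈ N, n = 1 := by
    intro n hn
    by_contra hn1
    obtain ⟨k, hk⟩ := hLpow n (hNL hn)
    obtain ⟨j, hj⟩ := exists_pow_prime ht n k hk hn1
    have hn'N : n ^ j ∈ N := N.pow_mem hn j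
    have hn'X : n ^ j ∈ X := hLX (hNL hn'N)
    have hu0N : u0 ∈ N := by
      have := h.a0uniq (n ^ j) hn'X u0 h.hu0 (hNcent _ hn'N) h.cu0 (by rw [hj]; exact ht)
        (by rw [hj, h.ou0])
      exact (Subgroup.zpowers_le.2 hn'N) this
    have hu01 : u0 = 1 := by
      apply hNfpf u0 hu0N
      rw [he1u, mul_inv_cancel_right]
    have hou := h.ou0
    rw [hu01, orderOf_one] at hou
    exact ht.one_lt.ne hou
  have h1 := hNbot _ (hγ a ha)
  have h2 : e₁ * a * e₁⁻¹ = a := by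
    have := congrArg (· * a) h1
    simpa [mul_assoc] using this
  have h3 := congrArg (· * e₁) h2
  simpa [mul_assoc] using h3

example : A13Stmt.{0} := a13

end Cfsg.Agent.Lib.H6.S3814C1A13
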