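import Cfsg.Agent.Lib.H7.S3814Defs2

/-!
# S3814 piece CaseSplitStmt (helper6)

A finite abelian group that is not cyclic has, for some prime `c`, more than `c` elements `g` with `g ^ c = 1`.
Hence a non-cyclic normal abelian subgroup `M` of `K` contains the characteristic elementary abelian subgroup
`M[c]` of order divisible by `c²`.
-/

set_option autoImplicit false

namespace Cfsg.Agent.Lib.H6.S3814CaseSplit

open Cfsg.Agent.H7.S3814Defs

universe u

/-- the `n`-torsion of a commutative group -/
abbrev tor (A : Type*) [CommGroup A] (n : ℕ) : Subgroup A := (powMonoidHom n : A →* A).ker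

theorem mem_tor {A : Type*} [CommGroup A] {n : ℕ} {a : A} : a ∈ tor A n ↔ a ^ n = 1 := by
  rw [MonoidHom.mem_ker, powMonoidHom_apply]

/-- `|A[c n]| ≤ |A[c]| |A[n]|` -/
theorem card_tor_mul_le {A : Type*} [CommGroup A] [Finite A] (c n : ℕ) :
    Nat.card (tor A (c * n)) ≤ Nat.card (tor A c) * Nat.card (tor A n) := by
  let H := tor A (c * n)
  let f : H →* A := (powMonoidHom c : A →* A).comp H.subtype
  have h1 : Nat.card f.ker * Nat.card f.range = Nat.card H := by
    rw [← Subgroup.index_ker, Subgroup.card_mul_index]
  have h2 : Nat.card f.ker ≤ Nat.card (tor A c) := by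
    refine Nat.card_le_card_of_injective (fun x => (⟨(x : H), ?_⟩ : tor A c)) ?_
    · have := x.2
      rw [MonoidHom.mem_ker] at this
      rw [mem_tor]
      exact this
    · intro x y hxy
      apply Subtype.ext
      apply Subtype.ext
      exact congrArg (fun z : tor A c => (z : A)) hxy
  have h3 : Nat.card f.range ≤ Nat.card (tor A n) := by
    apply Subgroup.card_le_of_le
    rintro y ⟨h, rfl⟩
    rw [mem_tor]
    show ((h : A) ^ c) ^ n = 1
    rw [← pow_mul]
    exact mem_tor.1 h.2
  calc Nat.card H = Nat.card f.ker * Nat.card f.range := h1.symm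
    _ ≤ Nat.card (tor A c) * Nat.card (tor A n) := Nat.mul_le_mul h2 h3

/-- a non-cyclic finite commutative group has a prime `c` with `|A[c]| > c` -/
theorem exists_prime_tor {A : Type*} [CommGroup A] [Finite A] (h : ¬ IsCyclic A) :
    ∃ c : ℕ, c.Prime ∧ c < Nat.card (tor A c) := by
  classical
  by_contra hcon0
  have hcon : ∀ c : ℕ, c.Prime → Nat.card (tor A c) ≤ c := by
    intro c hc
    by_contra hlt
    exact hcon0 ⟨c, hc, not_le.1 hlt⟩
  have key : ∀ n : ℕ, 0 < n → Nat.card (tor A n) ≤ n := by
    intro n
    induction n using Nat.strong_induction_on with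
    | _ n ih =>
      intro hn
      rcases Nat.lt_or_ge 1 n with h1 | h1
      · have hc := Nat.minFac_prime (Nat.ne_of_gt h1)
        obtain ⟨n', hn'⟩ := Nat.minFac_dvd n
        have hn'pos : 0 < n' := by
          rcases Nat.eq_zero_or_pos n' with h0 | h0
          · rw [h0, mul_zero] at hn'; omega
          · exact h0
        have hn'lt : n' < n := by
          have := hc.two_le
          nlinarith
        calc Nat.card (tor A n) = Nat.card (tor A (n.minFac * n')) := by rw [← hn']
          _ ≤ Nat.card (tor A n.minFac) * Nat.card (tor A n') := card_tor_mul_le _ _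
          _ ≤ n.minFac * n' := Nat.mul_le_mul (hcon _ hc) (ih n' hn'lt hn'pos)
          _ = n := hn'.symm
      · have hn1 : n = 1 := by omega
        subst hn1
        have : tor A 1 = ⊥ := by
          ext a
          rw [mem_tor, pow_one, Subgroup.mem_bot]
        rw [this, Subgroup.card_bot]
  have : Fintype A := Fintype.ofFinite A
  apply h
  apply isCyclic_of_card_pow_eq_one_le
  intro n hn
  have := key n hn
  rw [Nat.card_eq_fintype_card, Fintype.card_subtype] at this
  simpa [mem_tor] using this

theorem caseSplit : CaseSplitStmt.{u} := by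
  intro G _ _ K
  by_cases hall : ∀ M : Subgroup G, M ≤ K → K ≤ Subgroup.normalizer (M : Set G) →
      (∀ x ∈ M, ∀ y ∈ M, x * y = y * x) → IsCyclic M
  · exact Or.inr hall
  · left
    simp only [not_forall] at hall
    obtain ⟨M, hMK, hKM, hMab, hMcyc⟩ := hall
    let iC : CommGroup M :=
      { (inferInstance : Group M) with mul_comm := fun a b => Subtype.ext (hMab a a.2 b b.2) }
    obtain ⟨c, hc, hlt⟩ := exists_prime_tor (A := M) hMcyc
    let M' : Subgroup G := (tor M c).map M.subtype
    have hM'mem : ∀ g : G, g ∈ M' ↔ g ∈ M ∧ g ^ c = 1 := by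
      intro g
      constructor
      · rintro ⟨x, hx, rfl⟩
        refine ⟨x.2, ?_⟩
        have := mem_tor.1 hx
        have h2 := congrArg (fun z : M => (z : G)) this
        simpa using h2
      · rintro ⟨hg, hgc⟩
        refine ⟨⟨g, hg⟩, ?_, rfl⟩
        rw [SetLike.mem_coe, mem_tor]
        apply Subtype.ext
        simpa using hgc
    refine ⟨c, M', hc, ?_, ?_, ⟨?_, ?_⟩, ?_⟩
    · intro g hg
      exact hMK ((hM'mem g).1 hg).1
    · intro k hk
      have hkM := hKM hk
      rw [Subgroup.mem_normalizer_iff]
      intro g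
      rw [hM'mem, hM'mem]
      have hiff := (Subgroup.mem_normalizer_iff.1 hkM) g
      constructor
      · rintro ⟨hg, hgc⟩
        refine ⟨hiff.1 hg, ?_⟩
        rw [conj_pow, hgc, mul_one, mul_inv_cancel]
      · rintro ⟨hg, hgc⟩
        refine ⟨hiff.2 hg, ?_⟩
        rw [conj_pow] at hgc
        have : g ^ c = k⁻¹ * (k * g ^ c * k⁻¹) * k := by group
        rw [this, hgc]; group
    · intro v hv w hw
      exact hMab v ((hM'mem v).1 hv).1 w ((hM'mem w).1 hw).1
    · intro v hv
      exact ((hM'mem v).1 hv).2
    · have hcard : Nat.card M' = Nat.card (tor M c) :=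
        Subgroup.card_map_of_injective M.subtype_injective
      have hp : IsPGroup c (tor M c) := by
        intro g
        refine ⟨1, ?_⟩
        apply Subtype.ext
        rw [pow_one]
        have := mem_tor.1 g.2
        simpa using this
      have : Fact c.Prime := ⟨hc⟩
      obtain ⟨n, hn⟩ := hp.exists_card_eq
      rw [hcard, hn]
      have hn2 : 2 ≤ n := by
        by_contra hlt2
        have : n ≤ 1 := by omega
        have : c ^ n ≤ c ^ 1 := Nat.pow_le_pow_right hc.pos this
        rw [pow_one] at this
        omega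
      exact pow_dvd_pow c hn2

example : CaseSplitStmt.{0} := caseSplit

end Cfsg.Agent.Lib.H6.S3814CaseSplit
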