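import Cfsg.Agent.Lib.H8.S3814MPDefs
import Cfsg.Agent.Lib.H6.FrobActG
import Cfsg.Agent.Lib.H16.S3814FrobCyc

/-!
# S3814, block (MP), piece (12) CENT (helper6)

If `⟨b⟩` is a normal subgroup of order `s` of `X` with `b` neutral, every element of order `r` of `X`
centralises `b`: otherwise `⟨b⟩⟨x⟩` is a Frobenius group and T1 colours `x` twice.
-/

set_option autoImplicit false

namespace Cfsg.Agent.Lib.H6.S3814MPCent

open Cfsg.Agent.H7.S3814Defs Cfsg.Agent.Lib.H8.S3814MP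

universe u

/-- conjugation by `x` maps `⟨b⟩` into itself if it maps `b` into `⟨b⟩` -/
theorem conj_zpowers {G : Type*} [Group G] (b x : G) (hx : x * b * x⁻¹ ∈ Subgroup.zpowers b) :
    ∀ k ∈ Subgroup.zpowers b, x * k * x⁻¹ ∈ Subgroup.zpowers b := by
  intro k hk
  obtain ⟨i, rfl⟩ := Subgroup.mem_zpowers_iff.1 hk
  have : x * b ^ i * x⁻¹ = (x * b * x⁻¹) ^ i := by
    rw [conj_zpow]
  rw [this]
  exact Subgroup.zpow_mem _ hx i

/-- the T1 step on one of the two modules -/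
theorem col_of_frob {G : Type u} [Group G] [Finite G] {r s : ℕ} (hr : r.Prime) (hs : s.Prime)
    {U X : Subgroup G}
    (hnU : X ≤ Subgroup.normalizer (U : Set G)) (hcU : ∀ a ∈ U, ∀ b ∈ U, a * b = b * a)
    (hneU : U ≠ ⊥) (hcop : (Nat.card ↥U).Coprime (Nat.card ↥X))
    (b : G) (hbX : b ∈ X) (hb : orderOf b = s) (hbU : ¬ Col b U)
    (x : G) (hxX : x ∈ X) (hx : orderOf x = r) (hxb : x * b * x⁻¹ ∈ Subgroup.zpowers b)
    (hnc : ¬ Commute x b) : Col x U := by
  have hconj : ∀ y ∈ X, ∀ v ∈ U, y * v * y⁻¹ ∈ U := fun y hy v hv =>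
    ((Subgroup.mem_normalizer_iff.1 (hnU hy)) v).1 hv
  have hzX : Subgroup.zpowers b ≤ X := by
    rw [Subgroup.zpowers_le]; exact hbX
  have hsX : s ∣ Nat.card ↥X := by
    have h1 : orderOf (⟨b, hbX⟩ : X) = s := by
      rw [← hb, ← Subgroup.orderOf_coe]
    rw [← h1]
    exact orderOf_dvd_natCard _
  have hcardK : Nat.card (Subgroup.zpowers b) = s := by
    rw [Nat.card_zpowers, hb]
  obtain ⟨v0, hv01⟩ := (Subgroup.ne_bot_iff_exists_ne_one.1 hneU)
  obtain ⟨v, hvU, hv1, hxv⟩ := Cfsg.Agent.Lib.H6.FrobActG.t1_group_fix (Subgroup.zpowers b) U x hr hx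
    (conj_zpowers b x hxb) (hconj x hxX) (fun k hk v hv => hconj k (hzX hk) v hv) hcU
    (Cfsg.Agent.Lib.H16.S3814FrobCyc.fpf_zpowers_of_not_commute hs b x hb hxb hnc)
    (fun v hv hvs => by
      rw [hcardK] at hvs
      have h1 : orderOf v ∣ s := orderOf_dvd_of_pow_eq_one hvs
      have h2 : orderOf v ∣ Nat.card ↥U := by
        have h3 : orderOf (⟨v, hv⟩ : U) = orderOf v := by
          rw [← Subgroup.orderOf_coe]
        rw [← h3]
        exact orderOf_dvd_natCard _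
      have h4 : orderOf v ∣ Nat.gcd (Nat.card ↥U) (Nat.card ↥X) :=
        Nat.dvd_gcd h2 (h1.trans hsX)
      rw [hcop] at h4
      exact orderOf_eq_one_iff.1 (Nat.dvd_one.1 h4))
    ⟨b, Subgroup.mem_zpowers b, (v0 : G), v0.2, fun hbv => hbU ⟨v0, v0.2,
      fun h1 => hv01 (Subtype.ext h1), by
        have := congrArg (· * b) hbv
        simpa [mul_assoc] using this⟩⟩
  exact ⟨v, hvU, hv1, by
    have := congrArg (· * x) hxv
    simpa [mul_assoc] using this⟩

theorem cent : CentStmt.{u} := by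
  intro G _ _ r s V W X h b hbX hb hbn hbV hbW x hxX hx
  by_contra hne
  have hnc : ¬ Commute x b := hne
  have hxb := hbn x hxX
  have hV : Col x V := col_of_frob h.hr h.hs h.normV h.commV h.neV h.copV b hbX hb hbV x hxX hx hxb hnc
  have hW : Col x W := col_of_frob h.hr h.hs h.normW h.commW h.neW h.copW b hbX hb hbW x hxX hx hxb hnc
  have hx1 : x ≠ 1 := by
    intro h1
    rw [h1, orderOf_one] at hx
    exact h.hr.one_lt.ne hx
  exact h.h1 x hxX hx1 hV hW

example : CentStmt.{0} := cent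

end Cfsg.Agent.Lib.H6.S3814MPCent
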