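import Cfsg.Agent.Lib.H6.S3814MPCent
import Cfsg.Agent.Lib.H26.S3814R2Idx

/-!
# S3814, block (MP), piece (4) K2 (helper6)

A `V`-coloured subgroup `⟨x⟩` of order `r` is normalised by no `C_s × C_s ≤ X`.
-/

set_option autoImplicit false

namespace Cfsg.Agent.Lib.H6.S3814MPK2

open Cfsg.Agent.H7.S3814Defs Cfsg.Agent.Lib.H8.S3814MP Cfsg.Agent.Lib.H6.S3814MPCent

universe u

/-- an element of finite order mapping `x` into `⟨x⟩` by conjugation does so by its inverse too -/
theorem conj_inv_mem {G : Type*} [Group G] (x c : G) (hfin : IsOfFinOrder c)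
    (hc : c * x * c⁻¹ ∈ Subgroup.zpowers x) : c⁻¹ * x * c⁻¹⁻¹ ∈ Subgroup.zpowers x := by
  have hpow : ∀ n : ℕ, c ^ n * x * (c ^ n)⁻¹ ∈ Subgroup.zpowers x := by
    intro n
    induction n with
    | zero => simp
    | succ n ih =>
      have : c ^ (n + 1) * x * (c ^ (n + 1))⁻¹ = c * (c ^ n * x * (c ^ n)⁻¹) * c⁻¹ := by
        rw [pow_succ']; group
      rw [this]
      exact conj_zpowers x c hc _ ih
  have hinv : c⁻¹ = c ^ (orderOf c - 1) := by
    apply inv_eq_of_mul_eq_one_right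
    rw [← pow_succ', Nat.sub_add_cancel hfin.orderOf_pos, pow_orderOf_eq_one]
  rw [hinv]
  exact hpow _

/-- membership in the normaliser of `⟨x⟩` -/
theorem mem_normalizer_zpowers {G : Type*} [Group G] (x c : G) (hfin : IsOfFinOrder c)
    (hc : c * x * c⁻¹ ∈ Subgroup.zpowers x) :
    c ∈ Subgroup.normalizer (Subgroup.zpowers x : Set G) := by
  rw [Subgroup.mem_normalizer_iff]
  intro k
  constructor
  · exact conj_zpowers x c hc k
  · intro hk
    have := conj_zpowers x c⁻¹ (conj_inv_mem x c hfin hc) _ hk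
    have e : c⁻¹ * (c * k * c⁻¹) * c⁻¹⁻¹ = k := by group
    rwa [e] at this

theorem k2 : K2Stmt.{u} := by
  intro hL G _ _ r s V W X h x hxX hxo hcol c d hcX hdX pair hcx hdx
  obtain ⟨hco, hdo, hcd, hdc⟩ := pair
  have hfin : ∀ g : G, IsOfFinOrder g := fun g => isOfFinOrder_of_finite g
  have hx1 : x ≠ 1 := by
    intro h1
    rw [h1, orderOf_one] at hxo
    exact h.hr.one_lt.ne hxo
  -- the normaliser of `⟨x⟩`
  have hcN := mem_normalizer_zpowers x c (hfin c) hcx
  have hdN := mem_normalizer_zpowers x d (hfin d) hdx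
  have hclN : Subgroup.closure ({c, d} : Set G) ≤
      Subgroup.normalizer (Subgroup.zpowers x : Set G) := by
    rw [Subgroup.closure_le]
    intro g hg
    rcases hg with rfl | rfl
    · exact hcN
    · exact hdN
  have hclX : Subgroup.closure ({c, d} : Set G) ≤ X := by
    rw [Subgroup.closure_le]
    intro g hg
    rcases hg with rfl | rfl
    · exact hcX
    · exact hdX
  -- `U = C_V(x)`
  let U : Subgroup G :=
    { carrier := {u | u ∈ V ∧ x * u = u * x}
      one_mem' := ⟨V.one_mem, by simp⟩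
      mul_mem' := by
        rintro a b ⟨ha, hax⟩ ⟨hb, hbx⟩
        refine ⟨V.mul_mem ha hb, ?_⟩
        rw [← mul_assoc, hax, mul_assoc, hbx, mul_assoc]
      inv_mem' := by
        rintro a ⟨ha, hax⟩
        refine ⟨V.inv_mem ha, ?_⟩
        have : Commute x a := hax
        exact this.inv_right }
  have hUV : U ≤ V := fun u hu => hu.1
  have hUne : U ≠ ⊥ := by
    obtain ⟨v, hv, hv1, hxv⟩ := hcol
    intro hbot
    have : v ∈ U := ⟨hv, hxv⟩
    rw [hbot, Subgroup.mem_bot] at this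
    exact hv1 this
  have hinvU : ∀ g ∈ X, g ∈ Subgroup.normalizer (Subgroup.zpowers x : Set G) →
      ∀ u ∈ U, g * u * g⁻¹ ∈ U := by
    intro g hgX hgN u hu
    refine ⟨((Subgroup.mem_normalizer_iff.1 (h.normV hgX)) u).1 hu.1, ?_⟩
    -- `g⁻¹ x g` is a power of `x`, hence commutes with `u`
    have hgi : g⁻¹ * x * g ∈ Subgroup.zpowers x := by
      have := (Subgroup.mem_normalizer_iff.1 (Subgroup.inv_mem _ hgN) x).1 (Subgroup.mem_zpowers x)
      rwa [inv_inv] at this
    obtain ⟨i, hi⟩ := Subgroup.mem_zpowers_iff.1 hgi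
    have hcomm : Commute (g⁻¹ * x * g) u := by
      rw [← hi]
      exact (show Commute x u from hu.2).zpow_left i
    have e1 : x * (g * u * g⁻¹) = g * ((g⁻¹ * x * g) * u) * g⁻¹ := by group
    have e2 : g * u * g⁻¹ * x = g * (u * (g⁻¹ * x * g)) * g⁻¹ := by group
    rw [e1, e2, hcomm.eq]
  obtain ⟨y, hycl, hy1, v, hvU, hv1, hyv⟩ := hL h h.hs hcX hdX ⟨hco, hdo, hcd, hdc⟩ U hUV hUne
    (hinvU c hcX hcN) (hinvU d hdX hdN)
  have hyX : y ∈ X := hclX hycl
  have hyN := hclN hycl
  have hys : y ^ s = 1 :=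
    Cfsg.Agent.Lib.H26.S3814R2Idx.closure_pair (by rw [← hco, pow_orderOf_eq_one])
      (by rw [← hdo, pow_orderOf_eq_one]) hcd y hycl
  have hyo : orderOf y = s := by
    have : Fact s.Prime := ⟨h.hs⟩
    exact orderOf_eq_prime hys hy1
  have hyV : Col y V := ⟨v, hvU.1, hv1, hyv⟩
  have hyx : y * x * y⁻¹ ∈ Subgroup.zpowers x :=
    ((Subgroup.mem_normalizer_iff.1 hyN) x).1 (Subgroup.mem_zpowers x)
  by_cases hcomm : Commute y x
  · -- `x y` has order `r s` and fixes `v`
    have hord : orderOf (x * y) = r * s := by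
      rw [hcomm.symm.orderOf_mul_eq_mul_orderOf_of_coprime, hxo, hyo]
      rw [hxo, hyo]
      exact (Nat.coprime_primes h.hr h.hs).2 h.hrs
    have := (h.h2 (x * y) (X.mul_mem hxX hyX) hord).1
    apply this
    refine ⟨v, hvU.1, hv1, ?_⟩
    rw [mul_assoc, hyv, ← mul_assoc, hvU.2, mul_assoc]
  · by_cases hxW : Col x W
    · exact h.h1 x hxX hx1 hcol hxW
    · have hyW : Col y W :=
        col_of_frob (r := s) (s := r) h.hs h.hr h.normW h.commW h.neW h.copW x hxX hxo hxW y hyX hyo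
          hyx hcomm
      exact h.h1 y hyX hy1 hyV hyW

example : K2Stmt.{0} := k2

end Cfsg.Agent.Lib.H6.S3814MPK2
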