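import Mathlib
import Cfsg.Agent.Lib.H6.FrobActG

/-!
# S3901: the local lemma (LL) of helper22's proof (helper6)

`T` finite, `L ≤ M` normal in `T`, `|T : M| = q`, `M / L` a nontrivial `p`-group, every element of `T`
outside `L` of prime power order, `V ≤ L` a nontrivial abelian normal `r`-subgroup (`p, q, r` distinct
primes): impossible.  A Sylow `p`-subgroup `P` of `M` is not inside `L`; no element of prime order
`s ≠ p` of `L` normalises `P` (fixed point on the coset `x₀ (P ∩ L)`); Frattini + Cauchy give `y` of order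
`q` normalising `P`, outside `L`; `y` is fixed-point-free on `P` and on `V`, so `P` centralises `V` (T1), and
`x₀ v` has composite order.
-/

set_option autoImplicit false

namespace Cfsg.Agent.Lib.H6.S3901LL

open Subgroup

/-- coprime powers in a subgroup -/
theorem mem_of_pow_mem_of_coprime {T : Type*} [Group T] (L : Subgroup T) [L.Normal] {x : T}
    {a b : ℕ} (hab : a.Coprime b) (ha : x ^ a ∈ L) (hb : x ^ b ∈ L) : x ∈ L := by
  rw [← QuotientGroup.eq_one_iff] at ha hb ⊢
  rw [QuotientGroup.mk_pow] at ha hb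
  have h1 := orderOf_dvd_of_pow_eq_one ha
  have h2 := orderOf_dvd_of_pow_eq_one hb
  have h3 := Nat.dvd_gcd h1 h2
  rw [Nat.Coprime.gcd_eq_one hab] at h3
  exact orderOf_eq_one_iff.1 (Nat.dvd_one.1 h3)

/-- FACT 0: an element outside `L` commuting with a nonidentity element of coprime order -/
theorem bad_of_commute {T : Type*} [Group T] [Finite T] (L : Subgroup T) [L.Normal]
    (hpp : ∀ x : T, x ∉ L → IsPrimePow (orderOf x)) {x c : T} (hxL : x ∉ L)
    (hcomm : Commute x c) (hcop : (orderOf x).Coprime (orderOf c)) (hc1 : c ≠ 1) : False := by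
  have hx1 : x ≠ 1 := fun h => hxL (h ▸ L.one_mem)
  have hxcL : x * c ∉ L := by
    intro h
    apply hxL
    refine mem_of_pow_mem_of_coprime L hcop ?_ ?_
    · rw [pow_orderOf_eq_one]; exact L.one_mem
    · have := L.pow_mem h (orderOf c)
      rwa [hcomm.mul_pow, pow_orderOf_eq_one, mul_one] at this
  have h1 := hpp _ hxcL
  rw [hcomm.orderOf_mul_eq_mul_orderOf_of_coprime hcop] at h1
  have h2 := (hcop.isPrimePow_dvd_mul h1).1 dvd_rfl
  have hox : 0 < orderOf x := orderOf_pos x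
  have hoc : 0 < orderOf c := orderOf_pos c
  rcases h2 with h2 | h2
  · have h3 : orderOf x * orderOf c = orderOf x * 1 := by
      rw [mul_one]; exact Nat.dvd_antisymm h2 (dvd_mul_right _ _)
    exact hc1 (orderOf_eq_one_iff.1 (Nat.eq_of_mul_eq_mul_left hox h3))
  · have h3 : orderOf x * orderOf c = 1 * orderOf c := by
      rw [one_mul]; exact Nat.dvd_antisymm h2 (dvd_mul_left _ _)
    exact hx1 (orderOf_eq_one_iff.1 (Nat.eq_of_mul_eq_mul_right hoc h3))

/-- orders of elements of a `p`-group are coprime to those of an `r`-group -/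
theorem coprime_orderOf {T : Type*} [Group T] {p r : ℕ} (hp : p.Prime) (hr : r.Prime) (hpr : p ≠ r)
    {x c : T} {a b : ℕ} (hx : x ^ p ^ a = 1) (hc : c ^ r ^ b = 1) :
    (orderOf x).Coprime (orderOf c) := by
  have h1 := orderOf_dvd_of_pow_eq_one hx
  have h2 := orderOf_dvd_of_pow_eq_one hc
  have h3 : (p ^ a).Coprime (r ^ b) := Nat.Coprime.pow _ _ ((Nat.coprime_primes hp hr).2 hpr)
  exact Nat.Coprime.coprime_dvd_left h1 (Nat.Coprime.coprime_dvd_right h2 h3)

/-- step (2): no element of prime order `s ≠ p` of `L` normalises a `p`-subgroup `P ⊄ L` -/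
theorem no_prime_normalizer {T : Type*} [Group T] [Finite T] (L : Subgroup T) [L.Normal]
    (hpp : ∀ x : T, x ∉ L → IsPrimePow (orderOf x)) {p s : ℕ} (hp : p.Prime) (hs : s.Prime)
    (hsp : s ≠ p) (P : Subgroup T) (hP : IsPGroup p P) {x0 : T} (hx0P : x0 ∈ P) (hx0L : x0 ∉ L)
    {c : T} (hcL : c ∈ L) (hcP : c ∈ normalizer (P : Set T)) (hco : orderOf c = s) : False := by
  classical
  have : Fact s.Prime := ⟨hs⟩
  have : Fact p.Prime := ⟨hp⟩
  -- the coset `S = x0 (P ∩ L)` inside `P`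
  let S : Type _ := {x : T // x ∈ P ∧ x0⁻¹ * x ∈ L}
  -- every element of `zpowers c` lies in `L` and normalises `P`
  have hzle : ∀ d ∈ zpowers c, d ∈ L ∧ d ∈ normalizer (P : Set T) := by
    intro d hd
    exact ⟨(zpowers_le.2 hcL) hd, (zpowers_le.2 hcP) hd⟩
  have hstab : ∀ d : T, d ∈ L → d ∈ normalizer (P : Set T) → ∀ x : T, x ∈ P ∧ x0⁻¹ * x ∈ L →
      d * x * d⁻¹ ∈ P ∧ x0⁻¹ * (d * x * d⁻¹) ∈ L := by
    intro d hdL hdP x hx
    refine ⟨(mem_normalizer_iff.1 hdP x).1 hx.1, ?_⟩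
    have h1 : x⁻¹ * (d * x * d⁻¹) ∈ L := by
      have h2 : x⁻¹ * d * x⁻¹⁻¹ ∈ L := ‹L.Normal›.conj_mem d hdL x⁻¹
      have h3 := L.mul_mem h2 (L.inv_mem hdL)
      have h4 : x⁻¹ * d * x⁻¹⁻¹ * d⁻¹ = x⁻¹ * (d * x * d⁻¹) := by
        rw [inv_inv]; simp only [mul_assoc]
      rwa [h4] at h3
    have h5 := L.mul_mem hx.2 h1
    have h6 : x0⁻¹ * x * (x⁻¹ * (d * x * d⁻¹)) = x0⁻¹ * (d * x * d⁻¹) := by
      simp only [mul_assoc, mul_inv_cancel_left]
    rwa [h6] at h5
  letI act : MulAction (zpowers c) S :=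
    { smul := fun h x => ⟨(h : T) * x.1 * (h : T)⁻¹,
        hstab h.1 (hzle h.1 h.2).1 (hzle h.1 h.2).2 x.1 x.2⟩
      one_smul := fun x => Subtype.ext (by
        show ((1 : zpowers c) : T) * x.1 * ((1 : zpowers c) : T)⁻¹ = x.1
        simp)
      mul_smul := fun g h x => Subtype.ext (by
        show ((g * h : zpowers c) : T) * x.1 * ((g * h : zpowers c) : T)⁻¹
          = (g : T) * ((h : T) * x.1 * (h : T)⁻¹) * (g : T)⁻¹
        simp [mul_assoc]) }
  have hsmul : ∀ (h : zpowers c) (x : S), (h • x).1 = (h : T) * x.1 * (h : T)⁻¹ := fun _ _ => rfl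
  -- `zpowers c` is an `s`-group
  have hzs : IsPGroup s (zpowers c) :=
    IsPGroup.of_card (n := 1) (by rw [Nat.card_zpowers, hco, pow_one])
  -- `|S| = |P ∩ L|` is a power of `p`
  have hcard : Nat.card S = Nat.card (P ⊓ L : Subgroup T) := by
    refine Nat.card_congr
      { toFun := fun x => ⟨x0⁻¹ * x.1, mem_inf.2 ⟨P.mul_mem (P.inv_mem hx0P) x.2.1, x.2.2⟩⟩
        invFun := fun a => ⟨x0 * a.1, P.mul_mem hx0P (mem_inf.1 a.2).1, by
          rw [inv_mul_cancel_left]; exact (mem_inf.1 a.2).2⟩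
        left_inv := fun x => Subtype.ext (by simp)
        right_inv := fun a => Subtype.ext (by simp) }
  have hPL : IsPGroup p (P ⊓ L : Subgroup T) := hP.to_le inf_le_left
  obtain ⟨m, hm⟩ := hPL.exists_card_eq
  have hnd : ¬ s ∣ Nat.card S := by
    rw [hcard, hm]
    intro h
    exact hsp ((Nat.prime_dvd_prime_iff_eq hs hp).1 (hs.dvd_of_dvd_pow h))
  obtain ⟨x, hx⟩ := hzs.nonempty_fixed_point_of_prime_not_dvd_card S hnd
  have hfix := hx ⟨c, mem_zpowers c⟩
  have hfix' : c * x.1 * c⁻¹ = x.1 := by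
    have := congrArg Subtype.val hfix
    rwa [hsmul] at this
  -- `x ∈ P \ L` commutes with `c`
  have hxL : x.1 ∉ L := by
    intro h
    apply hx0L
    have := L.mul_mem h (L.inv_mem x.2.2)
    have h2 : x.1 * (x0⁻¹ * x.1)⁻¹ = x0 := by
      rw [mul_inv_rev, inv_inv, mul_inv_cancel_left]
    rwa [h2] at this
  have hcomm : Commute x.1 c := by
    have h1 : c * x.1 = x.1 * c := by
      have := congrArg (· * c) hfix'
      simpa [mul_assoc] using this
    exact h1.symm
  obtain ⟨a, ha⟩ := hP ⟨x.1, x.2.1⟩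
  have ha' : x.1 ^ p ^ a = 1 := by
    have := congrArg Subtype.val ha
    simpa using this
  have hc' : c ^ s ^ 1 = 1 := by rw [pow_one, ← hco, pow_orderOf_eq_one]
  have hc1 : c ≠ 1 := by
    intro h
    rw [h, orderOf_one] at hco
    exact hs.one_lt.ne hco
  exact bad_of_commute L hpp hxL hcomm (coprime_orderOf hp hs hsp.symm ha' hc') hc1

/-- **(LL)** -/
theorem ll {T : Type*} [Group T] [Finite T] (L M V : Subgroup T) [L.Normal] [M.Normal] [V.Normal]
    (hLM : L ≤ M) {p q r : ℕ} (hp : p.Prime) (hq : q.Prime) (hr : r.Prime) (hpq : p ≠ q)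
    (hpr : p ≠ r) (hqr : q ≠ r) (hidx : M.index = q) (hML : ∀ m ∈ M, ∃ k : ℕ, m ^ (p ^ k) ∈ L)
    (hne : ¬ M ≤ L) (hpp : ∀ x : T, x ∉ L → IsPrimePow (orderOf x)) (hVL : V ≤ L)
    (hVr : IsPGroup r V) (hVc : ∀ a ∈ V, ∀ b ∈ V, a * b = b * a) (hV1 : V ≠ ⊥) : False := by
  classical
  have : Fact p.Prime := ⟨hp⟩
  have : Fact q.Prime := ⟨hq⟩
  -- a `p`-element of `M` outside `L`
  obtain ⟨m, hmM, hmL⟩ := Set.not_subset.1 hne
  obtain ⟨k, hk⟩ := hML m hmM
  obtain ⟨e, n', hn', hn⟩ := Nat.exists_eq_pow_mul_and_not_dvd (orderOf_pos m).ne' p hp.ne_one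
  have hx1L : m ^ n' ∉ L := by
    intro h
    apply hmL
    refine mem_of_pow_mem_of_coprime L ?_ h hk
    exact Nat.Coprime.pow_right k ((Nat.Prime.coprime_iff_not_dvd hp).2 hn').symm
  have hx1p : (m ^ n') ^ p ^ e = 1 := by
    rw [← pow_mul, mul_comm, ← hn, pow_orderOf_eq_one]
  have hx1M : m ^ n' ∈ M := M.pow_mem hmM n'
  -- a Sylow `p`-subgroup of `M` containing it
  have hzp : IsPGroup p (zpowers (⟨m ^ n', hx1M⟩ : M)) := by
    rintro ⟨x, hx⟩
    obtain ⟨i, rfl⟩ := mem_zpowers_iff.1 hx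
    refine ⟨e, Subtype.ext ?_⟩
    have h0 : (⟨m ^ n', hx1M⟩ : M) ^ p ^ e = 1 := Subtype.ext (by simpa using hx1p)
    have : ((⟨m ^ n', hx1M⟩ : M) ^ i) ^ p ^ e = 1 := by
      rw [← zpow_natCast, ← zpow_mul, mul_comm, zpow_mul, zpow_natCast, h0, one_zpow]
    simpa using this
  obtain ⟨P0, hP0⟩ := hzp.exists_le_sylow
  set P : Subgroup T := (P0 : Subgroup M).map M.subtype with hPdef
  have hP : IsPGroup p P := P0.2.map M.subtype
  have hx0P : m ^ n' ∈ P :=
    mem_map.2 ⟨⟨m ^ n', hx1M⟩, hP0 (mem_zpowers _), rfl⟩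
  -- Frattini
  have hfr : normalizer (P : Set T) ⊔ M = ⊤ := Sylow.normalizer_sup_eq_top P0
  have hMtop : M ≠ ⊤ := by
    intro h
    rw [h, index_top] at hidx
    exact hq.one_lt.ne hidx
  obtain ⟨g, hgN, hgM⟩ : ∃ g, g ∈ normalizer (P : Set T) ∧ g ∉ M := by
    by_contra hcon
    push Not at hcon
    have hle : normalizer (P : Set T) ≤ M := hcon
    rw [sup_eq_right.2 hle] at hfr
    exact hMtop hfr
  -- `q` divides the order of `g`
  have hqg : q ∣ orderOf g := by
    have hcardQ : Nat.card (T ⧸ M) = q := by rw [← index_eq_card]; exact hidx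
    have h1 : (QuotientGroup.mk g : T ⧸ M) ≠ 1 := by
      rw [Ne, QuotientGroup.eq_one_iff]; exact hgM
    have h2 : (QuotientGroup.mk g : T ⧸ M) ^ q = 1 := by
      rw [← hcardQ]; exact pow_card_eq_one'
    have h3 : orderOf (QuotientGroup.mk g : T ⧸ M) = q := orderOf_eq_prime h2 h1
    rw [← h3]
    exact orderOf_map_dvd (QuotientGroup.mk' M) g
  obtain ⟨j, hj⟩ := hqg
  have hy : orderOf (g ^ j) = q := by
    have hgpos := orderOf_pos g
    have hjpos : 0 < j := by
      rcases Nat.eq_zero_or_pos j with h | h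
      · rw [h, mul_zero] at hj; omega
      · exact h
    rw [orderOf_pow' g hjpos.ne', hj, Nat.gcd_eq_right (dvd_mul_left j q),
      Nat.mul_div_cancel _ hjpos]
  set y := g ^ j with hydef
  have hyN : y ∈ normalizer (P : Set T) := (normalizer (P : Set T)).pow_mem hgN j
  have hyL : y ∉ L := fun h =>
    no_prime_normalizer L hpp hp hq hpq.symm P hP hx0P hx1L h hyN hy
  have hyq : y ^ q ^ 1 = 1 := by rw [pow_one, ← hy, pow_orderOf_eq_one]
  -- T1
  obtain ⟨mP, hmP⟩ := hP.exists_card_eq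
  have hcent := Cfsg.Agent.Lib.H6.FrobActG.t1_group P V y hq hy
    (fun k hk => (mem_normalizer_iff.1 hyN k).1 hk)
    (fun v hv => ‹V.Normal›.conj_mem v hv y)
    (fun k _ v hv => ‹V.Normal›.conj_mem v hv k)
    hVc
    (fun k hk hkf => by
      by_contra hk1
      obtain ⟨a, ha⟩ := hP ⟨k, hk⟩
      have ha' : k ^ p ^ a = 1 := by
        have := congrArg Subtype.val ha
        simpa using this
      have hcomm : Commute y k := by
        have := congrArg (· * y) hkf
        show y * k = k * y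
        simpa [mul_assoc] using this
      exact bad_of_commute L hpp hyL hcomm (coprime_orderOf hq hp hpq.symm hyq ha') hk1)
    (fun v hv hvP => by
      obtain ⟨b, hb⟩ := hVr ⟨v, hv⟩
      have hb' : v ^ r ^ b = 1 := by
        have := congrArg Subtype.val hb
        simpa using this
      rw [hmP] at hvP
      have h1 := orderOf_dvd_of_pow_eq_one hvP
      have h2 := orderOf_dvd_of_pow_eq_one hb'
      have h3 := Nat.dvd_gcd h1 h2
      rw [Nat.Coprime.gcd_eq_one (Nat.Coprime.pow _ _ ((Nat.coprime_primes hp hr).2 hpr))] at h3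
      exact orderOf_eq_one_iff.1 (Nat.dvd_one.1 h3))
    (fun v hv hvf => by
      by_contra hv1
      obtain ⟨b, hb⟩ := hVr ⟨v, hv⟩
      have hb' : v ^ r ^ b = 1 := by
        have := congrArg Subtype.val hb
        simpa using this
      have hcomm : Commute y v := by
        have := congrArg (· * y) hvf
        show y * v = v * y
        simpa [mul_assoc] using this
      exact bad_of_commute L hpp hyL hcomm (coprime_orderOf hq hr hqr hyq hb') hv1)
  -- a nonidentity element of `V`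
  obtain ⟨⟨v, hv⟩, hv1'⟩ := V.ne_bot_iff_exists_ne_one.1 hV1
  have hv1 : v ≠ 1 := fun h => hv1' (Subtype.ext h)
  obtain ⟨b, hb⟩ := hVr ⟨v, hv⟩
  have hb' : v ^ r ^ b = 1 := by
    have := congrArg Subtype.val hb
    simpa using this
  have hcomm : Commute (m ^ n') v := by
    have h1 := hcent (m ^ n') hx0P v hv
    have := congrArg (· * (m ^ n')) h1
    show m ^ n' * v = v * m ^ n'
    simpa [mul_assoc] using this
  exact bad_of_commute L hpp hx1L hcomm (coprime_orderOf hp hr hpr hx1p hb') hv1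

end Cfsg.Agent.Lib.H6.S3901LL
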