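import Cfsg.Agent.Lib.H10.S4415BadDefs

/-!
# S4415, BAD block: `B0Stmt` (helper6)

In the BAD case `R` contains an element `z` acting as `-1` on `W`: a minimal `R<b>`-normal
subgroup `D ≠ 1` of `R` is abelian (`R` is solvable), its odd part dies by `OddTriv`, so `D` is
elementary abelian, acts by scalars `±1` (BAD), and a non-identity element is not `+1` (faithful).
-/

set_option autoImplicit false

namespace Cfsg.Agent.Lib.H6.S4415B0

open Cfsg.Agent.Lib.H10.S4415

variable {S : Type*} [Group S]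

/-- `⁅D,D⁆` is normalised by whatever normalises `D`. -/
theorem normBy_commutator {G D : Subgroup S} (h : NormBy G D) : NormBy G ⁅D, D⁆ := by
  intro g hg a ha
  have hmap : (⁅D, D⁆ : Subgroup S).map (MulAut.conj g).toMonoidHom ≤ ⁅D, D⁆ := by
    rw [Subgroup.map_commutator]
    apply Subgroup.commutator_mono
    · rintro _ ⟨d, hd, rfl⟩
      exact h g hg d hd
    · rintro _ ⟨d, hd, rfl⟩
      exact h g hg d hd
  apply hmap
  exact ⟨a, ha, rfl⟩

/-- The elements of square one of a commutative subgroup. -/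
def sqOne (D : Subgroup S) (hc : ∀ x ∈ D, ∀ y ∈ D, x * y = y * x) : Subgroup S where
  carrier := {d | d ∈ D ∧ d * d = 1}
  one_mem' := ⟨D.one_mem, by simp⟩
  mul_mem' := by
    rintro x y ⟨hx, hx2⟩ ⟨hy, hy2⟩
    refine ⟨D.mul_mem hx hy, ?_⟩
    calc x * y * (x * y) = x * (y * x) * y := by group
      _ = x * (x * y) * y := by rw [hc y hy x hx]
      _ = (x * x) * (y * y) := by group
      _ = 1 := by rw [hx2, hy2, one_mul]
  inv_mem' := by
    rintro x ⟨hx, hx2⟩
    refine ⟨D.inv_mem hx, ?_⟩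
    have : x⁻¹ = x := by
      rw [inv_eq_iff_mul_eq_one]
      exact hx2
    rw [this, hx2]

theorem mem_sqOne {D : Subgroup S} {hc : ∀ x ∈ D, ∀ y ∈ D, x * y = y * x} {d : S} :
    d ∈ sqOne D hc ↔ d ∈ D ∧ d * d = 1 := Iff.rfl

theorem mem_RB_of_mem {R D : Subgroup S} {b a : S} (haD : a ∈ D) (hDR : D ≤ R) : a ∈ RB R b :=
  (le_sup_left : R ≤ R ⊔ Subgroup.zpowers b) (hDR haD)

universe u v

/-- `B0Stmt`: in the BAD case some `z ∈ R` acts as `-1` on `W`. -/
theorem b0 : B0Stmt.{u, v} := by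
  intro S _ _ E _ _ _ ρ R b W x₁ x₂ x₃ e₁ e₂ e₃ hL hQ hBad hOdd
  classical
  -- `R` is `R<b>`-normal
  have hb3 : b ^ 3 = 1 := by
    rw [← hL.b_ord]
    exact pow_orderOf_eq_one b
  have hbN : b ∈ Subgroup.normalizer (R : Set S) :=
    Subgroup.mem_normalizer_fintype (fun r hr => hL.b_norm r hr)
  have hRBN : RB R b ≤ Subgroup.normalizer (R : Set S) := by
    unfold RB
    apply sup_le Subgroup.le_normalizer
    rw [Subgroup.zpowers_le]
    exact hbN
  have hRn : NormBy (RB R b) R := by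
    intro g hg r hr
    exact ((hRBN hg) r).mp hr
  -- `e₂ ≠ 0`, so `x₁ ≠ 1` and `R ≠ ⊥`
  have he₂ : e₂ ≠ 0 := by
    intro h
    apply hQ.e₁ne
    have h1 : (ρ b) ((ρ b) ((ρ b) e₁)) = e₁ := by rw [hQ.be₁, hQ.be₂, hQ.be₃]
    rw [hQ.be₁, h, map_zero, map_zero] at h1
    exact h1.symm
  have hx₁ : x₁ ≠ 1 := by
    intro h
    have h1 := hQ.x₁e₂
    rw [h, map_one] at h1
    have h2 : e₂ = -e₂ := h1
    have h3 : e₂ + e₂ = 0 := by
      nth_rewrite 1 [h2]
      exact neg_add_cancel e₂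
    have h4 : (2 : ZMod 3) • e₂ = 0 := by rw [two_smul]; exact h3
    have h5 : (2 : ZMod 3) • ((2 : ZMod 3) • e₂) = 0 := by rw [h4, smul_zero]
    rw [smul_smul] at h5
    have h6 : (2 : ZMod 3) * 2 = 1 := by decide
    rw [h6, one_smul] at h5
    exact he₂ h5
  have hRne : R ≠ ⊥ := by
    intro h
    have := hQ.x₁R
    rw [h, Subgroup.mem_bot] at this
    exact hx₁ this
  -- a minimal `R<b>`-normal nontrivial subgroup of `R`
  have hex : ∃ n : ℕ, ∃ D : Subgroup S, D ≤ R ∧ NormBy (RB R b) D ∧ D ≠ ⊥ ∧ Nat.card ↥D = n :=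
    ⟨Nat.card ↥R, R, le_refl R, hRn, hRne, rfl⟩
  obtain ⟨D, hDR, hDn, hDne, hDcard⟩ := Nat.find_spec hex
  have hmin : ∀ D₁ : Subgroup S, D₁ ≤ D → NormBy (RB R b) D₁ → D₁ = ⊥ ∨ D₁ = D := by
    intro D₁ h1 h2
    by_cases h3 : D₁ = ⊥
    · exact Or.inl h3
    · right
      have h4 : Nat.find hex ≤ Nat.card ↥D₁ :=
        Nat.find_min' hex ⟨D₁, le_trans h1 hDR, h2, h3, rfl⟩
      rw [← hDcard] at h4
      exact Subgroup.eq_of_le_of_card_ge h1 h4
  -- `D` is abelian
  have hRsolv : Group.IsSolvable ↥R := hL.R_solv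
  have hDsolv : Group.IsSolvable ↥D :=
    Group.isSolvable_of_isSolvable_injective (f := Subgroup.inclusion hDR)
      (Subgroup.inclusion_injective hDR)
  have hDnt : Nontrivial ↥D := by
    rw [Subgroup.nontrivial_iff_ne_bot]
    exact hDne
  have hcomm_ne : (⁅D, D⁆ : Subgroup S) ≠ D := by
    intro h
    have h1 : _root_.commutator ↥D < ⊤ := Group.IsSolvable.commutator_lt_top_of_nontrivial ↥D
    have h2 : (_root_.commutator ↥D).map D.subtype = ⁅D, D⁆ := Subgroup.map_subtype_commutator D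
    rw [h] at h2
    have h3 : _root_.commutator ↥D = ⊤ := by
      rw [eq_top_iff]
      intro x _
      have hx : (x : S) ∈ (_root_.commutator ↥D).map D.subtype := by
        rw [h2]
        exact x.2
      obtain ⟨y, hy, hyx⟩ := hx
      have : y = x := Subtype.ext hyx
      rw [← this]
      exact hy
    exact absurd h3 (ne_of_lt h1)
  have hcomm_bot : (⁅D, D⁆ : Subgroup S) = ⊥ := by
    rcases hmin ⁅D, D⁆ (Subgroup.commutator_le_self D) (normBy_commutator hDn) with h | h
    · exact h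
    · exact absurd h hcomm_ne
  have hDc : ∀ x ∈ D, ∀ y ∈ D, x * y = y * x := by
    intro x hx y hy
    have h1 := Subgroup.commutator_mem_commutator hx hy
    rw [hcomm_bot, Subgroup.mem_bot, commutatorElement_eq_one_iff_mul_comm] at h1
    exact h1
  -- the elements of square one
  have hsqn : NormBy (RB R b) (sqOne D hDc) := by
    intro g hg d hd
    rw [mem_sqOne] at hd ⊢
    refine ⟨hDn g hg d hd.1, ?_⟩
    calc g * d * g⁻¹ * (g * d * g⁻¹) = g * (d * d) * g⁻¹ := by group
      _ = 1 := by rw [hd.2]; group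
  have hsqle : sqOne D hDc ≤ D := fun d hd => hd.1
  rcases hmin (sqOne D hDc) hsqle hsqn with hbot | htop
  · -- no involutions: `D` has odd order, so `D = ⊥`
    exfalso
    apply hDne
    apply hOdd D hDR hDn
    rw [← Nat.not_even_iff_odd]
    intro heven
    have h2 : (2 : ℕ) ∣ Nat.card ↥D := even_iff_two_dvd.mp heven
    have : Fact (Nat.Prime 2) := ⟨Nat.prime_two⟩
    obtain ⟨d, hd⟩ := exists_prime_orderOf_dvd_card' 2 h2
    have hd2 : (d : S) * (d : S) = 1 := by
      have : d ^ 2 = 1 := by rw [← hd]; exact pow_orderOf_eq_one d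
      have h3 : ((d ^ 2 : ↥D) : S) = 1 := by rw [this]; rfl
      rw [Subgroup.coe_pow, pow_two] at h3
      exact h3
    have hmem : (d : S) ∈ sqOne D hDc := ⟨d.2, hd2⟩
    rw [hbot, Subgroup.mem_bot] at hmem
    have hd1 : d = 1 := Subtype.ext hmem
    rw [hd1, orderOf_one] at hd
    omega
  · -- `D` is elementary abelian
    have hDel : Cfsg.IsElementaryAbelian 2 D := by
      refine ⟨⟨⟨fun x y => Subtype.ext (hDc x.1 x.2 y.1 y.2)⟩⟩, ?_⟩
      intro a ha
      have : a ∈ sqOne D hDc := by rw [htop]; exact ha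
      rw [pow_two]
      exact this.2
    obtain ⟨a, haD, ha1⟩ : ∃ a ∈ D, a ≠ 1 := by
      by_contra hcon
      apply hDne
      rw [Subgroup.eq_bot_iff_forall]
      intro a ha
      by_contra ha1
      exact hcon ⟨a, ha, ha1⟩
    refine ⟨a, hDR haD, ?_⟩
    rcases hBad D hDR hDn hDel a haD with h | h
    · exfalso
      apply ha1
      exact hL.faithful a (mem_RB_of_mem haD hDR) h
    · exact h

end Cfsg.Agent.Lib.H6.S4415B0
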