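import Mathlib

/-!
# S4415, GOOD case: the pure permutation lemma `n ≤ 4` (helper6)

`Γ = R⟨b⟩` acts transitively on a finite set `Λ` (the weight lines), `R ⊴ Γ` has no element of
order divisible by `3`, and `b` acts as a `3`-cycle.  Then `|Λ| ≤ 4`.

* conjugate `3`-cycles with disjoint supports: `b₁ b₂⁻¹ ∈ R` would act with order `3`;
* supports meeting in one point: `b₁ b₂` acts as a `5`-cycle, so an element of the coset `b R`
  acts trivially, i.e. some element of `R` acts as the `3`-cycle `(φ b)⁻¹`;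
* hence any two supports meet in at least two points, and a transitive family of such
  `3`-sets, stable under the `3`-cycles, lives on at most four points.
-/

set_option autoImplicit false

namespace Cfsg.Agent.Lib.H6.S4415PERM

open Equiv

section perm

variable {Λ : Type*} [Fintype Λ] [DecidableEq Λ]

theorem pow_three_eq_one {σ : Perm Λ} (h : σ.IsThreeCycle) : σ ^ 3 = 1 := by
  have h3 := h.orderOf
  rw [← h3]
  exact pow_orderOf_eq_one σ

theorem apply_apply_apply {σ : Perm Λ} (h : σ.IsThreeCycle) (x : Λ) : σ (σ (σ x)) = x := by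
  have h3 := pow_three_eq_one h
  have : (σ ^ 3) x = x := by rw [h3]; rfl
  simpa [pow_succ, Perm.mul_apply] using this

/-- The support of a `3`-cycle through `c`. -/
theorem mem_support_cases {σ : Perm Λ} (h : σ.IsThreeCycle) {c : Λ} (hc : c ∈ σ.support) {x : Λ}
    (hx : x ∈ σ.support) : x = c ∨ x = σ c ∨ x = σ (σ c) := by
  have hc' : σ c ≠ c := Perm.mem_support.mp hc
  have h1 : σ c ∈ σ.support := Perm.apply_mem_support.mpr hc
  have h2 : σ (σ c) ∈ σ.support := Perm.apply_mem_support.mpr h1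
  have hne1 : σ (σ c) ≠ σ c := fun e => hc' (σ.injective e)
  have hne2 : σ (σ c) ≠ c := by
    intro e
    have := apply_apply_apply h c
    rw [e] at this
    exact hc' this
  have hsub : ({c, σ c, σ (σ c)} : Finset Λ) ⊆ σ.support := by
    intro y hy
    simp only [Finset.mem_insert, Finset.mem_singleton] at hy
    rcases hy with rfl | rfl | rfl
    · exact hc
    · exact h1
    · exact h2
  have hcard : ({c, σ c, σ (σ c)} : Finset Λ).card = 3 := by
    rw [Finset.card_insert_of_notMem, Finset.card_insert_of_notMem, Finset.card_singleton]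
    · simp only [Finset.mem_singleton]
      exact fun e => hne1 e.symm
    · simp only [Finset.mem_insert, Finset.mem_singleton, not_or]
      exact ⟨fun e => hc' e.symm, fun e => hne2 e.symm⟩
  have heq : ({c, σ c, σ (σ c)} : Finset Λ) = σ.support :=
    Finset.eq_of_subset_of_card_le hsub (by rw [hcard, h.card_support])
  rw [← heq] at hx
  simpa using hx

/-- Two `3`-cycles with disjoint supports: `σ₁ σ₂⁻¹` has order `3`. -/
theorem orderOf_mul_inv_of_disjoint {σ₁ σ₂ : Perm Λ} (h₁ : σ₁.IsThreeCycle)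
    (h₂ : σ₂.IsThreeCycle) (hd : Disjoint σ₁.support σ₂.support) : orderOf (σ₁ * σ₂⁻¹) = 3 := by
  have hdis : σ₁.Disjoint σ₂ := Perm.disjoint_iff_disjoint_support.mpr hd
  have hc : Commute σ₁ σ₂⁻¹ := (hdis.commute).inv_right
  have : Fact (Nat.Prime 3) := ⟨Nat.prime_three⟩
  apply orderOf_eq_prime
  · rw [hc.mul_pow, inv_pow, pow_three_eq_one h₁, pow_three_eq_one h₂]
    simp
  · intro h
    have heq : σ₁ = σ₂ := by rwa [mul_inv_eq_one] at h
    subst heq
    have hemp : σ₁.support = ∅ := by simpa using hd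
    have := h₁.card_support
    rw [hemp] at this
    simp at this

/-- Two `3`-cycles whose supports meet in exactly one point: the product is a `5`-cycle. -/
theorem pow_five_of_inter_singleton {σ₁ σ₂ : Perm Λ} (h₁ : σ₁.IsThreeCycle)
    (h₂ : σ₂.IsThreeCycle) {c : Λ} (hc₁ : c ∈ σ₁.support) (hc₂ : c ∈ σ₂.support)
    (huniq : ∀ x, x ∈ σ₁.support → x ∈ σ₂.support → x = c) : (σ₁ * σ₂) ^ 5 = 1 := by
  have hc₁' : σ₁ c ≠ c := Perm.mem_support.mp hc₁
  have hc₂' : σ₂ c ≠ c := Perm.mem_support.mp hc₂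
  have ha : σ₁ c ∈ σ₁.support := Perm.apply_mem_support.mpr hc₁
  have ha' : σ₁ (σ₁ c) ∈ σ₁.support := Perm.apply_mem_support.mpr ha
  have hd : σ₂ c ∈ σ₂.support := Perm.apply_mem_support.mpr hc₂
  have hd' : σ₂ (σ₂ c) ∈ σ₂.support := Perm.apply_mem_support.mpr hd
  have e1 : σ₁ (σ₁ (σ₁ c)) = c := apply_apply_apply h₁ c
  have e2 : σ₂ (σ₂ (σ₂ c)) = c := apply_apply_apply h₂ c
  have hane : σ₁ (σ₁ c) ≠ c := by
    intro e
    rw [e] at e1
    exact hc₁' e1
  have hdne : σ₂ (σ₂ c) ≠ c := by
    intro e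
    rw [e] at e2
    exact hc₂' e2
  -- points of one support outside the other are fixed by the other cycle
  have f1 : σ₂ (σ₁ c) = σ₁ c := by
    by_contra hne
    exact hc₁' (huniq _ ha (Perm.mem_support.mpr hne))
  have f2 : σ₂ (σ₁ (σ₁ c)) = σ₁ (σ₁ c) := by
    by_contra hne
    exact hane (huniq _ ha' (Perm.mem_support.mpr hne))
  have f3 : σ₁ (σ₂ c) = σ₂ c := by
    by_contra hne
    exact hc₂' (huniq _ (Perm.mem_support.mpr hne) hd)
  have f4 : σ₁ (σ₂ (σ₂ c)) = σ₂ (σ₂ c) := by
    by_contra hne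
    exact hdne (huniq _ (Perm.mem_support.mpr hne) hd')
  have hτ : ∀ x, ((σ₁ * σ₂) ^ 5) x =
      σ₁ (σ₂ (σ₁ (σ₂ (σ₁ (σ₂ (σ₁ (σ₂ (σ₁ (σ₂ x))))))))) := by
    intro x
    simp [pow_succ, Perm.mul_apply]
  ext x
  rw [hτ, Perm.one_apply]
  by_cases hx1 : x ∈ σ₁.support
  · rcases mem_support_cases h₁ hc₁ hx1 with rfl | rfl | rfl
    · -- x = c
      rw [f3, f4, e2, f1, f2, e1]
    · -- x = a
      rw [f1, f2, e1, f3, f4, e2]
    · -- x = a'
      rw [f2, e1, f3, f4, e2, f1]
  · have hx1' : σ₁ x = x := Perm.notMem_support.mp hx1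
    by_cases hx2 : x ∈ σ₂.support
    · rcases mem_support_cases h₂ hc₂ hx2 with rfl | rfl | rfl
      · exact absurd hc₁ hx1
      · -- x = d
        rw [f4, e2, f1, f2, e1, f3]
      · -- x = d'
        rw [e2, f1, f2, e1, f3, f4]
    · have hx2' : σ₂ x = x := Perm.notMem_support.mp hx2
      simp only [hx1', hx2']

end perm


section main

variable {Γ Λ : Type*} [Group Γ] [Fintype Λ] [DecidableEq Λ]

/-- `Γ = R⟨b⟩` transitive on `Λ`, `R ⊴ Γ` without elements of order divisible by `3`, `b` acting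
as a `3`-cycle: then `|Λ| ≤ 4`. -/
theorem card_le_four (φ : Γ →* Perm Λ) (htr : ∀ x y : Λ, ∃ g : Γ, φ g x = y)
    (R : Subgroup Γ) [R.Normal] (hR3 : ∀ r ∈ R, ¬ 3 ∣ orderOf r)
    (b : Γ) (hb : (φ b).IsThreeCycle) (hgen : ∀ g : Γ, ∃ r ∈ R, ∃ k : ℕ, g = r * b ^ k) :
    Fintype.card Λ ≤ 4 := by
  classical
  -- no element of `R` acts with order `3`
  have no3 : ∀ r ∈ R, orderOf (φ r) ≠ 3 := by
    intro r hr h
    apply hR3 r hr
    rw [← h]
    exact orderOf_map_dvd φ r
  -- conjugates of `b` lie in the coset `b R`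
  have hcj : ∀ g : Γ, ((g * b * g⁻¹ : Γ) : Γ ⧸ R) = ((b : Γ) : Γ ⧸ R) := by
    intro g
    obtain ⟨r, hr, k, rfl⟩ := hgen g
    have hr1 : ((r : Γ) : Γ ⧸ R) = 1 := (QuotientGroup.eq_one_iff r).mpr hr
    simp only [QuotientGroup.mk_mul, QuotientGroup.mk_inv, QuotientGroup.mk_pow, hr1, one_mul]
    rw [← pow_succ, pow_succ', mul_assoc, mul_inv_cancel, mul_one]
  -- the conjugate `3`-cycles
  have hthree : ∀ g : Γ, (φ (g * b * g⁻¹)).IsThreeCycle := by
    intro g
    have : φ (g * b * g⁻¹) = φ g * φ b * (φ g)⁻¹ := by rw [map_mul, map_mul, map_inv]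
    rw [this]
    unfold Perm.IsThreeCycle
    rw [Perm.cycleType_conj]
    exact hb
  have hmem : ∀ (g : Γ) (x : Λ),
      x ∈ (φ (g * b * g⁻¹)).support ↔ (φ g)⁻¹ x ∈ (φ b).support := by
    intro g x
    have : φ (g * b * g⁻¹) = φ g * φ b * (φ g)⁻¹ := by rw [map_mul, map_mul, map_inv]
    rw [this, Perm.mem_support, Perm.mem_support, Perm.mul_apply, Perm.mul_apply]
    constructor
    · intro h h'
      apply h
      rw [h']
      simp
    · intro h h'
      apply h
      have h2 := congrArg (⇑(φ g)⁻¹) h'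
      simpa using h2
  -- any two supports meet in at least two points
  have K : ∀ g h : Γ,
      2 ≤ ((φ (g * b * g⁻¹)).support ∩ (φ (h * b * h⁻¹)).support).card := by
    intro g h
    by_contra hlt
    have hlt' : ((φ (g * b * g⁻¹)).support ∩ (φ (h * b * h⁻¹)).support).card = 0 ∨
        ((φ (g * b * g⁻¹)).support ∩ (φ (h * b * h⁻¹)).support).card = 1 := by omega
    rcases hlt' with h0 | h1
    · -- disjoint supports
      have hd : Disjoint (φ (g * b * g⁻¹)).support (φ (h * b * h⁻¹)).support := by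
        rw [Finset.disjoint_iff_inter_eq_empty]
        exact Finset.card_eq_zero.mp h0
      have ho := orderOf_mul_inv_of_disjoint (hthree g) (hthree h) hd
      have hrR : (g * b * g⁻¹) * (h * b * h⁻¹)⁻¹ ∈ R := by
        rw [← QuotientGroup.eq_one_iff, QuotientGroup.mk_mul, QuotientGroup.mk_inv, hcj g, hcj h,
          mul_inv_cancel]
      apply no3 _ hrR
      rw [map_mul, map_inv]
      exact ho
    · -- one common point
      obtain ⟨c, hc⟩ := Finset.card_eq_one.mp h1
      have hc1 : c ∈ (φ (g * b * g⁻¹)).support ∩ (φ (h * b * h⁻¹)).support := by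
        rw [hc]; exact Finset.mem_singleton_self c
      rw [Finset.mem_inter] at hc1
      have huniq : ∀ x, x ∈ (φ (g * b * g⁻¹)).support → x ∈ (φ (h * b * h⁻¹)).support →
          x = c := by
        intro x hx1 hx2
        have : x ∈ (φ (g * b * g⁻¹)).support ∩ (φ (h * b * h⁻¹)).support :=
          Finset.mem_inter.mpr ⟨hx1, hx2⟩
        rw [hc] at this
        exact Finset.mem_singleton.mp this
      have h5 := pow_five_of_inter_singleton (hthree g) (hthree h) hc1.1 hc1.2 huniq
      -- the element `(b^10)⁻¹ * (b₁ b₂)^5` of `R` acts as `(φ b)⁻¹`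
      have hrR : (b ^ 10)⁻¹ * ((g * b * g⁻¹) * (h * b * h⁻¹)) ^ 5 ∈ R := by
        rw [← QuotientGroup.eq_one_iff, QuotientGroup.mk_mul, QuotientGroup.mk_inv,
          QuotientGroup.mk_pow, QuotientGroup.mk_pow, QuotientGroup.mk_mul, hcj g, hcj h,
          ← pow_two, ← pow_mul, inv_mul_cancel]
      apply no3 _ hrR
      have hb3 := pow_three_eq_one hb
      have hb10 : (φ b) ^ 10 = φ b := by
        have : (φ b) ^ 10 = ((φ b) ^ 3) ^ 3 * φ b := by group
        rw [this, hb3, one_pow, one_mul]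
      rw [map_mul, map_inv, map_pow, map_pow, map_mul, h5, mul_one, hb10, orderOf_inv]
      exact hb.orderOf
  obtain ⟨S, hS⟩ : ∃ S : Γ → Finset Λ, ∀ g, S g = (φ (g * b * g⁻¹)).support :=
    ⟨_, fun _ => rfl⟩
  have hS0 : S 1 = (φ b).support := by rw [hS]; simp
  have hcard : ∀ g, (S g).card = 3 := fun g => by rw [hS]; exact (hthree g).card_support
  have hK : ∀ g h, 2 ≤ (S g ∩ S h).card := fun g h => by rw [hS, hS]; exact K g h
  have hmemS : ∀ g x, x ∈ S g ↔ (φ g)⁻¹ x ∈ S 1 := by
    intro g x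
    rw [hS0, hS]
    exact hmem g x
  have hbg : ∀ g x, x ∈ S (b * g) ↔ (φ b)⁻¹ x ∈ S g := by
    intro g x
    rw [hmemS, hmemS g, map_mul, mul_inv_rev, Perm.mul_apply]
  have L1 : ∀ g s, s ∈ S g → s ∉ S 1 → S g ∩ S 1 = (S g).erase s := by
    intro g s hs hs0
    apply Finset.eq_of_subset_of_card_le
    · intro x hx
      rw [Finset.mem_inter] at hx
      rw [Finset.mem_erase]
      exact ⟨fun e => hs0 (e ▸ hx.2), hx.1⟩
    · rw [Finset.card_erase_of_mem hs, hcard g]
      exact hK g 1
  have M : ∀ g s g' s', s ∈ S g → s ∉ S 1 → s' ∈ S g' → s' ∉ S 1 → s ≠ s' →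
      (S g).erase s = (S g').erase s' := by
    intro g s g' s' hs hs0 hs' hs0' hne
    have e1 := L1 g s hs hs0
    have e2 := L1 g' s' hs' hs0'
    have c1 : ((S g).erase s).card = 2 := by rw [Finset.card_erase_of_mem hs, hcard g]
    have c2 : ((S g').erase s').card = 2 := by rw [Finset.card_erase_of_mem hs', hcard g']
    have hs'g : s' ∉ S g := by
      intro h
      have : s' ∈ (S g).erase s := Finset.mem_erase.mpr ⟨fun e => hne e.symm, h⟩
      rw [← e1] at this
      exact hs0' (Finset.mem_inter.mp this).2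
    have hsg' : s ∉ S g' := by
      intro h
      have : s ∈ (S g').erase s' := Finset.mem_erase.mpr ⟨hne, h⟩
      rw [← e2] at this
      exact hs0 (Finset.mem_inter.mp this).2
    have hsub : S g ∩ S g' ⊆ (S g).erase s ∩ (S g').erase s' := by
      intro x hx
      rw [Finset.mem_inter] at hx
      rw [Finset.mem_inter, Finset.mem_erase, Finset.mem_erase]
      exact ⟨⟨fun e => hsg' (e ▸ hx.2), hx.1⟩, ⟨fun e => hs'g (e ▸ hx.1), hx.2⟩⟩
    have c3 : 2 ≤ ((S g).erase s ∩ (S g').erase s').card :=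
      le_trans (hK g g') (Finset.card_le_card hsub)
    have hP : (S g).erase s ∩ (S g').erase s' = (S g).erase s :=
      Finset.eq_of_subset_of_card_le Finset.inter_subset_left (by rw [c1]; exact c3)
    have hPP' : (S g).erase s ⊆ (S g').erase s' := by
      rw [← hP]
      exact Finset.inter_subset_right
    exact Finset.eq_of_subset_of_card_le hPP' (by rw [c1, c2])
  have huniq : ∀ s s', s ∉ S 1 → s' ∉ S 1 → s = s' := by
    intro s s' hs0 hs0'
    by_contra hne
    obtain ⟨p, hp⟩ : (S 1).Nonempty := by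
      rw [← Finset.card_pos, hcard 1]
      norm_num
    obtain ⟨g, hg⟩ := htr p s
    obtain ⟨g', hg'⟩ := htr p s'
    have hs : s ∈ S g := by
      rw [hmemS, ← hg]
      simpa using hp
    have hs' : s' ∈ S g' := by
      rw [hmemS, ← hg']
      simpa using hp
    have hP := M g s g' s' hs hs0 hs' hs0' hne
    have hσs : (φ b) s = s := by
      rw [hS0] at hs0
      exact Perm.notMem_support.mp hs0
    have hσs' : (φ b)⁻¹ s = s := by
      rw [Perm.inv_eq_iff_eq]
      exact hσs.symm
    have hsb : s ∈ S (b * g) := by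
      rw [hbg, hσs']
      exact hs
    have hP2 := M (b * g) s g' s' hsb hs0 hs' hs0' hne
    have hPeq : (S (b * g)).erase s = (S g).erase s := by rw [hP2, hP]
    have hPsub : (S g).erase s ⊆ S 1 := by
      rw [← L1 g s hs hs0]
      exact Finset.inter_subset_right
    have hstab : ∀ x ∈ (S g).erase s, (φ b) x ∈ (S g).erase s := by
      intro x hx
      rw [← hPeq, Finset.mem_erase, hbg]
      refine ⟨?_, ?_⟩
      · intro e
        have : x = s := (φ b).injective (e.trans hσs.symm)
        exact (Finset.mem_erase.mp hx).1 this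
      · simpa using (Finset.mem_erase.mp hx).2
    have c1 : ((S g).erase s).card = 2 := by rw [Finset.card_erase_of_mem hs, hcard g]
    obtain ⟨r, hr, hrP⟩ : ∃ r ∈ S 1, r ∉ (S g).erase s :=
      Finset.exists_mem_notMem_of_card_lt_card (by rw [c1, hcard 1]; norm_num)
    have himg : ((S g).erase s).image (φ b) = (S g).erase s := by
      apply Finset.eq_of_subset_of_card_le
      · intro y hy
        obtain ⟨x, hx, rfl⟩ := Finset.mem_image.mp hy
        exact hstab x hx
      · rw [Finset.card_image_of_injective _ (φ b).injective]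
    have hσr : (φ b) r ∉ (S g).erase s := by
      intro h
      rw [← himg] at h
      obtain ⟨x, hx, hxe⟩ := Finset.mem_image.mp h
      exact hrP ((φ b).injective hxe ▸ hx)
    have hσr1 : (φ b) r ∈ S 1 := by
      rw [hS0] at hr ⊢
      exact Perm.apply_mem_support.mpr hr
    have c2 : (S 1 \ (S g).erase s).card = 1 := by
      rw [Finset.card_sdiff_of_subset hPsub, hcard 1, c1]
    obtain ⟨a, ha⟩ := Finset.card_eq_one.mp c2
    have m1 : r ∈ S 1 \ (S g).erase s := Finset.mem_sdiff.mpr ⟨hr, hrP⟩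
    have m2 : (φ b) r ∈ S 1 \ (S g).erase s := Finset.mem_sdiff.mpr ⟨hσr1, hσr⟩
    rw [ha, Finset.mem_singleton] at m1 m2
    have hfix : (φ b) r = r := m2.trans m1.symm
    rw [hS0] at hr
    exact (Perm.mem_support.mp hr) hfix
  have hout : (Finset.univ \ S 1).card ≤ 1 := by
    rw [Finset.card_le_one]
    intro x hx y hy
    exact huniq x y (Finset.mem_sdiff.mp hx).2 (Finset.mem_sdiff.mp hy).2
  have htot : (Finset.univ \ S 1).card + (S 1).card = (Finset.univ : Finset Λ).card :=
    Finset.card_sdiff_add_card_eq_card (Finset.subset_univ _)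
  rw [hcard 1, Finset.card_univ] at htot
  omega

/-- A `3`-cycle needs three points. -/
theorem three_le_card (σ : Perm Λ) (h : σ.IsThreeCycle) : 3 ≤ Fintype.card Λ := by
  rw [← h.card_support, ← Finset.card_univ]
  exact Finset.card_le_card (Finset.subset_univ _)

end main

end Cfsg.Agent.Lib.H6.S4415PERM
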