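import Cfsg.Agent.Lib.H24.S4415GDefs
import Cfsg.Agent.Lib.H6.S4415PERM

/-!
# S4415, GOOD case: `CardStmt` (helper6)

A monomial frame has `3` or `4` lines: the permutation lemma `S4415PERM.card_le_four` applied to
`Γ = R<b>`, with the normal `3'`-subgroup `R` and the `3`-cycle `φ b`.
-/

set_option autoImplicit false

namespace Cfsg.Agent.Lib.H6.S4415CARD

open Cfsg.Agent.Lib.H10.S4415 Cfsg.Agent.Lib.H24.S4415G

variable {S E : Type*} [Group S] [AddCommGroup E] [Module (ZMod 3) E]

/-- In a linearly independent family over `ZMod 3`, `f i = -f j` forces `i = j`. -/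
theorem eq_of_eq_neg {n : ℕ} {f : Fin n → E} (hf : LinearIndependent (ZMod 3) f) {i j : Fin n}
    (h : f i = -f j) : i = j := by
  by_contra hne
  have hli := hf
  rw [linearIndependent_iff] at hli
  have h0 := hli (Finsupp.single i 1 + Finsupp.single j 1) (by
    rw [map_add, Finsupp.linearCombination_single, Finsupp.linearCombination_single, one_smul,
      one_smul, h, neg_add_cancel])
  have h2 := DFunLike.congr_fun h0 i
  have hne' : ¬ j = i := fun e => hne e.symm
  simp [hne'] at h2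

/-- `f j = ± f k` forces `j = k`. -/
theorem eq_of_pm {n : ℕ} {f : Fin n → E} (hf : LinearIndependent (ZMod 3) f) {j k : Fin n}
    (h : f j = f k ∨ f j = -f k) : j = k := by
  rcases h with h | h
  · exact hf.injective h
  · exact eq_of_eq_neg hf h

/-- The permutation part of a monomial frame is multiplicative. -/
theorem phi_mul {ρ : Representation (ZMod 3) S E} {R : Subgroup S} {b : S}
    {W : Submodule (ZMod 3) E} {n : ℕ} {f : Fin n → E} {φ : ↥(RB R b) → Equiv.Perm (Fin n)}
    (hM : MonoFrame ρ R b W f φ) (g h : ↥(RB R b)) : φ (g * h) = φ g * φ h := by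
  apply Equiv.ext
  intro i
  rw [Equiv.Perm.mul_apply]
  have e : ρ ((g * h : ↥(RB R b)) : S) (f i) = ρ (g : S) (ρ (h : S) (f i)) := by
    rw [Subgroup.coe_mul, map_mul]
    rfl
  apply eq_of_pm hM.indep
  rcases hM.mono (g * h) i with h1 | h1 <;> rcases hM.mono h i with h2 | h2 <;>
    rcases hM.mono g (φ h i) with h3 | h3
  · left
    rw [← h1, e, h2, h3]
  · right
    rw [← h1, e, h2, h3]
  · right
    rw [← h1, e, h2, map_neg, h3]
  · left
    rw [← h1, e, h2, map_neg, h3, neg_neg]
  · right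
    have : f (φ (g * h) i) = -(ρ (g : S) (ρ (h : S) (f i))) := by rw [← e, h1, neg_neg]
    rw [this, h2, h3]
  · left
    have : f (φ (g * h) i) = -(ρ (g : S) (ρ (h : S) (f i))) := by rw [← e, h1, neg_neg]
    rw [this, h2, h3, neg_neg]
  · left
    have : f (φ (g * h) i) = -(ρ (g : S) (ρ (h : S) (f i))) := by rw [← e, h1, neg_neg]
    rw [this, h2, map_neg, h3, neg_neg]
  · right
    have : f (φ (g * h) i) = -(ρ (g : S) (ρ (h : S) (f i))) := by rw [← e, h1, neg_neg]
    rw [this, h2, map_neg, h3, neg_neg]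

universe u v

/-- `CardStmt`: a monomial frame has `3` or `4` lines. -/
theorem card : CardStmt.{u, v} := by
  intro S _ _ E _ _ _ ρ R b W n f φ hL hM
  classical
  -- `b ^ 3 = 1`
  have hb3 : b ^ 3 = 1 := by
    rw [← hL.b_ord]
    exact pow_orderOf_eq_one b
  -- `R` is normal in `R<b>`
  have hbN : b ∈ Subgroup.normalizer (R : Set S) :=
    Subgroup.mem_normalizer_fintype (fun r hr => hL.b_norm r hr)
  have hRBN : RB R b ≤ Subgroup.normalizer (R : Set S) := by
    unfold RB
    apply sup_le Subgroup.le_normalizer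
    rw [Subgroup.zpowers_le]
    exact hbN
  have hnorm : (R.subgroupOf (RB R b)).Normal := Subgroup.normal_subgroupOf_of_le_normalizer hRBN
  -- the permutation action as a homomorphism
  let Φ : ↥(RB R b) →* Equiv.Perm (Fin n) := MonoidHom.mk' φ (phi_mul hM)
  have hΦ : ∀ g, Φ g = φ g := fun _ => rfl
  -- no element of `R` has order divisible by `3`
  have hR3 : ∀ r ∈ R.subgroupOf (RB R b), ¬ 3 ∣ orderOf r := by
    intro r hr hdvd
    rw [Subgroup.mem_subgroupOf] at hr
    have h1 : orderOf (⟨(r : S), hr⟩ : ↥R) ∣ Nat.card ↥R := orderOf_dvd_natCard _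
    have h2 : orderOf (⟨(r : S), hr⟩ : ↥R) = orderOf r := by
      rw [← Subgroup.orderOf_coe, ← Subgroup.orderOf_coe r]
    rw [h2] at h1
    have h3 : 3 ∣ Nat.card ↥R := dvd_trans hdvd h1
    have hc := hL.R_coprime
    have : (3 : ℕ) ∣ Nat.gcd (Nat.card ↥R) 3 := Nat.dvd_gcd h3 (dvd_refl 3)
    rw [Nat.Coprime] at hc
    rw [hc] at this
    omega
  -- `R<b> = R * <b>`
  have hgen : ∀ g : ↥(RB R b), ∃ r ∈ R.subgroupOf (RB R b), ∃ k : ℕ, g = r * bRB R b ^ k := by
    intro g
    have htop : R.subgroupOf (RB R b) ⊔ (Subgroup.zpowers b).subgroupOf (RB R b) = ⊤ := by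
      have := Subgroup.codisjoint_subgroupOf_sup R (Subgroup.zpowers b)
      rw [codisjoint_iff] at this
      exact this
    have hg : g ∈ ((R.subgroupOf (RB R b) ⊔ (Subgroup.zpowers b).subgroupOf (RB R b) :
        Subgroup ↥(RB R b)) : Set ↥(RB R b)) := by
      rw [htop]
      trivial
    rw [Subgroup.normal_mul] at hg
    obtain ⟨r, hr, z, hz, hrz⟩ := Set.mem_mul.mp hg
    refine ⟨r, hr, ?_⟩
    have hz' : (z : S) ∈ Subgroup.zpowers b := Subgroup.mem_subgroupOf.mp hz
    obtain ⟨k, hk⟩ := Subgroup.mem_zpowers_iff.mp hz'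
    refine ⟨(k % 3).toNat, ?_⟩
    rw [← hrz]
    congr 1
    apply Subtype.ext
    rw [Subgroup.coe_pow]
    show (z : S) = b ^ (k % 3).toNat
    have h3 : (0 : ℤ) ≤ k % 3 := Int.emod_nonneg k (by norm_num)
    rw [← zpow_natCast, Int.toNat_of_nonneg h3, ← hk]
    have := zpow_mod_orderOf b k
    rw [hL.b_ord] at this
    exact this.symm
  have h4 := Cfsg.Agent.Lib.H6.S4415PERM.card_le_four Φ hM.trans (R.subgroupOf (RB R b)) hR3
    (bRB R b) hM.three hgen
  have h3 := Cfsg.Agent.Lib.H6.S4415PERM.three_le_card (φ (bRB R b)) hM.three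
  rw [Fintype.card_fin] at h3 h4
  omega

end Cfsg.Agent.Lib.H6.S4415CARD
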