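import Cfsg.Agent.Lib.H6.S4415G5C
import Cfsg.Agent.Lib.H20.S4415G5D

/-!
# S4415, GOOD case: `FourStmt` (helper6)

Assembly for `n = 4`: `exists_xs` (parts (a)-(d) + helper12's `xs_of_mono`) and helper20's
`four_of_frame_xs`.
-/

set_option autoImplicit false

namespace Cfsg.Agent.Lib.H6.S4415FOUR

open Cfsg.Agent.Lib.H10.S4415 Cfsg.Agent.Lib.H24.S4415G

universe u v

/-- `FourStmt`: four lines give the extraspecial group of order `32` with an `E₈` inside. -/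
theorem four : FourStmt.{u, v} := by
  intro S _ _ E _ _ _ ρ R b W x₁ x₂ x₃ e₁ e₂ e₃ f φ hL hQ hM
  obtain ⟨z, hz, hXS⟩ := Cfsg.Agent.Lib.H6.S4415G5C.exists_xs hL hM
  exact Cfsg.Agent.Lib.H20.S4415G5D.four_of_frame_xs hL hQ hM z hz hXS

end Cfsg.Agent.Lib.H6.S4415FOUR
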