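import Cfsg.Agent.Lib.H12.S4415G5e
import Cfsg.Agent.Lib.H6.S4415G5P

/-!
# S4415, GOOD case `n = 4`: parts (a)+(c) of `FourStmt` (helper6)

On top of helper12's sign toolkit (`sg`): the product of the signs is a homomorphism into the
commutative monoid `ZMod 3`, hence trivial on `R = ⁅R, <b>⁆`; the non-scalar diagonal element has
exactly two signs `-1`, and its `R<b>`-conjugates give all the weight-two diagonal elements
`d_ij ∈ R`; `z = d_01 d_23` acts as `-1` on `W`.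
-/

set_option autoImplicit false

namespace Cfsg.Agent.Lib.H6.S4415G5C

open Equiv Cfsg.Agent.Lib.H10.S4415 Cfsg.Agent.Lib.H24.S4415G Cfsg.Agent.Lib.H12.S4415G5e
open Cfsg.Agent.Lib.H6.S4415G5P

variable {S E : Type*} [Group S] [AddCommGroup E] [Module (ZMod 3) E]
variable {ρ : Representation (ZMod 3) S E} {R : Subgroup S} {b : S} {W : Submodule (ZMod 3) E}
  {n : ℕ} {f : Fin n → E} {φ : ↥(RB R b) → Perm (Fin n)}

/-- The product of the signs, a homomorphism into the commutative monoid `ZMod 3`. -/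
noncomputable def prodSg (hM : MonoFrame ρ R b W f φ) : ↥(RB R b) →* ZMod 3 where
  toFun g := ∏ i, sg ρ f φ g i
  map_one' := by
    apply Finset.prod_eq_one
    intro i _
    exact sg_one hM i
  map_mul' g h := by
    have h1 : ∀ i, sg ρ f φ (g * h) i = sg ρ f φ h i * sg ρ f φ g (φ h i) := sg_mul hM g h
    simp only [h1]
    rw [Finset.prod_mul_distrib, Equiv.prod_comp (φ h) (fun j => sg ρ f φ g j), mul_comm]

theorem prodSg_apply (hM : MonoFrame ρ R b W f φ) (g : ↥(RB R b)) :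
    prodSg hM g = ∏ i, sg ρ f φ g i := rfl

/-- A homomorphism from a group into a commutative monoid kills commutators. -/
theorem map_commutator_eq_one {G M : Type*} [Group G] [CommMonoid M] (P : G →* M) (x y : G) :
    P (x * y * x⁻¹ * y⁻¹) = 1 := by
  have hx : P x * P x⁻¹ = 1 := by rw [← map_mul, mul_inv_cancel, map_one]
  have hy : P y * P y⁻¹ = 1 := by rw [← map_mul, mul_inv_cancel, map_one]
  rw [map_mul, map_mul, map_mul]
  calc P x * P y * P x⁻¹ * P y⁻¹ = (P x * P x⁻¹) * (P y * P y⁻¹) := by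
        simp only [mul_comm, mul_left_comm]
    _ = 1 := by rw [hx, hy, one_mul]

/-- (a) the product of the signs is `1` on `R = ⁅R, <b>⁆`. -/
theorem prodSg_eq_one (hL : LinCtx ρ R b W) (hM : MonoFrame ρ R b W f φ) (r : ↥(RB R b))
    (hr : (r : S) ∈ R) : prodSg hM r = 1 := by
  have hle : ⁅R, Subgroup.zpowers b⁆ ≤ (MonoidHom.ker (prodSg hM)).map (RB R b).subtype := by
    rw [Subgroup.commutator_le]
    intro x hx y hy
    have hx' : x ∈ RB R b := R_le_RB R b hx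
    have hy' : y ∈ RB R b :=
      (le_sup_right : Subgroup.zpowers b ≤ R ⊔ Subgroup.zpowers b) hy
    refine ⟨(⟨x, hx'⟩ : ↥(RB R b)) * ⟨y, hy'⟩ * (⟨x, hx'⟩ : ↥(RB R b))⁻¹ *
      (⟨y, hy'⟩ : ↥(RB R b))⁻¹, ?_, ?_⟩
    · show prodSg hM _ = 1
      exact map_commutator_eq_one _ _ _
    · rw [commutatorElement_def]
      rfl
  have hr' : (r : S) ∈ ⁅R, Subgroup.zpowers b⁆ := by
    rw [hL.R_comm]
    exact hr
  obtain ⟨k, hk, hkr⟩ := hle hr'
  have : k = r := Subtype.ext hkr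
  rw [← this]
  exact hk

/-- (a) in helper12's shape `hP`. -/
theorem hP (hL : LinCtx ρ R b W) (hM : MonoFrame ρ R b W f φ) :
    ∀ r : ↥(RB R b), (r : S) ∈ R → ∀ c : Fin n → ZMod 3,
      (∀ i, ρ (r : S) (f i) = c i • f (φ r i)) → ∏ i, c i = 1 := by
  intro r hr c hc
  have h1 : ∀ i, c i = sg ρ f φ r i := fun i => sg_uniq hM r i (c i) (hc i)
  simp only [h1]
  exact prodSg_eq_one hL hM r hr

/-- The sign of a conjugate of a diagonal element. -/
theorem conj_diag (hM : MonoFrame ρ R b W f φ) (g a : ↥(RB R b)) (ha : φ a = 1) (k : Fin n) :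
    φ (g * a * g⁻¹) = 1 ∧
      ρ ((g * a * g⁻¹ : ↥(RB R b)) : S) (f k) = sg ρ f φ a ((φ g)⁻¹ k) • f k := by
  have hinv : φ g⁻¹ = (φ g)⁻¹ := by
    have h1 : φ g * φ g⁻¹ = 1 := by rw [← phi_mul hM, mul_inv_cancel, phi_one hM]
    exact eq_inv_of_mul_eq_one_right h1
  have hφ : φ (g * a * g⁻¹) = 1 := by
    rw [phi_mul hM, phi_mul hM, ha, mul_one, hinv, mul_inv_cancel]
  refine ⟨hφ, ?_⟩
  have h1 := sg_spec hM (g * a * g⁻¹) k
  rw [hφ, Perm.one_apply] at h1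
  rw [h1]
  congr 1
  -- the sign
  have h2 : sg ρ f φ (g * a * g⁻¹) k =
      sg ρ f φ g⁻¹ k * (sg ρ f φ a (φ g⁻¹ k) * sg ρ f φ g (φ a (φ g⁻¹ k))) := by
    rw [sg_mul hM (g * a) g⁻¹ k, sg_mul hM g a (φ g⁻¹ k)]
  have h3 : sg ρ f φ g⁻¹ k * sg ρ f φ g (φ g⁻¹ k) = 1 := by
    rw [← sg_mul hM g g⁻¹ k, mul_inv_cancel, sg_one hM]
  rw [h2, ha, Perm.one_apply, hinv]
  rw [hinv] at h3
  calc sg ρ f φ g⁻¹ k * (sg ρ f φ a ((φ g)⁻¹ k) * sg ρ f φ g ((φ g)⁻¹ k))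
      = sg ρ f φ a ((φ g)⁻¹ k) * (sg ρ f φ g⁻¹ k * sg ρ f φ g ((φ g)⁻¹ k)) := by ring
    _ = sg ρ f φ a ((φ g)⁻¹ k) := by rw [h3, mul_one]

section four

variable {f : Fin 4 → E} {φ : ↥(RB R b) → Perm (Fin 4)}

set_option maxRecDepth 100000 in
/-- A sign vector on four points with product `1`, a `+1` and a `-1`, has exactly two `-1`. -/
theorem two_neg : ∀ s : Fin 4 → ZMod 3, (∀ i, s i = 1 ∨ s i = -1) → ∏ i, s i = 1 →
    ∀ i₀ j₀ : Fin 4, s i₀ = 1 → s j₀ = -1 →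
      ∃ j₁, j₁ ≠ j₀ ∧ s j₁ = -1 ∧ ∀ k, k ≠ j₀ → k ≠ j₁ → s k = 1 := by
  decide +kernel

/-- (c) the weight-two diagonal elements, in helper12's shape `hD`. -/
theorem hD [Finite S] (hL : LinCtx ρ R b W) (hM : MonoFrame ρ R b W f φ) :
    ∀ i j : Fin 4, i ≠ j → ∃ r : ↥(RB R b), (r : S) ∈ R ∧ φ r = 1 ∧
      ρ (r : S) (f i) = -f i ∧ ρ (r : S) (f j) = -f j ∧
      ∀ k, k ≠ i → k ≠ j → ρ (r : S) (f k) = f k := by
  intro i j hij
  obtain ⟨a, haR, hφa, i₀, j₀, hi₀, hj₀⟩ := hM.nonscalar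
  have hs1 : sg ρ f φ a i₀ = 1 := by
    symm
    apply sg_uniq hM
    rw [hφa, Perm.one_apply, one_smul]
    exact hi₀
  have hs2 : sg ρ f φ a j₀ = -1 := by
    symm
    apply sg_uniq hM
    rw [hφa, Perm.one_apply, neg_smul, one_smul]
    exact hj₀
  have hprod : ∏ k, sg ρ f φ a k = 1 := prodSg_eq_one hL hM a haR
  obtain ⟨j₁, hj₁ne, hj₁, hrest⟩ :=
    two_neg (fun k => sg ρ f φ a k) (fun k => sg_pm a k) hprod i₀ j₀ hs1 hs2
  obtain ⟨g, hg1, hg2⟩ := frame_two_transitive hL hM j₀ j₁ i j (fun h => hj₁ne h.symm) hij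
  have hnorm := normal_R hL
  have hrR : ((g * a * g⁻¹ : ↥(RB R b)) : S) ∈ R := by
    have h1 : a ∈ R.subgroupOf (RB R b) := Subgroup.mem_subgroupOf.mpr haR
    have h2 := hnorm.conj_mem a h1 g
    exact Subgroup.mem_subgroupOf.mp h2
  have hinv1 : (φ g)⁻¹ i = j₀ := by rw [Perm.inv_eq_iff_eq]; exact hg1.symm
  have hinv2 : (φ g)⁻¹ j = j₁ := by rw [Perm.inv_eq_iff_eq]; exact hg2.symm
  refine ⟨g * a * g⁻¹, hrR, (conj_diag hM g a hφa i).1, ?_, ?_, ?_⟩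
  · rw [(conj_diag hM g a hφa i).2, hinv1, hs2, neg_smul, one_smul]
  · rw [(conj_diag hM g a hφa j).2, hinv2, hj₁, neg_smul, one_smul]
  · intro k hki hkj
    have h1 : (φ g)⁻¹ k ≠ j₀ := by
      intro h
      apply hki
      rw [Perm.inv_eq_iff_eq] at h
      rw [h, hg1]
    have h2 : (φ g)⁻¹ k ≠ j₁ := by
      intro h
      apply hkj
      rw [Perm.inv_eq_iff_eq] at h
      rw [h, hg2]
    rw [(conj_diag hM g a hφa k).2, hrest _ h1 h2, one_smul]

/-- `z = d_01 d_23 ∈ R` acts as `-1` on `W`. -/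
theorem exists_neg [Finite S] (hL : LinCtx ρ R b W) (hM : MonoFrame ρ R b W f φ) :
    ∃ z ∈ R, IsNeg ρ W z := by
  obtain ⟨d, hdR, _, hd0, hd1, hdk⟩ := hD hL hM 0 1 (by decide)
  obtain ⟨d', hd'R, _, hd2, hd3, hd'k⟩ := hD hL hM 2 3 (by decide)
  have hd'0 : ρ (d' : S) (f 0) = f 0 := hd'k 0 (by decide) (by decide)
  have hd'1 : ρ (d' : S) (f 1) = f 1 := hd'k 1 (by decide) (by decide)
  have hd2' : ρ (d : S) (f 2) = f 2 := hdk 2 (by decide) (by decide)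
  have hd3' : ρ (d : S) (f 3) = f 3 := hdk 3 (by decide) (by decide)
  refine ⟨(d : S) * (d' : S), R.mul_mem hdR hd'R, ?_⟩
  intro w hw
  have hw' := hM.span w hw
  have hEq : Set.EqOn (ρ ((d : S) * (d' : S))) (-LinearMap.id : E →ₗ[ZMod 3] E) (Set.range f) := by
    rintro _ ⟨k, rfl⟩
    rw [map_mul, Module.End.mul_apply, LinearMap.neg_apply, LinearMap.id_apply]
    fin_cases k
    · show ρ (d : S) (ρ (d' : S) (f 0)) = -f 0
      rw [hd'0, hd0]
    · show ρ (d : S) (ρ (d' : S) (f 1)) = -f 1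
      rw [hd'1, hd1]
    · show ρ (d : S) (ρ (d' : S) (f 2)) = -f 2
      rw [hd2, map_neg, hd2']
    · show ρ (d : S) (ρ (d' : S) (f 3)) = -f 3
      rw [hd3, map_neg, hd3']
  have := LinearMap.eqOn_span hEq hw'
  rw [this, LinearMap.neg_apply, LinearMap.id_apply]

/-- (b) in helper12's shape `hV`. -/
theorem hV [Finite S] (hL : LinCtx ρ R b W) (hM : MonoFrame ρ R b W f φ) :
    ∀ r : ↥(RB R b), (r : S) ∈ R →
      (∀ i, φ r (φ r i) = i) ∧ ((∃ i, φ r i = i) → φ r = 1) := by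
  intro r hr
  obtain ⟨h2, h1⟩ := frame_V4 hL hM r hr
  constructor
  · intro i
    have : ((φ r) ^ 2) i = i := by rw [h2, Perm.one_apply]
    rwa [pow_two, Perm.mul_apply] at this
  · rintro ⟨i, hi⟩
    rcases h1 with h | h
    · exact h
    · exact absurd hi (h i)

/-- (d) in helper12's shape `hT`. -/
theorem hT [Finite S] (hL : LinCtx ρ R b W) (hM : MonoFrame ρ R b W f φ) :
    ∀ i j : Fin 4, ∃ r : ↥(RB R b), (r : S) ∈ R ∧ φ r i = j :=
  fun i j => frame_R_transitive hL hM i j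

/-- `XS z R` for the `z` of `exists_neg`. -/
theorem exists_xs [Finite S] (hL : LinCtx ρ R b W) (hM : MonoFrame ρ R b W f φ) :
    ∃ z : S, IsNeg ρ W z ∧ XS z R := by
  obtain ⟨z, hzR, hz⟩ := exists_neg hL hM
  exact ⟨z, hz, xs_of_mono hL hM (hV hL hM) (hP hL hM) (hD hL hM) (hT hL hM) z hzR hz⟩

end four

end Cfsg.Agent.Lib.H6.S4415G5C
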