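import Mathlib
import Cfsg.Agent.Lib.H1.S77.Hyp

/-!
# S0429, piece (CARD): every class has four elements (helper6)
-/

set_option autoImplicit false
set_option linter.unusedSectionVars false
open Cfsg

namespace Cfsg.Agent.Lib.H6.S77

open Cfsg.Agent.Lib.H1.S77 Finset

section
variable {V : Type*} [Fintype V] [DecidableEq V] {G : SimpleGraph V} [DecidableRel G.Adj]
variable {v0 : V}

/-- pure counting: values `≤ 2` on a set of `59` elements with sum `56` and `∑ (i² - i) = 24`
take the value `0` exactly `15` times -/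
theorem card_zero_of_sums {α : Type*} [DecidableEq α] (S : Finset α) (i : α → ℕ)
    (hle : ∀ x ∈ S, i x ≤ 2) (hcard : S.card = 59) (hsum : ∑ x ∈ S, i x = 56)
    (hsq : ∑ x ∈ S, (i x * i x - i x) = 24) : (S.filter (fun x => i x = 0)).card = 15 := by
  have h0 : (S.filter (fun x => i x = 0)).card = ∑ x ∈ S, if i x = 0 then 1 else 0 :=
    Finset.card_filter _ _
  have h1 : (S.filter (fun x => i x = 1)).card = ∑ x ∈ S, if i x = 1 then 1 else 0 :=
    Finset.card_filter _ _
  have h2 : (S.filter (fun x => i x = 2)).card = ∑ x ∈ S, if i x = 2 then 1 else 0 :=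
    Finset.card_filter _ _
  have e1 : ∑ x ∈ S, i x = (∑ x ∈ S, if i x = 1 then 1 else 0)
      + 2 * ∑ x ∈ S, if i x = 2 then 1 else 0 := by
    rw [Finset.mul_sum, ← Finset.sum_add_distrib]
    apply Finset.sum_congr rfl
    intro x hx
    have := hle x hx
    interval_cases h : i x <;> simp
  have e2 : ∑ x ∈ S, (i x * i x - i x) = 2 * ∑ x ∈ S, if i x = 2 then 1 else 0 := by
    rw [Finset.mul_sum]
    apply Finset.sum_congr rfl
    intro x hx
    have := hle x hx
    interval_cases h : i x <;> simp
  have e3 : S.card = (∑ x ∈ S, if i x = 0 then 1 else 0) + (∑ x ∈ S, if i x = 1 then 1 else 0)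
      + ∑ x ∈ S, if i x = 2 then 1 else 0 := by
    rw [Finset.card_eq_sum_ones, ← Finset.sum_add_distrib, ← Finset.sum_add_distrib]
    apply Finset.sum_congr rfl
    intro x hx
    have := hle x hx
    interval_cases h : i x <;> simp
  omega

/-- (CARD) counting with `sum_inter`, `sum_inter_sq`, `card_adj_nB`, `card_nB` -/
theorem hcard (hG : G.IsSRGWith 77 16 0 4) (h : HI2 G v0) : HCard G v0 := by
  intro b hb
  have hScard : ((nB G v0).erase b).card = 59 := by
    rw [Finset.card_erase_of_mem hb, card_nB hG]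
  have hle : ∀ b' ∈ (nB G v0).erase b, (blk G v0 b ∩ blk G v0 b').card ≤ 2 := fun b' hb' =>
    h b hb b' (Finset.mem_of_mem_erase hb') (Finset.ne_of_mem_erase hb')
  have h15 := card_zero_of_sums ((nB G v0).erase b) (fun b' => (blk G v0 b ∩ blk G v0 b').card)
    hle hScard (sum_inter hG hb) (sum_inter_sq hG hb)
  -- the adjacent ones among the zeros
  have hadj : (((nB G v0).erase b).filter
      (fun b' => (blk G v0 b ∩ blk G v0 b').card = 0)).filter (fun b' => G.Adj b b')
      = (nB G v0).filter (fun b' => G.Adj b b') := by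
    ext b'
    simp only [Finset.mem_filter, Finset.mem_erase]
    constructor
    · rintro ⟨⟨⟨-, h1⟩, -⟩, h3⟩
      exact ⟨h1, h3⟩
    · rintro ⟨h1, h3⟩
      refine ⟨⟨⟨fun e => G.irrefl (e ▸ h3), h1⟩, ?_⟩, h3⟩
      rw [Finset.card_eq_zero, ← Finset.disjoint_iff_inter_eq_empty]
      exact disjoint_of_adj hG h3
  have hsplit := Finset.card_filter_add_card_filter_not
    (s := ((nB G v0).erase b).filter (fun b' => (blk G v0 b ∩ blk G v0 b').card = 0))
    (fun b' => G.Adj b b')
  rw [hadj, card_adj_nB hG hb, h15] at hsplit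
  have hcls : cls G v0 b = insert b ((((nB G v0).erase b).filter
      (fun b' => (blk G v0 b ∩ blk G v0 b').card = 0)).filter (fun b' => ¬ G.Adj b b')) := by
    ext b'
    simp only [mem_cls, Finset.mem_insert, Finset.mem_filter, Finset.mem_erase]
    constructor
    · rintro ⟨h1, h2⟩
      by_cases e : b' = b
      · exact Or.inl e
      · right
        rcases h2 with h2 | ⟨h2, h3⟩
        · exact absurd h2 e
        · refine ⟨⟨⟨e, h1⟩, ?_⟩, h2⟩
          rw [Finset.card_eq_zero, ← Finset.disjoint_iff_inter_eq_empty]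
          exact h3
    · rintro (e | ⟨⟨⟨-, h1⟩, h3⟩, h2⟩)
      · exact ⟨e ▸ hb, Or.inl e⟩
      · refine ⟨h1, Or.inr ⟨h2, ?_⟩⟩
        rw [Finset.disjoint_iff_inter_eq_empty, ← Finset.card_eq_zero]
        exact h3
  rw [hcls, Finset.card_insert_of_notMem]
  · omega
  · intro hmem
    simp only [Finset.mem_filter, Finset.mem_erase] at hmem
    exact hmem.1.1.1 rfl

end

end Cfsg.Agent.Lib.H6.S77
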