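import Mathlib
import Cfsg.Agent.Lib.H1.S77.Hyp

/-!
# S0429, pieces (I2) and (CARD) (helper6)
-/

set_option autoImplicit false
set_option linter.unusedSectionVars false
open Cfsg

namespace Cfsg.Agent.Lib.H6.S77

open Cfsg.Agent.Lib.H1.S77 Finset

section
variable {V : Type*} [Fintype V] [DecidableEq V] {G : SimpleGraph V} [DecidableRel G.Adj]
variable {v0 : V}

/-- (I2) -/
theorem hi2 (hG : G.IsSRGWith 77 16 0 4) (h : HT2 G) : HI2 G v0 := by
  intro b hb b' hb' hne
  by_cases hadj : G.Adj b b'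
  · have h1 := disjoint_of_adj hG (v0 := v0) hadj
    rw [Finset.disjoint_iff_inter_eq_empty] at h1
    rw [h1, Finset.card_empty]
    omega
  · rw [mem_nB] at hb hb'
    have h1 := h v0 b b' hb.1.symm hb'.1.symm hne.symm hb.2 hb'.2 hadj
    refine le_trans (Finset.card_le_card ?_) h1
    intro x hx
    rw [Finset.mem_inter, mem_blk, mem_blk] at hx
    rw [Finset.mem_inter, Finset.mem_inter, SimpleGraph.mem_neighborFinset,
      SimpleGraph.mem_neighborFinset, SimpleGraph.mem_neighborFinset]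
    exact ⟨⟨hx.1.2, hx.1.1⟩, hx.2.1⟩

end

end Cfsg.Agent.Lib.H6.S77
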