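import Mathlib
import Cfsg.Prelude.Def_LieExceptional
import Cfsg.Prelude.Def_Sz
import Cfsg.Agent.Lib.H6.SEADefs
import Cfsg.Agent.Lib.H2.Sz10
import Cfsg.Agent.Lib.H2.SzB3

/-!
# S4625, piece SZ: the Sylow 2-subgroups of the Suzuki groups have elementary abelian abelianisation
-/

set_option autoImplicit false

namespace Cfsg.Agent.Lib.H6.SEA

open Cfsg Cfsg.Agent.Lib.H6.SEA Cfsg.Agent.Lib.H2.Sz

/-- the translation subgroup `TS` of `Sz(q)`: squares are commutators -/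
theorem ea_TS {F : Type*} [Field F] [Fintype F] {m : ℕ} (h : Fld F m) (hm : 1 ≤ m)
    (hF : Fintype.card F = 2 ^ (2 * m + 1)) : EA ↥(TS h) := by
  intro x
  obtain ⟨a, b, rfl⟩ := exists_tS h x
  rw [pow_two, tS_sq, ← center_TS_eq_commutator h hm hF]
  exact (mem_center_TS_iff h hm hF _ _).2 rfl

theorem sylEA_SzModel (F : Type*) [Field F] [Fintype F] (m : ℕ) (hm : 1 ≤ m)
    (hF : Fintype.card F = 2 ^ (2 * m + 1)) : SylEA (Cfsg.Sz F m) := by
  have h := fld_of_card hF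
  exact sylEA_of_card (TS h) (card_TS_eq_pow_factorization h hm hF) (ea_TS h hm hF)

/-- SZ : the Suzuki groups. -/
theorem sylEA_Sz (F : Type*) [Field F] [Fintype F] (m : ℕ) (hm : 1 ≤ m)
    (hF : Fintype.card F = 2 ^ (2 * m + 1)) : SylEA ↥(Lie.Sz F (2 ^ (m + 1))) := by
  have h := fld_of_card hF
  exact SylEA.of_equiv (Cfsg.Agent.Lib.H2.SzB.bridge h hm hF).symm (sylEA_SzModel F m hm hF)

end Cfsg.Agent.Lib.H6.SEA
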