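import Mathlib
import Cfsg.Prelude.Def_LieTwisted
import Cfsg.Agent.Lib.H6.SEADefs
import Cfsg.Agent.Lib.H29.ChevTwE6e
import Cfsg.Agent.Lib.H29.ChevTwD4d

/-!
# S4625, pieces TE6 and TD4: the Sylow 2-subgroups of `²E₆(q)` and `³D₄(q)`, `q` even

`U¹ = U ⊓ G¹` is a Sylow 2-subgroup; it is generated by the `σ`-fixed elements `x_S(t)`, which are involutions
in characteristic 2 (commuting products of root elements).
-/

set_option autoImplicit false
set_option linter.unusedSectionVars false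
set_option linter.unusedVariables false

namespace Cfsg.Agent.Lib.H6.SEA

open Cfsg Cfsg.Lie Matrix Cfsg.Agent.Lib.H29.Chev

/-- arithmetic: the 2-part of `n` when `c * n = 2 ^ e * m`, `c` and `m` odd -/
theorem factorization_two_of_mul_eq (c n e m : ℕ) (hc : ¬ 2 ∣ c) (hm : ¬ 2 ∣ m) (h : c * n = 2 ^ e * m) :
    n.factorization 2 = e := by
  have hc0 : c ≠ 0 := fun h0 => hc (h0 ▸ dvd_zero 2)
  have hm0 : m ≠ 0 := fun h0 => hm (h0 ▸ dvd_zero 2)
  have hn0 : n ≠ 0 := by
    rintro rfl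
    rw [mul_zero] at h
    exact (mul_ne_zero (by positivity) hm0) h.symm
  have h1 : (c * n).factorization 2 = (2 ^ e * m).factorization 2 := by rw [h]
  rw [Nat.factorization_mul hc0 hn0, Nat.factorization_mul (by positivity) hm0, Finsupp.add_apply,
    Finsupp.add_apply, Nat.factorization_eq_zero_of_not_dvd hc, Nat.factorization_eq_zero_of_not_dvd hm,
    Nat.Prime.factorization_pow Nat.prime_two] at h1
  simpa using h1

section generic

variable {D : ChevalleyDatum} {fd : FD} {fx : FX} {fc : FC} {fz : FZ} {F : Type*} [Field F] [CharP F 2]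
variable (C : Cert12 D fd fx fc fz) {ga : GA} {k : ℕ} (T : TwSpec fd fx ga k) (φ : F →+* F)

theorem tw_aj_sq (r : ℕ) (t : F) (j : ℕ) : C.aj ga φ r t j ^ 2 = 1 := by
  unfold Cert12.aj
  rw [pow_two, C.c6.c2.xA_mul, CharTwo.add_self_eq_zero, C.c6.c2.xA_zero]

include T in
theorem tw_xS_sq (hk : k = 2 ∨ k = 3) (r : ℕ) (hr : r < fd.n) (t : F) : C.xS ga k φ r t ^ 2 = 1 := by
  unfold Cert12.xS FD.os
  by_cases hfix : fd.gRoot ga r = r
  · rw [if_pos hfix]
    simp only [List.range_one, List.map_cons, List.map_nil, List.prod_cons, List.prod_nil, mul_one]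
    exact tw_aj_sq C φ r t 0
  · rw [if_neg hfix]
    rcases hk with rfl | rfl
    · simp only [List.range_succ, List.range_zero, List.nil_append, List.cons_append, List.map_cons, List.map_nil,
        List.prod_cons, List.prod_nil, mul_one]
      have c01 : Commute (C.aj ga φ r t 0) (C.aj ga φ r t 1) :=
        C.aj_comm T φ r hr hfix t 0 1 (by norm_num) (by norm_num) (by norm_num)
      rw [c01.mul_pow, tw_aj_sq, tw_aj_sq, one_mul]
    · simp only [List.range_succ, List.range_zero, List.nil_append, List.cons_append, List.map_cons, List.map_nil,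
        List.prod_cons, List.prod_nil, mul_one]
      have c01 : Commute (C.aj ga φ r t 0) (C.aj ga φ r t 1) :=
        C.aj_comm T φ r hr hfix t 0 1 (by norm_num) (by norm_num) (by norm_num)
      have c02 : Commute (C.aj ga φ r t 0) (C.aj ga φ r t 2) :=
        C.aj_comm T φ r hr hfix t 0 2 (by norm_num) (by norm_num) (by norm_num)
      have c12 : Commute (C.aj ga φ r t 1) (C.aj ga φ r t 2) :=
        C.aj_comm T φ r hr hfix t 1 2 (by norm_num) (by norm_num) (by norm_num)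
      rw [(c01.mul_right c02).mul_pow, c12.mul_pow, tw_aj_sq, tw_aj_sq, tw_aj_sq, one_mul, one_mul]

include T in
/-- `U¹` is generated by the elements `x_S(t)` -/
theorem tw_fixU_le_closure (hk : k = 2 ∨ k = 3) (hφk : ∀ x : F, φ^[k] x = x) {RL sreps : List ℕ}
    (S : ChainSpec fd fx ga k RL sreps) :
    fixS (C.c6.c2.sigma T.ginv φ) ⊓ D.posUnipotent F ≤ Subgroup.closure (C.genL ga k φ RL) := by
  have e1 : D.posUnipotent F = Vm D F (PsiL fd ga k RL) (fd.n / 2) := by
    rw [C.posUnipotent_eq]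
    unfold Vm VmSet
    congr 1
    ext g
    constructor
    · rintro ⟨s, t, h1, _, h3, h4⟩
      exact ⟨s, t, h1, S.cover s h3 ((C.c6.isPos_iff s).mp h1).1, h3, h4⟩
    · rintro ⟨s, t, h1, _, h3, h4⟩
      exact ⟨s, t, h1, trivial, h3, h4⟩
  rw [e1]
  exact C.AL_le_closure T φ hk hφk RL S.adm

include T in
theorem tw_genL_subset (hk : k = 2 ∨ k = 3) (hφk : ∀ x : F, φ^[k] x = x) {RL sreps : List ℕ}
    (S : ChainSpec fd fx ga k RL sreps) :
    C.genL ga k φ RL ⊆ (fixS (C.c6.c2.sigma T.ginv φ) ⊓ D.posUnipotent F : Subgroup (GL D.Idx F)) := by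
  rintro x ⟨r, hr, t, ht, rfl⟩
  have hr' := S.adm.pos _ hr
  refine Subgroup.mem_inf.mpr ⟨?_, ?_⟩
  · rw [mem_fixS]
    exact C.sigma_xS T φ hk hφk r hr'.2 t ht
  · rw [C.posUnipotent_eq]
    exact C.xS_mem_Vm T φ _ r hr'.2 hr'.1 (fun _ _ => trivial) t

include T in
/-- the generic statement: the group generated by the twisted generators -/
theorem sylEA_twGen [Finite F] (T2 : TwSpec2 fd fx ga k) (hk : k = 2 ∨ k = 3) (hφk : ∀ x : F, φ^[k] x = x)
    {RL sreps : List ℕ} (S : ChainSpec fd fx ga k RL sreps) (hO : ∀ c < fd.l, chkOrb ga k sreps c = true)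
    (hcard : Nat.card ↥(D.posUnipotent F ⊓ Subgroup.closure (C.twGen ga k φ sreps)) =
      2 ^ (Nat.card ↥(Subgroup.closure (C.twGen ga k φ sreps))).factorization 2) :
    SylEA ↥(Subgroup.closure (C.twGen ga k φ sreps)) := by
  obtain ⟨h1, h2, h3, h4, h5⟩ := C.twGen_spec T T2 φ hk hφk S hO
  set G1 := Subgroup.closure (C.twGen ga k φ sreps) with hG1
  have hUeq : D.posUnipotent F ⊓ G1 = fixS (C.c6.c2.sigma T.ginv φ) ⊓ D.posUnipotent F := by
    apply le_antisymm
    · intro g hg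
      exact Subgroup.mem_inf.mpr ⟨h2 (Subgroup.mem_inf.mp hg).2, (Subgroup.mem_inf.mp hg).1⟩
    · intro g hg
      exact Subgroup.mem_inf.mpr ⟨(Subgroup.mem_inf.mp hg).2, h3 hg⟩
  have hle : D.posUnipotent F ⊓ G1 ≤ G1 := inf_le_right
  set U1 : Subgroup ↥G1 := (D.posUnipotent F ⊓ G1).subgroupOf G1 with hU1
  have hcardU : Nat.card ↥U1 = 2 ^ (Nat.card ↥G1).factorization 2 := by
    rw [hU1, Nat.card_congr (Subgroup.subgroupOfEquivOfLe hle).toEquiv, hcard]
  -- the generators inside `G1`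
  set S1 : Set ↥G1 := {x | (x : GL D.Idx F) ∈ C.genL ga k φ RL} with hS1
  have hsub := tw_genL_subset C T φ hk hφk S
  have hgen := tw_fixU_le_closure C T φ hk hφk S
  refine sylEA_of_card U1 hcardU (EA.of_gen U1 S1 ?_ ?_ ?_)
  · intro x hx
    rw [hU1, SetLike.mem_coe, Subgroup.mem_subgroupOf, hUeq]
    exact hsub hx
  · -- generation
    intro x hx
    rw [hU1, Subgroup.mem_subgroupOf, hUeq] at hx
    have hx' := hgen hx
    have key : ∀ g : GL D.Idx F, g ∈ Subgroup.closure (C.genL ga k φ RL) →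
        ∀ hg : g ∈ G1, (⟨g, hg⟩ : ↥G1) ∈ Subgroup.closure S1 := by
      intro g hg
      induction hg using Subgroup.closure_induction with
      | mem y hy => intro hyG; exact Subgroup.subset_closure hy
      | one => intro _; exact Subgroup.one_mem _
      | mul y z hy hz ihy ihz =>
        intro hyz
        have hyG : y ∈ G1 := by
          have := (Subgroup.closure_le _).2 hsub hy
          rw [← hUeq] at this
          exact (Subgroup.mem_inf.mp this).2
        have hzG : z ∈ G1 := by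
          have := (Subgroup.closure_le _).2 hsub hz
          rw [← hUeq] at this
          exact (Subgroup.mem_inf.mp this).2
        exact Subgroup.mul_mem _ (ihy hyG) (ihz hzG)
      | inv y hy ihy =>
        intro hyi
        have hyG : y ∈ G1 := by
          have := (Subgroup.closure_le _).2 hsub hy
          rw [← hUeq] at this
          exact (Subgroup.mem_inf.mp this).2
        exact Subgroup.inv_mem _ (ihy hyG)
    exact key x hx' x.2
  · rintro s ⟨r, hr, t, ht, hs⟩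
    have hr' := S.adm.pos _ hr
    have : s ^ 2 = 1 := by
      apply Subtype.ext
      rw [Subgroup.coe_pow, hs, tw_xS_sq C T φ hk r hr'.2 t]
      rfl
    rw [this]
    exact Subgroup.one_mem _

end generic

/-- in characteristic 2, a prime power `q` with `|K| = q ^ d` is a power of 2 -/
theorem tw_exists_two_pow {K : Type*} [Field K] [Fintype K] [CharP K 2] (q d : ℕ) (hd : d ≠ 0)
    (hK : Fintype.card K = q ^ d) : ∃ a, q = 2 ^ a := by
  obtain ⟨n, _, hn⟩ := FiniteField.card K 2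
  have h1 : q ∣ 2 ^ (n : ℕ) := by
    rw [← hn, hK]
    exact dvd_pow_self q hd
  obtain ⟨a, _, ha⟩ := (Nat.dvd_prime_pow Nat.prime_two).1 h1
  exact ⟨a, ha⟩

theorem tw_odd_sub_one {q j : ℕ} (hq : 2 ∣ q) (hq1 : 1 ≤ q) (hj : j ≠ 0) : ¬ 2 ∣ q ^ j - 1 := by
  have h2 : 2 ∣ q ^ j := dvd_pow hq hj
  have h1 : 1 ≤ q ^ j := Nat.one_le_pow _ _ hq1
  omega

theorem tw_odd_add_one {q j : ℕ} (hq : 2 ∣ q) (hj : j ≠ 0) : ¬ 2 ∣ q ^ j + 1 := by
  have h2 : 2 ∣ q ^ j := dvd_pow hq hj
  omega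

theorem tw_not_dvd_mul {a b : ℕ} (ha : ¬ 2 ∣ a) (hb : ¬ 2 ∣ b) : ¬ 2 ∣ a * b := by
  intro h
  rcases (Nat.Prime.dvd_mul Nat.prime_two).1 h with h | h
  · exact ha h
  · exact hb h

/-- TE6 : `²E₆(q)`, `q` even. -/
theorem sylEA_2E6 (K : Type*) [Field K] [Fintype K] [CharP K 2] (q : ℕ) (hq : IsPrimePow q)
    (hK : Fintype.card K = q ^ 2) : SylEA ↥(Lie.twistedE6 K q) := by
  obtain ⟨φ, hφ, _, hφk⟩ := exists_frob hq hK
  obtain ⟨a, rfl⟩ := tw_exists_two_pow (K := K) q 2 (by norm_num) hK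
  have hq1 : 1 ≤ 2 ^ a := Nat.one_le_two_pow
  have ha : a ≠ 0 := by
    rintro rfl
    exact absurd hq.one_lt (by norm_num)
  have h2q : 2 ∣ 2 ^ a := dvd_pow_self 2 ha
  have e : twistedE6 K (2 ^ a) = Subgroup.closure (cert12_E6.twGen gaE6a 2 φ srE6a) := by
    unfold twistedE6 ChevalleyDatum.genSubgroup
    rw [twGen_E6 (2 ^ a) φ hφ]
  obtain ⟨hc1, hc2⟩ := card_twistedE6 hq hK
  have hfac : (Nat.card ↥(twistedE6 K (2 ^ a))).factorization 2 = a * 36 := by
    apply factorization_two_of_mul_eq (Nat.gcd 3 (2 ^ a + 1)) _ (a * 36)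
      (((2 ^ a) ^ 2 - 1) * ((2 ^ a) ^ 5 + 1) * ((2 ^ a) ^ 6 - 1) * ((2 ^ a) ^ 8 - 1) * ((2 ^ a) ^ 9 + 1) *
        ((2 ^ a) ^ 12 - 1))
    · intro h
      have h3 : Nat.gcd 3 (2 ^ a + 1) ∣ 3 := Nat.gcd_dvd_left _ _
      have := Nat.dvd_trans h h3
      omega
    · exact tw_not_dvd_mul (tw_not_dvd_mul (tw_not_dvd_mul (tw_not_dvd_mul (tw_not_dvd_mul
        (tw_odd_sub_one h2q hq1 (by norm_num)) (tw_odd_add_one h2q (by norm_num)))
        (tw_odd_sub_one h2q hq1 (by norm_num))) (tw_odd_sub_one h2q hq1 (by norm_num)))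
        (tw_odd_add_one h2q (by norm_num))) (tw_odd_sub_one h2q hq1 (by norm_num))
    · rw [hc1, pow_mul]
      ring
  rw [e] at hc2 hfac ⊢
  exact sylEA_twGen cert12_E6 twE6a_spec φ twE6a_spec2 (Or.inl rfl) hφk twE6a_chain twE6a_O (by
    rw [hc2, hfac, pow_mul])

/-- TD4 : `³D₄(q)`, `q` even. -/
theorem sylEA_3D4 (K : Type*) [Field K] [Fintype K] [CharP K 2] (q : ℕ) (hq : IsPrimePow q)
    (hK : Fintype.card K = q ^ 3) : SylEA ↥(Lie.twistedD4 K q) := by
  obtain ⟨φ, hφ, _, hφk⟩ := exists_frob hq hK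
  obtain ⟨a, rfl⟩ := tw_exists_two_pow (K := K) q 3 (by norm_num) hK
  have hq1 : 1 ≤ 2 ^ a := Nat.one_le_two_pow
  have ha : a ≠ 0 := by
    rintro rfl
    exact absurd hq.one_lt (by norm_num)
  have h2q : 2 ∣ 2 ^ a := dvd_pow_self 2 ha
  have e : twistedD4 K (2 ^ a) = Subgroup.closure (cert12_D4.twGen gaD4a 3 φ srD4a) := by
    unfold twistedD4 ChevalleyDatum.genSubgroup
    rw [twGen_D4 (2 ^ a) φ hφ]
  obtain ⟨hc1, hc2⟩ := card_twistedD4 hq hK
  have hfac : (Nat.card ↥(twistedD4 K (2 ^ a))).factorization 2 = a * 12 := by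
    apply factorization_two_of_mul_eq 1 _ (a * 12)
      (((2 ^ a) ^ 2 - 1) * ((2 ^ a) ^ 6 - 1) * ((2 ^ a) ^ 8 + (2 ^ a) ^ 4 + 1))
    · norm_num
    · refine tw_not_dvd_mul (tw_not_dvd_mul (tw_odd_sub_one h2q hq1 (by norm_num))
        (tw_odd_sub_one h2q hq1 (by norm_num))) ?_
      have h8 : 2 ∣ (2 ^ a) ^ 8 := dvd_pow h2q (by norm_num)
      have h4 : 2 ∣ (2 ^ a) ^ 4 := dvd_pow h2q (by norm_num)
      omega
    · rw [one_mul, hc1, pow_mul]
      ring
  rw [e] at hc2 hfac ⊢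
  exact sylEA_twGen cert12_D4 twD4a_spec φ twD4a_spec2 (Or.inr rfl) hφk twD4a_chain twD4a_O (by
    rw [hc2, hfac, pow_mul])

end Cfsg.Agent.Lib.H6.SEA
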