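import Mathlib
import Cfsg.Prelude.Def_LieTypeChar
import Cfsg.Agent.Lib.H6.SEADefs
import Cfsg.Agent.Lib.H3.SEASL
import Cfsg.Agent.Lib.H22.SEASP
import Cfsg.Agent.Lib.H19.SEASU
import Cfsg.Agent.Lib.H11.SEAOPLUS
import Cfsg.Agent.Lib.H1.SEAOMINUS
import Cfsg.Agent.Lib.H1.SEAEXC
import Cfsg.Agent.Lib.H6.SEATW
import Cfsg.Agent.Lib.H6.SEASZ
import Cfsg.Agent.Lib.H12.SEATF4

/-!
# S4625 (architect helper6): MAIN

`G` of Lie type in characteristic 2 (Tits group excluded): every Sylow 2-subgroup `P` has `x ^ 2 ∈ P'`.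
Pieces: SL (helper3), SP (helper22), SU (helper19), OPLUS (helper11), OMINUS + EXC (helper1), TE6 + TD4 + SZ (helper6),
TF4 (helper12).
-/

set_option autoImplicit false

namespace Cfsg.Agent.Lib.H6.SEA

open Cfsg

theorem sylEA_of_isLieTypeChar {G : Type*} [Group G] [Finite G] (hG : IsLieTypeChar 2 G) :
    SylEA G := by
  rcases hG with h | h | h | h | h | h | h | h | h | h | h
  · obtain ⟨F, _, _, _, n, _, _, ⟨e⟩⟩ := h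
    exact SylEA.of_equiv e (SylEA.quotient _ (Cfsg.Agent.Lib.H3.SEA.sylEA_SL F n))
  · obtain ⟨F, _, _, _, m, _, _, ⟨e⟩⟩ := h
    exact SylEA.of_equiv e (SylEA.quotient _ (Cfsg.Agent.Lib.H22.SEA.sylEA_Sp F m))
  · obtain ⟨F, _, _, _, n, q, hF, _, _, ⟨e⟩⟩ := h
    exact SylEA.of_equiv e (SylEA.quotient _ (Cfsg.Agent.Lib.H19.SEA.sylEA_SU F n q hF))
  · obtain ⟨F, _, _, _, m, _, hodd, _⟩ := h
    exfalso
    have h2 : (2 : ℕ) ∣ Fintype.card F :=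
      (CharP.cast_eq_zero_iff F 2 (Fintype.card F)).mp (Nat.cast_card_eq_zero F)
    exact (Nat.not_even_iff_odd.mpr hodd) (even_iff_two_dvd.mpr h2)
  · obtain ⟨F, _, _, _, m, hm, ⟨e⟩⟩ := h
    exact SylEA.of_equiv e (SylEA.quotient _ (Cfsg.Agent.Lib.H11.SEA.sylEA_OmegaPlus F m (by omega)))
  · obtain ⟨F, _, _, _, m, a, b, hm, hab, ⟨e⟩⟩ := h
    exact SylEA.of_equiv e
      (SylEA.quotient _ (Cfsg.Agent.Lib.H1.SEA.sylEA_OmegaMinus F (m - 1) (by omega) a b hab))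
  · obtain ⟨F, _, _, _, h⟩ := h
    rcases h with ⟨_, ⟨e⟩⟩ | ⟨⟨e⟩⟩ | ⟨⟨e⟩⟩ | ⟨⟨e⟩⟩ | ⟨⟨e⟩⟩
    · exact SylEA.of_equiv e (Cfsg.Agent.Lib.H1.SEA.sylEA_chev F Lie.chevG2 (by simp))
    · exact SylEA.of_equiv e (Cfsg.Agent.Lib.H1.SEA.sylEA_chev F Lie.chevF4 (by simp))
    · exact SylEA.of_equiv e (Cfsg.Agent.Lib.H1.SEA.sylEA_chev F Lie.chevE6 (by simp))
    · exact SylEA.of_equiv e (Cfsg.Agent.Lib.H1.SEA.sylEA_chev F Lie.chevE7 (by simp))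
    · exact SylEA.of_equiv e (Cfsg.Agent.Lib.H1.SEA.sylEA_chev F Lie.chevE8 (by simp))
  · obtain ⟨K, _, _, _, q, hq, h⟩ := h
    rcases h with ⟨hK, ⟨e⟩⟩ | ⟨hK, ⟨e⟩⟩
    · exact SylEA.of_equiv e (sylEA_2E6 K q hq hK)
    · exact SylEA.of_equiv e (sylEA_3D4 K q hq hK)
  · obtain ⟨_, F, _, _, m, hm, hF, ⟨e⟩⟩ := h
    exact SylEA.of_equiv e (sylEA_Sz F m hm hF)
  · obtain ⟨_, K, _, _, m, hm, hK, ⟨e⟩⟩ := h
    exact SylEA.of_equiv e (Cfsg.Agent.Lib.H12.SEA.sylEA_2F4 K m hm hK)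
  · exact absurd h.1 (by norm_num)

end Cfsg.Agent.Lib.H6.SEA
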