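import Mathlib

/-!
# S4625, tool for TF4: groups with the Suzuki multiplication law

`c t u * c t' u' = c (t + t') (u + u' + θ t * t')` over a finite field of characteristic 2 with `θ (θ x) ^ 2 = x`
and more than two elements: every square `c t u ^ 2` is a commutator `⁅c a 0, c b 0⁆`.
-/

set_option autoImplicit false
set_option linter.unusedSectionVars false

open scoped commutatorElement

namespace Cfsg.Agent.Lib.H6.SEA

section field

variable {K : Type*} [Field K] [CharP K 2] (θ : K →+* K) (hθ : ∀ x : K, θ (θ x) ^ 2 = x)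

include hθ

theorem suz_theta_fixed {x : K} (hx : θ x = x) : x = 0 ∨ x = 1 := by
  have h1 := hθ x
  rw [hx, hx] at h1
  have h2 : x * (x - 1) = 0 := by linear_combination h1
  rcases mul_eq_zero.1 h2 with h | h
  · exact Or.inl h
  · exact Or.inr (sub_eq_zero.1 h)

theorem suz_eq_one_of_mul_theta {k : K} (hk : k * θ k = 1) : k = 1 := by
  have hk0 : k ≠ 0 := by
    rintro rfl
    rw [zero_mul] at hk
    exact zero_ne_one hk
  have h1 : θ k = k⁻¹ := eq_inv_of_mul_eq_one_right hk
  have h2 : θ (θ k) = k := by rw [h1, map_inv₀, h1, inv_inv]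
  have h3 := hθ k
  rw [h2] at h3
  have h4 : k * (k - 1) = 0 := by linear_combination h3
  rcases mul_eq_zero.1 h4 with h | h
  · exact absurd h hk0
  · exact sub_eq_zero.1 h

theorem suz_theta_injective : Function.Injective θ := θ.injective

theorem suz_mul_theta_surjective [Finite K] : Function.Surjective (fun c : K => c * θ c) := by
  apply Finite.injective_iff_surjective.1
  intro c c' hcc
  simp only at hcc
  by_cases hc' : c' = 0
  · subst hc'
    rw [map_zero, mul_zero] at hcc
    rcases mul_eq_zero.1 hcc with h0 | h0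
    · exact h0
    · exact (map_eq_zero θ).1 h0
  · have hθc : θ c' ≠ 0 := fun h0 => hc' ((map_eq_zero θ).1 h0)
    have h1 : (c / c') * θ (c / c') = 1 := by
      rw [map_div₀]
      field_simp
      linear_combination hcc
    have h2 := suz_eq_one_of_mul_theta θ hθ h1
    field_simp at h2
    exact h2

/-- every element of the field is of the form `θ a * c + θ c * a` -/
theorem suz_exists_comm_eq [Fintype K] (hcard : 2 < Fintype.card K) (b : K) :
    ∃ a c : K, θ a * c + θ c * a = b := by
  obtain ⟨a₀, ha0, ha1⟩ : ∃ c : K, c ≠ 0 ∧ c ≠ 1 := by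
    by_contra hne
    push Not at hne
    have : Fintype.card K ≤ 2 := by
      classical
      calc Fintype.card K = (Finset.univ : Finset K).card := rfl
        _ ≤ ({0, 1} : Finset K).card := Finset.card_le_card (by
            intro x _
            by_cases hx : x = 0
            · simp [hx]
            · simp [hne x hx])
        _ ≤ 2 := Finset.card_le_two
    omega
  have hw : θ a₀ + a₀ ≠ 0 := by
    intro h0
    have h1 : θ a₀ = a₀ := by
      have := CharTwo.add_eq_zero.1 h0
      exact this
    rcases suz_theta_fixed θ hθ h1 with h | h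
    · exact ha0 h
    · exact ha1 h
  obtain ⟨c, hc⟩ := suz_mul_theta_surjective θ hθ (b / (θ a₀ + a₀))
  simp only at hc
  refine ⟨c * a₀, c, ?_⟩
  rw [map_mul]
  have : c * θ c * (θ a₀ + a₀) = b := by
    rw [hc]
    field_simp
  linear_combination this

end field

section group

variable {K : Type*} [Field K] [CharP K 2] (θ : K →+* K) {G : Type*} [Group G] (c : K → K → G)
  (hc : ∀ t u t' u' : K, c t u * c t' u' = c (t + t') (u + u' + θ t * t'))

include hc

theorem suz_law_sq (t u : K) : c t u ^ 2 = c 0 (θ t * t) := by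
  rw [pow_two, hc, CharTwo.add_self_eq_zero, CharTwo.add_self_eq_zero, zero_add]

theorem suz_law_comm (a b : K) : ⁅c a 0, c b 0⁆ = c 0 (θ a * b + θ b * a) := by
  have e1 : c a 0 * c b 0 = c 0 (θ a * b + θ b * a) * (c b 0 * c a 0) := by
    rw [hc, hc, hc]
    congr 1
    · rw [zero_add, add_comm]
    · rw [map_zero, zero_mul, add_zero, add_zero, zero_add, zero_add, add_assoc,
        CharTwo.add_self_eq_zero, add_zero]
  rw [commutatorElement_def]
  calc c a 0 * c b 0 * (c a 0)⁻¹ * (c b 0)⁻¹ = (c a 0 * c b 0) * (c b 0 * c a 0)⁻¹ := by group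
    _ = c 0 (θ a * b + θ b * a) := by rw [e1]; group

/-- in a group with the Suzuki law over a field with more than two elements, squares are commutators -/
theorem suz_law_sq_eq_comm [Fintype K] (hθ : ∀ x : K, θ (θ x) ^ 2 = x) (hcard : 2 < Fintype.card K) (t u : K) :
    ∃ a b : K, c t u ^ 2 = ⁅c a 0, c b 0⁆ := by
  obtain ⟨a, b, hab⟩ := suz_exists_comm_eq θ hθ hcard (θ t * t)
  exact ⟨a, b, by rw [suz_law_sq θ c hc, suz_law_comm θ c hc, hab]⟩

end group

end Cfsg.Agent.Lib.H6.SEA
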