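import Cfsg.Agent.Lib.H6.SHENDA
import Cfsg.Agent.Lib.H6.CYSTAR
import Cfsg.Agent.Lib.H11.SHCSG
import Cfsg.Agent.Lib.H12.SHGLUEA
import Cfsg.Agent.Lib.H24.CharBasic

/-!
# S3017 (helper6): CASE A, group side (twin of helper12's `caseA`, same statement)

`N_G(H)` not transitive on `H#`  ⟹  `N_G(H)` centralizes `H`, for an abelian `2`-subgroup `H` with
`⟨H^G⟩ = G`, helper11's `LocData` and fusion control.  It is the pure theorem `H6.SH.enda` fed with
`A = ↥H`, `N = ↥N_G(H)`, `φ = H.normalizerMonoidHom`, `ι = ↥B₀`: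
`hm` = helper12's `mult`, `hker` = helper12's `ker`, `hCS0` = helper11's `cs_good`, `hORTH` = helper11's `orth`
+ `Γ(h,c) = [h ~ c] γ_c` (S0925(ii), via `H6.CY.psi_eq_zero_of_not_mem`) + fusion control + `card_pairs_eq`.
-/

set_option autoImplicit false

namespace Cfsg.Agent.Lib.H6.SH

open Cfsg
open scoped ComplexConjugate

/-- `enda` for a group `A` with a commutativity hypothesis instead of a `CommGroup` instance. -/
theorem enda_of_comm {A N ι : Type*} [Group A] [Fintype A] [DecidableEq A] [Group N] [Fintype N]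
    [Fintype ι] (hcomm : ∀ a b : A, a * b = b * a)
    (φ : N →* MulAut A) (χ : ι → A → ℂ) (f : ι → ℕ)
    (hf : ∀ i, 0 < f i ∧ χ i 1 = (f i : ℂ))
    (i₀ : ι) (hi₀ : ∀ a, χ i₀ a = 1)
    (hker : ∀ i, (∀ a, χ i a = χ i 1) → i = i₀)
    (hm : ∀ i (l : A →* ℂˣ), ∃ m : ℕ,
      ∑ b, χ i b * conj ((l b : ℂˣ) : ℂ) = (Fintype.card A : ℂ) * (m : ℂ))
    (κ : A → ℝ)
    (hORTH : ∀ a b c : A, c ≠ 1 → ∑ i, χ i a * χ i b * conj (χ i c) / χ i 1 =
      (κ c : ℂ) * (((Finset.univ : Finset (N × N)).filter (fun x => a * φ x.1 b = φ x.2 c)).card : ℂ))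
    (hCS0 : ∀ i (a b : A), (∀ n, a * φ n b ≠ 1) →
      χ i a * χ i b / χ i 1 = (∑ n, χ i (a * φ n b)) / (Fintype.card N : ℂ))
    (hnt : ∃ a b : A, a ≠ 1 ∧ b ≠ 1 ∧ ∀ n, a * φ n b ≠ 1) :
    ∀ (n : N) (a : A), φ n a = a := by
  letI : CommGroup A := { (inferInstance : Group A) with mul_comm := hcomm }
  exact enda φ χ f hf i₀ hi₀ hker hm κ hORTH hCS0 hnt

section caseA

variable {G : Type*} [Group G]

/-- **CASE A**, group side. -/
theorem caseA [Finite G] (M : Ideal AlgInt) (hM : IsPModular 2 M) (H : Subgroup G)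
    (hH2 : IsPGroup 2 H) (hHab : ∀ a ∈ H, ∀ b ∈ H, a * b = b * a)
    (hloc : Cfsg.Agent.Lib.H11.SH.LocData 2 H (principalBlock M G))
    (hfus : ∀ h ∈ H, ∀ c ∈ H, IsConj h c →
      ∃ n ∈ Subgroup.normalizer (H : Set G), n * c * n⁻¹ = h)
    (hncl : Subgroup.normalClosure (H : Set G) = ⊤)
    (hnt : ¬ Cfsg.Agent.Lib.H12.SH.TransN H) :
    ∀ n ∈ Subgroup.normalizer (H : Set G), ∀ a ∈ H, n * a * n⁻¹ = a := by
  classical
  have : Fact (Nat.Prime 2) := ⟨Nat.prime_two⟩
  haveI : Fintype G := Fintype.ofFinite G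
  haveI : Fintype ↥H := Fintype.ofFinite _
  haveI : Fintype ↥(Subgroup.normalizer (H : Set G)) := Fintype.ofFinite _
  haveI : Fintype ↥(principalBlock M G) := Fintype.ofFinite _
  haveI hPr : M.IsPrime := Cfsg.Agent.Lib.H23.isPrime_of_isPModular hM
  -- the action and the restricted characters
  let φ : ↥(Subgroup.normalizer (H : Set G)) →* MulAut ↥H := H.normalizerMonoidHom
  have hφ : ∀ (n : ↥(Subgroup.normalizer (H : Set G))) (b : ↥H),
      ((φ n b : ↥H) : G) = (n : G) * (b : G) * (n : G)⁻¹ := fun n b => rfl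
  let X : ↥(principalBlock M G) → ↥H → ℂ := fun i a => ((i : IrrCharacter G) : G → ℂ) (a : G)
  have hdeg : ∀ i : ↥(principalBlock M G), ∃ d : ℕ,
      0 < d ∧ ((i : IrrCharacter G) : G → ℂ) 1 = (d : ℂ) :=
    fun i => Cfsg.Agent.Lib.H24.irr_one_eq i.1
  choose f hf using hdeg
  let i₀ : ↥(principalBlock M G) :=
    ⟨Cfsg.Agent.Lib.H24.trivialIrr G, Cfsg.Agent.Lib.H23.trivialIrr_mem_principalBlock⟩
  have h2el : ∀ x ∈ H, ∃ k : ℕ, orderOf x = 2 ^ k := by
    intro x hx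
    obtain ⟨k, hk⟩ := (IsPGroup.iff_orderOf.1 hH2) ⟨x, hx⟩
    exact ⟨k, by rw [← hk, ← Subgroup.orderOf_coe]⟩
  have hchar : ∀ χ : IrrCharacter G, IsCharacter G (χ : G → ℂ) :=
    fun χ => Cfsg.Agent.Lib.L0.isCharacter_of_irr χ.2
  have hconjinv : ∀ (χ : IrrCharacter G) (c : G), (χ : G → ℂ) c⁻¹ = conj ((χ : G → ℂ) c) :=
    fun χ c => Cfsg.Agent.Lib.L0.isCharacter_apply_inv (hchar χ) c
  have hcls : ∀ (χ : IrrCharacter G) (a n : G), (χ : G → ℂ) (n * a * n⁻¹) = (χ : G → ℂ) a :=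
    fun χ a n => Cfsg.Agent.Lib.L0.isClassFunction_of_isCharacter (hchar χ) a n
  have hfin : ∀ F : IrrCharacter G → ℂ,
      ∑ᶠ χ ∈ principalBlock M G, F χ = ∑ i : ↥(principalBlock M G), F i := by
    intro F
    rw [← finsum_set_coe_eq_finsum_mem, finsum_eq_sum_of_fintype]
  -- `Γ(h, c)`
  have hΓ : ∀ h ∈ H, ∀ c ∈ H,
      ∑ᶠ χ ∈ principalBlock M G, (χ : G → ℂ) h * (χ : G → ℂ) c⁻¹ =
        if IsConj h c then ∑ᶠ χ ∈ principalBlock M G, (χ : G → ℂ) c * (χ : G → ℂ) c⁻¹ else 0 := by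
    intro h hh c hc
    by_cases hcj : IsConj h c
    · rw [if_pos hcj]
      obtain ⟨g, hg⟩ := isConj_iff.1 hcj
      refine finsum_mem_congr rfl fun χ _ => ?_
      have h3 : (χ : G → ℂ) h = (χ : G → ℂ) c := by
        rw [← hg, hcls]
      rw [h3]
    · rw [if_neg hcj]
      apply Cfsg.Agent.Lib.H6.CY.psi_eq_zero_of_not_mem hM c (h2el c hc) h
      rw [Cfsg.Agent.Lib.H6.CY.pElement_mem_pSection_iff (h2el h hh)]
      exact hcj
  -- the real constant
  let stab : ↥H → ℕ := fun c =>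
    (Finset.univ.filter (fun n' : ↥(Subgroup.normalizer (H : Set G)) => φ n' c = c)).card
  have hstab : ∀ c : ↥H, (stab c : ℂ) ≠ 0 := by
    intro c
    have h1 : 0 < stab c :=
      Finset.card_pos.2 ⟨1, Finset.mem_filter.2 ⟨Finset.mem_univ _, by rw [map_one]; rfl⟩⟩
    exact_mod_cast h1.ne'
  have hN0 : (Fintype.card ↥(Subgroup.normalizer (H : Set G)) : ℂ) ≠ 0 :=
    Nat.cast_ne_zero.2 Fintype.card_ne_zero
  let κ : ↥H → ℝ := fun c =>
    (∑ i : ↥(principalBlock M G), Complex.normSq (X i c)) /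
      ((Fintype.card ↥(Subgroup.normalizer (H : Set G)) : ℝ) * (stab c : ℝ))
  have hγ : ∀ c : ↥H, ∑ᶠ χ ∈ principalBlock M G, (χ : G → ℂ) (c : G) * (χ : G → ℂ) (c : G)⁻¹ =
      ((∑ i : ↥(principalBlock M G), Complex.normSq (X i c) : ℝ) : ℂ) := by
    intro c
    rw [hfin]
    push_cast
    refine Finset.sum_congr rfl fun i _ => ?_
    rw [hconjinv, Complex.mul_conj]
  -- ORTH in pair-count form
  have hORTH : ∀ a b c : ↥H, c ≠ 1 →
      ∑ i, X i a * X i b * conj (X i c) / X i 1 =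
        (κ c : ℂ) * (((Finset.univ : Finset (↥(Subgroup.normalizer (H : Set G)) ×
          ↥(Subgroup.normalizer (H : Set G)))).filter
            (fun x => a * φ x.1 b = φ x.2 c)).card : ℂ) := by
    intro a b c hc1
    have hc1' : (c : G) ≠ 1 := fun h => hc1 (Subtype.ext h)
    have h1 := Cfsg.Agent.Lib.H11.SH.orth M hM hloc (a : G) (b : G) a.2 b.2 (c : G)
      (h2el c c.2) hc1'
    have h2 : ∀ n : ↥(Subgroup.normalizer (H : Set G)),
        ∑ᶠ χ ∈ principalBlock M G,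
          (χ : G → ℂ) ((a : G) * ((n : G) * (b : G) * (n : G)⁻¹)) * (χ : G → ℂ) (c : G)⁻¹ =
        if (∃ n' : ↥(Subgroup.normalizer (H : Set G)), a * φ n b = φ n' c) then
          ((∑ i : ↥(principalBlock M G), Complex.normSq (X i c) : ℝ) : ℂ) else 0 := by
      intro n
      have hmem : (a : G) * ((n : G) * (b : G) * (n : G)⁻¹) ∈ H := (a * φ n b).2
      rw [hΓ _ hmem (c : G) c.2, hγ c]
      have hiff : IsConj ((a : G) * ((n : G) * (b : G) * (n : G)⁻¹)) (c : G) ↔
          ∃ n' : ↥(Subgroup.normalizer (H : Set G)), a * φ n b = φ n' c := by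
        constructor
        · intro hcj
          obtain ⟨n', hn', hn'c⟩ := hfus _ hmem (c : G) c.2 hcj
          exact ⟨⟨n', hn'⟩, Subtype.ext hn'c.symm⟩
        · rintro ⟨n', hn'⟩
          have h5 : (n' : G) * (c : G) * (n' : G)⁻¹ = (a : G) * ((n : G) * (b : G) * (n : G)⁻¹) :=
            (congrArg Subtype.val hn').symm
          exact (isConj_iff.2 ⟨(n' : G), h5⟩).symm
      by_cases h6 : ∃ n' : ↥(Subgroup.normalizer (H : Set G)), a * φ n b = φ n' c
      · rw [if_pos h6, if_pos (hiff.2 h6)]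
      · rw [if_neg h6, if_neg (fun h7 => h6 (hiff.1 h7))]
    rw [Finset.sum_congr rfl (fun n _ => h2 n), Finset.sum_ite, Finset.sum_const_zero, add_zero,
      Finset.sum_const, nsmul_eq_mul, hfin] at h1
    have h8 : ((Finset.univ : Finset (↥(Subgroup.normalizer (H : Set G)) ×
          ↥(Subgroup.normalizer (H : Set G)))).filter
            (fun x => a * φ x.1 b = φ x.2 c)).card = stab c *
        (Finset.univ.filter (fun n : ↥(Subgroup.normalizer (H : Set G)) =>
          ∃ n' : ↥(Subgroup.normalizer (H : Set G)), a * φ n b = φ n' c)).card := by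
      letI : CommGroup ↥H :=
        { (inferInstance : Group ↥H) with mul_comm := fun a b => Subtype.ext (hHab a.1 a.2 b.1 b.2) }
      exact card_pairs_eq φ a b c
    have h8' : (((Finset.univ : Finset (↥(Subgroup.normalizer (H : Set G)) ×
          ↥(Subgroup.normalizer (H : Set G)))).filter
            (fun x => a * φ x.1 b = φ x.2 c)).card : ℂ) = (stab c : ℂ) *
        ((Finset.univ.filter (fun n : ↥(Subgroup.normalizer (H : Set G)) =>
          ∃ n' : ↥(Subgroup.normalizer (H : Set G)), a * φ n b = φ n' c)).card : ℂ) := by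
      exact_mod_cast h8
    have h9 : ∑ i : ↥(principalBlock M G), X i a * X i b * conj (X i c) / X i 1 =
        ∑ i : ↥(principalBlock M G), ((i : IrrCharacter G) : G → ℂ) (a : G) *
          ((i : IrrCharacter G) : G → ℂ) (b : G) * ((i : IrrCharacter G) : G → ℂ) (c : G)⁻¹ /
            ((i : IrrCharacter G) : G → ℂ) 1 := by
      refine Finset.sum_congr rfl fun i _ => ?_
      rw [hconjinv]
      rfl
    rw [h9, h8']
    have hNN : (Nat.card ↥(Subgroup.normalizer (H : Set G)) : ℂ) =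
        (Fintype.card ↥(Subgroup.normalizer (H : Set G)) : ℂ) := by
      rw [Nat.card_eq_fintype_card]
    rw [hNN] at h1
    have h10 : ∑ i : ↥(principalBlock M G), ((i : IrrCharacter G) : G → ℂ) (a : G) *
          ((i : IrrCharacter G) : G → ℂ) (b : G) * ((i : IrrCharacter G) : G → ℂ) (c : G)⁻¹ /
            ((i : IrrCharacter G) : G → ℂ) 1 =
        ((Finset.univ.filter (fun n : ↥(Subgroup.normalizer (H : Set G)) =>
          ∃ n' : ↥(Subgroup.normalizer (H : Set G)), a * φ n b = φ n' c)).card : ℂ) *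
          ((∑ i : ↥(principalBlock M G), Complex.normSq (X i c) : ℝ) : ℂ) /
            (Fintype.card ↥(Subgroup.normalizer (H : Set G)) : ℂ) := by
      rw [eq_div_iff hN0, mul_comm]
      exact h1
    rw [h10]
    have hs := hstab c
    simp only [κ]
    push_cast
    field_simp
  -- CS off the diagonal
  have hCS0 : ∀ (i : ↥(principalBlock M G)) (a b : ↥H), (∀ n, a * φ n b ≠ 1) →
      X i a * X i b / X i 1 = (∑ n, X i (a * φ n b)) /
        (Fintype.card ↥(Subgroup.normalizer (H : Set G)) : ℂ) := by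
    intro i a b hab
    have h := Cfsg.Agent.Lib.H11.SH.cs_good hloc i.1 i.2 (a : G) (b : G) a.2 b.2
      (fun n hcontra => hab n (Subtype.ext hcontra))
    rw [Nat.card_eq_fintype_card] at h
    exact h
  -- non-transitivity
  have hnt' : ∃ a b : ↥H, a ≠ 1 ∧ b ≠ 1 ∧ ∀ n, a * φ n b ≠ 1 := by
    obtain ⟨a, ha, b, hb, ha1, hb1, hn⟩ := Cfsg.Agent.Lib.H12.SH.nt hnt
    refine ⟨⟨a, ha⟩, ⟨b, hb⟩, fun h => ha1 (congrArg Subtype.val h),
      fun h => hb1 (congrArg Subtype.val h), fun n hcontra => hn n.1 n.2 ?_⟩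
    exact congrArg Subtype.val hcontra
  have hfinal := enda_of_comm (A := ↥H) (N := ↥(Subgroup.normalizer (H : Set G)))
    (ι := ↥(principalBlock M G)) (fun a b => Subtype.ext (hHab a.1 a.2 b.1 b.2)) φ X f
    (fun i => hf i) i₀ (fun a => rfl)
    (by
      intro i hi
      have h1 := Cfsg.Agent.Lib.H12.SH.ker (χ := ((i : IrrCharacter G) : G → ℂ)) i.1.2 H hncl
        (fun a ha => hi ⟨a, ha⟩)
      apply Subtype.ext
      apply Subtype.ext
      exact h1)
    (fun i l => Cfsg.Agent.Lib.H12.SH.mult (hchar i.1) H l)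
    κ hORTH hCS0 hnt'
  intro n hn a ha
  exact congrArg Subtype.val (hfinal ⟨n, hn⟩ ⟨a, ha⟩)

end caseA

end Cfsg.Agent.Lib.H6.SH
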