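import Cfsg.Agent.Lib.H6.SHCASEA

/-!
# S3017 (helper6): fusion control from `LocData`, and CASE A with `hfus` discharged

`fus_of_locData` : helper11's `LocData 2 H (principalBlock M G)` ⟹ `N_G(H)` controls `G`-fusion in the `2`-group `H`
(`h = g c g⁻¹`, take `a = h⁻¹`, `b = c` in `LocData`: if `h⁻¹ · ν c ν⁻¹ = u ≠ 1` then `χ u = χ 1` for all `χ ∈ B₀`,
but `∑_{B₀} χ(1) χ(u⁻¹) = 0` for the nontrivial `2`-element `u`).
`caseA'` : `caseA` without the hypothesis `hfus`.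
-/

set_option autoImplicit false

namespace Cfsg.Agent.Lib.H6.SH

open Cfsg
open scoped ComplexConjugate

variable {G : Type*} [Group G]

theorem fus_of_locData [Finite G] (M : Ideal AlgInt) (hM : IsPModular 2 M) (H : Subgroup G)
    (hH2 : IsPGroup 2 H)
    (hloc : Cfsg.Agent.Lib.H11.SH.LocData 2 H (principalBlock M G)) :
    ∀ h ∈ H, ∀ c ∈ H, IsConj h c →
      ∃ n ∈ Subgroup.normalizer (H : Set G), n * c * n⁻¹ = h := by
  classical
  have : Fact (Nat.Prime 2) := ⟨Nat.prime_two⟩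
  haveI : Fintype G := Fintype.ofFinite G
  haveI : Fintype ↥(principalBlock M G) := Fintype.ofFinite _
  haveI hPr : M.IsPrime := Cfsg.Agent.Lib.H23.isPrime_of_isPModular hM
  intro h hh c hc hcj
  obtain ⟨g, hg⟩ := isConj_iff.1 hcj.symm
  obtain ⟨ν, hν, hνab⟩ := hloc g
  obtain ⟨h1, _⟩ := hνab h⁻¹ (H.inv_mem hh) c hc
  refine ⟨ν, hν, ?_⟩
  by_contra hne
  have hu1 : h⁻¹ * (ν * c * ν⁻¹) ≠ 1 := by
    intro h2
    exact hne (inv_mul_eq_one.1 h2).symm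
  have hχ := h1 hu1
  have hνc : ν * c * ν⁻¹ ∈ H := Cfsg.Agent.Lib.H11.SH.conj_mem_of_mem_normalizer hν hc
  have huH : h⁻¹ * (ν * c * ν⁻¹) ∈ H := H.mul_mem (H.inv_mem hh) hνc
  have h2el : ∃ k : ℕ, orderOf (h⁻¹ * (ν * c * ν⁻¹)) = 2 ^ k := by
    obtain ⟨k, hk⟩ := (IsPGroup.iff_orderOf.1 hH2) ⟨_, huH⟩
    exact ⟨k, by rw [← hk, ← Subgroup.orderOf_coe]⟩
  have hreg : ¬ 2 ∣ orderOf (1 : G) := by
    rw [orderOf_one]
    norm_num
  have h3 := Cfsg.Agent.Lib.H11.SH.sum_block_regular M hM (1 : G) (h⁻¹ * (ν * c * ν⁻¹)) hreg h2el hu1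
  -- every term is `χ(1)²`
  have hterm : ∀ χ ∈ principalBlock M G,
      (χ : G → ℂ) 1 * (χ : G → ℂ) (h⁻¹ * (ν * c * ν⁻¹))⁻¹ = (χ : G → ℂ) 1 * (χ : G → ℂ) 1 := by
    intro χ hχB
    have h4 := hχ χ hχB
    rw [hg, inv_mul_cancel] at h4
    rw [Cfsg.Agent.Lib.L0.isCharacter_apply_inv (Cfsg.Agent.Lib.L0.isCharacter_of_irr χ.2), ← h4]
    obtain ⟨d, _, hd⟩ := Cfsg.Agent.Lib.H24.irr_one_eq χ
    rw [hd, Complex.conj_natCast]
  rw [finsum_mem_congr rfl hterm, ← finsum_set_coe_eq_finsum_mem, finsum_eq_sum_of_fintype] at h3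
  -- a sum of squares of positive naturals
  have hdeg : ∀ i : ↥(principalBlock M G), ∃ d : ℕ,
      0 < d ∧ ((i : IrrCharacter G) : G → ℂ) 1 = (d : ℂ) :=
    fun i => Cfsg.Agent.Lib.H24.irr_one_eq i.1
  choose f hf using hdeg
  have h5 : ((∑ i : ↥(principalBlock M G), f i * f i : ℕ) : ℂ) = 0 := by
    rw [← h3]
    push_cast
    refine Finset.sum_congr rfl fun i _ => ?_
    rw [(hf i).2]
  have h6 : ∑ i : ↥(principalBlock M G), f i * f i = 0 := by exact_mod_cast h5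
  let i₀ : ↥(principalBlock M G) :=
    ⟨Cfsg.Agent.Lib.H24.trivialIrr G, Cfsg.Agent.Lib.H23.trivialIrr_mem_principalBlock⟩
  have h7 := (Finset.sum_eq_zero_iff.1 h6) i₀ (Finset.mem_univ _)
  have h8 := (hf i₀).1
  have h9 : f i₀ = 0 := by
    rcases Nat.mul_eq_zero.1 h7 with h | h <;> exact h
  omega

/-- **CASE A** with fusion control discharged from `LocData`. -/
theorem caseA' [Finite G] (M : Ideal AlgInt) (hM : IsPModular 2 M) (H : Subgroup G)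
    (hH2 : IsPGroup 2 H) (hHab : ∀ a ∈ H, ∀ b ∈ H, a * b = b * a)
    (hloc : Cfsg.Agent.Lib.H11.SH.LocData 2 H (principalBlock M G))
    (hncl : Subgroup.normalClosure (H : Set G) = ⊤)
    (hnt : ¬ Cfsg.Agent.Lib.H12.SH.TransN H) :
    ∀ n ∈ Subgroup.normalizer (H : Set G), ∀ a ∈ H, n * a * n⁻¹ = a :=
  caseA M hM H hH2 hHab hloc (fus_of_locData M hM H hH2 hloc) hncl hnt

end Cfsg.Agent.Lib.H6.SH
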