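import Mathlib
import Cfsg.Agent.Lib.H6.SHPCASEB3
import Cfsg.Agent.Lib.H9.SHQ3PT
import Cfsg.Agent.Lib.H16.SHQ3REP
import Cfsg.Agent.Lib.H26.SH16Min

/-!
# S3016 (odd-`p` Shult): `CaseB3Stmt` in EXACTLY the architect's shape, no open hypothesis (helper6)

`caseB3_stmt : Cfsg.Agent.Lib.H26.SH16.CaseB3Stmt` = `Cfsg.Agent.Lib.H6.SHP.caseB3_core` (group side at `p = 3`)
with the pointwise bound `hpt` discharged by helper9's `q3_pointwise` (LOC side) and helper16's `q3_rep`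
(Lemma Q3).
-/

set_option autoImplicit false

namespace Cfsg.Agent.Lib.H6.SHP

open Cfsg

universe u

/-- CASE B at `|H| = 3`, all inputs plugged. -/
theorem caseB3 {G : Type*} [Group G] [Finite G]
    (M : Ideal AlgInt) (hM : IsPModular 3 M) (H : Subgroup G)
    (hH3 : IsPGroup 3 H) (hHab : IsMulCommutative ↥H) (hcl : Cfsg.IsExtremelyClosed H)
    (hloc : Cfsg.Agent.Lib.H11.SH.LocData 3 H (principalBlock M G))
    (hncl : Subgroup.normalClosure (H : Set G) = ⊤)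
    (htr : Cfsg.Agent.Lib.H12.SH.TransN H)
    (hq : Nat.card ↥H = 3) : False := by
  have : Fact (Nat.Prime 3) := ⟨Nat.prime_three⟩
  exact caseB3_core M hM H hH3 hloc hncl htr hq
    (fun χ hχ a b g ha ha1 hb hcop =>
      Cfsg.Agent.Lib.H9.SHp.q3_pointwise hH3 hHab hcl hq
        (fun χ hχ L a hn hc y hy => Cfsg.Agent.Lib.H16.SHQ3.q3_rep χ hχ L a hn hc y hy)
        χ hχ a b g ha ha1 hb hcop)

/-- the architect's `CaseB3Stmt`. -/
theorem caseB3_stmt : Cfsg.Agent.Lib.H26.SH16.CaseB3Stmt.{u} :=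
  fun _G _ _ M hM H hH3 hHab hcl hloc hncl htr hq =>
    caseB3 M hM H hH3 hHab hcl hloc hncl htr hq

end Cfsg.Agent.Lib.H6.SHP
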