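import Mathlib
import Cfsg.Agent.Lib.H6.SHPCASEB
import Cfsg.Agent.Lib.H16.SHINVp

/-!
# S3016 (odd-`p` Shult), CASE B for `q = |H| ≥ 5`: the statement without the rank-bound hypothesis (helper6)

`caseB5` = `Cfsg.Agent.Lib.H6.SHP.caseB_p` with `hINV` discharged by helper16's landed
`Cfsg.Agent.Lib.H16.SHp.char_mul_order_p_ge'`.  Binders as in helper26's architect cut (`CaseB5StmtP p`):
`(M hM H hHp hHab hloc hncl htr hq)`, plus `p ≠ 2`.  `caseB5'` is the same with `hHab` in `∀`-form.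
-/

set_option autoImplicit false

namespace Cfsg.Agent.Lib.H6.SHP

open Cfsg

variable {G : Type*} [Group G]

/-- the rank bound in the `hINV` shape of `caseB_p`, from helper16's `char_mul_order_p_ge'`. -/
theorem inv_p [Finite G] {p : ℕ} (hp : 0 < p) :
    ∀ χ : G → ℂ, IsCharacter G χ → ∀ x y : G, x ^ p = 1 → y ^ p = 1 → ∀ d : ℝ,
      (∀ k : ℕ, 0 < k → k < p → χ (x ^ k) = (d : ℂ)) →
      (∀ k : ℕ, 0 < k → k < p → χ (y ^ k) = (d : ℂ)) →
      4 * ((χ 1).re + ((p : ℝ) - 1) * d) - 3 * (p : ℝ) * (χ 1).re ≤ (p : ℝ) * (χ (x * y)).re := by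
  intro χ hχ x y hx hy d hdx hdy
  have h := Cfsg.Agent.Lib.H16.SHp.char_mul_order_p_ge' χ hχ p hp x y hx hy (d : ℂ) hdx hdy
  rw [Complex.ofReal_re] at h
  exact h

/-- **CASE B at odd `p`, `q ≥ 5`**, no side hypothesis. -/
theorem caseB5' [Finite G] {p : ℕ} [Fact p.Prime] (hp2 : p ≠ 2)
    (M : Ideal AlgInt) (hM : IsPModular p M) (H : Subgroup G)
    (hHp : IsPGroup p H)
    (hloc : Cfsg.Agent.Lib.H11.SH.LocData p H (principalBlock M G))
    (hncl : Subgroup.normalClosure (H : Set G) = ⊤)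
    (htr : Cfsg.Agent.Lib.H12.SH.TransN H)
    (hq : 5 ≤ Nat.card ↥H) : False :=
  caseB_p hp2 M hM H hHp hloc hncl htr hq (inv_p (Fact.out : p.Prime).pos)

/-- **CASE B at odd `p`, `q ≥ 5`** with the binders of the architect cut. -/
theorem caseB5 [Finite G] {p : ℕ} [Fact p.Prime] (hp2 : p ≠ 2)
    (M : Ideal AlgInt) (hM : IsPModular p M) (H : Subgroup G)
    (hHp : IsPGroup p H) (_hHab : IsMulCommutative ↥H)
    (hloc : Cfsg.Agent.Lib.H11.SH.LocData p H (principalBlock M G))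
    (hncl : Subgroup.normalClosure (H : Set G) = ⊤)
    (htr : Cfsg.Agent.Lib.H12.SH.TransN H)
    (hq : 5 ≤ Nat.card ↥H) : False :=
  caseB5' hp2 M hM H hHp hloc hncl htr hq

end Cfsg.Agent.Lib.H6.SHP
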