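import Mathlib
import Cfsg.Agent.Lib.H2.SL2Quat
import Cfsg.Agent.Lib.H12.SL2Odd
import Cfsg.Agent.Lib.H12.CardSL

set_option autoImplicit false

/-! Central products `SL₂(q₁) ∘ SL₂(q₂)` (`q₁, q₂` odd) inside a group: the configuration `Cfg`,
elements of order four, and elements permuting the two factors (helper6). -/

namespace Cfsg.Agent.Lib.H6.SL2Central

section SL2
open Matrix

/-- trace zero and non-scalar for elements of `SL₂` squaring to `-1` -/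
theorem trace_zero_of_sq {F : Type*} [Field F] (h2 : (2 : F) ≠ 0)
    (g : SpecialLinearGroup (Fin 2) F) (hg : g.1 * g.1 = -1) :
    (g.1).trace = 0 ∧ Cfsg.Agent.Lib.H12.NonScalar g.1 := by
  have h1 := Cfsg.Agent.Lib.H18.sl2_mul_self g
  rw [hg] at h1
  have h3 : (g.1 0 0 + g.1 1 1) • g.1 = 0 := by
    have : (g.1 0 0 + g.1 1 1) • g.1 = ((g.1 0 0 + g.1 1 1) • g.1 - 1) + 1 := by abel
    rw [this, ← h1]; simp
  have hdet : g.1 0 0 * g.1 1 1 - g.1 0 1 * g.1 1 0 = 1 := by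
    have := g.2
    rwa [Matrix.det_fin_two] at this
  have ht : g.1 0 0 + g.1 1 1 = 0 := by
    by_contra hne
    have hz : g.1 = 0 := by
      rcases smul_eq_zero.mp h3 with h | h
      · exact absurd h hne
      · exact h
    rw [hz] at hdet
    simp at hdet
  refine ⟨by rw [Matrix.trace_fin_two]; exact ht, ?_⟩
  rintro ⟨h01, h10, h00⟩
  rw [h01, zero_mul, sub_zero, h00] at hdet
  rw [h00] at ht
  have : g.1 1 1 = 0 := by
    have h4 : (2 : F) * g.1 1 1 = 0 := by linear_combination ht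
    rcases mul_eq_zero.mp h4 with h | h
    · exact absurd h h2
    · exact h
  rw [this, mul_zero] at hdet
  exact zero_ne_one hdet

/-- the standard element of order four -/
def wSL (F : Type*) [Field F] : SpecialLinearGroup (Fin 2) F :=
  ⟨!![0, 1; -1, 0], by simp [Matrix.det_fin_two]⟩

theorem wSL_sq (F : Type*) [Field F] : (wSL F).1 * (wSL F).1 = -1 := by
  ext i j
  fin_cases i <;> fin_cases j <;> simp [wSL, Matrix.mul_apply, Fin.sum_univ_two]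

/-- a second element of order four -/
def vSL (F : Type*) [Field F] : SpecialLinearGroup (Fin 2) F :=
  ⟨!![1, 1; -2, -1], by simp [Matrix.det_fin_two]; ring⟩

theorem vSL_sq (F : Type*) [Field F] : (vSL F).1 * (vSL F).1 = -1 := by
  ext i j
  fin_cases i <;> fin_cases j <;> simp [vSL, Matrix.mul_apply, Fin.sum_univ_two] <;> ring

/-- an element of `SL₂` commuting with `wSL` and `vSL` squares to one -/
theorem sq_eq_one_of_commute {F : Type*} [Field F] (g : SpecialLinearGroup (Fin 2) F)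
    (hw : g * wSL F = wSL F * g) (hv : g * vSL F = vSL F * g) : g * g = 1 := by
  have hw' : g.1 * (wSL F).1 = (wSL F).1 * g.1 := congrArg Subtype.val hw
  have hv' : g.1 * (vSL F).1 = (vSL F).1 * g.1 := congrArg Subtype.val hv
  have hdet : g.1 0 0 * g.1 1 1 - g.1 0 1 * g.1 1 0 = 1 := by
    have := g.2
    rwa [Matrix.det_fin_two] at this
  have e1 := congrFun (congrFun hw' 0) 0
  have e2 := congrFun (congrFun hw' 0) 1
  have e3 := congrFun (congrFun hv' 0) 0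
  simp [wSL, vSL, Matrix.mul_apply, Fin.sum_univ_two] at e1 e2 e3
  -- e1 : -g01 = g10 ; e2 : g00 = g11 ; e3 : g00 - 2 g01 = g00 + g10
  have hb : g.1 0 1 = 0 := by linear_combination e1 - e3
  have hc : g.1 1 0 = 0 := by linear_combination (-1 : F) * e1 - hb
  apply Subtype.ext
  show g.1 * g.1 = 1
  ext i j
  fin_cases i <;> fin_cases j <;> simp [Matrix.mul_apply, Fin.sum_univ_two, hb, hc]
  · rw [hb, hc] at hdet; rw [e2] at hdet ⊢; linear_combination hdet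
  · rw [hb, hc] at hdet; rw [← e2] at hdet ⊢; linear_combination hdet

end SL2

section Facts
open Matrix

/-- the basic facts about a subgroup `L ≅ SL₂(F)`, `|F|` odd, with its involution `j` -/
theorem sl2_facts {G : Type*} [Group G] {F : Type*} [Field F] [Fintype F]
    (hF : Odd (Fintype.card F)) (L : Subgroup G) (e : ↥L ≃* SpecialLinearGroup (Fin 2) F)
    (j : G) (hjL : j ∈ L) (hj1 : j ≠ 1) (hjj : j * j = 1) :
    (∀ y ∈ L, y * y = 1 → y = 1 ∨ y = j) ∧ (∃ u ∈ L, u * u = j) ∧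
      (∀ u ∈ L, ∀ y ∈ L, u * u = j → y * y = j → ∃ g ∈ L, g * u * g⁻¹ = y) ∧
      (∀ g ∈ L, (∀ s ∈ L, s * s = j → g * s = s * g) → g = 1 ∨ g = j) := by
  have h2 : (2 : F) ≠ 0 := Cfsg.Agent.Lib.H12.two_ne_zero_of_odd hF
  have hsq : ∀ y : ↥L, y * y = 1 → (e y).1 = 1 ∨ (e y).1 = -1 := by
    intro y hy
    apply Cfsg.Agent.Lib.H2.SL2Quat.eq_one_or_neg_one_of_sq h2
    rw [← map_mul, hy, map_one]
  have hone : ∀ y : ↥L, (e y).1 = 1 → y = 1 := by
    intro y hy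
    have : e y = 1 := Subtype.ext hy
    exact (MulEquiv.map_eq_one_iff e).mp this
  have hej : (e ⟨j, hjL⟩).1 = -1 := by
    rcases hsq ⟨j, hjL⟩ (Subtype.ext hjj) with h | h
    · exfalso
      apply hj1
      have := hone _ h
      exact congrArg Subtype.val this
    · exact h
  have hneg : ∀ y : ↥L, (e y).1 = -1 → y = ⟨j, hjL⟩ := by
    intro y hy
    apply e.injective
    apply Subtype.ext
    rw [hy, hej]
  have hA : ∀ y ∈ L, y * y = 1 → y = 1 ∨ y = j := by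
    intro y hy hyy
    rcases hsq ⟨y, hy⟩ (Subtype.ext hyy) with h | h
    · left
      exact congrArg Subtype.val (hone _ h)
    · right
      exact congrArg Subtype.val (hneg _ h)
  have hsymm_sq : ∀ w : SpecialLinearGroup (Fin 2) F, w.1 * w.1 = -1 →
      ((e.symm w : ↥L) : G) * ((e.symm w : ↥L) : G) = j := by
    intro w hw
    have : e.symm w * e.symm w = ⟨j, hjL⟩ := by
      apply hneg
      rw [map_mul, MulEquiv.apply_symm_apply]
      exact hw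
    exact congrArg Subtype.val this
  refine ⟨hA, ?_, ?_, ?_⟩
  · exact ⟨(e.symm (wSL F) : ↥L), (e.symm (wSL F)).2, hsymm_sq _ (wSL_sq F)⟩
  · intro u hu y hy huu hyy
    have hu' : (e ⟨u, hu⟩).1 * (e ⟨u, hu⟩).1 = -1 := by
      have : (⟨u, hu⟩ : ↥L) * ⟨u, hu⟩ = ⟨j, hjL⟩ := Subtype.ext huu
      rw [← hej, ← this, map_mul]
      rfl
    have hy' : (e ⟨y, hy⟩).1 * (e ⟨y, hy⟩).1 = -1 := by
      have : (⟨y, hy⟩ : ↥L) * ⟨y, hy⟩ = ⟨j, hjL⟩ := Subtype.ext hyy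
      rw [← hej, ← this, map_mul]
      rfl
    obtain ⟨htu, _⟩ := trace_zero_of_sq h2 _ hu'
    obtain ⟨hty, hnsy⟩ := trace_zero_of_sq h2 _ hy'
    have hconj := Cfsg.Agent.Lib.H12.sl2_isConj_of_trace_regular hF (e ⟨u, hu⟩) (e ⟨y, hy⟩) hnsy
      (by rw [htu, hty]) (by
        rw [htu]
        intro h
        have h4 : (4 : F) = 2 * 2 := by norm_num
        rw [h4] at h
        have : (2 : F) * 2 = 0 := by rw [← h]; ring
        rcases mul_eq_zero.mp this with h' | h' <;> exact h2 h')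
    obtain ⟨c, hc⟩ := isConj_iff.mp hconj
    refine ⟨(e.symm c : ↥L), (e.symm c).2, ?_⟩
    have : e.symm c * ⟨u, hu⟩ * (e.symm c)⁻¹ = ⟨y, hy⟩ := by
      apply e.injective
      rw [map_mul, map_mul, map_inv, MulEquiv.apply_symm_apply]
      exact hc
    exact congrArg Subtype.val this
  · intro g hg hcen
    apply hA g hg
    have key : e ⟨g, hg⟩ * e ⟨g, hg⟩ = 1 := by
      apply sq_eq_one_of_commute
      · have h1 := hcen _ (e.symm (wSL F)).2 (hsymm_sq _ (wSL_sq F))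
        have h2' : (⟨g, hg⟩ : ↥L) * e.symm (wSL F) = e.symm (wSL F) * ⟨g, hg⟩ := Subtype.ext h1
        have := congrArg e h2'
        rwa [map_mul, map_mul, MulEquiv.apply_symm_apply] at this
      · have h1 := hcen _ (e.symm (vSL F)).2 (hsymm_sq _ (vSL_sq F))
        have h2' : (⟨g, hg⟩ : ↥L) * e.symm (vSL F) = e.symm (vSL F) * ⟨g, hg⟩ := Subtype.ext h1
        have := congrArg e h2'
        rwa [map_mul, map_mul, MulEquiv.apply_symm_apply] at this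
    rw [← map_mul] at key
    have := (MulEquiv.map_eq_one_iff e).mp key
    exact congrArg Subtype.val this

end Facts

variable {G : Type*} [Group G]

/-- the configuration: two commuting subgroups of `SL₂`-type sharing their involution `j` -/
structure Cfg (L₁ L₂ : Subgroup G) (j : G) : Prop where
  comm : ∀ x ∈ L₁, ∀ y ∈ L₂, x * y = y * x
  inf : ∀ g, g ∈ L₁ → g ∈ L₂ → g = 1 ∨ g = j
  jj : j * j = 1
  j1 : j ≠ 1
  jL₁ : j ∈ L₁
  jL₂ : j ∈ L₂
  inv₁ : ∀ y ∈ L₁, y * y = 1 → y = 1 ∨ y = j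
  inv₂ : ∀ y ∈ L₂, y * y = 1 → y = 1 ∨ y = j
  ex₁ : ∃ u ∈ L₁, u * u = j
  ex₂ : ∃ u ∈ L₂, u * u = j
  cen₁ : ∀ g ∈ L₁, (∀ s ∈ L₁, s * s = j → g * s = s * g) → g = 1 ∨ g = j
  cen₂ : ∀ g ∈ L₂, (∀ s ∈ L₂, s * s = j → g * s = s * g) → g = 1 ∨ g = j

namespace Cfg

variable {L₁ L₂ : Subgroup G} {j : G}

theorem symm (h : Cfg L₁ L₂ j) : Cfg L₂ L₁ j where
  comm := fun x hx y hy => (h.comm y hy x hx).symm
  inf := fun g h2 h1 => h.inf g h1 h2
  jj := h.jj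
  j1 := h.j1
  jL₁ := h.jL₂
  jL₂ := h.jL₁
  inv₁ := h.inv₂
  inv₂ := h.inv₁
  ex₁ := h.ex₂
  ex₂ := h.ex₁
  cen₁ := h.cen₂
  cen₂ := h.cen₁

theorem not_both (h : Cfg L₁ L₂ j) {x : G} (h1 : x ∈ L₁) (h2 : x ∈ L₂) (hx : x * x = j) : False := by
  rcases h.inf x h1 h2 with h' | h'
  · rw [h', one_mul] at hx; exact h.j1 hx.symm
  · rw [h', h.jj] at hx; exact h.j1 hx.symm

theorem exists_mul (h : Cfg L₁ L₂ j) {m : G} (hm : m ∈ L₁ ⊔ L₂) :
    ∃ a ∈ L₁, ∃ b ∈ L₂, m = a * b := by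
  have hLN : L₁ ≤ Subgroup.normalizer (L₂ : Set G) := by
    intro a ha
    have : a ∈ Subgroup.centralizer (L₂ : Set G) := by
      rw [Subgroup.mem_centralizer_iff]
      intro b hb
      exact (h.comm a ha b hb).symm
    exact Subgroup.centralizer_le_normalizer _ this
  have hm' : m ∈ ((L₁ ⊔ L₂ : Subgroup G) : Set G) := hm
  rw [Subgroup.coe_mul_of_left_le_normalizer_right L₁ L₂ hLN] at hm'
  obtain ⟨a, ha, b, hb, rfl⟩ := Set.mem_mul.mp hm'
  exact ⟨a, ha, b, hb, rfl⟩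

/-- elements of `L₁L₂` squaring to `j` lie in one of the factors -/
theorem mem_of_sq (h : Cfg L₁ L₂ j) {x : G} (hx : x ∈ L₁ ⊔ L₂) (hxx : x * x = j) :
    x ∈ L₁ ∨ x ∈ L₂ := by
  obtain ⟨a, ha, b, hb, rfl⟩ := h.exists_mul hx
  have hcomm : Commute a b := h.comm a ha b hb
  have hsq : (a * a) * (b * b) = j := by
    rw [← hcomm.symm.mul_mul_mul_comm]; exact hxx
  have haa : a * a ∈ L₂ := by
    have : a * a = j * (b * b)⁻¹ := by rw [← hsq]; group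
    rw [this]
    exact L₂.mul_mem h.jL₂ (L₂.inv_mem (L₂.mul_mem hb hb))
  rcases h.inf _ (L₁.mul_mem ha ha) haa with h1 | h1
  · -- a² = 1, so a ∈ {1,j} ⊆ L₂
    right
    rcases h.inv₁ a ha h1 with h2 | h2
    · rw [h2, one_mul]; exact hb
    · rw [h2]; exact L₂.mul_mem h.jL₂ hb
  · -- a² = j, so b² = 1
    left
    have hbb : b * b = 1 := by
      rw [h1] at hsq
      exact mul_left_cancel (a := j) (by rw [hsq, mul_one])
    rcases h.inv₂ b hb hbb with h2 | h2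
    · rw [h2, mul_one]; exact ha
    · rw [h2]; exact L₁.mul_mem ha h.jL₁

/-- `C_{L₁L₂}(order-four elements of L₂) = L₁` -/
theorem mem_of_cent (h : Cfg L₁ L₂ j) {m : G} (hm : m ∈ L₁ ⊔ L₂)
    (hc : ∀ s ∈ L₂, s * s = j → m * s = s * m) : m ∈ L₁ := by
  obtain ⟨a, ha, b, hb, rfl⟩ := h.exists_mul hm
  have hb' : b = 1 ∨ b = j := by
    apply h.cen₂ b hb
    intro s hs hss
    have h1 := hc s hs hss
    have h2 : a * s = s * a := h.comm a ha s hs
    -- a b s = s a b, a s = s a  ⇒ b s = s b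
    have : a * (b * s) = a * (s * b) := by
      calc a * (b * s) = a * b * s := by group
        _ = s * (a * b) := h1
        _ = (s * a) * b := by group
        _ = (a * s) * b := by rw [h2]
        _ = a * (s * b) := by group
    exact mul_left_cancel this
  rcases hb' with h2 | h2
  · rw [h2, mul_one]; exact ha
  · rw [h2]; exact L₁.mul_mem ha h.jL₁

end Cfg

/-- the key dichotomy step -/
theorem lemmaT {A B B' : Subgroup G} {j : G} (hBB' : ∀ b ∈ B, ∀ b' ∈ B', b * b' = b' * b)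
    (hA : ∀ y ∈ A, y * y = 1 → y = 1 ∨ y = j) (hjj : j * j = 1) (c : G) {x₀ x : G}
    (hx₀ : x₀ ∈ A) (hx : x ∈ A) (hx₀j : x₀ * x₀ = j) (hxj : x * x = j)
    (h0 : c * x₀ * c⁻¹ ∈ B) (h1 : c * x * c⁻¹ ∈ B ∨ c * x * c⁻¹ ∈ B') : c * x * c⁻¹ ∈ B := by
  rcases h1 with h1 | h1
  · exact h1
  · have hc := hBB' _ h0 _ h1
    have hcomm : x₀ * x = x * x₀ := by
      have : c * (x₀ * x) * c⁻¹ = c * (x * x₀) * c⁻¹ := by
        calc c * (x₀ * x) * c⁻¹ = (c * x₀ * c⁻¹) * (c * x * c⁻¹) := by group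
          _ = (c * x * c⁻¹) * (c * x₀ * c⁻¹) := hc
          _ = c * (x * x₀) * c⁻¹ := by group
      exact mul_left_cancel (mul_right_cancel this)
    have hsq : (x * x₀) * (x * x₀) = 1 := by
      have hc' : Commute x₀ x := hcomm
      rw [hc'.mul_mul_mul_comm, hxj, hx₀j, hjj]
    rcases hA _ (A.mul_mem hx hx₀) hsq with h2 | h2
    · have : x = x₀⁻¹ := eq_inv_of_mul_eq_one_left h2
      rw [this]
      have : c * x₀⁻¹ * c⁻¹ = (c * x₀ * c⁻¹)⁻¹ := by group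
      rw [this]
      exact B.inv_mem h0
    · have : x = x₀ := by
        have h3 : x * x₀ = x₀ * x₀ := by rw [h2, hx₀j]
        exact mul_right_cancel h3
      rw [this]
      exact h0

section Conj

variable {L₁ L₂ : Subgroup G} {j : G}

/-- `c` (normalizing `L₁L₂` and centralizing `j`) fixes the two families of order-four elements -/
def Fix (L₁ L₂ : Subgroup G) (j c : G) : Prop :=
  (∀ x ∈ L₁, x * x = j → c * x * c⁻¹ ∈ L₁) ∧ (∀ x ∈ L₂, x * x = j → c * x * c⁻¹ ∈ L₂)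

/-- `c` swaps the two families -/
def Swap (L₁ L₂ : Subgroup G) (j c : G) : Prop :=
  (∀ x ∈ L₁, x * x = j → c * x * c⁻¹ ∈ L₂) ∧ (∀ x ∈ L₂, x * x = j → c * x * c⁻¹ ∈ L₁)

theorem conj_sq {c x : G} (hcj : c * j = j * c) (hx : x * x = j) :
    (c * x * c⁻¹) * (c * x * c⁻¹) = j := by
  calc (c * x * c⁻¹) * (c * x * c⁻¹) = c * (x * x) * c⁻¹ := by group
    _ = c * j * c⁻¹ := by rw [hx]
    _ = j := by rw [hcj]; group

theorem fix_or_swap (h : Cfg L₁ L₂ j) (c : G)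
    (hcM : ∀ m ∈ L₁ ⊔ L₂, c * m * c⁻¹ ∈ L₁ ⊔ L₂) (hcM' : ∀ m ∈ L₁ ⊔ L₂, c⁻¹ * m * c ∈ L₁ ⊔ L₂)
    (hcj : c * j = j * c) : Fix L₁ L₂ j c ∨ Swap L₁ L₂ j c := by
  have hcj' : c⁻¹ * j = j * c⁻¹ := by
    calc c⁻¹ * j = c⁻¹ * (j * c) * c⁻¹ := by group
      _ = c⁻¹ * (c * j) * c⁻¹ := by rw [hcj]
      _ = j * c⁻¹ := by group
  have hd₁ : ∀ x ∈ L₁, x * x = j → c * x * c⁻¹ ∈ L₁ ∨ c * x * c⁻¹ ∈ L₂ := fun x hx hxx =>
    h.mem_of_sq (hcM x (Subgroup.mem_sup_left hx)) (conj_sq hcj hxx)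
  have hd₂ : ∀ x ∈ L₂, x * x = j → c * x * c⁻¹ ∈ L₁ ∨ c * x * c⁻¹ ∈ L₂ := fun x hx hxx =>
    h.mem_of_sq (hcM x (Subgroup.mem_sup_right hx)) (conj_sq hcj hxx)
  obtain ⟨u₁, hu₁, huu₁⟩ := h.ex₁
  obtain ⟨u₂, hu₂, huu₂⟩ := h.ex₂
  have hcomm' : ∀ b ∈ L₂, ∀ b' ∈ L₁, b * b' = b' * b := fun b hb b' hb' => (h.comm b' hb' b hb).symm
  -- pull back an element of order four
  have hback : ∀ s ∈ L₁ ⊔ L₂, s * s = j →
      ∃ t, (t ∈ L₁ ∨ t ∈ L₂) ∧ t * t = j ∧ c * t * c⁻¹ = s := by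
    intro s hs hss
    refine ⟨c⁻¹ * s * c, ?_, ?_, by group⟩
    · exact h.mem_of_sq (hcM' s hs) (by
        have := conj_sq (c := c⁻¹) (x := s) hcj' hss
        rwa [inv_inv] at this)
    · have := conj_sq (c := c⁻¹) (x := s) hcj' hss
      rwa [inv_inv] at this
  rcases hd₁ u₁ hu₁ huu₁ with h1 | h1 <;> rcases hd₂ u₂ hu₂ huu₂ with h2 | h2
  · -- both into L₁ : impossible
    exfalso
    have a1 : ∀ x ∈ L₁, x * x = j → c * x * c⁻¹ ∈ L₁ := fun x hx hxx =>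
      lemmaT h.comm h.inv₁ h.jj c hu₁ hx huu₁ hxx h1 (hd₁ x hx hxx)
    have a2 : ∀ x ∈ L₂, x * x = j → c * x * c⁻¹ ∈ L₁ := fun x hx hxx =>
      lemmaT h.comm h.inv₂ h.jj c hu₂ hx huu₂ hxx h2 (hd₂ x hx hxx)
    obtain ⟨t, ht, htt, hts⟩ := hback u₂ (Subgroup.mem_sup_right hu₂) huu₂
    have : u₂ ∈ L₁ := by
      rw [← hts]
      rcases ht with ht | ht
      · exact a1 t ht htt
      · exact a2 t ht htt
    exact h.not_both this hu₂ huu₂
  · left
    exact ⟨fun x hx hxx => lemmaT h.comm h.inv₁ h.jj c hu₁ hx huu₁ hxx h1 (hd₁ x hx hxx),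
      fun x hx hxx => lemmaT hcomm' h.inv₂ h.jj c hu₂ hx huu₂ hxx h2 ((hd₂ x hx hxx).symm)⟩
  · right
    exact ⟨fun x hx hxx => lemmaT hcomm' h.inv₁ h.jj c hu₁ hx huu₁ hxx h1 ((hd₁ x hx hxx).symm),
      fun x hx hxx => lemmaT h.comm h.inv₂ h.jj c hu₂ hx huu₂ hxx h2 (hd₂ x hx hxx)⟩
  · -- both into L₂ : impossible
    exfalso
    have a1 : ∀ x ∈ L₁, x * x = j → c * x * c⁻¹ ∈ L₂ := fun x hx hxx =>
      lemmaT hcomm' h.inv₁ h.jj c hu₁ hx huu₁ hxx h1 ((hd₁ x hx hxx).symm)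
    have a2 : ∀ x ∈ L₂, x * x = j → c * x * c⁻¹ ∈ L₂ := fun x hx hxx =>
      lemmaT hcomm' h.inv₂ h.jj c hu₂ hx huu₂ hxx h2 ((hd₂ x hx hxx).symm)
    obtain ⟨t, ht, htt, hts⟩ := hback u₁ (Subgroup.mem_sup_left hu₁) huu₁
    have : u₁ ∈ L₂ := by
      rw [← hts]
      rcases ht with ht | ht
      · exact a1 t ht htt
      · exact a2 t ht htt
    exact h.not_both hu₁ this huu₁

/-- if `c` fixes the families then `c L₁ c⁻¹ ≤ L₁` -/
theorem conj_mem_of_fix (h : Cfg L₁ L₂ j) (c : G)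
    (hcM : ∀ m ∈ L₁ ⊔ L₂, c * m * c⁻¹ ∈ L₁ ⊔ L₂) (hcM' : ∀ m ∈ L₁ ⊔ L₂, c⁻¹ * m * c ∈ L₁ ⊔ L₂)
    (hcj : c * j = j * c) (hfix : Fix L₁ L₂ j c) : ∀ l ∈ L₁, c * l * c⁻¹ ∈ L₁ := by
  have hcj' : c⁻¹ * j = j * c⁻¹ := by
    calc c⁻¹ * j = c⁻¹ * (j * c) * c⁻¹ := by group
      _ = c⁻¹ * (c * j) * c⁻¹ := by rw [hcj]
      _ = j * c⁻¹ := by group
  intro l hl
  apply h.mem_of_cent (hcM l (Subgroup.mem_sup_left hl))
  intro s hs hss
  -- t = c⁻¹ s c lies in L₂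
  have htt : (c⁻¹ * s * c) * (c⁻¹ * s * c) = j := by
    have := conj_sq (c := c⁻¹) (x := s) hcj' hss
    rwa [inv_inv] at this
  have ht : c⁻¹ * s * c ∈ L₂ := by
    rcases h.mem_of_sq (hcM' s (Subgroup.mem_sup_right hs)) htt with ht | ht
    · exfalso
      have := hfix.1 _ ht htt
      have e : c * (c⁻¹ * s * c) * c⁻¹ = s := by group
      rw [e] at this
      exact h.not_both this hs hss
    · exact ht
  have hc := h.comm l hl _ ht
  calc c * l * c⁻¹ * s = c * (l * (c⁻¹ * s * c)) * c⁻¹ := by group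
    _ = c * ((c⁻¹ * s * c) * l) * c⁻¹ := by rw [hc]
    _ = s * (c * l * c⁻¹) := by group

/-- if `c` swaps the families then `c L₁ c⁻¹ ≤ L₂` -/
theorem conj_mem_of_swap (h : Cfg L₁ L₂ j) (c : G)
    (hcM : ∀ m ∈ L₁ ⊔ L₂, c * m * c⁻¹ ∈ L₁ ⊔ L₂) (hcM' : ∀ m ∈ L₁ ⊔ L₂, c⁻¹ * m * c ∈ L₁ ⊔ L₂)
    (hcj : c * j = j * c) (hswap : Swap L₁ L₂ j c) : ∀ l ∈ L₁, c * l * c⁻¹ ∈ L₂ := by
  have hcj' : c⁻¹ * j = j * c⁻¹ := by
    calc c⁻¹ * j = c⁻¹ * (j * c) * c⁻¹ := by group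
      _ = c⁻¹ * (c * j) * c⁻¹ := by rw [hcj]
      _ = j * c⁻¹ := by group
  intro l hl
  have hM : c * l * c⁻¹ ∈ L₂ ⊔ L₁ := by
    rw [sup_comm]; exact hcM l (Subgroup.mem_sup_left hl)
  apply h.symm.mem_of_cent hM
  intro s hs hss
  have htt : (c⁻¹ * s * c) * (c⁻¹ * s * c) = j := by
    have := conj_sq (c := c⁻¹) (x := s) hcj' hss
    rwa [inv_inv] at this
  have ht : c⁻¹ * s * c ∈ L₂ := by
    rcases h.mem_of_sq (hcM' s (Subgroup.mem_sup_left hs)) htt with ht | ht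
    · exfalso
      have := hswap.1 _ ht htt
      have e : c * (c⁻¹ * s * c) * c⁻¹ = s := by group
      rw [e] at this
      exact h.not_both hs this hss
    · exact ht
  have hc := h.comm l hl _ ht
  calc c * l * c⁻¹ * s = c * (l * (c⁻¹ * s * c)) * c⁻¹ := by group
    _ = c * ((c⁻¹ * s * c) * l) * c⁻¹ := by rw [hc]
    _ = s * (c * l * c⁻¹) := by group

theorem fix_symm {c : G} (hf : Fix L₁ L₂ j c) : Fix L₂ L₁ j c := ⟨hf.2, hf.1⟩

theorem swap_symm {c : G} (hf : Swap L₁ L₂ j c) : Swap L₂ L₁ j c := ⟨hf.2, hf.1⟩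

end Conj

end Cfsg.Agent.Lib.H6.SL2Central
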