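import Cfsg.Agent.Lib.H6.SuzU3h
import Cfsg.Agent.Lib.H6.FrobQ8

/-!
`PSU₃(2)`: the centralizer of the central involution of a Sylow 2-subgroup is that Sylow
subgroup (helper6).
-/

set_option autoImplicit false
set_option linter.unusedSectionVars false

open Matrix
open scoped MatrixGroups

namespace Cfsg.Agent.Lib.H6.SU32

open Cfsg.Agent.Lib.H2.Herm Cfsg.Agent.Lib.H6.PSL3Inv Cfsg.Agent.Lib.H6.SuzU3

section Mat

variable {F : Type*} [Field F]

theorem tri_sq [CharP F 2] (a b c e : F) :
    (!![a, b, c; 0, a, e; 0, 0, a] : Matrix (Fin 3) (Fin 3) F) * !![a, b, c; 0, a, e; 0, 0, a] =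
      !![a ^ 2, 0, b * e; 0, a ^ 2, 0; 0, 0, a ^ 2] := by
  have h2 : ∀ x : F, x + x = 0 := fun x => CharTwo.add_self_eq_zero x
  ext i j; fin_cases i <;> fin_cases j <;>
    simp [Matrix.mul_apply, Fin.sum_univ_three]
  · ring
  · linear_combination h2 (a * b)
  · linear_combination h2 (a * c)
  · ring
  · linear_combination h2 (a * e)
  · ring

theorem tri_pow4 [CharP F 2] (a b c e : F) :
    (!![a, b, c; 0, a, e; 0, 0, a] : Matrix (Fin 3) (Fin 3) F) ^ 4 =
      (a ^ 4) • (1 : Matrix (Fin 3) (Fin 3) F) := by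
  have h4 : (4 : ℕ) = 2 + 2 := rfl
  rw [h4, pow_add, pow_two, tri_sq]
  have h2 : ∀ x : F, x + x = 0 := fun x => CharTwo.add_self_eq_zero x
  ext i j; fin_cases i <;> fin_cases j <;>
    simp [Matrix.mul_apply, Fin.sum_univ_three]
  · ring
  · linear_combination h2 (a ^ 2 * (b * e))
  · ring
  · ring

/-- a matrix commuting with `1 + E₀₂` is upper triangular with equal corner entries -/
theorem shape_of_comm (M : Matrix (Fin 3) (Fin 3) F)
    (h : M * (!![1, 0, 1; 0, 1, 0; 0, 0, 1] : Matrix (Fin 3) (Fin 3) F) =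
      !![1, 0, 1; 0, 1, 0; 0, 0, 1] * M) :
    M = !![M 0 0, M 0 1, M 0 2; 0, M 1 1, M 1 2; 0, 0, M 0 0] := by
  have h10 : M 1 0 = 0 := by
    have := congrFun (congrFun h 1) 2
    simpa [Matrix.mul_apply, Fin.sum_univ_three] using this
  have h20 : M 2 0 = 0 := by
    have := congrFun (congrFun h 2) 2
    simpa [Matrix.mul_apply, Fin.sum_univ_three] using this
  have h21 : M 2 1 = 0 := by
    have := congrFun (congrFun h 0) 1
    simpa [Matrix.mul_apply, Fin.sum_univ_three] using this
  have h22 : M 2 2 = M 0 0 := by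
    have := congrFun (congrFun h 0) 2
    simp [Matrix.mul_apply, Fin.sum_univ_three] at this
    linear_combination -this
  ext i j; fin_cases i <;> fin_cases j <;> simp [h10, h20, h21, h22]

end Mat


section Main

variable {F : Type*} [Field F] [Fintype F] [hF : Fact (Fintype.card F = 2 ^ 2)] [CharP F 2]

theorem card4 : Fintype.card F = 4 := by
  have := hF.out
  norm_num at this
  exact this

theorem cube_eq_one {a : F} (ha : a ≠ 0) : a ^ 3 = 1 := by
  have h4 : a ^ 4 = a := by
    have := FiniteField.pow_card a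
    rwa [card4] at this
  have h : a * (a ^ 3 - 1) = 0 := by linear_combination h4
  rcases mul_eq_zero.mp h with h | h
  · exact absurd h ha
  · linear_combination h

/-- the central involution of the model group -/
def zeta : HT F 2 := HT.mk 0 1 (by
  have : (1 : F) + 1 = 0 := CharTwo.add_self_eq_zero 1
  simp [this])

theorem zeta_fst : (zeta (F := F)).1.1 = 0 := rfl
theorem zeta_snd : (zeta (F := F)).1.2 = 1 := rfl

theorem zeta_ne_one : (zeta (F := F)) ≠ 1 := by
  intro h
  have := ((HT.eq_one_iff _).mp h).2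
  rw [zeta_snd] at this
  exact one_ne_zero this

theorem zeta_mul_self : (zeta (F := F)) * zeta = 1 := (sq_eq_one_iff _).mpr zeta_fst

theorem zeta_mem_center : (zeta (F := F)) ∈ Subgroup.center (HT F 2) :=
  (mem_center_iff _).mpr zeta_fst

/-- an involution of the model group is `zeta` -/
theorem eq_zeta_of_sq {x : HT F 2} (hx1 : x ≠ 1) (hx : x * x = 1) : x = zeta := by
  have h0 := (sq_eq_one_iff x).mp hx
  have hfix := x.2
  rw [h0] at hfix
  have h2 : x.1.2 = 0 ∨ x.1.2 = 1 := by
    have h3 : x.1.2 * (x.1.2 + 1) = 0 := by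
      have : (0 : F) ^ (2 + 1) = 0 := by simp
      rw [this] at hfix
      linear_combination hfix
    rcases mul_eq_zero.mp h3 with h | h
    · left; exact h
    · right
      have h5 : (1 : F) + 1 = 0 := CharTwo.add_self_eq_zero 1
      linear_combination h - h5
  rcases h2 with h | h
  · exact absurd ((HT.eq_one_iff x).mpr ⟨h0, h⟩) hx1
  · exact HT.ext (by rw [h0, zeta_fst]) (by rw [h, zeta_snd])

theorem ups_zeta : ((ups (zeta (F := F)) : SpecialLinearGroup (Fin 3) F) :
    Matrix (Fin 3) (Fin 3) F) = !![1, 0, 1; 0, 1, 0; 0, 0, 1] := by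
  rw [ups_val, zeta_fst, zeta_snd]
  unfold Um
  simp

/-- In `SL₃(F₄)`: an element commuting with the transvection `1 + E₀₂` has scalar fourth power. -/
theorem pow4_scalar_of_comm (m : SpecialLinearGroup (Fin 3) F)
    (h : m * ups (zeta (F := F)) = ups zeta * m) :
    ∃ a : F, ((m ^ 4 : SpecialLinearGroup (Fin 3) F) : Matrix (Fin 3) (Fin 3) F) =
      a • (1 : Matrix (Fin 3) (Fin 3) F) := by
  set M : Matrix (Fin 3) (Fin 3) F := (m : Matrix (Fin 3) (Fin 3) F) with hM
  have hc : M * !![1, 0, 1; 0, 1, 0; 0, 0, 1] = !![1, 0, 1; 0, 1, 0; 0, 0, 1] * M := by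
    have := congrArg (fun X : SpecialLinearGroup (Fin 3) F => (X : Matrix (Fin 3) (Fin 3) F)) h
    simp only [Matrix.SpecialLinearGroup.coe_mul, ups_zeta] at this
    exact this
  have hshape := shape_of_comm M hc
  have hdet : M.det = 1 := m.det_coe
  set a := M 0 0 with ha
  set d := M 1 1 with hd
  have hdet' : a * d * a = 1 := by
    rw [hshape, Matrix.det_fin_three] at hdet
    simp at hdet
    linear_combination hdet
  have ha0 : a ≠ 0 := by
    intro h0
    rw [h0] at hdet'
    simp at hdet'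
  have ha3 := cube_eq_one ha0
  have hda : d = a := by
    have h1 : a ^ 2 * (d - a) = 0 := by linear_combination hdet' - ha3
    rcases mul_eq_zero.mp h1 with h | h
    · exact absurd (pow_eq_zero_iff (by norm_num) |>.mp h) ha0
    · linear_combination h
  refine ⟨a ^ 4, ?_⟩
  rw [Matrix.SpecialLinearGroup.coe_pow, ← hM, hshape, hda]
  exact tri_pow4 a (M 0 1) (M 0 2) (M 1 2)

end Main

end Cfsg.Agent.Lib.H6.SU32
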