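import Cfsg.Agent.Lib.H6.SU32
import Cfsg.Agent.S0282

/-!
`PSU₃(2)`: the Sylow 2-subgroup `ψ(HT F 2)` is the centralizer of its involution, hence a
Frobenius complement (helper6).
-/

set_option autoImplicit false
set_option linter.unusedSectionVars false

open Matrix
open scoped MatrixGroups

namespace Cfsg.Agent.Lib.H6.SU32

open Cfsg.Agent.Lib.H2.Herm Cfsg.Agent.Lib.H6.PSL3Inv Cfsg.Agent.Lib.H6.SuzU3

section Main

variable {F : Type*} [Field F] [Fintype F] [hF : Fact (Fintype.card F = 2 ^ 2)] [CharP F 2]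

variable (l c : F) (hl : l * l ^ 2 = 1) (hc : c * (1 + l) = 1)

/-- a scalar element of `SU` is central -/
theorem mem_center_of_scalar (x : Cfsg.SU 3 F 2) (a : F)
    (hx : ((x : SpecialLinearGroup (Fin 3) F) : Matrix (Fin 3) (Fin 3) F) =
      a • (1 : Matrix (Fin 3) (Fin 3) F)) : x ∈ Subgroup.center (Cfsg.SU 3 F 2) := by
  rw [Subgroup.mem_center_iff]
  intro y
  apply Subtype.ext
  apply sl_ext
  rw [Subgroup.coe_mul, Subgroup.coe_mul, Matrix.SpecialLinearGroup.coe_mul,
    Matrix.SpecialLinearGroup.coe_mul, hx]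
  simp

include hl hc in
theorem centralizer_pow4 (x : Cfsg.PSU 3 F 2)
    (hx : x * psi (q := 2) l c hl hc zeta = psi (q := 2) l c hl hc zeta * x) : x ^ 4 = 1 := by
  obtain ⟨g, rfl⟩ := QuotientGroup.mk_surjective x
  set τ := rhoSU (q := 2) l c hl hc zeta with hτ
  have hψ : psi (q := 2) l c hl hc zeta = (τ : Cfsg.PSU 3 F 2) := rfl
  rw [hψ] at hx
  have hττ : τ * τ = 1 := by
    rw [hτ, ← map_mul, zeta_mul_self, map_one]
  set w := g * τ * g⁻¹ * τ⁻¹ with hw
  have hwc : w ∈ Subgroup.center (Cfsg.SU 3 F 2) := by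
    rw [← QuotientGroup.eq_one_iff]
    show ((g : Cfsg.PSU 3 F 2) * (τ : Cfsg.PSU 3 F 2) * (g : Cfsg.PSU 3 F 2)⁻¹ *
      (τ : Cfsg.PSU 3 F 2)⁻¹) = 1
    rw [hx]; group
  have hwτ : τ * w = w * τ := (Subgroup.mem_center_iff.mp hwc τ)
  have e1 : g * τ * g⁻¹ = w * τ := by rw [hw]; group
  have e2 : (g * τ * g⁻¹) * (g * τ * g⁻¹) = 1 := by
    have : (g * τ * g⁻¹) * (g * τ * g⁻¹) = g * (τ * τ) * g⁻¹ := by group
    rw [this, hττ]; group
  have hww : w * w = 1 := by
    rw [e1] at e2
    have : w * τ * (w * τ) = w * w * (τ * τ) := by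
      calc w * τ * (w * τ) = w * (τ * w) * τ := by group
        _ = w * (w * τ) * τ := by rw [hwτ]
        _ = w * w * (τ * τ) := by group
    rw [this, hττ, mul_one] at e2
    exact e2
  have hw3 : w ^ 3 = 1 := by
    have hcard := Cfsg.Agent.Lib.H2.Unitary.card_center_SU (n := 3) hF.out (by norm_num)
    have h5 : (⟨w, hwc⟩ : Subgroup.center (Cfsg.SU 3 F 2)) ^
        Nat.card (Subgroup.center (Cfsg.SU 3 F 2)) = 1 := pow_card_eq_one'
    rw [hcard] at h5
    have := congrArg Subtype.val h5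
    simpa using this
  have hw1 : w = 1 := by
    have : w ^ 3 = w * w * w := by rw [pow_succ, pow_two]
    rw [this, hww, one_mul] at hw3
    exact hw3
  have hcomm : g * τ = τ * g := by
    have : g * τ = w * (τ * g) := by rw [hw]; group
    rw [this, hw1, one_mul]
  -- pass to `SL₃`
  set b : SpecialLinearGroup (Fin 3) F := mkSL (Bm l c) (Bm_det l c hc) with hb
  have hτval : (τ : SpecialLinearGroup (Fin 3) F) = b * ups zeta * b⁻¹ := rfl
  have hcomm₀ : (g : SpecialLinearGroup (Fin 3) F) * (b * ups zeta * b⁻¹) =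
      (b * ups zeta * b⁻¹) * (g : SpecialLinearGroup (Fin 3) F) := by
    have := congrArg Subtype.val hcomm
    rw [Subgroup.coe_mul, Subgroup.coe_mul, hτval] at this
    exact this
  set m := b⁻¹ * (g : SpecialLinearGroup (Fin 3) F) * b with hm
  have hmcomm : m * ups (zeta (F := F)) = ups zeta * m := by
    have := congrArg (fun t => b⁻¹ * t * b) hcomm₀
    have e3 : b⁻¹ * ((g : SpecialLinearGroup (Fin 3) F) * (b * ups zeta * b⁻¹)) * b =
        m * ups zeta := by rw [hm]; group
    have e4 : b⁻¹ * ((b * ups zeta * b⁻¹) * (g : SpecialLinearGroup (Fin 3) F)) * b =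
        ups zeta * m := by rw [hm]; group
    simp only [e3, e4] at this
    exact this
  obtain ⟨a, ha⟩ := pow4_scalar_of_comm m hmcomm
  have hg4 : (g : SpecialLinearGroup (Fin 3) F) ^ 4 = b * m ^ 4 * b⁻¹ := by
    rw [← conj_pow]
    congr 1
    rw [hm]; group
  have hval : (((g ^ 4 : Cfsg.SU 3 F 2) : SpecialLinearGroup (Fin 3) F) :
      Matrix (Fin 3) (Fin 3) F) = a • (1 : Matrix (Fin 3) (Fin 3) F) := by
    rw [Subgroup.coe_pow, hg4, Matrix.SpecialLinearGroup.coe_mul,
      Matrix.SpecialLinearGroup.coe_mul, ha]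
    rw [Matrix.mul_smul, Matrix.mul_one, Matrix.smul_mul, ← Matrix.SpecialLinearGroup.coe_mul,
      mul_inv_cancel, Matrix.SpecialLinearGroup.coe_one]
  have hcen := mem_center_of_scalar (g ^ 4) a hval
  rw [← QuotientGroup.mk_pow]
  exact (QuotientGroup.eq_one_iff _).mpr hcen


theorem card_PSU32 : Nat.card (Cfsg.PSU 3 F 2) = 72 := (Cfsg.Agent.S0282.result card4).1

include hl hc in
theorem card_range : Nat.card (psi (q := 2) l c hl hc).range = 8 := by
  rw [← Nat.card_congr (MonoidHom.ofInjective (psi_injective (q := 2) l c hl hc)).toEquiv, card_HT]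
  norm_num

include hl hc in
/-- the centralizer of the involution is the Sylow subgroup -/
theorem centralizer_le (g : Cfsg.PSU 3 F 2)
    (hg : g * psi (q := 2) l c hl hc zeta = psi (q := 2) l c hl hc zeta * g) :
    g ∈ (psi (q := 2) l c hl hc).range := by
  set ψ := psi (q := 2) l c hl hc with hψ
  set K := Subgroup.centralizer ({ψ zeta} : Set (Cfsg.PSU 3 F 2)) with hK
  have hmemK : ∀ x : Cfsg.PSU 3 F 2, x ∈ K ↔ x * ψ zeta = ψ zeta * x := by
    intro x
    rw [hK, Subgroup.mem_centralizer_iff]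
    constructor
    · intro h; exact (h _ rfl).symm
    · intro h y hy
      rw [Set.mem_singleton_iff] at hy
      rw [hy]; exact h.symm
  have hle : ψ.range ≤ K := by
    rintro _ ⟨y, rfl⟩
    rw [hmemK, ← map_mul, ← map_mul]
    congr 1
    exact (Subgroup.mem_center_iff.mp zeta_mem_center y)
  have hK2 : IsPGroup 2 K := by
    intro x
    refine ⟨2, ?_⟩
    apply Subtype.ext
    rw [Subgroup.coe_pow]
    exact centralizer_pow4 l c hl hc x.1 ((hmemK _).mp x.2)
  obtain ⟨n, hn⟩ := IsPGroup.iff_card.mp hK2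
  have hdvd : Nat.card K ∣ 72 := by
    rw [← card_PSU32 (F := F)]
    exact Subgroup.card_subgroup_dvd_card K
  have hn3 : n ≤ 3 := by
    by_contra hcon
    push Not at hcon
    have h16 : 2 ^ 4 ∣ 2 ^ n := pow_dvd_pow 2 hcon
    rw [← hn] at h16
    have := h16.trans hdvd
    norm_num at this
  have hcardK : Nat.card K ≤ Nat.card ψ.range := by
    rw [card_range l c hl hc, hn]
    calc 2 ^ n ≤ 2 ^ 3 := Nat.pow_le_pow_right (by norm_num) hn3
      _ = 8 := by norm_num
  have hEq : ψ.range = K := Subgroup.eq_of_le_of_card_ge hle hcardK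
  rw [hEq, hmemK]
  exact hg

include hl hc in
theorem range_isFrob : Cfsg.IsFrobeniusComplement (psi (q := 2) l c hl hc).range := by
  set ψ := psi (q := 2) l c hl hc with hψ
  have hinj : Function.Injective ψ := psi_injective (q := 2) l c hl hc
  apply Cfsg.Agent.Lib.H6.FrobQ8.isFrobeniusComplement_of_unique_involution ψ.range
    (z := ψ zeta)
  · rintro _ ⟨y, rfl⟩
    refine ⟨2, ?_⟩
    rw [← map_pow, pow_four, map_one]
  · exact ⟨zeta, rfl⟩
  · intro h
    apply zeta_ne_one (F := F)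
    apply hinj
    rw [h, map_one]
  · rintro _ ⟨y, rfl⟩ hy1 hyy
    congr 1
    apply eq_zeta_of_sq
    · intro h
      apply hy1
      rw [h, map_one]
    · apply hinj
      rw [map_mul, hyy, map_one]
  · exact centralizer_le l c hl hc
  · intro h
    have h1 := card_range l c hl hc
    rw [← hψ, h, Subgroup.card_top, card_PSU32] at h1
    norm_num at h1

end Main

end Cfsg.Agent.Lib.H6.SU32
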