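import Cfsg.Agent.Lib.H6.SU32b
import Cfsg.Agent.Lib.H22.UniqueInvolution

/-!
`PSU₃(2) = 3² : Q₈` (helper6).
-/

set_option autoImplicit false
set_option linter.unusedSectionVars false

open Matrix
open scoped MatrixGroups

namespace Cfsg.Agent.Lib.H6.SU32

open Cfsg.Agent.Lib.H2.Herm Cfsg.Agent.Lib.H6.PSL3Inv Cfsg.Agent.Lib.H6.SuzU3
open Cfsg.Agent.Lib.H18 Cfsg.Agent.Lib.H6.FrobQ8

section Main

variable {F : Type*} [Field F] [Fintype F] [hF : Fact (Fintype.card F = 2 ^ 2)] [CharP F 2]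

theorem HT_card : Nat.card (HT F 2) = 8 := by
  rw [card_HT]; norm_num

theorem HT_atMostOne : Cfsg.Agent.Lib.H22.AtMostOneOrderP 2 (HT F 2) := by
  have key : ∀ H : Subgroup (HT F 2), Nat.card H = 2 → ∀ x ∈ H, x = 1 ∨ x = zeta := by
    intro H hH x hx
    by_cases hx1 : x = 1
    · left; exact hx1
    · right
      apply eq_zeta_of_sq hx1
      have h2 : (⟨x, hx⟩ : H) ^ Nat.card H = 1 := pow_card_eq_one'
      rw [hH] at h2
      have := congrArg Subtype.val h2
      simpa [pow_two] using this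
  have hz : ∀ H : Subgroup (HT F 2), Nat.card H = 2 → zeta ∈ H := by
    intro H hH
    have hnt : Nontrivial H := by
      have : 1 < Nat.card H := by rw [hH]; norm_num
      exact (Finite.one_lt_card_iff_nontrivial).mp this
    obtain ⟨x, hx⟩ := exists_ne (1 : H)
    rcases key H hH x.1 x.2 with h | h
    · exact absurd (Subtype.ext h) hx
    · rw [← h]; exact x.2
  intro H K hH hK
  apply le_antisymm
  · intro x hx
    rcases key H hH x hx with h | h
    · rw [h]; exact K.one_mem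
    · rw [h]; exact hz K hK
  · intro x hx
    rcases key K hK x hx with h | h
    · rw [h]; exact H.one_mem
    · rw [h]; exact hz H hH

theorem HT_equiv_Q8 : Nonempty (HT F 2 ≃* QuaternionGroup 2) := by
  rcases Cfsg.Agent.Lib.H22.cyclic_or_quaternion_of_atMostOne (isPGroup_HT (F := F) (q := 2))
    HT_atMostOne with hcyc | ⟨n, hn, ⟨e⟩⟩
  · exfalso
    obtain ⟨x, y, hxy⟩ := not_comm (F := F) (q := 2)
    have := hcyc.isMulCommutative
    exact hxy (this.is_comm.comm x y)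
  · have hcard : Nat.card (QuaternionGroup (2 ^ n)) = 8 := by
      rw [← Nat.card_congr e.toEquiv, HT_card]
    haveI : NeZero (2 ^ n) := ⟨by positivity⟩
    rw [Nat.card_eq_fintype_card, QuaternionGroup.card] at hcard
    have h2 : 2 ^ n = 2 := by omega
    rw [h2] at e
    exact ⟨e⟩

end Main

section Final

variable {F : Type*} [Field F] [Fintype F]

/-- The structure of `PSU₃(2)`: a Frobenius complement `S ≅ Q₈` with unique involution `z`. -/
theorem exists_frob (hF4 : Fintype.card F = 4) :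
    ∃ (S : Subgroup (Cfsg.PSU 3 F 2)) (hS : Cfsg.IsFrobeniusComplement S) (z : Cfsg.PSU 3 F 2),
      Nat.card S = 8 ∧ Nonempty (S ≃* QuaternionGroup 2) ∧ z ∈ S ∧ z ≠ 1 ∧ z * z = 1 ∧
      (∀ x ∈ S, x ≠ 1 → x * x = 1 → x = z) ∧ (∀ x ∈ S, x * z = z * x) ∧
      Nat.card (frobKer S hS) = 9 := by
  have hF' : Fintype.card F = 2 ^ 2 := by rw [hF4]; norm_num
  haveI : Fact (Fintype.card F = 2 ^ 2) := ⟨hF'⟩
  haveI : CharP F 2 := charP_two_of_card (n := 1) le_rfl (by rw [hF4]; norm_num)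
  obtain ⟨l, hl, hl1⟩ := Cfsg.Agent.Lib.H2.Unitary.exists_norm_one_ne_one hF'
  have h1s : (1 : F) + (l : F) ≠ 0 := by
    intro h
    apply hl1
    have h2 : (l : F) = (l : F) + ((1 : F) + (l : F)) := by rw [h, add_zero]
    rw [h2, add_comm (1 : F), ← add_assoc, CharTwo.add_self_eq_zero, zero_add]
  have hc : (1 + (l : F))⁻¹ * (1 + (l : F)) = 1 := inv_mul_cancel₀ h1s
  set ψ := psi (q := 2) (l : F) (1 + (l : F))⁻¹ hl hc with hψ
  have hinj : Function.Injective ψ := psi_injective _ _ hl hc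
  have hFrob := range_isFrob (l : F) (1 + (l : F))⁻¹ hl hc
  have hcardS := card_range (l : F) (1 + (l : F))⁻¹ hl hc
  refine ⟨ψ.range, hFrob, ψ zeta, hcardS, ?_, ⟨zeta, rfl⟩, ?_, ?_, ?_, ?_, ?_⟩
  · obtain ⟨e⟩ := HT_equiv_Q8 (F := F)
    exact ⟨(MonoidHom.ofInjective hinj).symm.trans e⟩
  · intro h
    apply zeta_ne_one (F := F)
    apply hinj
    rw [h, map_one]
  · rw [← map_mul, zeta_mul_self, map_one]
  · rintro _ ⟨y, rfl⟩ hy1 hyy
    congr 1
    apply eq_zeta_of_sq
    · intro h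
      apply hy1
      rw [h, map_one]
    · apply hinj
      rw [map_mul, hyy, map_one]
  · rintro _ ⟨y, rfl⟩
    rw [← map_mul, ← map_mul]
    congr 1
    exact (Subgroup.mem_center_iff.mp zeta_mem_center y)
  · rw [card_frobKer]
    have := Subgroup.card_mul_index ψ.range
    rw [hcardS, card_PSU32] at this
    omega

/-- `PSU₃(2)` has a normal elementary abelian subgroup of order 9 with quotient `Q₈`. -/
theorem main (hF4 : Fintype.card F = 4) :
    ∃ (N : Subgroup (Cfsg.PSU 3 F 2)) (_ : N.Normal), Nat.card N = 9 ∧ (∀ x ∈ N, x ^ 3 = 1) ∧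
      Nonempty (Cfsg.PSU 3 F 2 ⧸ N ≃* QuaternionGroup 2) := by
  obtain ⟨S, hS, z, hcardS, ⟨e⟩, -, -, -, -, -, hcardN⟩ := exists_frob hF4
  haveI : Finite (Cfsg.PSU 3 F 2) := Nat.finite_of_card_ne_zero (by
    rw [(Cfsg.Agent.S0282.result hF4).1]; norm_num)
  refine ⟨frobKer S hS, frobKer_normal S hS, hcardN, ?_, ?_⟩
  · haveI : Fact (Nat.Prime 3) := ⟨Nat.prime_three⟩
    apply pow_eq_one_of_regular hS
    · rw [hcardS, hcardN]
    · rw [hcardN]; norm_num
  · obtain ⟨e'⟩ := nonempty_quotient_equiv hS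
    exact ⟨e'.trans e⟩

end Final

end Cfsg.Agent.Lib.H6.SU32
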