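/-
S5778 (SU_3 row, architect helper27), piece **SU3-b2**: `SU_3(q)` lies in no subfield group
(index `r ≥ 2`, `r = 2` included).  Immediate from helper14's UP3-B5' (`Lib/H14/UP3B5`,
`not_su_le_subfieldSubgroup'`, valid for all `3 ≤ n` and all `r ≥ 2`) at `n = 3`.
-/
import Cfsg.Agent.Lib.H27.SU3Defs
import Cfsg.Agent.Lib.H14.UP3B5

set_option autoImplicit false

namespace Cfsg.Agent.Lib.H6.SU3

open Cfsg Cfsg.Geo Cfsg.Agent.Lib.Lead.Asch Cfsg.Agent.Lib.H27.SU3
open scoped MatrixGroups Matrix Kronecker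

variable {F : Type*} [Field F] [Fintype F] {q : ℕ}

/-- **SU3-b2**: `SU_3(q)` lies in no subfield group (`hq` is not needed). -/
theorem b2 (hF : Fintype.card F = q ^ 2) (hq : 3 ≤ q) : B2Stmt F q :=
  fun F₀ r P hr hcard =>
    Cfsg.Agent.Lib.H14.UP3.not_su_le_subfieldSubgroup' hF (le_refl 3) F₀ r P hr hcard

end Cfsg.Agent.Lib.H6.SU3
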