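import Mathlib
import Cfsg.Prelude.Def_Classical

set_option autoImplicit false
set_option linter.unusedSectionVars false
set_option linter.unusedSimpArgs false
set_option linter.unusedVariables false

/-! The hyperbolic quadratic form `Σ xᵢ yᵢ` and its polar form (helper6). -/

namespace Cfsg.Agent.Lib.H6.Sg

open Matrix

variable {n : ℕ} {F : Type*} [Field F]

/-- swap the two halves of the coordinates -/
def sw (v : Fin n ⊕ Fin n → F) : Fin n ⊕ Fin n → F := fun i => v (Sum.swap i)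

theorem sw_apply (v : Fin n ⊕ Fin n → F) (i : Fin n ⊕ Fin n) : sw v i = v (Sum.swap i) := rfl

theorem sw_sw (v : Fin n ⊕ Fin n → F) : sw (sw v) = v := by
  ext i; simp [sw]

theorem sw_add (u v : Fin n ⊕ Fin n → F) : sw (u + v) = sw u + sw v := rfl

theorem sw_sub (u v : Fin n ⊕ Fin n → F) : sw (u - v) = sw u - sw v := rfl

theorem sw_neg (u : Fin n ⊕ Fin n → F) : sw (-u) = -sw u := rfl

theorem sw_smul (c : F) (v : Fin n ⊕ Fin n → F) : sw (c • v) = c • sw v := rfl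

theorem sw_zero : sw (0 : Fin n ⊕ Fin n → F) = 0 := rfl

/-- the polar form -/
def Bf (u v : Fin n ⊕ Fin n → F) : F := u ⬝ᵥ sw v

/-- the quadratic form -/
abbrev Qf (v : Fin n ⊕ Fin n → F) : F := Cfsg.quadFormPlus n F v

theorem Qf_eq_sum (v : Fin n ⊕ Fin n → F) : Qf v = ∑ i : Fin n, v (.inl i) * v (.inr i) := rfl

theorem Bf_eq_sum (u v : Fin n ⊕ Fin n → F) :
    Bf u v = ∑ i : Fin n, (u (.inl i) * v (.inr i) + u (.inr i) * v (.inl i)) := by
  rw [Bf, dotProduct, Fintype.sum_sum_type, Finset.sum_add_distrib]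
  rfl

theorem Bf_comm (u v : Fin n ⊕ Fin n → F) : Bf u v = Bf v u := by
  rw [Bf_eq_sum, Bf_eq_sum]
  refine Finset.sum_congr rfl fun i _ => by ring

theorem Bf_add_left (u u' v : Fin n ⊕ Fin n → F) : Bf (u + u') v = Bf u v + Bf u' v :=
  add_dotProduct _ _ _

theorem Bf_add_right (u v v' : Fin n ⊕ Fin n → F) : Bf u (v + v') = Bf u v + Bf u v' := by
  rw [Bf, sw_add, dotProduct_add]; rfl

theorem Bf_sub_left (u u' v : Fin n ⊕ Fin n → F) : Bf (u - u') v = Bf u v - Bf u' v :=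
  sub_dotProduct _ _ _

theorem Bf_sub_right (u v v' : Fin n ⊕ Fin n → F) : Bf u (v - v') = Bf u v - Bf u v' := by
  rw [Bf, sw_sub, dotProduct_sub]; rfl

theorem Bf_smul_left (c : F) (u v : Fin n ⊕ Fin n → F) : Bf (c • u) v = c * Bf u v := by
  rw [Bf, smul_dotProduct, smul_eq_mul]; rfl

theorem Bf_smul_right (c : F) (u v : Fin n ⊕ Fin n → F) : Bf u (c • v) = c * Bf u v := by
  rw [Bf, sw_smul, dotProduct_smul, smul_eq_mul]; rfl

theorem Bf_neg_left (u v : Fin n ⊕ Fin n → F) : Bf (-u) v = -Bf u v := neg_dotProduct _ _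

theorem Bf_neg_right (u v : Fin n ⊕ Fin n → F) : Bf u (-v) = -Bf u v := by
  rw [Bf, sw_neg, dotProduct_neg]; rfl

theorem Bf_zero_left (v : Fin n ⊕ Fin n → F) : Bf 0 v = 0 := zero_dotProduct _

theorem Bf_zero_right (u : Fin n ⊕ Fin n → F) : Bf u 0 = 0 := by
  rw [Bf, sw_zero, dotProduct_zero]

theorem sw_dot (r v : Fin n ⊕ Fin n → F) : sw r ⬝ᵥ v = Bf v r := dotProduct_comm _ _

theorem Qf_add (u v : Fin n ⊕ Fin n → F) : Qf (u + v) = Qf u + Qf v + Bf u v := by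
  rw [Bf_eq_sum]
  simp only [Qf_eq_sum, Pi.add_apply, ← Finset.sum_add_distrib]
  refine Finset.sum_congr rfl fun i _ => by ring

theorem Qf_smul (c : F) (v : Fin n ⊕ Fin n → F) : Qf (c • v) = c ^ 2 * Qf v := by
  simp only [Qf_eq_sum, Pi.smul_apply, smul_eq_mul, Finset.mul_sum]
  refine Finset.sum_congr rfl fun i _ => by ring

theorem Qf_zero : Qf (0 : Fin n ⊕ Fin n → F) = 0 := by
  simp [Qf_eq_sum]

theorem Qf_neg (v : Fin n ⊕ Fin n → F) : Qf (-v) = Qf v := by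
  have := Qf_smul (-1 : F) v
  rw [neg_one_smul] at this
  rw [this]; ring

theorem Bf_self (v : Fin n ⊕ Fin n → F) : Bf v v = 2 * Qf v := by
  rw [Bf_eq_sum]
  simp only [Qf_eq_sum, Finset.mul_sum]
  refine Finset.sum_congr rfl fun i _ => by ring

theorem polar_eq (v p : Fin n ⊕ Fin n → F) : Qf (v + p) - Qf v - Qf p = Bf v p := by
  rw [Qf_add]; ring

theorem Qf_sub (u v : Fin n ⊕ Fin n → F) : Qf (u - v) = Qf u + Qf v - Bf u v := by
  rw [sub_eq_add_neg, Qf_add, Qf_neg, Bf_neg_right]; ring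

/-- the quadratic form of a combination of two vectors -/
theorem Qf_comb (a b : F) (p r : Fin n ⊕ Fin n → F) :
    Qf (a • p + b • r) = a ^ 2 * Qf p + b ^ 2 * Qf r + a * b * Bf p r := by
  rw [Qf_add, Qf_smul, Qf_smul, Bf_smul_left, Bf_smul_right]; ring

theorem Bf_single_left (i : Fin n ⊕ Fin n) (c : F) (z : Fin n ⊕ Fin n → F) :
    Bf (Pi.single i c) z = c * z (Sum.swap i) := by
  rw [Bf, single_dotProduct, sw_apply]

/-- nondegeneracy -/
theorem exists_Bf_eq_one {z : Fin n ⊕ Fin n → F} (hz : z ≠ 0) : ∃ v, Bf v z = 1 := by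
  have : ∃ i, z i ≠ 0 := by
    by_contra hcon
    push Not at hcon
    exact hz (funext hcon)
  obtain ⟨i, hi⟩ := this
  refine ⟨Pi.single (Sum.swap i) (z i)⁻¹, ?_⟩
  rw [Bf_single_left, Sum.swap_swap, inv_mul_cancel₀ hi]

theorem eq_zero_of_Bf {z : Fin n ⊕ Fin n → F} (h : ∀ v, Bf v z = 0) : z = 0 := by
  by_contra hz
  obtain ⟨v, hv⟩ := exists_Bf_eq_one hz
  rw [h v] at hv
  exact zero_ne_one hv

/-- two nonzero functionals `B(·, z₁)`, `B(·, z₂)` are simultaneously nonzero somewhere -/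
theorem exists_both_ne {z₁ z₂ : Fin n ⊕ Fin n → F} (h1 : z₁ ≠ 0) (h2 : z₂ ≠ 0) :
    ∃ v, Bf v z₁ ≠ 0 ∧ Bf v z₂ ≠ 0 := by
  obtain ⟨v₁, hv₁⟩ := exists_Bf_eq_one h1
  obtain ⟨v₂, hv₂⟩ := exists_Bf_eq_one h2
  by_cases h3 : Bf v₁ z₂ = 0
  · by_cases h4 : Bf v₂ z₁ = 0
    · refine ⟨v₁ + v₂, ?_, ?_⟩
      · rw [Bf_add_left, hv₁, h4, add_zero]; exact one_ne_zero
      · rw [Bf_add_left, h3, hv₂, zero_add]; exact one_ne_zero
    · exact ⟨v₂, h4, by rw [hv₂]; exact one_ne_zero⟩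
  · exact ⟨v₁, by rw [hv₁]; exact one_ne_zero, h3⟩

/-- independence of two vectors, in elementary form -/
def Indep (p r : Fin n ⊕ Fin n → F) : Prop := ∀ a b : F, a • p + b • r = 0 → a = 0 ∧ b = 0

theorem indep_iff (p r : Fin n ⊕ Fin n → F) : LinearIndependent F ![p, r] ↔ Indep p r := by
  rw [LinearIndependent.pair_iff]
  rfl

theorem Indep.left_ne_zero {p r : Fin n ⊕ Fin n → F} (h : Indep p r) : p ≠ 0 := by
  rintro rfl
  have := (h 1 0 (by simp)).1
  exact one_ne_zero this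

theorem Indep.right_ne_zero {p r : Fin n ⊕ Fin n → F} (h : Indep p r) : r ≠ 0 := by
  rintro rfl
  have := (h 0 1 (by simp)).2
  exact one_ne_zero this

theorem Indep.symm {p r : Fin n ⊕ Fin n → F} (h : Indep p r) : Indep r p := by
  intro a b hab
  have := h b a (by rw [add_comm]; exact hab)
  exact ⟨this.2, this.1⟩

theorem Indep.sub_smul_ne_zero {p r : Fin n ⊕ Fin n → F} (h : Indep p r) (c : F) :
    r - c • p ≠ 0 := by
  intro h0
  have := (h (-c) 1 (by rw [one_smul, neg_smul, add_comm, ← sub_eq_add_neg]; exact h0)).2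
  exact one_ne_zero this

/-- a vector with prescribed values of `B(·, z₁)`, `B(·, z₂)` for independent `z₁`, `z₂`. -/
theorem exists_Bf_eq {z₁ z₂ : Fin n ⊕ Fin n → F} (h : Indep z₁ z₂) (c₁ c₂ : F) :
    ∃ v, Bf v z₁ = c₁ ∧ Bf v z₂ = c₂ := by
  obtain ⟨v₁, hv₁⟩ := exists_Bf_eq_one h.left_ne_zero
  obtain ⟨v, hv⟩ := exists_Bf_eq_one (h.sub_smul_ne_zero (Bf v₁ z₂))
  -- v₂ : B(v₂, z₁) = 0, B(v₂, z₂) = 1
  set v₂ := v - Bf v z₁ • v₁ with hv₂
  have h21 : Bf v₂ z₁ = 0 := by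
    rw [hv₂, Bf_sub_left, Bf_smul_left, hv₁]; ring
  have h22 : Bf v₂ z₂ = 1 := by
    rw [hv₂, Bf_sub_left, Bf_smul_left]
    rw [Bf_sub_right, Bf_smul_right] at hv
    linear_combination hv
  set v₁' := v₁ - Bf v₁ z₂ • v₂ with hv₁'
  have h11 : Bf v₁' z₁ = 1 := by
    rw [hv₁', Bf_sub_left, Bf_smul_left, h21, hv₁]; ring
  have h12 : Bf v₁' z₂ = 0 := by
    rw [hv₁', Bf_sub_left, Bf_smul_left, h22]; ring
  refine ⟨c₁ • v₁' + c₂ • v₂, ?_, ?_⟩
  · rw [Bf_add_left, Bf_smul_left, Bf_smul_left, h11, h21]; ring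
  · rw [Bf_add_left, Bf_smul_left, Bf_smul_left, h12, h22]; ring

/-- making a vector singular by adding a multiple of a singular vector -/
theorem Qf_singularize (v t : Fin n ⊕ Fin n → F) (ht : Qf t = 0) (hvt : Bf v t ≠ 0) :
    Qf (v - (Qf v / Bf v t) • t) = 0 := by
  rw [Qf_sub, Qf_smul, ht, Bf_smul_right]
  field_simp
  ring

end Cfsg.Agent.Lib.H6.Sg
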