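import Mathlib
import Cfsg.Prelude.Def_Classical
import Cfsg.Agent.Lib.H6.SgForm

set_option autoImplicit false
set_option linter.unusedSectionVars false
set_option linter.unusedSimpArgs false
set_option linter.unusedVariables false

/-! The matrices `p ρᵀ − r πᵀ` of Siegel transvections (helper6). -/

namespace Cfsg.Agent.Lib.H6.Sg

open Matrix

variable {n : ℕ} {F : Type*} [Field F]

/-- the matrix `v ↦ B(v, r) p − B(v, p) r` -/
def Ms (p r : Fin n ⊕ Fin n → F) : Matrix (Fin n ⊕ Fin n) (Fin n ⊕ Fin n) F :=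
  vecMulVec p (sw r) - vecMulVec r (sw p)

theorem vecMulVec_sw_mulVec (p r v : Fin n ⊕ Fin n → F) :
    vecMulVec p (sw r) *ᵥ v = Bf v r • p := by
  rw [vecMulVec_mulVec, op_smul_eq_smul, sw_dot]

theorem Ms_mulVec (p r v : Fin n ⊕ Fin n → F) : Ms p r *ᵥ v = Bf v r • p - Bf v p • r := by
  rw [Ms, sub_mulVec, vecMulVec_sw_mulVec, vecMulVec_sw_mulVec]

theorem Ms_swap (p r : Fin n ⊕ Fin n → F) : Ms r p = -Ms p r := by
  rw [Ms, Ms]; abel

theorem Ms_self (p : Fin n ⊕ Fin n → F) : Ms p p = 0 := by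
  rw [Ms, sub_self]

theorem Ms_comb (a b c d : F) (p r : Fin n ⊕ Fin n → F) :
    Ms (a • p + b • r) (c • p + d • r) = (a * d - b * c) • Ms p r := by
  apply Matrix.ext_iff_mulVec.2
  intro v
  rw [Ms_mulVec, smul_mulVec, Ms_mulVec, Bf_add_right, Bf_add_right, Bf_smul_right, Bf_smul_right,
    Bf_smul_right, Bf_smul_right]
  module

theorem vecMulVec_mul_sw (p r p' r' : Fin n ⊕ Fin n → F) :
    vecMulVec p (sw r) * vecMulVec p' (sw r') = Bf p' r • vecMulVec p (sw r') := by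
  rw [vecMulVec_mul_vecMulVec, sw_dot, vecMulVec_smul]

theorem Ms_mul_Ms (p r p' r' : Fin n ⊕ Fin n → F) :
    Ms p r * Ms p' r' = Bf p' r • vecMulVec p (sw r') - Bf r' r • vecMulVec p (sw p')
      - Bf p' p • vecMulVec r (sw r') + Bf r' p • vecMulVec r (sw p') := by
  rw [Ms, Ms, sub_mul, mul_sub, mul_sub, vecMulVec_mul_sw, vecMulVec_mul_sw, vecMulVec_mul_sw,
    vecMulVec_mul_sw]
  abel

/-- a totally singular pair -/
def IsSL (p r : Fin n ⊕ Fin n → F) : Prop := Qf p = 0 ∧ Qf r = 0 ∧ Bf p r = 0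

theorem IsSL.symm {p r : Fin n ⊕ Fin n → F} (h : IsSL p r) : IsSL r p :=
  ⟨h.2.1, h.1, by rw [Bf_comm]; exact h.2.2⟩

theorem IsSL.Bf_self_left {p r : Fin n ⊕ Fin n → F} (h : IsSL p r) : Bf p p = 0 := by
  rw [Bf_self, h.1, mul_zero]

theorem IsSL.Bf_self_right {p r : Fin n ⊕ Fin n → F} (h : IsSL p r) : Bf r r = 0 := by
  rw [Bf_self, h.2.1, mul_zero]

theorem IsSL.Bf_right_left {p r : Fin n ⊕ Fin n → F} (h : IsSL p r) : Bf r p = 0 := by
  rw [Bf_comm]; exact h.2.2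

theorem IsSL.comb {p r : Fin n ⊕ Fin n → F} (h : IsSL p r) (a b c d : F) :
    IsSL (a • p + b • r) (c • p + d • r) := by
  refine ⟨?_, ?_, ?_⟩
  · rw [Qf_comb, h.1, h.2.1, h.2.2]; ring
  · rw [Qf_comb, h.1, h.2.1, h.2.2]; ring
  · simp only [Bf_add_left, Bf_add_right, Bf_smul_left, Bf_smul_right, h.Bf_self_left,
      h.Bf_self_right, h.2.2, h.Bf_right_left]
    ring

theorem IsSL.Ms_sq {p r : Fin n ⊕ Fin n → F} (h : IsSL p r) : Ms p r * Ms p r = 0 := by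
  rw [Ms_mul_Ms, h.Bf_self_left, h.Bf_self_right, h.2.2, h.Bf_right_left]
  simp

theorem Ms_ne_zero {p r : Fin n ⊕ Fin n → F} (h : Indep p r) : Ms p r ≠ 0 := by
  intro h0
  obtain ⟨v, hv1, hv2⟩ := exists_Bf_eq h 0 1
  have := Ms_mulVec p r v
  rw [h0, zero_mulVec, hv1, hv2, zero_smul, sub_zero, one_smul] at this
  exact h.left_ne_zero this.symm

/-- the quadratic form is preserved by `1 + c • Ms p r`. -/
theorem Qf_siegel {p r : Fin n ⊕ Fin n → F} (h : IsSL p r) (c : F) (v : Fin n ⊕ Fin n → F) :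
    Qf ((1 + c • Ms p r) *ᵥ v) = Qf v := by
  rw [add_mulVec, one_mulVec, smul_mulVec, Ms_mulVec, Qf_add, Qf_smul, Bf_smul_right, Qf_sub,
    Qf_smul, Qf_smul, Bf_smul_left, Bf_smul_right, Bf_sub_right, Bf_smul_right, Bf_smul_right,
    h.1, h.2.1, h.2.2]
  ring

theorem siegel_mulVec (p r : Fin n ⊕ Fin n → F) (c : F) (v : Fin n ⊕ Fin n → F) :
    (1 + c • Ms p r) *ᵥ v = v + c • (Bf v r • p - Bf v p • r) := by
  rw [add_mulVec, one_mulVec, smul_mulVec, Ms_mulVec]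

theorem siegel_mul {p r : Fin n ⊕ Fin n → F} (h : IsSL p r) (c d : F) :
    (1 + c • Ms p r) * (1 + d • Ms p r) = 1 + (c + d) • Ms p r := by
  rw [mul_add, mul_one, add_mul, one_mul, smul_mul_smul_comm, h.Ms_sq, smul_zero, add_zero,
    add_smul]
  abel

end Cfsg.Agent.Lib.H6.Sg
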