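import Mathlib
import Cfsg.Prelude.Def_Classical
import Cfsg.Prelude.Def_RootSubgroups
import Cfsg.Agent.Lib.H6.SgMat
import Cfsg.Agent.Lib.H25.RankOne

set_option autoImplicit false
set_option linter.unusedSectionVars false
set_option linter.unusedSimpArgs false
set_option linter.unusedVariables false

/-! Siegel transvection groups inside `GL` (helper6). -/

namespace Cfsg.Agent.Lib.H6.Sg

open Matrix Cfsg Cfsg.Agent.Lib.H25

variable {n : ℕ} {F : Type*} [Field F]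

/-- the Siegel transvection group of the pair `(p, r)` (meaningful for totally singular pairs). -/
def TG (p r : Fin n ⊕ Fin n → F) : Subgroup (GL (Fin n ⊕ Fin n) F) where
  carrier := {g | IsSL p r → ∃ c : F, (g : Matrix (Fin n ⊕ Fin n) (Fin n ⊕ Fin n) F) = 1 + c • Ms p r}
  one_mem' := fun _ => ⟨0, by simp⟩
  mul_mem' := by
    rintro a b ha hb h
    obtain ⟨c, hc⟩ := ha h
    obtain ⟨d, hd⟩ := hb h
    exact ⟨c + d, by rw [Units.val_mul, hc, hd, siegel_mul h]⟩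
  inv_mem' := by
    rintro a ha h
    obtain ⟨c, hc⟩ := ha h
    refine ⟨-c, ?_⟩
    apply Units.inv_eq_of_mul_eq_one_right
    rw [hc, siegel_mul h, add_neg_cancel, zero_smul, add_zero]

theorem mem_TG {p r : Fin n ⊕ Fin n → F} (h : IsSL p r) {g : GL (Fin n ⊕ Fin n) F} :
    g ∈ TG p r ↔ ∃ c : F, (g : Matrix (Fin n ⊕ Fin n) (Fin n ⊕ Fin n) F) = 1 + c • Ms p r :=
  ⟨fun hg => hg h, fun hg _ => hg⟩

/-- the element `1 + c • Ms p r` of `GL`. -/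
def mkE {p r : Fin n ⊕ Fin n → F} (h : IsSL p r) (c : F) : GL (Fin n ⊕ Fin n) F :=
  ⟨1 + c • Ms p r, 1 + (-c) • Ms p r, by rw [siegel_mul h]; simp, by rw [siegel_mul h]; simp⟩

theorem mkE_val {p r : Fin n ⊕ Fin n → F} (h : IsSL p r) (c : F) :
    ((mkE h c : GL (Fin n ⊕ Fin n) F) : Matrix (Fin n ⊕ Fin n) (Fin n ⊕ Fin n) F) = 1 + c • Ms p r := rfl

theorem mkE_mem {p r : Fin n ⊕ Fin n → F} (h : IsSL p r) (c : F) : mkE h c ∈ TG p r :=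
  (mem_TG h).mpr ⟨c, rfl⟩

theorem val_inv_of_val {p r : Fin n ⊕ Fin n → F} (h : IsSL p r) {g : GL (Fin n ⊕ Fin n) F} {c : F}
    (hg : (g : Matrix (Fin n ⊕ Fin n) (Fin n ⊕ Fin n) F) = 1 + c • Ms p r) :
    ((g⁻¹ : GL (Fin n ⊕ Fin n) F) : Matrix (Fin n ⊕ Fin n) (Fin n ⊕ Fin n) F) = 1 + (-c) • Ms p r := by
  apply Units.inv_eq_of_mul_eq_one_right
  rw [hg, siegel_mul h, add_neg_cancel, zero_smul, add_zero]

theorem mem_iso_iff (g : GL (Fin n ⊕ Fin n) F) :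
    g ∈ Cfsg.isometryGroup F (Cfsg.quadFormPlus n F) ↔
      ∀ v, Qf ((g : Matrix (Fin n ⊕ Fin n) (Fin n ⊕ Fin n) F) *ᵥ v) = Qf v := by
  constructor
  · intro hg v
    exact hg v v
  · intro hg u v
    exact hg u

theorem TG_le_iso {p r : Fin n ⊕ Fin n → F} (h : IsSL p r) :
    TG p r ≤ Cfsg.isometryGroup F (Cfsg.quadFormPlus n F) := by
  intro g hg
  obtain ⟨c, hc⟩ := (mem_TG h).mp hg
  rw [mem_iso_iff]
  intro v
  rw [hc, Qf_siegel h]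

theorem TG_comm {p r : Fin n ⊕ Fin n → F} (h : IsSL p r) : IsMulCommutative (TG p r) := by
  refine ⟨⟨?_⟩⟩
  rintro ⟨a, ha⟩ ⟨b, hb⟩
  obtain ⟨c, hc⟩ := (mem_TG h).mp ha
  obtain ⟨d, hd⟩ := (mem_TG h).mp hb
  apply Subtype.ext
  apply Units.ext
  show (a * b).1 = (b * a).1
  rw [Units.val_mul, Units.val_mul, hc, hd, siegel_mul h, siegel_mul h, add_comm c d]

theorem mkE_ne_one {p r : Fin n ⊕ Fin n → F} (h : IsSL p r) (hi : Indep p r) {c : F} (hc : c ≠ 0) :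
    mkE h c ≠ 1 := by
  intro h1
  have h2 : ((mkE h c : GL (Fin n ⊕ Fin n) F) : Matrix (Fin n ⊕ Fin n) (Fin n ⊕ Fin n) F) = 1 := by
    rw [h1]; rfl
  rw [mkE_val] at h2
  have h3 : c • Ms p r = 0 := left_eq_add.mp h2.symm ▸ rfl
  rcases smul_eq_zero.mp h3 with h4 | h4
  · exact hc h4
  · exact Ms_ne_zero hi h4

theorem TG_ne_bot {p r : Fin n ⊕ Fin n → F} (h : IsSL p r) (hi : Indep p r) : TG p r ≠ ⊥ := by
  intro hbot
  have h1 := mkE_mem h (1 : F)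
  rw [hbot, Subgroup.mem_bot] at h1
  exact mkE_ne_one h hi one_ne_zero h1

theorem coeff_ne_zero {p r : Fin n ⊕ Fin n → F} {g : GL (Fin n ⊕ Fin n) F} {c : F}
    (hg : (g : Matrix (Fin n ⊕ Fin n) (Fin n ⊕ Fin n) F) = 1 + c • Ms p r) (hg1 : g ≠ 1) : c ≠ 0 := by
  rintro rfl
  apply hg1
  apply Units.ext
  rw [hg, zero_smul, add_zero]; rfl

theorem TG_eq_of_smul {p r p₁ r₁ : Fin n ⊕ Fin n → F} (h : IsSL p r) (h₁ : IsSL p₁ r₁) {k : F}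
    (hk : k ≠ 0) (hM : Ms p₁ r₁ = k • Ms p r) : TG p₁ r₁ = TG p r := by
  ext g
  rw [mem_TG h, mem_TG h₁]
  constructor
  · rintro ⟨c, hc⟩
    exact ⟨c * k, by rw [hc, hM, smul_smul]⟩
  · rintro ⟨c, hc⟩
    refine ⟨c * k⁻¹, ?_⟩
    rw [hc, hM, smul_smul, mul_assoc, inv_mul_cancel₀ hk, mul_one]

theorem TG_comb {p r : Fin n ⊕ Fin n → F} (h : IsSL p r) (a b c d : F) (hdet : a * d - b * c ≠ 0) :
    TG (a • p + b • r) (c • p + d • r) = TG p r :=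
  TG_eq_of_smul h (h.comb a b c d) hdet (Ms_comb a b c d p r)

theorem TG_swap {p r : Fin n ⊕ Fin n → F} (h : IsSL p r) : TG r p = TG p r := by
  have := TG_comb h 0 1 1 0 (by norm_num)
  simpa using this

theorem Indep.comb {p r : Fin n ⊕ Fin n → F} (hi : Indep p r) (a b c d : F)
    (hdet : a * d - b * c ≠ 0) : Indep (a • p + b • r) (c • p + d • r) := by
  intro α β hαβ
  have h1 : (α * a + β * c) • p + (α * b + β * d) • r = 0 := by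
    rw [← hαβ]; module
  obtain ⟨h2, h3⟩ := hi _ _ h1
  constructor
  · have : α * (a * d - b * c) = 0 := by linear_combination d * h2 - c * h3
    exact (mul_eq_zero.mp this).resolve_right hdet
  · have : β * (a * d - b * c) = 0 := by linear_combination a * h3 - b * h2
    exact (mul_eq_zero.mp this).resolve_right hdet

/-- isometries preserve the polar form -/
theorem Bf_iso {g : GL (Fin n ⊕ Fin n) F} (hg : g ∈ Cfsg.isometryGroup F (Cfsg.quadFormPlus n F))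
    (u v : Fin n ⊕ Fin n → F) :
    Bf ((g : Matrix (Fin n ⊕ Fin n) (Fin n ⊕ Fin n) F) *ᵥ u)
      ((g : Matrix (Fin n ⊕ Fin n) (Fin n ⊕ Fin n) F) *ᵥ v) = Bf u v := by
  rw [mem_iso_iff] at hg
  rw [← polar_eq, ← polar_eq, ← mulVec_add, hg, hg, hg]

theorem val_inv_mulVec (g : GL (Fin n ⊕ Fin n) F) (v : Fin n ⊕ Fin n → F) :
    (g : Matrix (Fin n ⊕ Fin n) (Fin n ⊕ Fin n) F) *ᵥ
      (((g⁻¹ : GL (Fin n ⊕ Fin n) F) : Matrix (Fin n ⊕ Fin n) (Fin n ⊕ Fin n) F) *ᵥ v) = v := by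
  rw [mulVec_mulVec, ← Units.val_mul, mul_inv_cancel, Units.val_one, one_mulVec]

theorem val_inv_mulVec' (g : GL (Fin n ⊕ Fin n) F) (v : Fin n ⊕ Fin n → F) :
    ((g⁻¹ : GL (Fin n ⊕ Fin n) F) : Matrix (Fin n ⊕ Fin n) (Fin n ⊕ Fin n) F) *ᵥ
      ((g : Matrix (Fin n ⊕ Fin n) (Fin n ⊕ Fin n) F) *ᵥ v) = v := by
  rw [mulVec_mulVec, ← Units.val_mul, inv_mul_cancel, Units.val_one, one_mulVec]

theorem IsSL.map {p r : Fin n ⊕ Fin n → F} (h : IsSL p r) {g : GL (Fin n ⊕ Fin n) F}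
    (hg : g ∈ Cfsg.isometryGroup F (Cfsg.quadFormPlus n F)) :
    IsSL ((g : Matrix (Fin n ⊕ Fin n) (Fin n ⊕ Fin n) F) *ᵥ p)
      ((g : Matrix (Fin n ⊕ Fin n) (Fin n ⊕ Fin n) F) *ᵥ r) := by
  have hg' := (mem_iso_iff g).mp hg
  exact ⟨by rw [hg', h.1], by rw [hg', h.2.1], by rw [Bf_iso hg, h.2.2]⟩

theorem Indep.map {p r : Fin n ⊕ Fin n → F} (hi : Indep p r) (g : GL (Fin n ⊕ Fin n) F) :
    Indep ((g : Matrix (Fin n ⊕ Fin n) (Fin n ⊕ Fin n) F) *ᵥ p)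
      ((g : Matrix (Fin n ⊕ Fin n) (Fin n ⊕ Fin n) F) *ᵥ r) := by
  intro a b hab
  apply hi a b
  have h1 : (g : Matrix (Fin n ⊕ Fin n) (Fin n ⊕ Fin n) F) *ᵥ (a • p + b • r) = 0 := by
    rw [mulVec_add, mulVec_smul, mulVec_smul]; exact hab
  have h2 := val_inv_mulVec' g (a • p + b • r)
  rw [h1, mulVec_zero] at h2
  exact h2.symm

theorem conj_Ms {g : GL (Fin n ⊕ Fin n) F}
    (hg : g ∈ Cfsg.isometryGroup F (Cfsg.quadFormPlus n F)) (p r : Fin n ⊕ Fin n → F) :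
    (g : Matrix (Fin n ⊕ Fin n) (Fin n ⊕ Fin n) F) * Ms p r *
      ((g⁻¹ : GL (Fin n ⊕ Fin n) F) : Matrix (Fin n ⊕ Fin n) (Fin n ⊕ Fin n) F) =
    Ms ((g : Matrix (Fin n ⊕ Fin n) (Fin n ⊕ Fin n) F) *ᵥ p)
      ((g : Matrix (Fin n ⊕ Fin n) (Fin n ⊕ Fin n) F) *ᵥ r) := by
  apply Matrix.ext_iff_mulVec.2
  intro v
  rw [← mulVec_mulVec, ← mulVec_mulVec, Ms_mulVec, Ms_mulVec, mulVec_sub, mulVec_smul, mulVec_smul]
  have e1 : ∀ z, Bf (((g⁻¹ : GL (Fin n ⊕ Fin n) F) : Matrix (Fin n ⊕ Fin n) (Fin n ⊕ Fin n) F) *ᵥ v) z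
      = Bf v ((g : Matrix (Fin n ⊕ Fin n) (Fin n ⊕ Fin n) F) *ᵥ z) := by
    intro z
    rw [← Bf_iso hg, val_inv_mulVec]
  rw [e1, e1]

theorem conj_mem_TG {p r : Fin n ⊕ Fin n → F} (h : IsSL p r) {g : GL (Fin n ⊕ Fin n) F}
    (hg : g ∈ Cfsg.isometryGroup F (Cfsg.quadFormPlus n F)) {t : GL (Fin n ⊕ Fin n) F}
    (ht : t ∈ TG p r) :
    g * t * g⁻¹ ∈ TG ((g : Matrix (Fin n ⊕ Fin n) (Fin n ⊕ Fin n) F) *ᵥ p)
      ((g : Matrix (Fin n ⊕ Fin n) (Fin n ⊕ Fin n) F) *ᵥ r) := by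
  obtain ⟨c, hc⟩ := (mem_TG h).mp ht
  rw [mem_TG (h.map hg)]
  refine ⟨c, ?_⟩
  rw [Units.val_mul, Units.val_mul, hc, mul_add, add_mul, mul_one, ← Units.val_mul, mul_inv_cancel,
    Units.val_one, Matrix.mul_smul, Matrix.smul_mul, conj_Ms hg]

theorem conjBy_TG {p r : Fin n ⊕ Fin n → F} (h : IsSL p r) {g : GL (Fin n ⊕ Fin n) F}
    (hg : g ∈ Cfsg.isometryGroup F (Cfsg.quadFormPlus n F)) :
    conjBy (TG p r) g = TG ((g : Matrix (Fin n ⊕ Fin n) (Fin n ⊕ Fin n) F) *ᵥ p)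
      ((g : Matrix (Fin n ⊕ Fin n) (Fin n ⊕ Fin n) F) *ᵥ r) := by
  apply le_antisymm
  · intro x hx
    rw [mem_conjBy] at hx
    have := conj_mem_TG h hg hx
    have e : g * (g⁻¹ * x * g) * g⁻¹ = x := by group
    rwa [e] at this
  · intro x hx
    rw [mem_conjBy]
    have := conj_mem_TG (h.map hg) (Subgroup.inv_mem _ hg) hx
    rw [inv_inv, val_inv_mulVec', val_inv_mulVec'] at this
    exact this

end Cfsg.Agent.Lib.H6.Sg
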