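import Mathlib
import Cfsg.Prelude.Def_Classical
import Cfsg.Prelude.Def_RootSubgroups
import Cfsg.Agent.Lib.H6.SgGrp
import Cfsg.Agent.Lib.H6.RootCommCase
import Cfsg.Agent.Lib.H6.RootSub

set_option autoImplicit false
set_option linter.unusedSectionVars false
set_option linter.unusedSimpArgs false
set_option linter.unusedVariables false

/-! Pairs of Siegel transvection groups: commuting and commutator cases (helper6). -/

namespace Cfsg.Agent.Lib.H6.Sg

open Matrix Cfsg Cfsg.Agent.Lib.H25 Cfsg.Agent.Lib.H6.RootSub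

variable {n : ℕ} {F : Type*} [Field F]
variable {p r p' r' : Fin n ⊕ Fin n → F}

theorem Ms_mul_of_gram_zero (h00 : Bf p p' = 0) (h01 : Bf p r' = 0) (h10 : Bf r p' = 0)
    (h11 : Bf r r' = 0) : Ms p r * Ms p' r' = 0 := by
  rw [Ms_mul_Ms, Bf_comm p' r, Bf_comm r' r, Bf_comm p' p, Bf_comm r' p, h00, h01, h10, h11]
  simp

theorem TG_commute_of_gram_zero (h : IsSL p r) (h' : IsSL p' r') (h00 : Bf p p' = 0)
    (h01 : Bf p r' = 0) (h10 : Bf r p' = 0) (h11 : Bf r r' = 0) {a b : GL (Fin n ⊕ Fin n) F}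
    (ha : a ∈ TG p r) (hb : b ∈ TG p' r') : a * b = b * a := by
  obtain ⟨c, hc⟩ := (mem_TG h).mp ha
  obtain ⟨d, hd⟩ := (mem_TG h').mp hb
  have e1 := Ms_mul_of_gram_zero h00 h01 h10 h11
  have e2 : Ms p' r' * Ms p r = 0 := by
    apply Ms_mul_of_gram_zero
    · rw [Bf_comm]; exact h00
    · rw [Bf_comm]; exact h10
    · rw [Bf_comm]; exact h01
    · rw [Bf_comm]; exact h11
  apply Units.ext
  rw [Units.val_mul, Units.val_mul, hc, hd, mul_add, mul_one, add_mul, one_mul, mul_add, mul_one,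
    add_mul, one_mul, smul_mul_smul_comm, smul_mul_smul_comm, e1, e2, smul_zero, smul_zero]
  abel

theorem commutator_eq_bot_of_gram_zero (h : IsSL p r) (h' : IsSL p' r') (h00 : Bf p p' = 0)
    (h01 : Bf p r' = 0) (h10 : Bf r p' = 0) (h11 : Bf r r' = 0) : ⁅TG p r, TG p' r'⁆ = ⊥ := by
  rw [commutator_eq_bot_iff_forall]
  intro a ha b hb
  exact TG_commute_of_gram_zero h h' h00 h01 h10 h11 ha hb

/-! ### The normalized rank one Gram matrix `diag(0, γ)` -/

section normC

variable (h : IsSL p r) (h' : IsSL p' r') (h00 : Bf p p' = 0) (h01 : Bf p r' = 0)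
  (h10 : Bf r p' = 0) {γ : F} (h11 : Bf r r' = γ)

include h h' h00 h01 h10 h11

theorem normC_isSL : IsSL p p' := ⟨h.1, h'.1, h00⟩

theorem normC_mul : Ms p r * Ms p' r' = (-γ) • vecMulVec p (sw p') := by
  rw [Ms_mul_Ms, Bf_comm p' r, Bf_comm r' r, Bf_comm p' p, Bf_comm r' p, h00, h01, h10, h11]
  simp

theorem normC_mul' : Ms p' r' * Ms p r = (-γ) • vecMulVec p' (sw p) := by
  rw [Ms_mul_Ms, h00, h01, h10, h11]
  simp

theorem normC_sub : Ms p r * Ms p' r' - Ms p' r' * Ms p r = (-γ) • Ms p p' := by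
  rw [normC_mul h h' h00 h01 h10 h11, normC_mul' h h' h00 h01 h10 h11, Ms, smul_sub]

theorem normC_c1 : Ms p p' * Ms p r = 0 := by
  rw [Ms_mul_Ms, h.Bf_self_left, h.Bf_right_left, h10, h00]
  simp

theorem normC_c2 : Ms p p' * Ms p' r' = 0 := by
  rw [Ms_mul_Ms, h'.Bf_self_left, h'.Bf_right_left, Bf_comm p' p, Bf_comm r' p, h00, h01]
  simp

theorem normC_c3 : Ms p r * Ms p p' = 0 := by
  rw [Ms_mul_Ms, h.Bf_self_left, h.2.2, Bf_comm p' r, Bf_comm p' p, h10, h00]
  simp

theorem normC_c4 : Ms p' r' * Ms p p' = 0 := by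
  rw [Ms_mul_Ms, h'.Bf_self_left, h'.2.2, h00, h01]
  simp

/-- the commutator of two elements -/
theorem normC_comm (s t : F) :
    mkE h s * mkE h' t * (mkE h s)⁻¹ * (mkE h' t)⁻¹ =
      mkE (normC_isSL h h' h00 h01 h10 h11) (-γ * s * t) := by
  have key : mkE h s * mkE h' t =
      mkE (normC_isSL h h' h00 h01 h10 h11) (-γ * s * t) * (mkE h' t * mkE h s) := by
    apply Units.ext
    rw [Units.val_mul, Units.val_mul, Units.val_mul, mkE_val, mkE_val, mkE_val]
    have e1 := normC_sub h h' h00 h01 h10 h11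
    have e2 := normC_c1 h h' h00 h01 h10 h11
    have e3 := normC_c2 h h' h00 h01 h10 h11
    have e4 : Ms p r * Ms p' r' = Ms p' r' * Ms p r + (-γ) • Ms p p' := by
      rw [← e1]; abel
    have hX : (1 + t • Ms p' r') * (1 + s • Ms p r) =
        1 + t • Ms p' r' + s • Ms p r + (t * s) • (Ms p' r' * Ms p r) := by
      rw [mul_add, mul_one, add_mul, one_mul, smul_mul_smul_comm]; abel
    have hCX : Ms p p' * ((1 + t • Ms p' r') * (1 + s • Ms p r)) = Ms p p' := by
      rw [hX, mul_add, mul_add, mul_add, mul_one, Matrix.mul_smul, Matrix.mul_smul,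
        Matrix.mul_smul, e3, e2, ← Matrix.mul_assoc, e3, Matrix.zero_mul]
      simp
    have hL : (1 + s • Ms p r) * (1 + t • Ms p' r') =
        1 + s • Ms p r + t • Ms p' r' + (s * t) • (Ms p r * Ms p' r') := by
      rw [mul_add, mul_one, add_mul, one_mul, smul_mul_smul_comm]; abel
    have hR : (1 + (-γ * s * t) • Ms p p') * ((1 + t • Ms p' r') * (1 + s • Ms p r)) =
        (1 + t • Ms p' r') * (1 + s • Ms p r) + (-γ * s * t) • Ms p p' := by
      rw [add_mul, one_mul, Matrix.smul_mul, hCX]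
    rw [hL, hR, hX, e4]
    module
  rw [key]
  group

theorem normC_central_left (e s : F) :
    mkE (normC_isSL h h' h00 h01 h10 h11) e * mkE h s =
      mkE h s * mkE (normC_isSL h h' h00 h01 h10 h11) e := by
  apply Units.ext
  rw [Units.val_mul, Units.val_mul, mkE_val, mkE_val]
  have e2 := normC_c1 h h' h00 h01 h10 h11
  have e3 := normC_c3 h h' h00 h01 h10 h11
  simp only [mul_add, add_mul, mul_one, one_mul, smul_mul_smul_comm, e2, e3, smul_zero, add_zero]
  abel

theorem normC_central_right (e t : F) :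
    mkE (normC_isSL h h' h00 h01 h10 h11) e * mkE h' t =
      mkE h' t * mkE (normC_isSL h h' h00 h01 h10 h11) e := by
  apply Units.ext
  rw [Units.val_mul, Units.val_mul, mkE_val, mkE_val]
  have e2 := normC_c2 h h' h00 h01 h10 h11
  have e3 := normC_c4 h h' h00 h01 h10 h11
  simp only [mul_add, add_mul, mul_one, one_mul, smul_mul_smul_comm, e2, e3, smul_zero, add_zero]
  abel

end normC

theorem mem_TG_iff_mkE (h : IsSL p r) (x : GL (Fin n ⊕ Fin n) F) :
    x ∈ TG p r ↔ ∃ s, x = mkE h s := by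
  rw [mem_TG h]
  constructor
  · rintro ⟨c, hc⟩
    exact ⟨c, Units.ext hc⟩
  · rintro ⟨c, rfl⟩
    exact ⟨c, rfl⟩

theorem mkE_zero (h : IsSL p r) : mkE h (0 : F) = 1 := by
  apply Units.ext
  rw [mkE_val, zero_smul, add_zero]; rfl

/-- normalized commutator case -/
theorem normC_commutatorCase {S : Set (Subgroup (GL (Fin n ⊕ Fin n) F))} (h : IsSL p r)
    (h' : IsSL p' r') (h00 : Bf p p' = 0) (h01 : Bf p r' = 0) (h10 : Bf r p' = 0) {γ : F}
    (h11 : Bf r r' = γ) (hγ : γ ≠ 0) (hS : TG p p' ∈ S) :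
    RootCommutatorCase S (TG p r) (TG p' r') := by
  have h'' := normC_isSL h h' h00 h01 h10 h11
  apply rootCommutatorCase_of_param (κ := -γ) (mkE h) (mkE h') (mkE h'') (mem_TG_iff_mkE h)
    (mem_TG_iff_mkE h') (mem_TG_iff_mkE h'') (mkE_zero h) (mkE_zero h') (neg_ne_zero.mpr hγ)
  · intro s t
    exact normC_comm h h' h00 h01 h10 h11 s t
  · intro e s
    exact normC_central_left h h' h00 h01 h10 h11 e s
  · intro e t
    exact normC_central_right h h' h00 h01 h10 h11 e t
  · exact hS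

theorem Ms_eq_zero_of_not_indep (hn : ¬ Indep p p') : Ms p p' = 0 := by
  unfold Indep at hn
  push Not at hn
  obtain ⟨a, b, hab, hne⟩ := hn
  by_cases ha : a = 0
  · have hb : b ≠ 0 := hne ha
    rw [ha, zero_smul, zero_add] at hab
    have hp' : p' = 0 := (smul_eq_zero.mp hab).resolve_left hb
    apply Matrix.ext_iff_mulVec.2
    intro v
    rw [Ms_mulVec, hp', Bf_zero_right, zero_mulVec]
    simp
  · have hp : p = (-(b / a)) • p' := by
      have : a • p = -(b • p') := eq_neg_of_add_eq_zero_left hab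
      calc p = a⁻¹ • (a • p) := by rw [smul_smul, inv_mul_cancel₀ ha, one_smul]
        _ = (-(b / a)) • p' := by rw [this, smul_neg, smul_smul, neg_smul]; congr 2; field_simp
    apply Matrix.ext_iff_mulVec.2
    intro v
    rw [Ms_mulVec, zero_mulVec, hp, Bf_smul_right]
    module

/-- normalized: dependent `p`, `p'` give commuting groups -/
theorem normC_commute (h : IsSL p r) (h' : IsSL p' r') (h00 : Bf p p' = 0) (h01 : Bf p r' = 0)
    (h10 : Bf r p' = 0) {γ : F} (h11 : Bf r r' = γ) (hn : ¬ Indep p p') :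
    ⁅TG p r, TG p' r'⁆ = ⊥ := by
  rw [commutator_eq_bot_iff_forall]
  intro a ha b hb
  obtain ⟨s, rfl⟩ := (mem_TG_iff_mkE h a).mp ha
  obtain ⟨t, rfl⟩ := (mem_TG_iff_mkE h' b).mp hb
  have h1 := normC_comm h h' h00 h01 h10 h11 s t
  have h2 : mkE (normC_isSL h h' h00 h01 h10 h11) (-γ * s * t) = 1 := by
    apply Units.ext
    rw [mkE_val, Ms_eq_zero_of_not_indep hn, smul_zero, add_zero]; rfl
  rw [h2] at h1
  have h3 : mkE h s * mkE h' t = mkE h' t * mkE h s := by
    have := congrArg (fun x => x * (mkE h' t * mkE h s)) h1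
    simpa [mul_assoc] using this
  exact h3

end Cfsg.Agent.Lib.H6.Sg
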