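import Mathlib
import Cfsg.Prelude.Def_Classical
import Cfsg.Prelude.Def_RootSubgroups
import Cfsg.Agent.Lib.H6.SgPair

set_option autoImplicit false
set_option linter.unusedSectionVars false
set_option linter.unusedSimpArgs false
set_option linter.unusedVariables false

/-! Pairs of Siegel transvection groups with Gram matrix of rank one (helper6). -/

namespace Cfsg.Agent.Lib.H6.Sg

open Matrix Cfsg Cfsg.Agent.Lib.H25 Cfsg.Agent.Lib.H6.RootSub

variable {n : ℕ} {F : Type*} [Field F]
variable {p r p' r' : Fin n ⊕ Fin n → F}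

/-- the new basis `(c p − a r, p)` of the line `(p, r)`, `a ≠ 0`. -/
theorem TG_newbasis (h : IsSL p r) {a : F} (ha : a ≠ 0) (c : F) :
    TG (c • p + (-a) • r) p = TG p r := by
  have := TG_comb h c (-a) 1 0 (by simpa using ha)
  simpa using this

theorem isSL_newbasis (h : IsSL p r) (a c : F) : IsSL (c • p + (-a) • r) p := by
  have := h.comb c (-a) 1 0
  simpa using this

theorem indep_newbasis (hi : Indep p r) {a : F} (ha : a ≠ 0) (c : F) :
    Indep (c • p + (-a) • r) p := by
  have := hi.comb c (-a) 1 0 (by simpa using ha)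
  simpa using this

section genC

variable (h : IsSL p r) (h' : IsSL p' r') {a b c d : F} (ha : Bf p p' = a) (hb : Bf p r' = b)
  (hc : Bf r p' = c) (hd : Bf r r' = d) (hdet : a * d = b * c)

include h h' ha hb hc hd hdet

theorem genC_00 : Bf (c • p + (-a) • r) (b • p' + (-a) • r') = 0 := by
  simp only [Bf_add_left, Bf_add_right, Bf_smul_left, Bf_smul_right, ha, hb, hc, hd]
  linear_combination a * hdet

theorem genC_01 : Bf (c • p + (-a) • r) p' = 0 := by
  simp only [Bf_add_left, Bf_smul_left, ha, hc]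
  ring

theorem genC_10 : Bf p (b • p' + (-a) • r') = 0 := by
  simp only [Bf_add_right, Bf_smul_right, ha, hb]
  ring

theorem genC_commutatorCase {S : Set (Subgroup (GL (Fin n ⊕ Fin n) F))} (ha0 : a ≠ 0)
    (hS : TG (c • p + (-a) • r) (b • p' + (-a) • r') ∈ S) :
    RootCommutatorCase S (TG p r) (TG p' r') := by
  have key := normC_commutatorCase (S := S) (isSL_newbasis h a c) (isSL_newbasis h' a b)
    (genC_00 h h' ha hb hc hd hdet) (genC_01 h h' ha hb hc hd hdet)
    (genC_10 h h' ha hb hc hd hdet) ha ha0 hS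
  rw [TG_newbasis h ha0, TG_newbasis h' ha0] at key
  exact key

theorem genC_commute (ha0 : a ≠ 0)
    (hn : ¬ Indep (c • p + (-a) • r) (b • p' + (-a) • r')) : ⁅TG p r, TG p' r'⁆ = ⊥ := by
  have key := normC_commute (isSL_newbasis h a c) (isSL_newbasis h' a b)
    (genC_00 h h' ha hb hc hd hdet) (genC_01 h h' ha hb hc hd hdet)
    (genC_10 h h' ha hb hc hd hdet) ha hn
  rw [TG_newbasis h ha0, TG_newbasis h' ha0] at key
  exact key

theorem genC_isSL : IsSL (c • p + (-a) • r) (b • p' + (-a) • r') :=
  ⟨(isSL_newbasis h a c).1, (isSL_newbasis h' a b).1, genC_00 h h' ha hb hc hd hdet⟩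

end genC

end Cfsg.Agent.Lib.H6.Sg
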