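import Mathlib
import Cfsg.Prelude.Def_Classical
import Cfsg.Prelude.Def_RootSubgroups
import Cfsg.Agent.Lib.H6.SgPair
import Cfsg.Agent.Lib.H6.RootGrpSL2
import Cfsg.Agent.Lib.H6.RootMap

set_option autoImplicit false
set_option linter.unusedSectionVars false
set_option linter.unusedSimpArgs false
set_option linter.unusedVariables false

/-! Opposite Siegel transvection groups generate an image of `SL₂(F)` (helper6). -/

namespace Cfsg.Agent.Lib.H6.Sg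

open Matrix Cfsg Cfsg.Agent.Lib.H25 Cfsg.Agent.Lib.H6.RootSub Cfsg.Agent.Lib.H25.SL2
open Cfsg.Agent.Lib.H6.RootGrp Cfsg.Agent.Lib.H6.TransvCent

variable {n : ℕ} {F : Type*} [Field F]
variable {p r p' r' : Fin n ⊕ Fin n → F}

section normB

variable (h : IsSL p r) (h' : IsSL p' r') (h00 : Bf p p' = 1) (h01 : Bf p r' = 0)
  (h10 : Bf r p' = 0) (h11 : Bf r r' = 1)

include h h' h00 h01 h10 h11

theorem normB_RL1 : Rmat (sw r) (sw p') (sw r ⬝ᵥ r') (sw p' ⬝ᵥ p) * Lmat p r' = 1 := by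
  apply Rmat_mul_Lmat
  · rw [sw_dot]; exact h.2.2
  · rw [sw_dot, Bf_comm]; exact h'.2.2
  · rw [sw_dot, Bf_comm, h11]; exact one_ne_zero
  · rw [sw_dot, h00]; exact one_ne_zero

theorem normB_RL2 : Rmat (sw p) (sw r') (sw p ⬝ᵥ p') (sw r' ⬝ᵥ (-r)) * Lmat (-r) p' = 1 := by
  apply Rmat_mul_Lmat
  · rw [sw_dot, Bf_neg_left, h.Bf_right_left, neg_zero]
  · rw [sw_dot]; exact h'.2.2
  · rw [sw_dot, Bf_comm, h00]; exact one_ne_zero
  · rw [sw_dot, Bf_neg_left, h11]; exact neg_ne_zero.mpr one_ne_zero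

theorem normB_cross12 :
    Rmat (sw r) (sw p') (sw r ⬝ᵥ r') (sw p' ⬝ᵥ p) * Lmat (-r) p' = 0 := by
  ext a b
  rw [RL_apply]
  fin_cases a <;> fin_cases b <;>
    simp [smul_dotProduct, sw_dot, Bf_neg_left, h10, h.Bf_self_right, h'.Bf_self_left,
      Bf_comm p' r]

theorem normB_cross21 :
    Rmat (sw p) (sw r') (sw p ⬝ᵥ p') (sw r' ⬝ᵥ (-r)) * Lmat p r' = 0 := by
  ext a b
  rw [RL_apply]
  fin_cases a <;> fin_cases b <;>
    simp [smul_dotProduct, sw_dot, h01, h.Bf_self_left, h'.Bf_self_right, Bf_comm r' p]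

/-- first factor -/
noncomputable def Phi1 : SpecialLinearGroup (Fin 2) F →* SpecialLinearGroup (Fin n ⊕ Fin n) F :=
  emb _ _ (normB_RL1 h h' h00 h01 h10 h11)

/-- second factor -/
noncomputable def Phi2 : SpecialLinearGroup (Fin 2) F →* SpecialLinearGroup (Fin n ⊕ Fin n) F :=
  emb _ _ (normB_RL2 h h' h00 h01 h10 h11)

theorem Phi_mul_val (g k : SpecialLinearGroup (Fin 2) F) :
    (Phi1 h h' h00 h01 h10 h11 g).1 * (Phi2 h h' h00 h01 h10 h11 k).1 =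
      1 + Lmat p r' * (g.1 - 1) * Rmat (sw r) (sw p') (sw r ⬝ᵥ r') (sw p' ⬝ᵥ p) +
        Lmat (-r) p' * (k.1 - 1) * Rmat (sw p) (sw r') (sw p ⬝ᵥ p') (sw r' ⬝ᵥ (-r)) := by
  show (emb _ _ (normB_RL1 h h' h00 h01 h10 h11) g).1 * (emb _ _ (normB_RL2 h h' h00 h01 h10 h11) k).1 = _
  rw [emb_val, emb_val, mul_add, mul_one, add_mul, one_mul]
  have e : Lmat p r' * (g.1 - 1) * Rmat (sw r) (sw p') (sw r ⬝ᵥ r') (sw p' ⬝ᵥ p) *
      (Lmat (-r) p' * (k.1 - 1) * Rmat (sw p) (sw r') (sw p ⬝ᵥ p') (sw r' ⬝ᵥ (-r))) = 0 := by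
    calc _ = Lmat p r' * (g.1 - 1) * (Rmat (sw r) (sw p') (sw r ⬝ᵥ r') (sw p' ⬝ᵥ p) *
          Lmat (-r) p') * (k.1 - 1) * Rmat (sw p) (sw r') (sw p ⬝ᵥ p') (sw r' ⬝ᵥ (-r)) := by
          simp only [Matrix.mul_assoc]
      _ = 0 := by rw [normB_cross12 h h' h00 h01 h10 h11]; simp
  rw [e, add_zero]

theorem Phi_mul_val' (g k : SpecialLinearGroup (Fin 2) F) :
    (Phi2 h h' h00 h01 h10 h11 k).1 * (Phi1 h h' h00 h01 h10 h11 g).1 =
      1 + Lmat p r' * (g.1 - 1) * Rmat (sw r) (sw p') (sw r ⬝ᵥ r') (sw p' ⬝ᵥ p) +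
        Lmat (-r) p' * (k.1 - 1) * Rmat (sw p) (sw r') (sw p ⬝ᵥ p') (sw r' ⬝ᵥ (-r)) := by
  show (emb _ _ (normB_RL2 h h' h00 h01 h10 h11) k).1 * (emb _ _ (normB_RL1 h h' h00 h01 h10 h11) g).1 = _
  rw [emb_val, emb_val, mul_add, mul_one, add_mul, one_mul]
  have e : Lmat (-r) p' * (k.1 - 1) * Rmat (sw p) (sw r') (sw p ⬝ᵥ p') (sw r' ⬝ᵥ (-r)) *
      (Lmat p r' * (g.1 - 1) * Rmat (sw r) (sw p') (sw r ⬝ᵥ r') (sw p' ⬝ᵥ p)) = 0 := by
    calc _ = Lmat (-r) p' * (k.1 - 1) * (Rmat (sw p) (sw r') (sw p ⬝ᵥ p') (sw r' ⬝ᵥ (-r)) *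
          Lmat p r') * (g.1 - 1) * Rmat (sw r) (sw p') (sw r ⬝ᵥ r') (sw p' ⬝ᵥ p) := by
          simp only [Matrix.mul_assoc]
      _ = 0 := by rw [normB_cross21 h h' h00 h01 h10 h11]; simp
  rw [e, add_zero]
  abel

theorem Phi_commute (g k : SpecialLinearGroup (Fin 2) F) :
    Phi1 h h' h00 h01 h10 h11 g * Phi2 h h' h00 h01 h10 h11 k =
      Phi2 h h' h00 h01 h10 h11 k * Phi1 h h' h00 h01 h10 h11 g := by
  apply Subtype.ext
  rw [val_mul', val_mul', Phi_mul_val, Phi_mul_val']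

/-- the homomorphism `SL₂(F) → GL` -/
noncomputable def Phi : SpecialLinearGroup (Fin 2) F →* GL (Fin n ⊕ Fin n) F :=
  SpecialLinearGroup.toGL.comp
    { toFun := fun g => Phi1 h h' h00 h01 h10 h11 g * Phi2 h h' h00 h01 h10 h11 g
      map_one' := by rw [map_one, map_one, mul_one]
      map_mul' := fun g k => by
        rw [map_mul, map_mul, mul_assoc, ← mul_assoc (Phi1 h h' h00 h01 h10 h11 k),
          Phi_commute h h' h00 h01 h10 h11 k g]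
        simp only [mul_assoc] }

theorem Phi_val (g : SpecialLinearGroup (Fin 2) F) :
    ((Phi h h' h00 h01 h10 h11 g : GL (Fin n ⊕ Fin n) F) : Matrix (Fin n ⊕ Fin n) (Fin n ⊕ Fin n) F) =
      (Phi1 h h' h00 h01 h10 h11 g).1 * (Phi2 h h' h00 h01 h10 h11 g).1 := rfl

theorem Phi_injective : Function.Injective (Phi h h' h00 h01 h10 h11) := by
  rw [injective_iff_map_eq_one]
  intro g hg
  have h1 : ((Phi h h' h00 h01 h10 h11 g : GL (Fin n ⊕ Fin n) F) :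
      Matrix (Fin n ⊕ Fin n) (Fin n ⊕ Fin n) F) = 1 := by rw [hg]; rfl
  rw [Phi_val, Phi_mul_val] at h1
  have h2 : Lmat p r' * (g.1 - 1) * Rmat (sw r) (sw p') (sw r ⬝ᵥ r') (sw p' ⬝ᵥ p) +
      Lmat (-r) p' * (g.1 - 1) * Rmat (sw p) (sw r') (sw p ⬝ᵥ p') (sw r' ⬝ᵥ (-r)) = 0 := by
    have : (1 : Matrix (Fin n ⊕ Fin n) (Fin n ⊕ Fin n) F) +
        (Lmat p r' * (g.1 - 1) * Rmat (sw r) (sw p') (sw r ⬝ᵥ r') (sw p' ⬝ᵥ p) +
        Lmat (-r) p' * (g.1 - 1) * Rmat (sw p) (sw r') (sw p ⬝ᵥ p') (sw r' ⬝ᵥ (-r))) = 1 := by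
      rw [← add_assoc]; exact h1
    exact add_eq_left.mp this
  have h3 := congrArg (fun M => Rmat (sw r) (sw p') (sw r ⬝ᵥ r') (sw p' ⬝ᵥ p) * M * Lmat p r') h2
  simp only [Matrix.mul_add, Matrix.add_mul, Matrix.mul_zero, Matrix.zero_mul] at h3
  have e1 : Rmat (sw r) (sw p') (sw r ⬝ᵥ r') (sw p' ⬝ᵥ p) *
      (Lmat p r' * (g.1 - 1) * Rmat (sw r) (sw p') (sw r ⬝ᵥ r') (sw p' ⬝ᵥ p)) * Lmat p r' =
      g.1 - 1 := by
    calc _ = (Rmat (sw r) (sw p') (sw r ⬝ᵥ r') (sw p' ⬝ᵥ p) * Lmat p r') * (g.1 - 1) *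
          (Rmat (sw r) (sw p') (sw r ⬝ᵥ r') (sw p' ⬝ᵥ p) * Lmat p r') := by
          simp only [Matrix.mul_assoc]
      _ = g.1 - 1 := by rw [normB_RL1 h h' h00 h01 h10 h11, Matrix.one_mul, Matrix.mul_one]
  have e2 : Rmat (sw r) (sw p') (sw r ⬝ᵥ r') (sw p' ⬝ᵥ p) *
      (Lmat (-r) p' * (g.1 - 1) * Rmat (sw p) (sw r') (sw p ⬝ᵥ p') (sw r' ⬝ᵥ (-r))) * Lmat p r' =
      0 := by
    calc _ = (Rmat (sw r) (sw p') (sw r ⬝ᵥ r') (sw p' ⬝ᵥ p) * Lmat (-r) p') * (g.1 - 1) *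
          (Rmat (sw p) (sw r') (sw p ⬝ᵥ p') (sw r' ⬝ᵥ (-r)) * Lmat p r') := by
          simp only [Matrix.mul_assoc]
      _ = 0 := by rw [normB_cross12 h h' h00 h01 h10 h11]; simp
  rw [e1, e2, add_zero] at h3
  apply Subtype.ext
  rw [val_one']
  exact sub_eq_zero.mp h3

theorem Phi_up (t : F) : Phi h h' h00 h01 h10 h11 (up t) = mkE h t := by
  apply Units.ext
  rw [Phi_val, mkE_val]
  have e1 : (Phi1 h h' h00 h01 h10 h11 (up t)).1 = 1 + t • vecMulVec p (sw r) := by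
    show (emb _ _ (normB_RL1 h h' h00 h01 h10 h11) (up t)).1 = _
    rw [emb_up, sw_dot, Bf_comm, h11, inv_one, mul_one]
  have e2 : (Phi2 h h' h00 h01 h10 h11 (up t)).1 = 1 + (-t) • vecMulVec r (sw p) := by
    show (emb _ _ (normB_RL2 h h' h00 h01 h10 h11) (up t)).1 = _
    rw [emb_up, sw_dot, Bf_comm, h00, inv_one, mul_one, neg_vecMulVec, smul_neg, neg_smul]
  rw [e1, e2, mul_add, mul_one, add_mul, one_mul, smul_mul_smul_comm, vecMulVec_mul_sw,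
    h.Bf_self_right, zero_smul, smul_zero, add_zero, Ms, smul_sub, neg_smul]
  abel

theorem Phi_lo (t : F) : Phi h h' h00 h01 h10 h11 (lo t) = mkE h' (-t) := by
  apply Units.ext
  rw [Phi_val, mkE_val]
  have e1 : (Phi1 h h' h00 h01 h10 h11 (lo t)).1 = 1 + t • vecMulVec r' (sw p') := by
    show (emb _ _ (normB_RL1 h h' h00 h01 h10 h11) (lo t)).1 = _
    rw [emb_lo, sw_dot, h00, inv_one, mul_one]
  have e2 : (Phi2 h h' h00 h01 h10 h11 (lo t)).1 = 1 + (-t) • vecMulVec p' (sw r') := by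
    show (emb _ _ (normB_RL2 h h' h00 h01 h10 h11) (lo t)).1 = _
    rw [emb_lo, sw_dot, Bf_neg_left, h11, inv_neg, inv_one, mul_neg, mul_one]
  rw [e1, e2, mul_add, mul_one, add_mul, one_mul, smul_mul_smul_comm, vecMulVec_mul_sw,
    h'.Bf_self_left, zero_smul, smul_zero, add_zero, Ms, smul_sub, neg_smul, neg_smul]
  abel

theorem normB_isPSL2Pair : IsPSL2PairOver F (TG p r) (TG p' r') := by
  have hup : (upperUnipotentSL2 F).map (Phi h h' h00 h01 h10 h11) = TG p r := by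
    apply le_antisymm
    · rintro _ ⟨g, hg, rfl⟩
      rw [eq_up_of_mem hg, Phi_up]
      exact mkE_mem h _
    · intro x hx
      obtain ⟨s, rfl⟩ := (mem_TG_iff_mkE h x).mp hx
      exact ⟨up s, up_mem _, Phi_up h h' h00 h01 h10 h11 s⟩
  have hlo : (lowerUnipotentSL2 F).map (Phi h h' h00 h01 h10 h11) = TG p' r' := by
    apply le_antisymm
    · rintro _ ⟨g, hg, rfl⟩
      rw [eq_lo_of_mem hg, Phi_lo]
      exact mkE_mem h' _
    · intro x hx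
      obtain ⟨s, rfl⟩ := (mem_TG_iff_mkE h' x).mp hx
      refine ⟨lo (-s), lo_mem _, ?_⟩
      rw [Phi_lo, neg_neg]
  refine ⟨Phi h h' h00 h01 h10 h11, ?_, ?_, hup, hlo⟩
  · rw [MonoidHom.range_eq_map, ← Cfsg.Agent.S5016.sup_eq_top, Subgroup.map_sup, hup, hlo, sup_comm]
  · rw [(MonoidHom.ker_eq_bot_iff _).mpr (Phi_injective h h' h00 h01 h10 h11)]
    exact bot_le

theorem normB_isRankOnePair : IsRankOnePair (TG p r) (TG p' r') := by
  have key := isRankOnePair_of_injective_SL2 (Phi h h' h00 h01 h10 h11)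
    (Phi_injective h h' h00 h01 h10 h11)
  have hup : (upperUnipotentSL2 F).map (Phi h h' h00 h01 h10 h11) = TG p r := by
    apply le_antisymm
    · rintro _ ⟨g, hg, rfl⟩
      rw [eq_up_of_mem hg, Phi_up]
      exact mkE_mem h _
    · intro x hx
      obtain ⟨s, rfl⟩ := (mem_TG_iff_mkE h x).mp hx
      exact ⟨up s, up_mem _, Phi_up h h' h00 h01 h10 h11 s⟩
  have hlo : (lowerUnipotentSL2 F).map (Phi h h' h00 h01 h10 h11) = TG p' r' := by
    apply le_antisymm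
    · rintro _ ⟨g, hg, rfl⟩
      rw [eq_lo_of_mem hg, Phi_lo]
      exact mkE_mem h' _
    · intro x hx
      obtain ⟨s, rfl⟩ := (mem_TG_iff_mkE h' x).mp hx
      refine ⟨lo (-s), lo_mem _, ?_⟩
      rw [Phi_lo, neg_neg]
  rw [hup, hlo] at key
  exact key

end normB

end Cfsg.Agent.Lib.H6.Sg
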