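import Mathlib
import Cfsg.Prelude.Def_Classical
import Cfsg.Prelude.Def_RootSubgroups
import Cfsg.Agent.Lib.H6.SgSL2
import Cfsg.Agent.Lib.H6.SgPairGen

set_option autoImplicit false
set_option linter.unusedSectionVars false
set_option linter.unusedSimpArgs false
set_option linter.unusedVariables false

/-! The trichotomy for pairs of Siegel transvection groups in `GL` (helper6). -/

namespace Cfsg.Agent.Lib.H6.Sg

open Matrix Cfsg Cfsg.Agent.Lib.H25 Cfsg.Agent.Lib.H6.RootSub

variable {n : ℕ} {F : Type*} [Field F]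
variable {p r p' r' : Fin n ⊕ Fin n → F}

/-- opposite pairs: the Gram matrix is invertible -/
theorem genB (h : IsSL p r) (h' : IsSL p' r') {a b c d : F} (ha : Bf p p' = a) (hb : Bf p r' = b)
    (hc : Bf r p' = c) (hd : Bf r r' = d) (hΔ : a * d - b * c ≠ 0) :
    IsRankOnePair (TG p r) (TG p' r') ∧ IsPSL2PairOver F (TG p r) (TG p' r') := by
  set Δ := a * d - b * c with hΔdef
  have hdet : (d / Δ) * (a / Δ) - (-c / Δ) * (-b / Δ) ≠ 0 := by
    have : (d / Δ) * (a / Δ) - (-c / Δ) * (-b / Δ) = 1 / Δ := by
      field_simp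
      rw [hΔdef]; ring
    rw [this]
    exact one_div_ne_zero hΔ
  have hT := TG_comb h' (d / Δ) (-c / Δ) (-b / Δ) (a / Δ) hdet
  have h'' := h'.comb (d / Δ) (-c / Δ) (-b / Δ) (a / Δ)
  have g00 : Bf p ((d / Δ) • p' + (-c / Δ) • r') = 1 := by
    rw [Bf_add_right, Bf_smul_right, Bf_smul_right, ha, hb]
    field_simp
    rw [hΔdef]; ring
  have g01 : Bf p ((-b / Δ) • p' + (a / Δ) • r') = 0 := by
    rw [Bf_add_right, Bf_smul_right, Bf_smul_right, ha, hb]
    field_simp
    ring
  have g10 : Bf r ((d / Δ) • p' + (-c / Δ) • r') = 0 := by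
    rw [Bf_add_right, Bf_smul_right, Bf_smul_right, hc, hd]
    field_simp
    ring
  have g11 : Bf r ((-b / Δ) • p' + (a / Δ) • r') = 1 := by
    rw [Bf_add_right, Bf_smul_right, Bf_smul_right, hc, hd]
    field_simp
    rw [hΔdef]; ring
  have k1 := normB_isRankOnePair h h'' g00 g01 g10 g11
  have k2 := normB_isPSL2Pair h h'' g00 g01 g10 g11
  rw [hT] at k1 k2
  exact ⟨k1, k2⟩

/-- the family of Siegel transvection groups in `GL` -/
def SGL (n : ℕ) (F : Type*) [Field F] : Set (Subgroup (GL (Fin n ⊕ Fin n) F)) :=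
  {A | ∃ p r : Fin n ⊕ Fin n → F, Indep p r ∧ IsSL p r ∧ A = TG p r}

theorem TG_mem_SGL (hi : Indep p r) (h : IsSL p r) : TG p r ∈ SGL n F := ⟨p, r, hi, h, rfl⟩

/-- Gram matrix of rank one with `B(p, p') ≠ 0` -/
theorem pairC (hi : Indep p r) (hi' : Indep p' r') (h : IsSL p r) (h' : IsSL p' r') {a b c d : F}
    (ha : Bf p p' = a) (hb : Bf p r' = b) (hc : Bf r p' = c) (hd : Bf r r' = d) (ha0 : a ≠ 0)
    (hdet : a * d = b * c) :
    ⁅TG p r, TG p' r'⁆ = ⊥ ∨ RootCommutatorCase (SGL n F) (TG p r) (TG p' r') := by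
  by_cases hx : Indep (c • p + (-a) • r) (b • p' + (-a) • r')
  · right
    exact genC_commutatorCase h h' ha hb hc hd hdet ha0
      (TG_mem_SGL hx (genC_isSL h h' ha hb hc hd hdet))
  · left
    exact genC_commute h h' ha hb hc hd hdet ha0 hx

theorem trichotomy (hi : Indep p r) (hi' : Indep p' r') (h : IsSL p r) (h' : IsSL p' r') :
    ⁅TG p r, TG p' r'⁆ = ⊥ ∨
      (IsRankOnePair (TG p r) (TG p' r') ∧ IsPSL2PairOver F (TG p r) (TG p' r')) ∨
      RootCommutatorCase (SGL n F) (TG p r) (TG p' r') := by
  by_cases hΔ : Bf p p' * Bf r r' - Bf p r' * Bf r p' = 0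
  · have hdet : Bf p p' * Bf r r' = Bf p r' * Bf r p' := sub_eq_zero.mp hΔ
    by_cases ha0 : Bf p p' = 0
    · by_cases hb0 : Bf p r' = 0
      · by_cases hc0 : Bf r p' = 0
        · by_cases hd0 : Bf r r' = 0
          · left
            exact commutator_eq_bot_of_gram_zero h h' ha0 hb0 hc0 hd0
          · -- swap both
            have key := pairC hi.symm hi'.symm h.symm h'.symm (a := Bf r r') (b := Bf r p')
              (c := Bf p r') (d := Bf p p') rfl rfl rfl rfl hd0 (by rw [mul_comm, hdet, mul_comm])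
            rw [TG_swap h, TG_swap h'] at key
            rcases key with k | k
            · left; exact k
            · right; right; exact k
        · -- swap p, r
          have key := pairC hi.symm hi' h.symm h' (a := Bf r p') (b := Bf r r')
            (c := Bf p p') (d := Bf p r') rfl rfl rfl rfl hc0 (by rw [mul_comm, ← hdet, mul_comm])
          rw [TG_swap h] at key
          rcases key with k | k
          · left; exact k
          · right; right; exact k
      · -- swap p', r'
        have key := pairC hi hi'.symm h h'.symm (a := Bf p r') (b := Bf p p')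
          (c := Bf r r') (d := Bf r p') rfl rfl rfl rfl hb0 (by rw [← hdet])
        rw [TG_swap h'] at key
        rcases key with k | k
        · left; exact k
        · right; right; exact k
    · rcases pairC hi hi' h h' rfl rfl rfl rfl ha0 hdet with k | k
      · left; exact k
      · right; right; exact k
  · right; left
    exact genB h h' rfl rfl rfl rfl hΔ

end Cfsg.Agent.Lib.H6.Sg
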