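import Mathlib
import Cfsg.Prelude.Def_Classical
import Cfsg.Prelude.Def_RootSubgroups
import Cfsg.Agent.Lib.H6.SgTri

set_option autoImplicit false
set_option linter.unusedSectionVars false
set_option linter.unusedSimpArgs false
set_option linter.unusedVariables false

/-! Siegel transvection groups inside the isometry group: the defining set of the statement
(helper6). -/

namespace Cfsg.Agent.Lib.H6.Sg

open Matrix Cfsg Cfsg.Agent.Lib.H25 Cfsg.Agent.Lib.H6.RootSub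

variable {n : ℕ} {F : Type*} [Field F]
variable {p r : Fin n ⊕ Fin n → F}

/-- the isometry group -/
abbrev IsoG (n : ℕ) (F : Type*) [Field F] : Subgroup (GL (Fin n ⊕ Fin n) F) :=
  Cfsg.isometryGroup F (Cfsg.quadFormPlus n F)

/-- the generating set of the statement -/
def gsetS (p r : Fin n ⊕ Fin n → F) : Set ↥(IsoG n F) :=
  {σ | ∀ v : Fin n ⊕ Fin n → F,
    Cfsg.quadFormPlus n F (v + p) - Cfsg.quadFormPlus n F v - Cfsg.quadFormPlus n F p = 0 →
    Cfsg.quadFormPlus n F (v + r) - Cfsg.quadFormPlus n F v - Cfsg.quadFormPlus n F r = 0 →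
      ((σ : Matrix.GeneralLinearGroup (Fin n ⊕ Fin n) F) : Matrix (Fin n ⊕ Fin n) (Fin n ⊕ Fin n) F) *ᵥ v = v}

/-- the Siegel transvection group inside the isometry group -/
def TH (p r : Fin n ⊕ Fin n → F) : Subgroup ↥(IsoG n F) := (TG p r).subgroupOf (IsoG n F)

theorem gsetS_eq (hi : Indep p r) (h : IsSL p r) : gsetS p r = (TH p r : Set ↥(IsoG n F)) := by
  ext σ
  constructor
  · intro hσ
    show σ.1 ∈ TG p r
    have hσ' : ∀ v : Fin n ⊕ Fin n → F, Bf v p = 0 → Bf v r = 0 →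
        (σ.1 : Matrix (Fin n ⊕ Fin n) (Fin n ⊕ Fin n) F) *ᵥ v = v := by
      intro v h1 h2
      apply hσ v
      · rw [← h1]; exact polar_eq v p
      · rw [← h2]; exact polar_eq v r
    obtain ⟨u₁, h11, h12⟩ := exists_Bf_eq hi 1 0
    obtain ⟨u₂, h21, h22⟩ := exists_Bf_eq hi 0 1
    set d₁ := (σ.1 : Matrix (Fin n ⊕ Fin n) (Fin n ⊕ Fin n) F) *ᵥ u₁ - u₁ with hd₁
    set d₂ := (σ.1 : Matrix (Fin n ⊕ Fin n) (Fin n ⊕ Fin n) F) *ᵥ u₂ - u₂ with hd₂
    have hσu₁ : (σ.1 : Matrix (Fin n ⊕ Fin n) (Fin n ⊕ Fin n) F) *ᵥ u₁ = u₁ + d₁ := by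
      rw [hd₁]; abel
    have hσu₂ : (σ.1 : Matrix (Fin n ⊕ Fin n) (Fin n ⊕ Fin n) F) *ᵥ u₂ = u₂ + d₂ := by
      rw [hd₂]; abel
    -- general formula
    have hgen : ∀ v : Fin n ⊕ Fin n → F,
        (σ.1 : Matrix (Fin n ⊕ Fin n) (Fin n ⊕ Fin n) F) *ᵥ v = v + Bf v p • d₁ + Bf v r • d₂ := by
      intro v
      have hw1 : Bf (v - Bf v p • u₁ - Bf v r • u₂) p = 0 := by
        rw [Bf_sub_left, Bf_sub_left, Bf_smul_left, Bf_smul_left, h11, h21]; ring
      have hw2 : Bf (v - Bf v p • u₁ - Bf v r • u₂) r = 0 := by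
        rw [Bf_sub_left, Bf_sub_left, Bf_smul_left, Bf_smul_left, h12, h22]; ring
      have h3 := hσ' _ hw1 hw2
      have h4 : v = (v - Bf v p • u₁ - Bf v r • u₂) + Bf v p • u₁ + Bf v r • u₂ := by abel
      have h5 : (σ.1 : Matrix (Fin n ⊕ Fin n) (Fin n ⊕ Fin n) F) *ᵥ v =
          (σ.1 : Matrix (Fin n ⊕ Fin n) (Fin n ⊕ Fin n) F) *ᵥ (v - Bf v p • u₁ - Bf v r • u₂) +
          Bf v p • ((σ.1 : Matrix (Fin n ⊕ Fin n) (Fin n ⊕ Fin n) F) *ᵥ u₁) +
          Bf v r • ((σ.1 : Matrix (Fin n ⊕ Fin n) (Fin n ⊕ Fin n) F) *ᵥ u₂) := by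
        conv_lhs => rw [h4]
        rw [mulVec_add, mulVec_add, mulVec_smul, mulVec_smul]
      rw [h5, h3, hσu₁, hσu₂]
      module
    -- d₁, d₂ are orthogonal to the perp of the line
    have hperp : ∀ (u d : Fin n ⊕ Fin n → F),
        (σ.1 : Matrix (Fin n ⊕ Fin n) (Fin n ⊕ Fin n) F) *ᵥ u = u + d →
        ∀ z, Bf z p = 0 → Bf z r = 0 → Bf z d = 0 := by
      intro u d hud z hz1 hz2
      have h3 := Bf_iso σ.2 z u
      rw [hσ' z hz1 hz2, hud, Bf_add_right] at h3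
      exact add_eq_left.mp h3
    have hspan : ∀ (u d : Fin n ⊕ Fin n → F),
        (σ.1 : Matrix (Fin n ⊕ Fin n) (Fin n ⊕ Fin n) F) *ᵥ u = u + d →
        d = Bf u₁ d • p + Bf u₂ d • r := by
      intro u d hud
      have hz := hperp u d hud
      have : d - (Bf u₁ d • p + Bf u₂ d • r) = 0 := by
        apply eq_zero_of_Bf
        intro z
        have hw1 : Bf (z - Bf z p • u₁ - Bf z r • u₂) p = 0 := by
          rw [Bf_sub_left, Bf_sub_left, Bf_smul_left, Bf_smul_left, h11, h21]; ring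
        have hw2 : Bf (z - Bf z p • u₁ - Bf z r • u₂) r = 0 := by
          rw [Bf_sub_left, Bf_sub_left, Bf_smul_left, Bf_smul_left, h12, h22]; ring
        have h3 := hz _ hw1 hw2
        rw [Bf_sub_left, Bf_sub_left, Bf_smul_left, Bf_smul_left] at h3
        rw [Bf_sub_right, Bf_add_right, Bf_smul_right, Bf_smul_right]
        linear_combination h3
      exact sub_eq_zero.mp this
    have hs1 := hspan u₁ d₁ hσu₁
    have hs2 := hspan u₂ d₂ hσu₂
    -- d₁, d₂ singular, mutually orthogonal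
    have hQd : ∀ d : Fin n ⊕ Fin n → F, ∀ a b : F, d = a • p + b • r → Qf d = 0 := by
      intro d a b hd
      rw [hd, Qf_comb, h.1, h.2.1, h.2.2]; ring
    have hBd : ∀ a b a' b' : F, Bf (a • p + b • r) (a' • p + b' • r) = 0 := by
      intro a b a' b'
      exact (h.comb a b a' b').2.2
    -- constraints
    have hiso := (mem_iso_iff σ.1).mp σ.2
    have c1 : Bf u₁ d₁ = 0 := by
      have := hiso u₁
      rw [hσu₁, Qf_add, hQd d₁ _ _ hs1] at this
      linear_combination this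
    have c2 : Bf u₂ d₂ = 0 := by
      have := hiso u₂
      rw [hσu₂, Qf_add, hQd d₂ _ _ hs2] at this
      linear_combination this
    have c3 : Bf u₁ d₂ + Bf u₂ d₁ = 0 := by
      have := Bf_iso σ.2 u₁ u₂
      rw [hσu₁, hσu₂, Bf_add_left, Bf_add_right, Bf_add_right] at this
      have hdd : Bf d₁ d₂ = 0 := by
        rw [hs1, hs2]; exact hBd _ _ _ _
      rw [hdd, Bf_comm d₁ u₂] at this
      linear_combination this
    rw [mem_TG h]
    obtain ⟨c, hc⟩ : ∃ c, c = Bf u₁ d₂ := ⟨_, rfl⟩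
    refine ⟨c, ?_⟩
    apply Matrix.ext_iff_mulVec.2
    intro v
    rw [hgen, siegel_mulVec]
    rw [c1, zero_smul, zero_add] at hs1
    rw [c2, zero_smul, add_zero, ← hc] at hs2
    have hβ : Bf u₂ d₁ = -c := by rw [hc]; linear_combination c3
    rw [hβ] at hs1
    rw [hs1, hs2]
    module
  · intro hσ
    have hσ' : σ.1 ∈ TG p r := hσ
    obtain ⟨c, hc⟩ := (mem_TG h).mp hσ'
    intro v h1 h2
    rw [polar_eq] at h1 h2
    show (σ.1 : Matrix (Fin n ⊕ Fin n) (Fin n ⊕ Fin n) F) *ᵥ v = v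
    rw [hc, siegel_mulVec, h1, h2]
    simp

theorem closure_gsetS (hi : Indep p r) (h : IsSL p r) : Subgroup.closure (gsetS p r) = TH p r := by
  rw [gsetS_eq hi h, Subgroup.closure_eq]

/-- the family of the statement -/
def SigS (n : ℕ) (F : Type*) [Field F] : Set (Subgroup ↥(IsoG n F)) :=
  {A | ∃ p r : Fin n ⊕ Fin n → F, LinearIndependent F ![p, r] ∧
    Cfsg.quadFormPlus n F p = 0 ∧ Cfsg.quadFormPlus n F r = 0 ∧
    Cfsg.quadFormPlus n F (p + r) = 0 ∧ A = Subgroup.closure (gsetS p r)}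

theorem isSL_iff (p r : Fin n ⊕ Fin n → F) :
    IsSL p r ↔ Cfsg.quadFormPlus n F p = 0 ∧ Cfsg.quadFormPlus n F r = 0 ∧
      Cfsg.quadFormPlus n F (p + r) = 0 := by
  constructor
  · rintro ⟨h1, h2, h3⟩
    refine ⟨h1, h2, ?_⟩
    have := Qf_add p r
    rw [h1, h2, h3] at this
    simpa using this
  · rintro ⟨h1, h2, h3⟩
    refine ⟨h1, h2, ?_⟩
    have := Qf_add p r
    have h1' : Qf p = 0 := h1
    have h2' : Qf r = 0 := h2
    have h3' : Qf (p + r) = 0 := h3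
    rw [h1', h2', h3'] at this
    linear_combination -this

theorem mem_SigS (A : Subgroup ↥(IsoG n F)) :
    A ∈ SigS n F ↔ ∃ p r : Fin n ⊕ Fin n → F, Indep p r ∧ IsSL p r ∧ A = TH p r := by
  constructor
  · rintro ⟨p, r, hi, h1, h2, h3, rfl⟩
    have hi' := (indep_iff p r).mp hi
    have h := (isSL_iff p r).mpr ⟨h1, h2, h3⟩
    exact ⟨p, r, hi', h, closure_gsetS hi' h⟩
  · rintro ⟨p, r, hi, h, rfl⟩
    obtain ⟨h1, h2, h3⟩ := (isSL_iff p r).mp h
    exact ⟨p, r, (indep_iff p r).mpr hi, h1, h2, h3, (closure_gsetS hi h).symm⟩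

theorem SigS_eq_image : SigS n F = (fun A : Subgroup (GL (Fin n ⊕ Fin n) F) => A.subgroupOf (IsoG n F)) '' SGL n F := by
  ext A
  rw [mem_SigS]
  constructor
  · rintro ⟨p, r, hi, h, rfl⟩
    exact ⟨TG p r, TG_mem_SGL hi h, rfl⟩
  · rintro ⟨_, ⟨p, r, hi, h, rfl⟩, rfl⟩
    exact ⟨p, r, hi, h, rfl⟩

theorem TH_mem (hi : Indep p r) (h : IsSL p r) : TH p r ∈ SigS n F :=
  (mem_SigS _).mpr ⟨p, r, hi, h, rfl⟩

end Cfsg.Agent.Lib.H6.Sg
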