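import Mathlib
import Cfsg.Prelude.Def_Classical
import Cfsg.Prelude.Def_RootSubgroups
import Cfsg.Agent.Lib.H6.SgClosure
import Cfsg.Agent.Lib.H6.RootMap

set_option autoImplicit false
set_option linter.unusedSectionVars false
set_option linter.unusedSimpArgs false
set_option linter.unusedVariables false

/-! Siegel transvection groups form a set of `F`-root subgroups of the group they generate
(helper6). -/

namespace Cfsg.Agent.Lib.H6.Sg

open Matrix Cfsg Cfsg.Agent.Lib.H25 Cfsg.Agent.Lib.H6.RootSub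

variable {n : ℕ} {F : Type*} [Field F]
variable {p r p' r' : Fin n ⊕ Fin n → F}

theorem TH_comm (h : IsSL p r) : IsMulCommutative (TH p r) :=
  isMulCommutative_subgroupOf _ (TG_comm h)

theorem TH_ne_bot (hi : Indep p r) (h : IsSL p r) : TH p r ≠ ⊥ :=
  subgroupOf_ne_bot _ (TG_le_iso h) (TG_ne_bot h hi)

theorem conjBy_TH (h : IsSL p r) (g : ↥(IsoG n F)) :
    conjBy (TH p r) g = TH ((g.1 : Matrix (Fin n ⊕ Fin n) (Fin n ⊕ Fin n) F) *ᵥ p)
      ((g.1 : Matrix (Fin n ⊕ Fin n) (Fin n ⊕ Fin n) F) *ᵥ r) := by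
  show conjBy ((TG p r).subgroupOf _) g = _
  rw [conjBy_subgroupOf, conjBy_TG h g.2]
  rfl

theorem trichotomy_H (hi : Indep p r) (hi' : Indep p' r') (h : IsSL p r) (h' : IsSL p' r') :
    ⁅TH p r, TH p' r'⁆ = ⊥ ∨
      (IsRankOnePair (TH p r) (TH p' r') ∧ IsPSL2PairOver F (TH p r) (TH p' r')) ∨
      RootCommutatorCase (SigS n F) (TH p r) (TH p' r') := by
  rcases trichotomy hi hi' h h' with k | ⟨k1, k2⟩ | k
  · left; exact commutator_subgroupOf_eq_bot _ k
  · right; left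
    exact ⟨isRankOnePair_subgroupOf _ (TG_le_iso h) (TG_le_iso h') k1,
      isPSL2PairOver_subgroupOf _ (TG_le_iso h) (TG_le_iso h') k2⟩
  · right; right
    have := rootCommutatorCase_subgroupOf (IsoG n F) (TG_le_iso h) (TG_le_iso h') k
    rw [← SigS_eq_image] at this
    exact this

theorem SigS_comm : ∀ A ∈ SigS n F, IsMulCommutative A := by
  intro A hA
  obtain ⟨p, r, hi, h, rfl⟩ := (mem_SigS A).mp hA
  exact TH_comm h

theorem SigS_ne_bot : ∀ A ∈ SigS n F, A ≠ ⊥ := by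
  intro A hA
  obtain ⟨p, r, hi, h, rfl⟩ := (mem_SigS A).mp hA
  exact TH_ne_bot hi h

theorem SigS_conj : ∀ A ∈ SigS n F, ∀ g : ↥(IsoG n F), conjBy A g ∈ SigS n F := by
  intro A hA g
  obtain ⟨p, r, hi, h, rfl⟩ := (mem_SigS A).mp hA
  rw [conjBy_TH h]
  exact TH_mem (hi.map g.1) (h.map g.2)

theorem SigS_pair : ∀ A ∈ SigS n F, ∀ B ∈ SigS n F,
    ⁅A, B⁆ = ⊥ ∨ IsRankOnePair A B ∨ RootCommutatorCase (SigS n F) A B := by
  intro A hA B hB
  obtain ⟨p, r, hi, h, rfl⟩ := (mem_SigS A).mp hA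
  obtain ⟨p', r', hi', h', rfl⟩ := (mem_SigS B).mp hB
  rcases trichotomy_H hi hi' h h' with k | ⟨k1, _⟩ | k
  · left; exact k
  · right; left; exact k1
  · right; right; exact k

theorem SigS_K : ∀ A ∈ SigS n F, ∀ B ∈ SigS n F, IsRankOnePair A B → IsPSL2PairOver F A B := by
  intro A hA B hB hR
  obtain ⟨p, r, hi, h, rfl⟩ := (mem_SigS A).mp hA
  obtain ⟨p', r', hi', h', rfl⟩ := (mem_SigS B).mp hB
  rcases trichotomy_H hi hi' h h' with k | ⟨_, k2⟩ | k
  · exact absurd k (commutator_ne_bot_of_rankOne hR)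
  · exact k2
  · exfalso
    exact Cfsg.Agent.Lib.H6.SpRoot.not_commutatorCase SigS_ne_bot (Or.inr hR) k

theorem isKRoot_img_SigS : IsKRootSubgroupSet F (img (SigS n F)) :=
  isKRoot_img' SigS_comm SigS_ne_bot SigS_conj SigS_pair SigS_K

/-- opposite lines give an edge of the graph `𝓕` -/
theorem FAdj_of_det (hi : Indep p r) (hi' : Indep p' r') (h : IsSL p r) (h' : IsSL p' r')
    (hΔ : Bf p p' * Bf r r' - Bf p r' * Bf r p' ≠ 0) :
    FAdj (SigS n F) (TH p r) (TH p' r') := by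
  refine ⟨TH_mem hi h, TH_mem hi' h', ?_⟩
  exact isRankOnePair_subgroupOf _ (TG_le_iso h) (TG_le_iso h') (genB h h' rfl rfl rfl rfl hΔ).1

theorem TH_comb (h : IsSL p r) (a b c d : F) (hdet : a * d - b * c ≠ 0) :
    TH (a • p + b • r) (c • p + d • r) = TH p r := by
  show (TG _ _).subgroupOf _ = (TG _ _).subgroupOf _
  rw [TG_comb h a b c d hdet]

theorem TH_swap (h : IsSL p r) : TH r p = TH p r := by
  show (TG _ _).subgroupOf _ = (TG _ _).subgroupOf _
  rw [TG_swap h]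

end Cfsg.Agent.Lib.H6.Sg
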