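import Mathlib
import Cfsg.Prelude.Def_Classical
import Cfsg.Prelude.Def_RootSubgroups
import Cfsg.Agent.Lib.H6.SgRoot

set_option autoImplicit false
set_option linter.unusedSectionVars false
set_option linter.unusedSimpArgs false
set_option linter.unusedVariables false

/-! A common opposite line for two singular lines in special position (helper6). -/

namespace Cfsg.Agent.Lib.H6.Sg

open Matrix Cfsg Cfsg.Agent.Lib.H25 Cfsg.Agent.Lib.H6.RootSub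

variable {n : ℕ} {F : Type*} [Field F]
variable {a₁ b₁ a₂ b₂ : Fin n ⊕ Fin n → F}

/-- a common opposite line -/
theorem exists_common_opp (hi₁ : Indep a₁ b₁) (hi₂ : Indep a₂ b₂) (h₁ : IsSL a₁ b₁)
    (h₂ : IsSL a₂ b₂) (h12 : Bf a₁ a₂ = 0) (h1b : Bf a₁ b₂ = 0) (h2b : Bf a₂ b₁ = 0)
    (hi : Indep a₁ a₂) :
    ∃ u w : Fin n ⊕ Fin n → F, Indep u w ∧ IsSL u w ∧
      Bf a₁ u * Bf b₁ w - Bf a₁ w * Bf b₁ u ≠ 0 ∧
      Bf u a₂ * Bf w b₂ - Bf u b₂ * Bf w a₂ ≠ 0 := by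
  -- step 1
  obtain ⟨v, hv1, hv2, hv3⟩ : ∃ v, Bf v a₁ = 0 ∧ Bf v b₁ ≠ 0 ∧ Bf v a₂ ≠ 0 := by
    obtain ⟨v₁, h11, h12'⟩ := exists_Bf_eq hi₁ 0 1
    obtain ⟨v₂, h21, h22⟩ := exists_Bf_eq hi 0 1
    by_cases h3 : Bf v₁ a₂ = 0
    · by_cases h4 : Bf v₂ b₁ = 0
      · refine ⟨v₁ + v₂, ?_, ?_, ?_⟩
        · rw [Bf_add_left, h11, h21, add_zero]
        · rw [Bf_add_left, h12', h4, add_zero]; exact one_ne_zero
        · rw [Bf_add_left, h3, h22, zero_add]; exact one_ne_zero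
      · exact ⟨v₂, h21, h4, by rw [h22]; exact one_ne_zero⟩
    · exact ⟨v₁, h11, by rw [h12']; exact one_ne_zero, h3⟩
  -- step 2
  obtain ⟨u, hu⟩ : ∃ u, u = v - (Qf v / Bf v b₁) • b₁ := ⟨_, rfl⟩
  have hQu : Qf u = 0 := by rw [hu]; exact Qf_singularize v b₁ h₁.2.1 hv2
  have hu1 : Bf u a₁ = 0 := by
    rw [hu, Bf_sub_left, Bf_smul_left, hv1, h₁.Bf_right_left]; ring
  have hu2 : Bf u b₁ = Bf v b₁ := by
    rw [hu, Bf_sub_left, Bf_smul_left, h₁.Bf_self_right]; ring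
  have hu3 : Bf u a₂ = Bf v a₂ := by
    rw [hu, Bf_sub_left, Bf_smul_left, Bf_comm b₁ a₂, h2b]; ring
  have hu2' : Bf u b₁ ≠ 0 := by rw [hu2]; exact hv2
  have hu3' : Bf u a₂ ≠ 0 := by rw [hu3]; exact hv3
  -- step 3
  obtain ⟨x₂, hx₂⟩ : ∃ x₂, x₂ = Bf u a₂ • b₂ - Bf u b₂ • a₂ := ⟨_, rfl⟩
  have hux₂ : Bf u x₂ = 0 := by
    rw [hx₂, Bf_sub_right, Bf_smul_right, Bf_smul_right]; ring
  have ha₁x₂ : Bf a₁ x₂ = 0 := by
    rw [hx₂, Bf_sub_right, Bf_smul_right, Bf_smul_right, h12, h1b]; ring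
  have hx₂a₂ : Bf x₂ a₂ = 0 := by
    rw [hx₂, Bf_sub_left, Bf_smul_left, Bf_smul_left, h₂.Bf_right_left, h₂.Bf_self_left]; ring
  have hx₂0 : x₂ ≠ 0 := by
    intro h0
    have h1 : (-Bf u b₂) • a₂ + Bf u a₂ • b₂ = 0 := by
      rw [← h0, hx₂]; module
    exact hu3' (hi₂ _ _ h1).2
  obtain ⟨y, hy⟩ : ∃ y, y = (Bf u b₁)⁻¹ • b₁ := ⟨_, rfl⟩
  have hyu : Bf y u = 1 := by
    rw [hy, Bf_smul_left, Bf_comm b₁ u, inv_mul_cancel₀ hu2']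
  have hya₁ : Bf y a₁ = 0 := by
    rw [hy, Bf_smul_left, h₁.Bf_right_left, mul_zero]
  have hx₂' : x₂ - Bf y x₂ • u ≠ 0 := by
    intro h0
    have h1 : x₂ = Bf y x₂ • u := sub_eq_zero.mp h0
    have h2 : Bf x₂ a₂ = Bf y x₂ * Bf u a₂ := by
      conv_lhs => rw [h1]
      rw [Bf_smul_left]
    rw [hx₂a₂] at h2
    have h3 : Bf y x₂ = 0 := by
      rcases mul_eq_zero.mp h2.symm with h | h
      · exact h
      · exact absurd h hu3'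
    rw [h3, zero_smul] at h1
    exact hx₂0 h1
  obtain ⟨v', hv'1, hv'2⟩ := exists_both_ne hi₁.left_ne_zero hx₂'
  obtain ⟨w₀, hw₀⟩ : ∃ w₀, w₀ = v' - Bf v' u • y := ⟨_, rfl⟩
  have hw₀u : Bf w₀ u = 0 := by
    rw [hw₀, Bf_sub_left, Bf_smul_left, hyu]; ring
  have hw₀a₁ : Bf w₀ a₁ = Bf v' a₁ := by
    rw [hw₀, Bf_sub_left, Bf_smul_left, hya₁]; ring
  have hw₀x₂ : Bf w₀ x₂ = Bf v' (x₂ - Bf y x₂ • u) := by
    rw [hw₀, Bf_sub_left, Bf_smul_left, Bf_sub_right, Bf_smul_right]; ring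
  have hw₀a₁' : Bf w₀ a₁ ≠ 0 := by rw [hw₀a₁]; exact hv'1
  have hw₀x₂' : Bf w₀ x₂ ≠ 0 := by rw [hw₀x₂]; exact hv'2
  -- step 4
  obtain ⟨w, hw⟩ : ∃ w, w = w₀ - (Qf w₀ / Bf w₀ a₁) • a₁ := ⟨_, rfl⟩
  have hQw : Qf w = 0 := by rw [hw]; exact Qf_singularize w₀ a₁ h₁.1 hw₀a₁'
  have hwu : Bf w u = 0 := by
    rw [hw, Bf_sub_left, Bf_smul_left, hw₀u, Bf_comm a₁ u, hu1]; ring
  have hwa₁ : Bf w a₁ = Bf w₀ a₁ := by
    rw [hw, Bf_sub_left, Bf_smul_left, h₁.Bf_self_left]; ring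
  have hwx₂ : Bf w x₂ = Bf w₀ x₂ := by
    rw [hw, Bf_sub_left, Bf_smul_left, ha₁x₂]; ring
  have hwa₁' : Bf w a₁ ≠ 0 := by rw [hwa₁]; exact hw₀a₁'
  have hwx₂' : Bf w x₂ ≠ 0 := by rw [hwx₂]; exact hw₀x₂'
  refine ⟨u, w, ?_, ⟨hQu, hQw, by rw [Bf_comm]; exact hwu⟩, ?_, ?_⟩
  · intro α β hαβ
    have h1 : Bf (α • u + β • w) a₁ = 0 := by rw [hαβ, Bf_zero_left]
    rw [Bf_add_left, Bf_smul_left, Bf_smul_left, hu1, mul_zero, zero_add] at h1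
    have hβ : β = 0 := (mul_eq_zero.mp h1).resolve_right hwa₁'
    rw [hβ, zero_smul, add_zero] at hαβ
    have h2 : Bf (α • u) b₁ = 0 := by rw [hαβ, Bf_zero_left]
    rw [Bf_smul_left] at h2
    exact ⟨(mul_eq_zero.mp h2).resolve_right hu2', hβ⟩
  · rw [Bf_comm a₁ u, hu1, zero_mul, zero_sub, neg_ne_zero, Bf_comm a₁ w, Bf_comm b₁ u]
    exact mul_ne_zero hwa₁' hu2'
  · have : Bf u a₂ * Bf w b₂ - Bf u b₂ * Bf w a₂ = Bf w x₂ := by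
      rw [hx₂, Bf_sub_right, Bf_smul_right, Bf_smul_right]
    rw [this]
    exact hwx₂'

/-- two lines in special position are joined by a path of length two -/
theorem conn_special (hi₁ : Indep a₁ b₁) (hi₂ : Indep a₂ b₂) (h₁ : IsSL a₁ b₁)
    (h₂ : IsSL a₂ b₂) (h12 : Bf a₁ a₂ = 0) (h1b : Bf a₁ b₂ = 0) (h2b : Bf a₂ b₁ = 0)
    (hi : Indep a₁ a₂) :
    Relation.ReflTransGen (FAdj (SigS n F)) (TH a₁ b₁) (TH a₂ b₂) := by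
  obtain ⟨u, w, hiuw, huw, hd1, hd2⟩ := exists_common_opp hi₁ hi₂ h₁ h₂ h12 h1b h2b hi
  have e1 : FAdj (SigS n F) (TH a₁ b₁) (TH u w) := FAdj_of_det hi₁ hiuw h₁ huw hd1
  have e2 : FAdj (SigS n F) (TH u w) (TH a₂ b₂) := FAdj_of_det hiuw hi₂ huw h₂ hd2
  exact Relation.ReflTransGen.trans (Relation.ReflTransGen.single e1)
    (Relation.ReflTransGen.single e2)

end Cfsg.Agent.Lib.H6.Sg
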