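import Mathlib
import Cfsg.Prelude.Def_Classical
import Cfsg.Agent.Lib.H6.SgMat

set_option autoImplicit false
set_option linter.unusedSectionVars false
set_option linter.unusedSimpArgs false
set_option linter.unusedVariables false

/-! A singular vector orthogonal to a singular line and outside it, for Witt index at least 3
(helper6). -/

namespace Cfsg.Agent.Lib.H6.Sg

open Matrix

variable {n : ℕ} {F : Type*} [Field F]

theorem exists_ker (hn : 3 ≤ n) (φ₁ φ₂ : Fin n → F) :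
    ∃ μ : Fin n → F, μ ≠ 0 ∧ μ ⬝ᵥ φ₁ = 0 ∧ μ ⬝ᵥ φ₂ = 0 := by
  let f : (Fin n → F) →ₗ[F] (Fin 2 → F) := Matrix.mulVecLin (Matrix.of ![φ₁, φ₂])
  have hni : ¬ Function.Injective f := by
    intro hinj
    have := LinearMap.finrank_le_finrank_of_injective hinj
    rw [Module.finrank_fin_fun, Module.finrank_fin_fun] at this
    omega
  rw [← LinearMap.ker_eq_bot, Submodule.eq_bot_iff] at hni
  push Not at hni
  obtain ⟨μ, hμ, hμ0⟩ := hni
  have h0 := congrFun (LinearMap.mem_ker.mp hμ) 0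
  have h1 := congrFun (LinearMap.mem_ker.mp hμ) 1
  refine ⟨μ, hμ0, ?_, ?_⟩
  · rw [dotProduct_comm]
    simpa [f, Matrix.mulVec] using h0
  · rw [dotProduct_comm]
    simpa [f, Matrix.mulVec] using h1

theorem exists_dot_eq_one {μ : Fin n → F} (hμ : μ ≠ 0) : ∃ τ : Fin n → F, μ ⬝ᵥ τ = 1 := by
  have : ∃ i, μ i ≠ 0 := by
    by_contra hcon
    push Not at hcon
    exact hμ (funext hcon)
  obtain ⟨i, hi⟩ := this
  refine ⟨Pi.single i (μ i)⁻¹, ?_⟩
  rw [dotProduct_single, mul_inv_cancel₀ hi]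

/-- a vector in the hyperplane `φ^⊥` outside the line `⟨μ⟩`. -/
theorem exists_ker_not_smul (hn : 3 ≤ n) (φ μ : Fin n → F) :
    ∃ μ' : Fin n → F, μ' ⬝ᵥ φ = 0 ∧ ∀ c : F, μ' ≠ c • μ := by
  by_cases hμ : μ = 0
  · obtain ⟨μ', h0, h1, -⟩ := exists_ker hn φ φ
    refine ⟨μ', h1, ?_⟩
    intro c hc
    rw [hμ, smul_zero] at hc
    exact h0 hc
  · obtain ⟨τ, hτ⟩ := exists_dot_eq_one hμ
    obtain ⟨μ', h0, h1, h2⟩ := exists_ker hn φ τ
    refine ⟨μ', h1, ?_⟩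
    intro c hc
    rw [hc, smul_dotProduct, hτ, smul_eq_mul, mul_one] at h2
    rw [h2, zero_smul] at hc
    exact h0 hc

/-- the vector supported on the first half -/
def inlV (μ : Fin n → F) : Fin n ⊕ Fin n → F := Sum.elim μ 0

/-- the vector supported on the second half -/
def inrV (ν : Fin n → F) : Fin n ⊕ Fin n → F := Sum.elim 0 ν

theorem Qf_inlV (μ : Fin n → F) : Qf (inlV μ) = 0 := by
  simp [Qf_eq_sum, inlV]

theorem Qf_inrV (ν : Fin n → F) : Qf (inrV ν) = 0 := by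
  simp [Qf_eq_sum, inrV]

theorem Bf_inlV (μ : Fin n → F) (z : Fin n ⊕ Fin n → F) :
    Bf (inlV μ) z = μ ⬝ᵥ (z ∘ Sum.inr) := by
  rw [Bf_eq_sum, dotProduct]
  simp [inlV]

theorem Bf_inrV (ν : Fin n → F) (z : Fin n ⊕ Fin n → F) :
    Bf (inrV ν) z = ν ⬝ᵥ (z ∘ Sum.inl) := by
  rw [Bf_eq_sum, dotProduct]
  simp [inrV]

theorem inlV_ne_zero {μ : Fin n → F} (hμ : μ ≠ 0) : inlV μ ≠ 0 := by
  intro h
  apply hμ
  funext i
  have := congrFun h (Sum.inl i)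
  simpa [inlV] using this

theorem inrV_ne_zero {ν : Fin n → F} (hν : ν ≠ 0) : inrV ν ≠ 0 := by
  intro h
  apply hν
  funext i
  have := congrFun h (Sum.inr i)
  simpa [inrV] using this

theorem exists_singular_perp (hn : 3 ≤ n) {x p : Fin n ⊕ Fin n → F} (hi : Indep x p)
    (h : IsSL x p) :
    ∃ z : Fin n ⊕ Fin n → F, Qf z = 0 ∧ Bf z x = 0 ∧ Bf z p = 0 ∧ ∀ s t : F, z ≠ s • x + t • p := by
  obtain ⟨μ, hμ0, hμ1, hμ2⟩ := exists_ker hn (x ∘ Sum.inr) (p ∘ Sum.inr)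
  by_cases hA : ∀ s t : F, inlV μ ≠ s • x + t • p
  · exact ⟨inlV μ, Qf_inlV μ, by rw [Bf_inlV]; exact hμ1, by rw [Bf_inlV]; exact hμ2, hA⟩
  push Not at hA
  obtain ⟨s, t, hst⟩ := hA
  obtain ⟨ν, hν0, hν1, hν2⟩ := exists_ker hn (x ∘ Sum.inl) (p ∘ Sum.inl)
  by_cases hB : ∀ s t : F, inrV ν ≠ s • x + t • p
  · exact ⟨inrV ν, Qf_inrV ν, by rw [Bf_inrV]; exact hν1, by rw [Bf_inrV]; exact hν2, hB⟩
  push Not at hB
  obtain ⟨s', t', hst'⟩ := hB
  -- components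
  have hμψ : μ = s • (x ∘ Sum.inl) + t • (p ∘ Sum.inl) := by
    funext i
    have := congrFun hst (Sum.inl i)
    simpa [inlV] using this
  have hφ : s • (x ∘ Sum.inr) + t • (p ∘ Sum.inr) = 0 := by
    funext i
    have := congrFun hst (Sum.inr i)
    simpa [inlV] using this.symm
  have hψ : s' • (x ∘ Sum.inl) + t' • (p ∘ Sum.inl) = 0 := by
    funext i
    have := congrFun hst' (Sum.inl i)
    simpa [inrV] using this.symm
  have hst0 : ¬ (s = 0 ∧ t = 0) := by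
    rintro ⟨rfl, rfl⟩
    apply inlV_ne_zero hμ0
    rw [hst]; simp
  have hst0' : ¬ (s' = 0 ∧ t' = 0) := by
    rintro ⟨rfl, rfl⟩
    apply inrV_ne_zero hν0
    rw [hst']; simp
  -- the effective functional
  obtain ⟨φ, hφ1, hφ2⟩ : ∃ φ : Fin n → F, (∀ μ' : Fin n → F, μ' ⬝ᵥ φ = 0 → μ' ⬝ᵥ (x ∘ Sum.inr) = 0) ∧
      (∀ μ' : Fin n → F, μ' ⬝ᵥ φ = 0 → μ' ⬝ᵥ (p ∘ Sum.inr) = 0) := by
    by_cases hs : s = 0
    · have ht : t ≠ 0 := fun ht => hst0 ⟨hs, ht⟩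
      have hp0 : p ∘ Sum.inr = 0 := by
        rw [hs, zero_smul, zero_add] at hφ
        exact (smul_eq_zero.mp hφ).resolve_left ht
      refine ⟨x ∘ Sum.inr, fun μ' h => h, fun μ' _ => ?_⟩
      rw [hp0, dotProduct_zero]
    · have hx : x ∘ Sum.inr = (-(t / s)) • (p ∘ Sum.inr) := by
        have h1 : s • (x ∘ Sum.inr) = -(t • (p ∘ Sum.inr)) := eq_neg_of_add_eq_zero_left hφ
        calc x ∘ Sum.inr = s⁻¹ • (s • (x ∘ Sum.inr)) := by
              rw [smul_smul, inv_mul_cancel₀ hs, one_smul]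
          _ = (-(t / s)) • (p ∘ Sum.inr) := by
              rw [h1, smul_neg, smul_smul, neg_smul]; congr 2; field_simp
      refine ⟨p ∘ Sum.inr, fun μ' h => ?_, fun μ' h => h⟩
      rw [hx, dotProduct_smul, h, smul_zero]
  obtain ⟨μ', hμ'1, hμ'2⟩ := exists_ker_not_smul hn φ μ
  refine ⟨inlV μ', Qf_inlV μ', by rw [Bf_inlV]; exact hφ1 μ' hμ'1,
    by rw [Bf_inlV]; exact hφ2 μ' hμ'1, ?_⟩
  intro s'' t'' hz
  have hμ'ψ : μ' = s'' • (x ∘ Sum.inl) + t'' • (p ∘ Sum.inl) := by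
    funext i
    have := congrFun hz (Sum.inl i)
    simpa [inlV] using this
  by_cases ht' : t' = 0
  · have hs' : s' ≠ 0 := fun hs' => hst0' ⟨hs', ht'⟩
    have hx0 : x ∘ Sum.inl = 0 := by
      rw [ht', zero_smul, add_zero] at hψ
      exact (smul_eq_zero.mp hψ).resolve_left hs'
    rw [hx0, smul_zero, zero_add] at hμψ hμ'ψ
    have ht0 : t ≠ 0 := by
      rintro rfl
      rw [zero_smul] at hμψ
      exact hμ0 hμψ
    apply hμ'2 (t'' / t)
    rw [hμ'ψ, hμψ, smul_smul, div_mul_cancel₀ _ ht0]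
  · have hp : p ∘ Sum.inl = (-(s' / t')) • (x ∘ Sum.inl) := by
      have h1 : t' • (p ∘ Sum.inl) = -(s' • (x ∘ Sum.inl)) := eq_neg_of_add_eq_zero_right hψ
      calc p ∘ Sum.inl = t'⁻¹ • (t' • (p ∘ Sum.inl)) := by
            rw [smul_smul, inv_mul_cancel₀ ht', one_smul]
        _ = (-(s' / t')) • (x ∘ Sum.inl) := by
            rw [h1, smul_neg, smul_smul, neg_smul]; congr 2; field_simp
    rw [hp, smul_smul, ← add_smul] at hμψ hμ'ψ
    have hk0 : s + t * -(s' / t') ≠ 0 := by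
      intro hk
      rw [hk, zero_smul] at hμψ
      exact hμ0 hμψ
    apply hμ'2 ((s'' + t'' * -(s' / t')) / (s + t * -(s' / t')))
    rw [hμ'ψ, hμψ, smul_smul, div_mul_cancel₀ _ hk0]

end Cfsg.Agent.Lib.H6.Sg
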