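import Mathlib
import Cfsg.Prelude.Def_Classical
import Cfsg.Prelude.Def_RootSubgroups
import Cfsg.Agent.Lib.H6.SgOpp
import Cfsg.Agent.Lib.H6.SgZ

set_option autoImplicit false
set_option linter.unusedSectionVars false
set_option linter.unusedSimpArgs false
set_option linter.unusedVariables false

/-! Connectedness of the graph of opposite singular lines (helper6). -/

namespace Cfsg.Agent.Lib.H6.Sg

open Matrix Cfsg Cfsg.Agent.Lib.H25 Cfsg.Agent.Lib.H6.RootSub

variable {n : ℕ} {F : Type*} [Field F]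
variable {p r p' r' : Fin n ⊕ Fin n → F}

theorem TH_newbasis (h : IsSL p r) {a : F} (ha : a ≠ 0) (c : F) :
    TH (c • p + (-a) • r) p = TH p r := by
  show (TG _ _).subgroupOf _ = (TG _ _).subgroupOf _
  rw [TG_newbasis h ha]

/-- a vector dependent on a nonzero vector `x` is orthogonal to what `x` is orthogonal to -/
theorem Bf_of_not_indep {x x' z : Fin n ⊕ Fin n → F} (hx : x ≠ 0) (hn : ¬ Indep x x')
    (hz : Bf z x = 0) : Bf z x' = 0 := by
  unfold Indep at hn
  push Not at hn
  obtain ⟨α, β, hαβ, hne⟩ := hn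
  have hβ : β ≠ 0 := by
    intro hβ
    rw [hβ, zero_smul, add_zero] at hαβ
    have hα : α = 0 := (smul_eq_zero.mp hαβ).resolve_right hx
    exact hne hα hβ
  have h1 : Bf z (α • x + β • x') = 0 := by rw [hαβ, Bf_zero_right]
  rw [Bf_add_right, Bf_smul_right, Bf_smul_right, hz, mul_zero, zero_add] at h1
  exact (mul_eq_zero.mp h1).resolve_left hβ

theorem connC (hn : 3 ≤ n) (hi : Indep p r) (hi' : Indep p' r') (h : IsSL p r) (h' : IsSL p' r')
    {a b c d : F} (ha : Bf p p' = a) (hb : Bf p r' = b) (hc : Bf r p' = c) (hd : Bf r r' = d)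
    (ha0 : a ≠ 0) (hdet : a * d = b * c) :
    Relation.ReflTransGen (FAdj (SigS n F)) (TH p r) (TH p' r') := by
  obtain ⟨x, hx⟩ : ∃ x, x = c • p + (-a) • r := ⟨_, rfl⟩
  obtain ⟨x', hx'⟩ : ∃ x', x' = b • p' + (-a) • r' := ⟨_, rfl⟩
  have hSx : IsSL x p := by rw [hx]; exact isSL_newbasis h a c
  have hSx' : IsSL x' p' := by rw [hx']; exact isSL_newbasis h' a b
  have hIx : Indep x p := by rw [hx]; exact indep_newbasis hi ha0 c
  have hIx' : Indep x' p' := by rw [hx']; exact indep_newbasis hi' ha0 b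
  have hTx : TH x p = TH p r := by rw [hx]; exact TH_newbasis h ha0 c
  have hTx' : TH x' p' = TH p' r' := by rw [hx']; exact TH_newbasis h' ha0 b
  have g00 : Bf x x' = 0 := by rw [hx, hx']; exact genC_00 h h' ha hb hc hd hdet
  have g01 : Bf x p' = 0 := by rw [hx]; exact genC_01 h h' ha hb hc hd hdet
  have g10 : Bf p x' = 0 := by rw [hx']; exact genC_10 h h' ha hb hc hd hdet
  have g10' : Bf x' p = 0 := by rw [Bf_comm]; exact g10
  rw [← hTx, ← hTx']
  by_cases hxx' : Indep x x'
  · exact conn_special hIx hIx' hSx hSx' g00 g01 g10' hxx'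
  · obtain ⟨z, hQz, hzx, hzp, hz⟩ := exists_singular_perp hn hIx hSx
    have hSzp : IsSL z p := ⟨hQz, h.1, hzp⟩
    have hSpz : IsSL p z := hSzp.symm
    have hIzp : Indep z p := by
      intro α β hαβ
      by_cases hα : α = 0
      · rw [hα, zero_smul, zero_add] at hαβ
        exact ⟨hα, (smul_eq_zero.mp hαβ).resolve_right hIx.right_ne_zero⟩
      · exfalso
        apply hz 0 (-(β / α))
        have h1 : α • z = -(β • p) := eq_neg_of_add_eq_zero_left hαβ
        calc z = α⁻¹ • (α • z) := by rw [smul_smul, inv_mul_cancel₀ hα, one_smul]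
          _ = (0 : F) • x + (-(β / α)) • p := by
              rw [h1, smul_neg, smul_smul, zero_smul, zero_add, neg_smul]; congr 2; field_simp
    have hIxz : Indep x z := by
      intro α β hαβ
      by_cases hβ : β = 0
      · rw [hβ, zero_smul, add_zero] at hαβ
        exact ⟨(smul_eq_zero.mp hαβ).resolve_right hIx.left_ne_zero, hβ⟩
      · exfalso
        apply hz (-(α / β)) 0
        have h1 : β • z = -(α • x) := eq_neg_of_add_eq_zero_right hαβ
        calc z = β⁻¹ • (β • z) := by rw [smul_smul, inv_mul_cancel₀ hβ, one_smul]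
          _ = (-(α / β)) • x + (0 : F) • p := by
              rw [h1, smul_neg, smul_smul, zero_smul, add_zero, neg_smul]; congr 2; field_simp
    have path1 : Relation.ReflTransGen (FAdj (SigS n F)) (TH x p) (TH z p) :=
      conn_special hIx hIzp hSx hSzp (by rw [Bf_comm]; exact hzx) hSx.2.2 hzp hIxz
    have hzx' : Bf z x' = 0 := Bf_of_not_indep hIx.left_ne_zero hxx' hzx
    -- second path
    obtain ⟨a₁, ha₁⟩ : ∃ a₁, a₁ = Bf z p' • p + (-a) • z := ⟨_, rfl⟩
    have hSa₁ : IsSL a₁ p := by rw [ha₁]; exact isSL_newbasis hSpz a _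
    have hIa₁ : Indep a₁ p := by rw [ha₁]; exact indep_newbasis hIzp.symm ha0 _
    have hTa₁ : TH a₁ p = TH p z := by rw [ha₁]; exact TH_newbasis hSpz ha0 _
    have k12 : Bf a₁ x' = 0 := by
      rw [ha₁, Bf_add_left, Bf_smul_left, Bf_smul_left, g10, hzx']; ring
    have k1b : Bf a₁ p' = 0 := by
      rw [ha₁, Bf_add_left, Bf_smul_left, Bf_smul_left, ha]; ring
    have hIa₁x' : Indep a₁ x' := by
      intro α β hαβ
      by_cases hα : α = 0
      · rw [hα, zero_smul, zero_add] at hαβ
        exact ⟨hα, (smul_eq_zero.mp hαβ).resolve_right hIx'.left_ne_zero⟩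
      · exfalso
        -- x' is a multiple of x
        have hxx'' := hxx'
        unfold Indep at hxx''
        push Not at hxx''
        obtain ⟨α₀, β₀, h0, hne0⟩ := hxx''
        have hβ₀ : β₀ ≠ 0 := by
          intro hβ
          rw [hβ, zero_smul, add_zero] at h0
          exact hne0 ((smul_eq_zero.mp h0).resolve_right hIx.left_ne_zero) hβ
        have hx'eq : x' = (-(α₀ / β₀)) • x := by
          have h1 : β₀ • x' = -(α₀ • x) := eq_neg_of_add_eq_zero_right h0
          calc x' = β₀⁻¹ • (β₀ • x') := by rw [smul_smul, inv_mul_cancel₀ hβ₀, one_smul]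
            _ = (-(α₀ / β₀)) • x := by
                rw [h1, smul_neg, smul_smul, neg_smul]; congr 2; field_simp
        rw [ha₁, hx'eq] at hαβ
        have hαa : α * a ≠ 0 := mul_ne_zero hα ha0
        apply hz ((β * -(α₀ / β₀)) / (α * a)) (Bf z p' / a)
        have h2 : (α * a) • z = (β * -(α₀ / β₀)) • x + (α * Bf z p') • p := by
          have : (α * a) • z = (α * a) • z + (α • (Bf z p' • p + (-a) • z) + β • (-(α₀ / β₀)) • x) := by
            rw [hαβ, add_zero]
          rw [this]; module
        calc z = (α * a)⁻¹ • ((α * a) • z) := by rw [smul_smul, inv_mul_cancel₀ hαa, one_smul]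
          _ = _ := by
              rw [h2, smul_add, smul_smul, smul_smul]
              congr 2 <;> field_simp
    have path2 : Relation.ReflTransGen (FAdj (SigS n F)) (TH a₁ p) (TH x' p') :=
      conn_special hIa₁ hIx' hSa₁ hSx' k12 k1b g10' hIa₁x'
    rw [hTa₁, TH_swap hSzp] at path2
    exact Relation.ReflTransGen.trans path1 path2

theorem indep_or (hi' : Indep p' r') {p : Fin n ⊕ Fin n → F} (hp : p ≠ 0) :
    Indep p p' ∨ Indep p r' := by
  by_contra hcon
  push Not at hcon
  obtain ⟨h1, h2⟩ := hcon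
  have key : ∀ y : Fin n ⊕ Fin n → F, ¬ Indep p y → ∃ κ : F, y = κ • p := by
    intro y hy
    unfold Indep at hy
    push Not at hy
    obtain ⟨α, β, h0, hne⟩ := hy
    have hβ : β ≠ 0 := by
      intro hβ
      rw [hβ, zero_smul, add_zero] at h0
      exact hne ((smul_eq_zero.mp h0).resolve_right hp) hβ
    refine ⟨-(α / β), ?_⟩
    have h1 : β • y = -(α • p) := eq_neg_of_add_eq_zero_right h0
    calc y = β⁻¹ • (β • y) := by rw [smul_smul, inv_mul_cancel₀ hβ, one_smul]
      _ = (-(α / β)) • p := by rw [h1, smul_neg, smul_smul, neg_smul]; congr 2; field_simp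
  obtain ⟨κ, hκ⟩ := key p' h1
  obtain ⟨κ', hκ'⟩ := key r' h2
  have h3 : κ' • p' + (-κ) • r' = 0 := by
    rw [hκ, hκ']; module
  obtain ⟨h4, h5⟩ := hi' _ _ h3
  have : κ = 0 := by linear_combination -h5
  rw [this, zero_smul] at hκ
  exact hi'.left_ne_zero hκ

theorem conn_zero (hi : Indep p r) (hi' : Indep p' r') (h : IsSL p r) (h' : IsSL p' r')
    (h00 : Bf p p' = 0) (h01 : Bf p r' = 0) (h10 : Bf r p' = 0) (h11 : Bf r r' = 0) :
    Relation.ReflTransGen (FAdj (SigS n F)) (TH p r) (TH p' r') := by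
  rcases indep_or hi' hi.left_ne_zero with k | k
  · exact conn_special hi hi' h h' h00 h01 (by rw [Bf_comm]; exact h10) k
  · rw [← TH_swap h']
    exact conn_special hi hi'.symm h h'.symm h01 h00 (by rw [Bf_comm]; exact h11) k

theorem conn_all (hn : 3 ≤ n) : IsConnectedFamily (FAdj (SigS n F)) (SigS n F) := by
  intro A hA B hB
  obtain ⟨p, r, hi, h, rfl⟩ := (mem_SigS A).mp hA
  obtain ⟨p', r', hi', h', rfl⟩ := (mem_SigS B).mp hB
  by_cases hΔ : Bf p p' * Bf r r' - Bf p r' * Bf r p' = 0
  · have hdet : Bf p p' * Bf r r' = Bf p r' * Bf r p' := sub_eq_zero.mp hΔ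
    by_cases ha0 : Bf p p' = 0
    · by_cases hb0 : Bf p r' = 0
      · by_cases hc0 : Bf r p' = 0
        · by_cases hd0 : Bf r r' = 0
          · exact conn_zero hi hi' h h' ha0 hb0 hc0 hd0
          · have key := connC hn hi.symm hi'.symm h.symm h'.symm (a := Bf r r') (b := Bf r p')
              (c := Bf p r') (d := Bf p p') rfl rfl rfl rfl hd0 (by rw [mul_comm, hdet, mul_comm])
            rw [TH_swap h, TH_swap h'] at key
            exact key
        · have key := connC hn hi.symm hi' h.symm h' (a := Bf r p') (b := Bf r r')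
            (c := Bf p p') (d := Bf p r') rfl rfl rfl rfl hc0 (by rw [mul_comm, ← hdet, mul_comm])
          rw [TH_swap h] at key
          exact key
      · have key := connC hn hi hi'.symm h h'.symm (a := Bf p r') (b := Bf p p')
          (c := Bf r r') (d := Bf r p') rfl rfl rfl rfl hb0 (by rw [← hdet])
        rw [TH_swap h'] at key
        exact key
    · exact connC hn hi hi' h h' rfl rfl rfl rfl ha0 hdet
  · exact Relation.ReflTransGen.single (FAdj_of_det hi hi' h h' hΔ)

end Cfsg.Agent.Lib.H6.Sg
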