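import Mathlib
import Cfsg.Prelude.Def_RootSubgroups
import Cfsg.Agent.Lib.H6.SpRootSet

set_option autoImplicit false
set_option linter.unusedSectionVars false
set_option linter.unusedSimpArgs false
set_option linter.unusedVariables false

/-! Rank one pairs of symplectic transvection groups are images of `SL₂(F)` (helper6). -/

namespace Cfsg.Agent.Lib.H6.SpRoot

open Matrix Cfsg Cfsg.Agent.Lib.H4 Cfsg.Agent.Lib.H2.Sp Cfsg.Agent.Lib.H25
open Cfsg.Agent.Lib.H25.SL2 Cfsg.Agent.Lib.H6.RootGrp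

variable {F : Type*} [Field F] {m : ℕ}

local notation "V" => (Fin m ⊕ Fin m → F)
local notation "Spm" => Matrix.symplecticGroup (Fin m) F

theorem J_dot (p r : V) : (Matrix.J (Fin m) F *ᵥ p) ⬝ᵥ r = Cfsg.sympForm m F r p := by
  rw [dotProduct_comm]; rfl

section embSp


theorem hRL_sp {p r : V} (h : Cfsg.sympForm m F p r ≠ 0) :
    Rmat (Matrix.J (Fin m) F *ᵥ p) (Matrix.J (Fin m) F *ᵥ r) ((Matrix.J (Fin m) F *ᵥ p) ⬝ᵥ r) ((Matrix.J (Fin m) F *ᵥ r) ⬝ᵥ p) * Lmat p r = 1 := by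
  apply Rmat_mul_Lmat
  · rw [J_dot, sympForm_self]
  · rw [J_dot, sympForm_self]
  · rw [J_dot, sympForm_swap, neg_ne_zero]; exact h
  · rw [J_dot]; exact h

/-- the monoid hom `SL₂ → matrices` -/
noncomputable def Phi0 {p r : V} (h : Cfsg.sympForm m F p r ≠ 0) :
    SpecialLinearGroup (Fin 2) F →* Matrix (Fin m ⊕ Fin m) (Fin m ⊕ Fin m) F :=
  SpecialLinearGroup.coeMonoidHom.comp (emb _ _ (hRL_sp h))

theorem Phi0_up {p r : V} (h : Cfsg.sympForm m F p r ≠ 0) (t : F) : Phi0 h (up t) = (tv m p (t * ((Matrix.J (Fin m) F *ᵥ p) ⬝ᵥ r)⁻¹)).1 := by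
  show (emb _ _ (hRL_sp h) (up t)).1 = _
  rw [emb_up]
  rfl

theorem Phi0_lo {p r : V} (h : Cfsg.sympForm m F p r ≠ 0) (t : F) : Phi0 h (lo t) = (tv m r (t * ((Matrix.J (Fin m) F *ᵥ r) ⬝ᵥ p)⁻¹)).1 := by
  show (emb _ _ (hRL_sp h) (lo t)).1 = _
  rw [emb_lo]
  rfl

/-- the elements of `SL₂` mapped into the symplectic group -/
def pre {p r : V} (h : Cfsg.sympForm m F p r ≠ 0) : Subgroup (SpecialLinearGroup (Fin 2) F) where
  carrier := {g | Phi0 h g ∈ Matrix.symplecticGroup (Fin m) F}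
  one_mem' := by
    show Phi0 h 1 ∈ Matrix.symplecticGroup (Fin m) F
    rw [map_one]; exact Submonoid.one_mem _
  mul_mem' := by
    intro a b ha hb
    show Phi0 h (a * b) ∈ Matrix.symplecticGroup (Fin m) F
    rw [map_mul]; exact Submonoid.mul_mem _ ha hb
  inv_mem' := by
    intro g hg
    show Phi0 h g⁻¹ ∈ Matrix.symplecticGroup (Fin m) F
    set s : Spm := ⟨Phi0 h g, hg⟩ with hs
    have h1 : Phi0 h g⁻¹ * Phi0 h g = 1 := by rw [← map_mul, inv_mul_cancel, map_one]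
    have h2 : (s : Matrix (Fin m ⊕ Fin m) (Fin m ⊕ Fin m) F) *
        ((s⁻¹ : Spm) : Matrix (Fin m ⊕ Fin m) (Fin m ⊕ Fin m) F) = 1 := by
      rw [← Submonoid.coe_mul, mul_inv_cancel]; rfl
    have h3 : Phi0 h g⁻¹ = ((s⁻¹ : Spm) : Matrix (Fin m ⊕ Fin m) (Fin m ⊕ Fin m) F) := by
      calc Phi0 h g⁻¹ = Phi0 h g⁻¹ * ((s : Matrix (Fin m ⊕ Fin m) (Fin m ⊕ Fin m) F) *
            ((s⁻¹ : Spm) : Matrix (Fin m ⊕ Fin m) (Fin m ⊕ Fin m) F)) := by rw [h2, mul_one]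
        _ = (Phi0 h g⁻¹ * Phi0 h g) * ((s⁻¹ : Spm) : Matrix (Fin m ⊕ Fin m) (Fin m ⊕ Fin m) F) := by
            rw [mul_assoc]
        _ = _ := by rw [h1, one_mul]
    rw [h3]
    exact (s⁻¹).2

theorem pre_eq_top {p r : V} (h : Cfsg.sympForm m F p r ≠ 0) : pre h = ⊤ := by
  rw [eq_top_iff, ← Cfsg.Agent.S5016.sup_eq_top]
  apply sup_le
  · intro g hg
    rw [eq_lo_of_mem hg]
    show Phi0 h (lo _) ∈ Matrix.symplecticGroup (Fin m) F
    rw [Phi0_lo h]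
    exact (tv m r _).2
  · intro g hg
    rw [eq_up_of_mem hg]
    show Phi0 h (up _) ∈ Matrix.symplecticGroup (Fin m) F
    rw [Phi0_up h]
    exact (tv m p _).2

/-- the homomorphism `SL₂(F) → Sp` -/
noncomputable def Phi {p r : V} (h : Cfsg.sympForm m F p r ≠ 0) : SpecialLinearGroup (Fin 2) F →* Spm :=
  (Phi0 h).codRestrict (Matrix.symplecticGroup (Fin m) F) (fun g => by
    have : g ∈ pre h := by rw [pre_eq_top h]; trivial
    exact this)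

theorem Phi_val {p r : V} (h : Cfsg.sympForm m F p r ≠ 0) (g : SpecialLinearGroup (Fin 2) F) : (Phi h g).1 = Phi0 h g := rfl

theorem Phi_up {p r : V} (h : Cfsg.sympForm m F p r ≠ 0) (t : F) : Phi h (up t) = tv m p (t * ((Matrix.J (Fin m) F *ᵥ p) ⬝ᵥ r)⁻¹) := by
  apply Subtype.ext
  rw [Phi_val, Phi0_up h]

theorem Phi_lo {p r : V} (h : Cfsg.sympForm m F p r ≠ 0) (t : F) : Phi h (lo t) = tv m r (t * ((Matrix.J (Fin m) F *ᵥ r) ⬝ᵥ p)⁻¹) := by
  apply Subtype.ext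
  rw [Phi_val, Phi0_lo h]

theorem Phi_ker {p r : V} (h : Cfsg.sympForm m F p r ≠ 0) : (Phi h).ker = ⊥ := by
  rw [eq_bot_iff]
  intro g hg
  rw [MonoidHom.mem_ker] at hg
  have h1 : (Phi h g).1 = 1 := by rw [hg]; rfl
  rw [Phi_val h] at h1
  have h2 : emb _ _ (hRL_sp h) g = 1 := by
    apply Subtype.ext
    exact h1
  have h3 : g ∈ (emb _ _ (hRL_sp h)).ker := h2
  rw [emb_ker] at h3
  exact h3

theorem isPSL2Pair_sp {p r : V} (h : Cfsg.sympForm m F p r ≠ 0) : IsPSL2PairOver F (TP p) (TP r) := by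
  have hα : (Matrix.J (Fin m) F *ᵥ p) ⬝ᵥ r ≠ 0 := by rw [J_dot, sympForm_swap, neg_ne_zero]; exact h
  have hβ : (Matrix.J (Fin m) F *ᵥ r) ⬝ᵥ p ≠ 0 := by rw [J_dot]; exact h
  have hup : (upperUnipotentSL2 F).map (Phi h) = TP p := by
    apply le_antisymm
    · rintro _ ⟨g, hg, rfl⟩
      rw [eq_up_of_mem hg, Phi_up h]
      exact tv_mem p _
    · rintro x ⟨c, rfl⟩
      refine ⟨up (c * ((Matrix.J (Fin m) F *ᵥ p) ⬝ᵥ r)), up_mem _, ?_⟩
      rw [Phi_up h, mul_assoc, mul_inv_cancel₀ hα, mul_one]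
  have hlo : (lowerUnipotentSL2 F).map (Phi h) = TP r := by
    apply le_antisymm
    · rintro _ ⟨g, hg, rfl⟩
      rw [eq_lo_of_mem hg, Phi_lo h]
      exact tv_mem r _
    · rintro x ⟨c, rfl⟩
      refine ⟨lo (c * ((Matrix.J (Fin m) F *ᵥ r) ⬝ᵥ p)), lo_mem _, ?_⟩
      rw [Phi_lo h, mul_assoc, mul_inv_cancel₀ hβ, mul_one]
  refine ⟨Phi h, ?_, ?_, hup, hlo⟩
  · rw [MonoidHom.range_eq_map, ← Cfsg.Agent.S5016.sup_eq_top, Subgroup.map_sup, hup, hlo, sup_comm]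
  · rw [Phi_ker h]; exact bot_le

end embSp

theorem isKRoot : IsKRootSubgroupSet F (SigSp F m) := by
  refine ⟨isRootSubgroupSet, ?_⟩
  intro A hA B hB hR
  obtain ⟨p, hp, rfl⟩ := (mem_SigSp A).mp hA
  obtain ⟨r, hr, rfl⟩ := (mem_SigSp B).mp hB
  have h : Cfsg.sympForm m F p r ≠ 0 := by
    intro h0
    have hc := tv_commute h0 (1 : F) (1 : F)
    exact tv_ne_one hr one_ne_zero
      (RankOne.eq_one_of_commute hR (tv_mem p 1) (tv_ne_one hp one_ne_zero) (tv_mem r 1) hc)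
  exact isPSL2Pair_sp h

theorem main (hne : ∃ p : V, p ≠ 0) :
    IsRootSubgroupClass (SigSp F m) ∧ IsDegenerateRootSet (SigSp F m) ∧
    IsKRootSubgroupSet F (SigSp F m) ∧ IsConnectedFamily (FAdj (SigSp F m)) (SigSp F m) :=
  ⟨isRootSubgroupClass hne, isDegenerate, isKRoot, isConnected⟩

end Cfsg.Agent.Lib.H6.SpRoot
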