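/-
S5658 farm-out (helper10), task **P0**: reduction of the subfield subgroups of `SU_n(q)` to the
standard rational structure (`P = 1`), via an orthonormal basis of the `F₀`-hermitian Gram form.
-/
import Mathlib
import Cfsg.Agent.Lib.H10.SuB
import Cfsg.Agent.Lib.H10.SfH
import Cfsg.Agent.Lib.H4.Herm
import Cfsg.Agent.S0755

set_option autoImplicit false
set_option linter.unusedSectionVars false
set_option linter.unusedVariables false

namespace Cfsg.Agent.Lib.H6.SuSub

open Matrix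
open Cfsg.Agent.S0837 (Bs Bs_apply Bs_symm Bs_nondeg)
open Cfsg.Agent.S0782 (Bs_eq_herm)
open Cfsg.Agent.Lib.H10.Su (N₁ mem_GU_iff)

variable {F : Type*} [Field F] [Fintype F] {n q : ℕ}

/-- for `[F : F₀]` odd the map `x ↦ x ^ q` (`|F| = q²`) does not fix `F₀` pointwise -/
theorem exists_pow_ne (hF : Fintype.card F = q ^ 2) {F₀ : Subfield F} {r : ℕ} (hro : Odd r)
    (hcard : Fintype.card F = Nat.card F₀ ^ r) : ∃ ω ∈ F₀, ω ^ q ≠ ω := by
  by_contra hcon
  push Not at hcon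
  obtain ⟨p, hp⟩ := CharP.exists F
  obtain ⟨k0, hpprime, hcardF⟩ := FiniteField.card F p
  set k : ℕ := (k0 : ℕ) with hkdef
  have hq : q ∣ p ^ k := ⟨q, by rw [← hcardF, hF, sq]⟩
  obtain ⟨b, hbk, hqb⟩ := (Nat.dvd_prime_pow hpprime).1 hq
  have hr0 : r ≠ 0 := by
    rintro rfl
    exact absurd hro (by decide)
  have h0 : Nat.card F₀ ∣ p ^ k := by
    rw [← hcardF, hcard]; exact dvd_pow_self _ hr0
  obtain ⟨a, hak, h0a⟩ := (Nat.dvd_prime_pow hpprime).1 h0
  have e1 : a * r = 2 * b := by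
    have : p ^ (a * r) = p ^ (2 * b) := by
      rw [pow_mul, ← h0a, ← hcard, hF, hqb, ← pow_mul, mul_comm]
    exact Nat.pow_right_injective hpprime.two_le this
  have hone : 1 < Nat.card F₀ := Finite.one_lt_card
  have ha : 0 < a := by
    rcases Nat.eq_zero_or_pos a with h | h
    · rw [h, pow_zero] at h0a
      omega
    · exact h
  have hq0 : 0 < q := by
    rcases Nat.eq_zero_or_pos q with h | h
    · rw [h] at hF
      have : 0 < Fintype.card F := Fintype.card_pos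
      simp at hF
    · exact h
  -- a generator of the multiplicative group of `F₀`
  obtain ⟨g, hg⟩ := IsCyclic.exists_generator (α := (↥F₀)ˣ)
  have hord : orderOf g = Nat.card F₀ - 1 := by
    rw [orderOf_eq_card_of_forall_mem_zpowers hg, Nat.card_units]
  have hgq : g ^ (q - 1) = 1 := by
    have h1 : ((g : ↥F₀) : F) ^ q = ((g : ↥F₀) : F) := hcon _ (g : ↥F₀).2
    have h2 : g ^ q = g := by
      apply Units.ext
      apply Subtype.ext
      rw [Units.val_pow_eq_pow_val, SubmonoidClass.coe_pow]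
      exact h1
    have h3 : g ^ (q - 1) * g = 1 * g := by
      rw [← pow_succ, Nat.sub_add_cancel hq0, h2, one_mul]
    exact mul_right_cancel h3
  have hdvd : p ^ a - 1 ∣ p ^ b - 1 := by
    rw [← h0a, ← hqb, ← hord]; exact orderOf_dvd_of_pow_eq_one hgq
  have hgcd : Nat.gcd (p ^ a - 1) (p ^ b - 1) = p ^ a - 1 := Nat.gcd_eq_left hdvd
  rw [Nat.pow_sub_one_gcd_pow_sub_one] at hgcd
  have hpp : p ^ Nat.gcd a b = p ^ a := by
    have h1 : 1 ≤ p ^ Nat.gcd a b := Nat.one_le_pow _ _ hpprime.pos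
    have h2 : 1 ≤ p ^ a := Nat.one_le_pow _ _ hpprime.pos
    omega
  have hab : Nat.gcd a b = a := Nat.pow_right_injective hpprime.two_le hpp
  have hdiv : a ∣ b := by
    rw [← hab]; exact Nat.gcd_dvd_right a b
  obtain ⟨j, rfl⟩ := hdiv
  have hr2 : r = 2 * j := by
    have : a * r = a * (2 * j) := by rw [e1]; ring
    exact Nat.eq_of_mul_eq_mul_left ha this
  rw [hr2] at hro
  exact absurd hro (by simp)

/-! ### vectors over the subfield -/

variable {F₀ : Subfield F}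

/-- coordinatewise coercion -/
def cv (u : Fin n → F₀) : Fin n → F := fun i => (u i : F)

theorem cv_add (u v : Fin n → F₀) : cv (u + v) = cv u + cv v := by
  funext i; simp [cv]

theorem cv_smul (c : F₀) (u : Fin n → F₀) : cv (c • u) = (c : F) • cv u := by
  funext i; simp [cv]

theorem cv_rat (u : Fin n → F₀) : ∀ i, cv u i ∈ F₀ := fun i => (u i).2

theorem cv_single (j : Fin n) : cv (Pi.single j (1 : F₀)) = Pi.single j (1 : F) := by
  funext i
  by_cases h : i = j
  · subst h; simp [cv]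
  · simp [cv, Pi.single_eq_of_ne h]

theorem cv_eq_zero {u : Fin n → F₀} (h : cv u = 0) : u = 0 := by
  funext i
  apply Subtype.ext
  exact congrFun h i

section form
variable (φ : F →+* F)

/-- the restriction of `φ` to the subfield -/
def sig (hφ : ∀ x, φ x = x ^ q) (F₀ : Subfield F) : F₀ →+* F₀ :=
  (φ.comp F₀.subtype).codRestrict F₀ (fun x => by
    show φ (x : F) ∈ F₀
    rw [hφ]; exact F₀.pow_mem x.2 q)

theorem sig_coe (hφ : ∀ x, φ x = x ^ q) (x : F₀) : ((sig φ hφ F₀ x : F₀) : F) = φ (x : F) := rfl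

theorem form_mem (hφ : ∀ x, φ x = x ^ q) (P : GL (Fin n) F)
    (hP : Cfsg.Geo.IsFormRationalStructure (Cfsg.hermForm n F q) F₀ 1 P) (u v : Fin n → F₀) :
    Bs φ n ((P : Matrix (Fin n) (Fin n) F) *ᵥ cv u) ((P : Matrix (Fin n) (Fin n) F) *ᵥ cv v) ∈ F₀ := by
  rw [Bs_eq_herm φ hφ]
  have := hP (cv v) (cv u) (cv_rat v) (cv_rat u)
  rwa [one_mul] at this

/-- the `F₀`-hermitian Gram form of the columns of `P` -/
def gram (hφ : ∀ x, φ x = x ^ q) (P : GL (Fin n) F)
    (hP : Cfsg.Geo.IsFormRationalStructure (Cfsg.hermForm n F q) F₀ 1 P) :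
    (Fin n → F₀) →ₛₗ[sig φ hφ F₀] (Fin n → F₀) →ₗ[F₀] F₀ :=
  LinearMap.mk₂'ₛₗ (sig φ hφ F₀) (RingHom.id F₀)
    (fun u v => ⟨Bs φ n ((P : Matrix (Fin n) (Fin n) F) *ᵥ cv u)
      ((P : Matrix (Fin n) (Fin n) F) *ᵥ cv v), form_mem φ hφ P hP u v⟩)
    (fun u u' v => by
      apply Subtype.ext
      simp only [cv_add, Matrix.mulVec_add, map_add, LinearMap.add_apply, Subfield.coe_add])
    (fun c u v => by
      apply Subtype.ext
      simp only [cv_smul, Matrix.mulVec_smul, LinearMap.map_smulₛₗ, LinearMap.smul_apply,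
        smul_eq_mul, Subfield.coe_mul, sig_coe])
    (fun u v v' => by
      apply Subtype.ext
      simp only [cv_add, Matrix.mulVec_add, map_add, Subfield.coe_add])
    (fun c u v => by
      apply Subtype.ext
      simp only [cv_smul, Matrix.mulVec_smul, map_smul, smul_eq_mul, Subfield.coe_mul,
        RingHom.id_apply])

theorem gram_apply (hφ : ∀ x, φ x = x ^ q) (P : GL (Fin n) F)
    (hP : Cfsg.Geo.IsFormRationalStructure (Cfsg.hermForm n F q) F₀ 1 P) (u v : Fin n → F₀) :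
    ((gram φ hφ P hP u v : F₀) : F) =
      Bs φ n ((P : Matrix (Fin n) (Fin n) F) *ᵥ cv u) ((P : Matrix (Fin n) (Fin n) F) *ᵥ cv v) := by
  rw [gram, LinearMap.mk₂'ₛₗ_apply]

theorem gram_symm (hφ : ∀ x, φ x = x ^ q) (hφ2 : ∀ x, φ (φ x) = x) (P : GL (Fin n) F)
    (hP : Cfsg.Geo.IsFormRationalStructure (Cfsg.hermForm n F q) F₀ 1 P) :
    (gram φ hφ P hP).IsSymm := by
  refine ⟨fun u v => ?_⟩
  apply Subtype.ext
  rw [sig_coe, gram_apply, gram_apply]
  exact (Bs_symm φ hφ2 n).eq _ _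

theorem gram_sepLeft (hφ : ∀ x, φ x = x ^ q) (hφ2 : ∀ x, φ (φ x) = x) (P : GL (Fin n) F)
    (hP : Cfsg.Geo.IsFormRationalStructure (Cfsg.hermForm n F q) F₀ 1 P) :
    (gram φ hφ P hP).SeparatingLeft := by
  intro x hx
  apply cv_eq_zero
  set X : Fin n → F := (P : Matrix (Fin n) (Fin n) F) *ᵥ cv x with hX
  -- the functional `y ↦ B(X, P y)` vanishes on the standard basis, hence everywhere
  have hL : (Bs φ n X) ∘ₗ (Matrix.mulVecLin (P : Matrix (Fin n) (Fin n) F)) = 0 := by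
    apply (Pi.basisFun F (Fin n)).ext
    intro j
    rw [Pi.basisFun_apply, LinearMap.comp_apply, Matrix.mulVecLin_apply, LinearMap.zero_apply]
    have := hx (Pi.single j 1)
    have h2 : ((gram φ hφ P hP x (Pi.single j 1) : F₀) : F) = ((0 : F₀) : F) := by rw [this]
    rw [gram_apply, cv_single] at h2
    exact h2
  have hX0 : X = 0 := by
    apply (Bs_nondeg φ n).1
    intro z
    have hz : z = (P : Matrix (Fin n) (Fin n) F) *ᵥ
        (((P⁻¹ : GL (Fin n) F) : Matrix (Fin n) (Fin n) F) *ᵥ z) := by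
      rw [Matrix.mulVec_mulVec, ← Units.val_mul, mul_inv_cancel, Units.val_one, Matrix.one_mulVec]
    rw [hz]
    have := LinearMap.congr_fun hL (((P⁻¹ : GL (Fin n) F) : Matrix (Fin n) (Fin n) F) *ᵥ z)
    rw [LinearMap.comp_apply, Matrix.mulVecLin_apply, LinearMap.zero_apply] at this
    exact this
  have : cv x = ((P⁻¹ : GL (Fin n) F) : Matrix (Fin n) (Fin n) F) *ᵥ X := by
    rw [hX, Matrix.mulVec_mulVec, ← Units.val_mul, inv_mul_cancel, Units.val_one,
      Matrix.one_mulVec]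
  rw [this, hX0, Matrix.mulVec_zero]

theorem gram_nondeg (hφ : ∀ x, φ x = x ^ q) (hφ2 : ∀ x, φ (φ x) = x) (P : GL (Fin n) F)
    (hP : Cfsg.Geo.IsFormRationalStructure (Cfsg.hermForm n F q) F₀ 1 P) :
    (gram φ hφ P hP).Nondegenerate := by
  refine ⟨gram_sepLeft φ hφ hφ2 P hP, ?_⟩
  intro y hy
  apply gram_sepLeft φ hφ hφ2 P hP
  intro x
  rw [← (gram_symm φ hφ hφ2 P hP).eq x y, hy x, map_zero]

end form

/-- **adapted basis**: a rational change of basis `C₀` making `P C₀` unitary -/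
theorem exists_adapted (hF : Fintype.card F = q ^ 2) {r : ℕ} (hro : Odd r)
    (hcard : Fintype.card F = Nat.card F₀ ^ r) (P : GL (Fin n) F)
    (hP : Cfsg.Geo.IsFormRationalStructure (Cfsg.hermForm n F q) F₀ 1 P) :
    ∃ C₀ : GL (Fin n) F₀,
      P * Matrix.GeneralLinearGroup.map (F₀.subtype : F₀ →+* F) C₀ ∈ Cfsg.GU n F q := by
  obtain ⟨φ, hφ, hφ2⟩ := Cfsg.Agent.Lib.H4.exists_frob hF
  -- the involution of the subfield
  have hσ : sig φ hφ F₀ ≠ RingHom.id F₀ := by
    obtain ⟨ω, hω, hne⟩ := exists_pow_ne hF hro hcard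
    intro h
    apply hne
    have := congrArg (fun t : F₀ => (t : F)) (RingHom.congr_fun h ⟨ω, hω⟩)
    simp only [RingHom.id_apply] at this
    rw [sig_coe, hφ] at this
    exact this
  have hσ2 : ∀ a : F₀, sig φ hφ F₀ (sig φ hφ F₀ a) = a := by
    intro a
    apply Subtype.ext
    rw [sig_coe, sig_coe, hφ2]
  obtain ⟨b, hb⟩ := Cfsg.Agent.S0755.result (sig φ hφ F₀) hσ hσ2 (gram φ hφ P hP)
    (gram_symm φ hφ hφ2 P hP) (gram_nondeg φ hφ hφ2 P hP)
  have hfin : Module.finrank F₀ (Fin n → F₀) = n := Module.finrank_fin_fun F₀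
  set b' : Module.Basis (Fin n) F₀ (Fin n → F₀) := b.reindex (finCongr hfin) with hb'
  have hbb : ∀ i j, gram φ hφ P hP (b' i) (b' j) = if i = j then 1 else 0 := by
    intro i j
    rw [hb', Module.Basis.reindex_apply, Module.Basis.reindex_apply, hb]
    by_cases hij : i = j
    · subst hij; simp
    · rw [if_neg hij, if_neg]
      intro h
      exact hij ((finCongr hfin).symm.injective h)
  set A₀ : Matrix (Fin n) (Fin n) F₀ := (Pi.basisFun F₀ (Fin n)).toMatrix b' with hA₀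
  have hA₀app : ∀ i j, A₀ i j = b' j i := by
    intro i j
    rw [hA₀, Module.Basis.toMatrix_apply, Pi.basisFun_repr]
  letI : Invertible A₀ := (Pi.basisFun F₀ (Fin n)).invertibleToMatrix b'
  have hdet : A₀.det ≠ 0 := (Matrix.isUnit_det_of_invertible A₀).ne_zero
  set C₀ : GL (Fin n) F₀ := Matrix.GeneralLinearGroup.mkOfDetNeZero A₀ hdet with hC₀
  refine ⟨C₀, ?_⟩
  set C : GL (Fin n) F := Matrix.GeneralLinearGroup.map (F₀.subtype : F₀ →+* F) C₀ with hC
  have hCapp : ∀ i j, (C : Matrix (Fin n) (Fin n) F) i j = ((b' j i : F₀) : F) := by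
    intro i j
    rw [← hA₀app]
    rfl
  have hCe : ∀ j, (C : Matrix (Fin n) (Fin n) F) *ᵥ Pi.single j 1 = cv (b' j) := by
    intro j
    funext i
    rw [Matrix.mulVec_single_one]
    exact hCapp i j
  rw [mem_GU_iff φ hφ]
  -- compare two sesquilinear maps on the standard basis
  set R : Matrix (Fin n) (Fin n) F := ((P * C : GL (Fin n) F) : Matrix (Fin n) (Fin n) F) with hR
  have hRe : ∀ j, R *ᵥ Pi.single j 1 = (P : Matrix (Fin n) (Fin n) F) *ᵥ cv (b' j) := by
    intro j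
    rw [hR, Units.val_mul, ← Matrix.mulVec_mulVec, hCe]
  have hext : ((Bs φ n).comp (Matrix.mulVecLin R)).compl₂ (Matrix.mulVecLin R) = Bs φ n := by
    apply LinearMap.ext_basis (Pi.basisFun F (Fin n)) (Pi.basisFun F (Fin n))
    intro i j
    rw [LinearMap.compl₂_apply, LinearMap.comp_apply, Pi.basisFun_apply, Pi.basisFun_apply,
      Matrix.mulVecLin_apply, Matrix.mulVecLin_apply, hRe, hRe, ← gram_apply φ hφ P hP, hbb,
      Bs_apply]
    by_cases hij : i = j
    · subst hij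
      simp [Pi.single_apply]
    · rw [if_neg hij]
      have : ∑ x, (Pi.single j (1 : F) : Fin n → F) x * φ ((Pi.single i (1 : F) : Fin n → F) x) = 0 := by
        apply Finset.sum_eq_zero
        intro x _
        by_cases hx : x = j
        · subst hx
          rw [Pi.single_eq_of_ne (Ne.symm hij), map_zero, mul_zero]
        · rw [Pi.single_eq_of_ne hx, zero_mul]
      rw [this]
      simp
  intro u v
  have := LinearMap.congr_fun₂ hext u v
  rw [LinearMap.compl₂_apply, LinearMap.comp_apply, Matrix.mulVecLin_apply,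
    Matrix.mulVecLin_apply] at this
  exact this

/-! ### transport of maximality -/

theorem map_conj_eq_self {G : Type*} [Group G] (S : Subgroup G) {c : G} (hc : c ∈ S) :
    S.map (MulAut.conj c).toMonoidHom = S := by
  ext x
  constructor
  · rintro ⟨g, hg, rfl⟩
    exact S.mul_mem (S.mul_mem hc hg) (S.inv_mem hc)
  · intro hx
    refine ⟨c⁻¹ * x * c, S.mul_mem (S.mul_mem (S.inv_mem hc) hx) hc, ?_⟩
    show c * (c⁻¹ * x * c) * c⁻¹ = x
    group

theorem subfieldSubgroup_mul_map (P : GL (Fin n) F) (C₀ : GL (Fin n) F₀) :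
    Cfsg.Geo.subfieldSubgroup F₀
      (P * Matrix.GeneralLinearGroup.map (F₀.subtype : F₀ →+* F) C₀) =
    Cfsg.Geo.subfieldSubgroup F₀ P := by
  unfold Cfsg.Geo.subfieldSubgroup
  have hc : Matrix.GeneralLinearGroup.map (F₀.subtype : F₀ →+* F) C₀ ∈
      (Matrix.GeneralLinearGroup.map (F₀.subtype : F₀ →+* F)).range ⊔
        Cfsg.Geo.scalars (Fin n) F :=
    Subgroup.mem_sup_left ⟨C₀, rfl⟩
  have h1 : (MulAut.conj (P * Matrix.GeneralLinearGroup.map (F₀.subtype : F₀ →+* F) C₀)).toMonoidHom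
      = (MulAut.conj P).toMonoidHom.comp
        (MulAut.conj (Matrix.GeneralLinearGroup.map (F₀.subtype : F₀ →+* F) C₀)).toMonoidHom := by
    ext x
    simp [MulAut.conj_apply, mul_assoc]
  rw [h1, ← Subgroup.map_map, map_conj_eq_self _ hc]

theorem subfieldSubgroup_eq_map_one (P : GL (Fin n) F) :
    Cfsg.Geo.subfieldSubgroup F₀ P =
      (Cfsg.Geo.subfieldSubgroup F₀ (1 : GL (Fin n) F)).map (MulAut.conj P).toMonoidHom := by
  unfold Cfsg.Geo.subfieldSubgroup
  rw [map_one]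
  congr 1
  exact (Subgroup.map_id _).symm

theorem map_conj_su (R : GL (Fin n) F) (hR : R ∈ Cfsg.GU n F q) :
    (Cfsg.GU n F q ⊓ Cfsg.Geo.specialLinear (Fin n) F).map (MulAut.conj R).toMonoidHom =
      Cfsg.GU n F q ⊓ Cfsg.Geo.specialLinear (Fin n) F := by
  have hnormal : (Cfsg.Geo.specialLinear (Fin n) F).Normal := by
    unfold Cfsg.Geo.specialLinear; infer_instance
  apply le_antisymm
  · rintro _ ⟨x, hx, rfl⟩
    obtain ⟨hx1, hx2⟩ := Subgroup.mem_inf.1 hx
    refine Subgroup.mem_inf.2 ⟨?_, ?_⟩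
    · exact (Cfsg.GU n F q).mul_mem ((Cfsg.GU n F q).mul_mem hR hx1) ((Cfsg.GU n F q).inv_mem hR)
    · exact hnormal.conj_mem x hx2 R
  · intro x hx
    obtain ⟨hx1, hx2⟩ := Subgroup.mem_inf.1 hx
    refine ⟨R⁻¹ * x * R, Subgroup.mem_inf.2 ⟨?_, ?_⟩, ?_⟩
    · exact (Cfsg.GU n F q).mul_mem ((Cfsg.GU n F q).mul_mem ((Cfsg.GU n F q).inv_mem hR) hx1) hR
    · have := hnormal.conj_mem x hx2 R⁻¹
      rwa [inv_inv] at this
    · show R * (R⁻¹ * x * R) * R⁻¹ = x
      group

/-- **P0** reduction to the standard rational structure. -/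
theorem maximal_of_one (hF : Fintype.card F = q ^ 2) {F₀ : Subfield F} {r : ℕ} (hro : Odd r)
    (hcard : Fintype.card F = Nat.card F₀ ^ r) (P : GL (Fin n) F)
    (hP : Cfsg.Geo.IsFormRationalStructure (Cfsg.hermForm n F q) F₀ 1 P)
    (h1 : Cfsg.Geo.IsMaximalIn (Cfsg.GU n F q ⊓ Cfsg.Geo.specialLinear (Fin n) F) (N₁ n q F₀)) :
    Cfsg.Geo.IsMaximalIn (Cfsg.GU n F q ⊓ Cfsg.Geo.specialLinear (Fin n) F)
      (Cfsg.Geo.subfieldSubgroup F₀ P ⊓
        (Cfsg.GU n F q ⊓ Cfsg.Geo.specialLinear (Fin n) F)) := by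
  obtain ⟨C₀, hC₀⟩ := exists_adapted hF hro hcard P hP
  set R : GL (Fin n) F := P * Matrix.GeneralLinearGroup.map (F₀.subtype : F₀ →+* F) C₀ with hR
  have h2 := Cfsg.Agent.Lib.H10.Sf.isMaximalIn_map (MulAut.conj R) h1
  have hK := map_conj_su R hC₀
  have hH : (N₁ n q F₀).map (MulAut.conj R).toMonoidHom =
      Cfsg.Geo.subfieldSubgroup F₀ P ⊓
        (Cfsg.GU n F q ⊓ Cfsg.Geo.specialLinear (Fin n) F) := by
    unfold N₁
    rw [Subgroup.map_inf _ _ _ (MulAut.conj R).injective, hK, ← subfieldSubgroup_eq_map_one, hR,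
      subfieldSubgroup_mul_map]
  rw [hK, hH] at h2
  exact h2

end Cfsg.Agent.Lib.H6.SuSub
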