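/-
S5658 farm-out (helper10), task **P4**: the point argument on the standard isotropic vectors.
An invertible matrix mapping every point `⟨e_i + ζ e_j⟩` (three values of `ζ ∈ F₀`) to a rational
point is a scalar multiple of a rational matrix.
-/
import Mathlib
import Cfsg.Agent.Lib.H10.SuB
import Cfsg.Agent.Lib.H10.SfH

set_option autoImplicit false
set_option linter.unusedSectionVars false
set_option linter.unusedVariables false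

namespace Cfsg.Agent.Lib.H6.SuSub

open Matrix
open Cfsg.Agent.Lib.H10.Sf (IsRat)
open Cfsg.Agent.Lib.H10.Su (yv)

variable {F : Type*} [Field F] {n : ℕ} {F₀ : Subfield F}

/-- vanishing `2 × 2` minors force proportionality -/
theorem exists_smul_of_minors {r₁ r₂ : Fin n → F} (h1 : r₁ ≠ 0)
    (h : ∀ s t, r₁ s * r₂ t = r₁ t * r₂ s) : ∃ c : F, r₂ = c • r₁ := by
  obtain ⟨s, hs⟩ : ∃ s, r₁ s ≠ 0 := by
    by_contra hcon
    push Not at hcon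
    exact h1 (funext hcon)
  refine ⟨r₂ s / r₁ s, funext fun t => ?_⟩
  rw [Pi.smul_apply, smul_eq_mul, div_mul_eq_mul_div, eq_div_iff hs]
  linear_combination h s t

/-- two scalars making the same non-zero vector rational differ by an element of `F₀` -/
theorem ratio_mem {w : Fin n → F} (hw : w ≠ 0) {l l' : F} (hl : l ≠ 0) (hl' : l' ≠ 0)
    (h : IsRat F₀ (l⁻¹ • w)) (h' : IsRat F₀ (l'⁻¹ • w)) : l' * l⁻¹ ∈ F₀ := by
  obtain ⟨s, hs⟩ : ∃ s, w s ≠ 0 := by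
    by_contra hcon
    push Not at hcon
    exact hw (funext hcon)
  have h1 : l⁻¹ * w s ∈ F₀ := h s
  have h2 : l'⁻¹ * w s ∈ F₀ := h' s
  have h3 : l' * l⁻¹ = (l⁻¹ * w s) * (l'⁻¹ * w s)⁻¹ := by
    field_simp
  rw [h3]
  exact F₀.mul_mem h1 (F₀.inv_mem h2)

/-- **the pair argument** -/
theorem pair_rat {u v : Fin n → F} (hind : ∀ a b : F, a • u + b • v = 0 → a = 0 ∧ b = 0)
    {ζ₁ ζ₂ ζ₃ : F} (h₁ : ζ₁ ∈ F₀) (h₂ : ζ₂ ∈ F₀) (h₃ : ζ₃ ∈ F₀) (h₁₂ : ζ₁ ≠ ζ₂) (h₁₃ : ζ₁ ≠ ζ₃)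
    (h₂₃ : ζ₂ ≠ ζ₃)
    (h : ∀ ζ : F, (ζ = ζ₁ ∨ ζ = ζ₂ ∨ ζ = ζ₃) →
      ∃ (l : F) (r : Fin n → F), IsRat F₀ r ∧ u + ζ • v = l • r) :
    ∃ l : F, l ≠ 0 ∧ IsRat F₀ (l⁻¹ • u) ∧ IsRat F₀ (l⁻¹ • v) := by
  obtain ⟨l₁, r₁, hr₁, e₁⟩ := h ζ₁ (Or.inl rfl)
  obtain ⟨l₂, r₂, hr₂, e₂⟩ := h ζ₂ (Or.inr (Or.inl rfl))
  obtain ⟨l₃, r₃, hr₃, e₃⟩ := h ζ₃ (Or.inr (Or.inr rfl))
  have hne : ∀ ζ : F, u + ζ • v ≠ 0 := by
    intro ζ h0
    have := hind 1 ζ (by rw [one_smul]; exact h0)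
    exact one_ne_zero this.1
  have hl₁ : l₁ ≠ 0 := by
    rintro rfl
    rw [zero_smul] at e₁
    exact hne ζ₁ e₁
  have hl₂ : l₂ ≠ 0 := by
    rintro rfl
    rw [zero_smul] at e₂
    exact hne ζ₂ e₂
  have hl₃ : l₃ ≠ 0 := by
    rintro rfl
    rw [zero_smul] at e₃
    exact hne ζ₃ e₃
  have hd : ζ₁ - ζ₂ ≠ 0 := sub_ne_zero.2 h₁₂
  have hd13 : ζ₁ - ζ₃ ≠ 0 := sub_ne_zero.2 h₁₃
  have hd32 : ζ₃ - ζ₂ ≠ 0 := sub_ne_zero.2 (Ne.symm h₂₃)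
  have hr₁0 : r₁ ≠ 0 := by
    rintro rfl
    rw [smul_zero] at e₁
    exact hne ζ₁ e₁
  -- a non-zero minor
  obtain ⟨s, t, hD⟩ : ∃ s t, r₁ s * r₂ t - r₁ t * r₂ s ≠ 0 := by
    by_contra hcon
    push Not at hcon
    obtain ⟨c, hc⟩ := exists_smul_of_minors hr₁0 (fun s t => sub_eq_zero.1 (hcon s t))
    -- `u + ζ₂ v = κ (u + ζ₁ v)`
    have e : u + ζ₂ • v = (l₂ * c * l₁⁻¹) • (u + ζ₁ • v) := by
      rw [e₂, e₁, hc, smul_smul, smul_smul]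
      congr 1
      field_simp
    have e' : (1 - l₂ * c * l₁⁻¹) • u + (ζ₂ - l₂ * c * l₁⁻¹ * ζ₁) • v = 0 := by
      have : (1 - l₂ * c * l₁⁻¹) • u + (ζ₂ - l₂ * c * l₁⁻¹ * ζ₁) • v =
          (u + ζ₂ • v) - (l₂ * c * l₁⁻¹) • (u + ζ₁ • v) := by
        rw [sub_smul, sub_smul, one_smul, smul_add, smul_smul]
        abel
      rw [this, ← e, sub_self]
    obtain ⟨k1, k2⟩ := hind _ _ e'
    have hκ : l₂ * c * l₁⁻¹ = 1 := (sub_eq_zero.1 k1).symm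
    rw [hκ, one_mul] at k2
    exact h₁₂ (sub_eq_zero.1 k2).symm
  set D : F := r₁ s * r₂ t - r₁ t * r₂ s with hDdef
  have hDmem : D ∈ F₀ :=
    F₀.sub_mem (F₀.mul_mem (hr₁ s) (hr₂ t)) (F₀.mul_mem (hr₁ t) (hr₂ s))
  -- the third point in terms of the first two
  set α : F := (ζ₃ - ζ₂) * (ζ₁ - ζ₂)⁻¹ with hα
  set β : F := (ζ₁ - ζ₃) * (ζ₁ - ζ₂)⁻¹ with hβ
  have hαmem : α ∈ F₀ := F₀.mul_mem (F₀.sub_mem h₃ h₂) (F₀.inv_mem (F₀.sub_mem h₁ h₂))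
  have hβmem : β ∈ F₀ := F₀.mul_mem (F₀.sub_mem h₁ h₃) (F₀.inv_mem (F₀.sub_mem h₁ h₂))
  have hα0 : α ≠ 0 := mul_ne_zero hd32 (inv_ne_zero hd)
  have hβ0 : β ≠ 0 := mul_ne_zero hd13 (inv_ne_zero hd)
  have hab : α + β = 1 := by
    rw [hα, hβ]; field_simp; ring
  have hab' : α * ζ₁ + β * ζ₂ = ζ₃ := by
    rw [hα, hβ]; field_simp; ring
  have e₃' : α • (l₁ • r₁) + β • (l₂ • r₂) = l₃ • r₃ := by
    rw [← e₁, ← e₂, ← e₃, smul_add, smul_add, smul_smul, smul_smul]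
    have : α • u + (α * ζ₁) • v + (β • u + (β * ζ₂) • v) = (α + β) • u + (α * ζ₁ + β * ζ₂) • v := by
      rw [add_smul, add_smul]; abel
    rw [this, hab, hab', one_smul]
  have cs := congrFun e₃' s
  have ct := congrFun e₃' t
  simp only [Pi.add_apply, Pi.smul_apply, smul_eq_mul] at cs ct
  have k1 : α * l₁ * D = l₃ * (r₃ s * r₂ t - r₃ t * r₂ s) := by
    rw [hDdef]; linear_combination r₂ t * cs - r₂ s * ct
  have k2 : β * l₂ * D = l₃ * (r₁ s * r₃ t - r₁ t * r₃ s) := by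
    rw [hDdef]; linear_combination r₁ s * ct - r₁ t * cs
  have hlam : l₁ * l₃⁻¹ ∈ F₀ := by
    have : l₁ * l₃⁻¹ = (r₃ s * r₂ t - r₃ t * r₂ s) * (α * D)⁻¹ := by
      field_simp
      linear_combination k1
    rw [this]
    exact F₀.mul_mem (F₀.sub_mem (F₀.mul_mem (hr₃ s) (hr₂ t)) (F₀.mul_mem (hr₃ t) (hr₂ s)))
      (F₀.inv_mem (F₀.mul_mem hαmem hDmem))
  have hmu : l₂ * l₃⁻¹ ∈ F₀ := by
    have : l₂ * l₃⁻¹ = (r₁ s * r₃ t - r₁ t * r₃ s) * (β * D)⁻¹ := by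
      field_simp
      linear_combination k2
    rw [this]
    exact F₀.mul_mem (F₀.sub_mem (F₀.mul_mem (hr₁ s) (hr₃ t)) (F₀.mul_mem (hr₁ t) (hr₃ s)))
      (F₀.inv_mem (F₀.mul_mem hβmem hDmem))
  -- `v` and `u`
  have hv : l₃⁻¹ • v = (ζ₁ - ζ₂)⁻¹ • ((l₁ * l₃⁻¹) • r₁ - (l₂ * l₃⁻¹) • r₂) := by
    have h1 : (ζ₁ - ζ₂) • v = l₁ • r₁ - l₂ • r₂ := by
      rw [← e₁, ← e₂, sub_smul]; abel
    have h2 : v = (ζ₁ - ζ₂)⁻¹ • (l₁ • r₁ - l₂ • r₂) := by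
      rw [← h1, smul_smul, inv_mul_cancel₀ hd, one_smul]
    conv_lhs => rw [h2]
    rw [smul_comm, smul_sub, smul_smul, smul_smul, mul_comm l₃⁻¹ l₁, mul_comm l₃⁻¹ l₂]
  have hvrat : IsRat F₀ (l₃⁻¹ • v) := by
    rw [hv]
    exact ((hr₁.smul hlam).sub (hr₂.smul hmu)).smul (F₀.inv_mem (F₀.sub_mem h₁ h₂))
  have hu : l₃⁻¹ • u = r₃ - ζ₃ • (l₃⁻¹ • v) := by
    have h1 : u = l₃ • r₃ - ζ₃ • v := by rw [← e₃]; abel
    conv_lhs => rw [h1]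
    rw [smul_sub, smul_smul, inv_mul_cancel₀ hl₃, one_smul, smul_comm]
  refine ⟨l₃, hl₃, ?_, hvrat⟩
  rw [hu]
  exact hr₃.sub (hvrat.smul h₃)

/-- **P4** the point argument on the standard isotropic vectors. -/
theorem mem_subfield_of_std_pts [Fintype F] (hn : 2 ≤ n) {F₀ : Subfield F} {ζ₁ ζ₂ ζ₃ : F}
    (h₁ : ζ₁ ∈ F₀)
    (h₂ : ζ₂ ∈ F₀) (h₃ : ζ₃ ∈ F₀) (h₁₂ : ζ₁ ≠ ζ₂) (h₁₃ : ζ₁ ≠ ζ₃) (h₂₃ : ζ₂ ≠ ζ₃)
    (g : GL (Fin n) F)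
    (hg : ∀ (i j : Fin n) (ζ : F), i ≠ j → (ζ = ζ₁ ∨ ζ = ζ₂ ∨ ζ = ζ₃) →
      ∃ (l : F) (r : Fin n → F), IsRat F₀ r ∧
        (g : Matrix (Fin n) (Fin n) F) *ᵥ yv i j ζ = l • r) :
    g ∈ Cfsg.Geo.subfieldSubgroup F₀ (1 : GL (Fin n) F) := by
  -- columns
  set col : Fin n → (Fin n → F) := fun j => (g : Matrix (Fin n) (Fin n) F) *ᵥ Pi.single j 1
    with hcol
  have hcolapp : ∀ j s, col j s = (g : Matrix (Fin n) (Fin n) F) s j := by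
    intro j s
    rw [hcol]
    simp only
    rw [Matrix.mulVec_single_one]
    rfl
  have hinj : ∀ x : Fin n → F, (g : Matrix (Fin n) (Fin n) F) *ᵥ x = 0 → x = 0 := by
    intro x hx
    have := congrArg (fun w => ((g⁻¹ : GL (Fin n) F) : Matrix (Fin n) (Fin n) F) *ᵥ w) hx
    simp only [Matrix.mulVec_mulVec, Matrix.mulVec_zero] at this
    rw [← Units.val_mul, inv_mul_cancel, Units.val_one, Matrix.one_mulVec] at this
    exact this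
  have hind : ∀ i j : Fin n, i ≠ j → ∀ a b : F, a • col i + b • col j = 0 → a = 0 ∧ b = 0 := by
    intro i j hij a b h0
    have h1 : (g : Matrix (Fin n) (Fin n) F) *ᵥ (a • Pi.single i 1 + b • Pi.single j 1) = 0 := by
      rw [Matrix.mulVec_add, Matrix.mulVec_smul, Matrix.mulVec_smul]
      exact h0
    have h2 := hinj _ h1
    have hi := congrFun h2 i
    have hj := congrFun h2 j
    simp only [Pi.add_apply, Pi.smul_apply, Pi.single_eq_same, smul_eq_mul, mul_one,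
      Pi.zero_apply, Pi.single_eq_of_ne hij, Pi.single_eq_of_ne (Ne.symm hij), mul_zero,
      add_zero, zero_add] at hi hj
    exact ⟨hi, hj⟩
  have hpair : ∀ i j : Fin n, i ≠ j →
      ∃ l : F, l ≠ 0 ∧ IsRat F₀ (l⁻¹ • col i) ∧ IsRat F₀ (l⁻¹ • col j) := by
    intro i j hij
    apply pair_rat (hind i j hij) h₁ h₂ h₃ h₁₂ h₁₃ h₂₃
    intro ζ hζ
    obtain ⟨l, r, hr, e⟩ := hg i j ζ hij hζ
    refine ⟨l, r, hr, ?_⟩
    rw [← e, yv, Matrix.mulVec_add, Matrix.mulVec_smul]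
  have hcol0 : ∀ i : Fin n, col i ≠ 0 := by
    intro i h0
    have := hinj _ h0
    have := congrFun this i
    simp at this
  set i₀ : Fin n := ⟨0, by omega⟩ with hi₀
  set j₀ : Fin n := ⟨1, by omega⟩ with hj₀
  have hij₀ : i₀ ≠ j₀ := by
    intro h
    have := congrArg Fin.val h
    simp [hi₀, hj₀] at this
  obtain ⟨l, hl, hli, hlj⟩ := hpair i₀ j₀ hij₀
  have hall : ∀ j : Fin n, IsRat F₀ (l⁻¹ • col j) := by
    intro j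
    by_cases hj : j = i₀
    · rw [hj]; exact hli
    · obtain ⟨l', hl', hl'i, hl'j⟩ := hpair i₀ j (Ne.symm hj)
      have hr : l' * l⁻¹ ∈ F₀ := ratio_mem (hcol0 i₀) hl hl' hli hl'i
      have : l⁻¹ • col j = (l' * l⁻¹) • (l'⁻¹ • col j) := by
        rw [smul_smul]
        congr 1
        field_simp
      rw [this]
      exact hl'j.smul hr
  rw [Cfsg.Agent.Lib.H11.Subf.mem_subfield_one_iff]
  refine ⟨l⁻¹, inv_ne_zero hl, fun s j => ?_⟩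
  have := hall j s
  rw [Pi.smul_apply, smul_eq_mul, hcolapp] at this
  exact this

end Cfsg.Agent.Lib.H6.SuSub
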