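import Mathlib
import Cfsg.Agent.Lib.H6.SuzU3g

set_option autoImplicit false
set_option linter.unusedSectionVars false

/-! More on the model `HT F q` of the Sylow 2-subgroups of `PSU₃(2^n)`: explicit isomorphism,
derived subgroup = centre = `Ω₁`, and the resulting structure of the Sylow 2-subgroups of `U₃(4)`
(helper6). -/

open Matrix
open scoped MatrixGroups commutatorElement

namespace Cfsg.Agent.Lib.H6.SuzU3

open Cfsg.Agent.Lib.H2.Herm Cfsg.Agent.Lib.H6.PSL3Inv

section

variable {F : Type*} [Field F] [Fintype F]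

/-- every Sylow 2-subgroup of `PSU₃(2^n)` is isomorphic to the model `HT F (2^n)` -/
theorem nonempty_equiv {n : ℕ} (hn : 1 ≤ n) [hFq : Fact (Fintype.card F = (2 ^ n) ^ 2)] [CharP F 2]
    (S : Sylow 2 (Cfsg.PSU 3 F (2 ^ n))) :
    Nonempty (HT F (2 ^ n) ≃* ↥(S : Subgroup (Cfsg.PSU 3 F (2 ^ n)))) := by
  have hF := hFq.out
  have hcardS : ∀ Q : Sylow 2 (Cfsg.PSU 3 F (2 ^ n)), Nat.card Q = (2 ^ n) ^ 3 := by
    intro Q
    rw [Sylow.card_eq_multiplicity, factorization_card_PSU3 hn hF, mul_comm, pow_mul]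
  obtain ⟨l, hl, hl1⟩ := Cfsg.Agent.Lib.H2.Unitary.exists_norm_one_ne_one hF
  have h1s : (1 : F) + (l : F) ≠ 0 := by
    intro h
    apply hl1
    have h2 : (l : F) = (l : F) + ((1 : F) + (l : F)) := by rw [h, add_zero]
    rw [h2, add_comm (1 : F), ← add_assoc, add_self' (F := F), zero_add]
  have hc : (1 + (l : F))⁻¹ * (1 + (l : F)) = 1 := inv_mul_cancel₀ h1s
  set ψ := psi (q := 2 ^ n) (l : F) (1 + (l : F))⁻¹ hl hc with hψ
  have hinj : Function.Injective ψ := psi_injective _ _ hl hc
  have hTcard : Nat.card ψ.range = (2 ^ n) ^ 3 := by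
    rw [← Nat.card_congr (MonoidHom.ofInjective hinj).toEquiv, card_HT]
  have hTp : IsPGroup 2 ψ.range := by
    apply IsPGroup.of_card (n := 3 * n)
    rw [hTcard, mul_comm, pow_mul]
  obtain ⟨Q, hQ⟩ := hTp.exists_le_sylow
  have hTQ : ψ.range = (Q : Subgroup (Cfsg.PSU 3 F (2 ^ n))) := by
    apply Subgroup.eq_of_le_of_card_ge hQ
    rw [hTcard, hcardS Q]
  exact ⟨(MonoidHom.ofInjective hinj).trans ((MulEquiv.subgroupCongr hTQ).trans (Sylow.equiv Q S))⟩

end

section

variable {F : Type*} [Field F] [Fintype F] {q : ℕ} [hF : Fact (Fintype.card F = q ^ 2)] [CharP F 2]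

theorem sq_mem_center (x : HT F q) : x * x ∈ Subgroup.center (HT F q) :=
  (mem_center_iff _).mpr (sq_fst x)

theorem sq_eq_one_of_mem_center {x : HT F q} (hx : x ∈ Subgroup.center (HT F q)) : x * x = 1 :=
  (sq_eq_one_iff x).mpr ((mem_center_iff x).mp hx)

theorem mem_center_of_sq_eq_one {x : HT F q} (hx : x * x = 1) : x ∈ Subgroup.center (HT F q) :=
  (mem_center_iff x).mpr ((sq_eq_one_iff x).mp hx)

theorem commutator_le_center : commutator (HT F q) ≤ Subgroup.center (HT F q) := by
  rw [commutator_def, Subgroup.commutator_le]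
  intro g₁ _ g₂ _
  rw [mem_center_iff, commutatorElement_def]
  simp only [mul_fst, inv_fst]
  have h := add_self' (F := F) (g₁.1.1 + g₂.1.1)
  calc g₁.1.1 + g₂.1.1 + g₁.1.1 + g₂.1.1 = (g₁.1.1 + g₂.1.1) + (g₁.1.1 + g₂.1.1) := by ring
    _ = 0 := h

theorem center_le_commutator : Subgroup.center (HT F q) ≤ commutator (HT F q) := by
  intro z hz
  have hz0 : z.1.1 = 0 := (mem_center_iff z).mp hz
  have hzfix : z.1.2 ^ q = z.1.2 := fixed_of_fst_eq_zero z hz0
  obtain ⟨θ, hθ⟩ := exists_trace_one (F := F) hF.out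
  obtain ⟨b₁, hb₁⟩ := exists_snd (F := F) (q := q) (z.1.2 * θ)
  obtain ⟨b₂, hb₂⟩ := exists_snd (F := F) (q := q) 1
  set x : HT F q := HT.mk (z.1.2 * θ) b₁ hb₁ with hx
  set y : HT F q := HT.mk 1 b₂ hb₂ with hy
  have key : z * (y * x) = x * y := by
    apply HT.ext
    · simp only [mul_fst, hz0, zero_add, hx, hy, HT.mk_fst]
      ring
    · simp only [mul_snd, mul_fst, hz0, zero_mul, add_zero, hx, hy, HT.mk_fst, HT.mk_snd, one_pow,
        mul_one, one_mul]
      have h2 : (z.1.2 * θ) ^ q = z.1.2 * θ ^ q := by rw [mul_pow, hzfix]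
      rw [h2]
      have h3 : z.1.2 = z.1.2 * θ + z.1.2 * θ ^ q := by
        rw [← mul_add, hθ, mul_one]
      have h4 := add_self' (F := F) (z.1.2 * θ ^ q)
      have h5 := add_self' (F := F) (z.1.2 * θ)
      linear_combination h3 + h4
  have hz' : z = ⁅x, y⁆ := by
    rw [commutatorElement_def]
    calc z = z * (y * x) * (y * x)⁻¹ := by group
      _ = x * y * (y * x)⁻¹ := by rw [key]
      _ = x * y * x⁻¹ * y⁻¹ := by group
  rw [hz', commutator_def]
  exact Subgroup.commutator_mem_commutator (Subgroup.mem_top x) (Subgroup.mem_top y)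

theorem commutator_eq_center : commutator (HT F q) = Subgroup.center (HT F q) :=
  le_antisymm commutator_le_center center_le_commutator

end

section Transport

/-- Transport of the structural facts along an isomorphism. -/
theorem props_of_equiv {T S : Type*} [Group T] [Group S] [Finite T] (e : T ≃* S) {c z : ℕ}
    (hz1 : 1 < z)
    (hcard : Nat.card T = c * z) (hcz : Nat.card (Subgroup.center T) = z)
    (hexp : ∀ x ∈ Subgroup.center T, x * x = 1)
    (hinv : ∀ x : T, x * x = 1 → x ∈ Subgroup.center T)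
    (hcomm : commutator T = Subgroup.center T)
    (hsq : ∀ x : T, x * x ∈ Subgroup.center T) :
    Nat.card S = c * z ∧ Nat.card (Subgroup.center S) = z ∧ Monoid.exponent (Subgroup.center S) = 2 ∧
      Subgroup.center S = Subgroup.closure {x : S | orderOf x = 2} ∧
      Subgroup.center S = commutator S ∧ Nat.card (S ⧸ Subgroup.center S) = c ∧
      ∀ x : S ⧸ Subgroup.center S, x ^ 2 = 1 := by
  haveI : Finite S := Finite.of_equiv T e.toEquiv
  have hmem : ∀ s : S, s ∈ Subgroup.center S ↔ e.symm s ∈ Subgroup.center T := fun s =>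
    (MulEquivClass.apply_mem_center_iff e.symm).symm
  have hcardS : Nat.card S = c * z := by rw [← hcard]; exact (Nat.card_congr e.toEquiv).symm
  have hczS : Nat.card (Subgroup.center S) = z := by
    rw [← hcz]; exact (Nat.card_congr (Subgroup.centerCongr e).toEquiv).symm
  have hexpS : ∀ s ∈ Subgroup.center S, s * s = 1 := by
    intro s hs
    have := hexp _ ((hmem s).mp hs)
    rw [← map_mul] at this
    exact (MulEquiv.map_eq_one_iff e.symm).mp this
  have hinvS : ∀ s : S, s * s = 1 → s ∈ Subgroup.center S := by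
    intro s hs
    rw [hmem]
    apply hinv
    rw [← map_mul, hs, map_one]
  have hsqS : ∀ s : S, s * s ∈ Subgroup.center S := by
    intro s
    rw [hmem, map_mul]
    exact hsq _
  have hmapc : (Subgroup.center T).map e.toMonoidHom = Subgroup.center S := by
    ext s
    rw [hmem]
    constructor
    · rintro ⟨t, ht, rfl⟩
      simpa using ht
    · intro hs
      exact ⟨e.symm s, hs, by simp⟩
  refine ⟨hcardS, hczS, ?_, ?_, ?_, ?_, ?_⟩
  · -- exponent
    have hdvd : Monoid.exponent (Subgroup.center S) ∣ 2 := by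
      apply Monoid.exponent_dvd_of_forall_pow_eq_one
      intro g
      apply Subtype.ext
      rw [Subgroup.coe_pow, pow_two]
      exact hexpS g.1 g.2
    have hne : Monoid.exponent (Subgroup.center S) ≠ 1 := by
      intro h
      rw [Monoid.exp_eq_one_iff] at h
      have := Nat.card_eq_one_iff_unique.mpr ⟨h, ⟨1⟩⟩
      omega
    rcases (Nat.dvd_prime Nat.prime_two).mp hdvd with h | h
    · exact absurd h hne
    · exact h
  · -- centre = closure of involutions
    apply le_antisymm
    · intro s hs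
      by_cases h1 : s = 1
      · rw [h1]; exact Subgroup.one_mem _
      · apply Subgroup.subset_closure
        have h2 : s ^ 2 = 1 := by rw [pow_two]; exact hexpS s hs
        exact orderOf_eq_prime h2 h1
    · rw [Subgroup.closure_le]
      intro s hs
      have hs' : orderOf s = 2 := hs
      apply hinvS
      rw [← pow_two, ← hs', pow_orderOf_eq_one]
  · -- centre = commutator
    rw [← hmapc, ← hcomm, commutator_def, commutator_def, Subgroup.map_commutator]
    have : (⊤ : Subgroup T).map e.toMonoidHom = ⊤ := by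
      rw [← MonoidHom.range_eq_map, MonoidHom.range_eq_top]
      exact e.surjective
    rw [this]
  · -- index
    have h := Subgroup.card_eq_card_quotient_mul_card_subgroup (Subgroup.center S)
    rw [hcardS, hczS] at h
    exact (Nat.eq_of_mul_eq_mul_right (by omega) h).symm
  · intro x
    induction x using QuotientGroup.induction_on with
    | H s =>
      rw [← QuotientGroup.mk_pow, QuotientGroup.eq_one_iff, pow_two]
      exact hsqS s

end Transport

section

variable {F : Type*} [Field F] [Fintype F]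

/-- the Sylow 2-subgroups of `PSU₃(2^n)`: `|S| = q^3`, `Z(S) = Ω₁(S) = S'` elementary abelian of
order `q`, `S/Z(S)` elementary abelian of order `q^2`. -/
theorem sylow_structure {n : ℕ} (hn : 1 ≤ n) (hF : Fintype.card F = (2 ^ n) ^ 2)
    (S : Sylow 2 (Cfsg.PSU 3 F (2 ^ n))) :
    Nat.card S = (2 ^ n) ^ 2 * 2 ^ n ∧
      Nat.card (Subgroup.center ↥(S : Subgroup (Cfsg.PSU 3 F (2 ^ n)))) = 2 ^ n ∧
      Monoid.exponent (Subgroup.center ↥(S : Subgroup (Cfsg.PSU 3 F (2 ^ n)))) = 2 ∧
      Subgroup.center ↥(S : Subgroup (Cfsg.PSU 3 F (2 ^ n))) =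
        Subgroup.closure {x : ↥(S : Subgroup (Cfsg.PSU 3 F (2 ^ n))) | orderOf x = 2} ∧
      Subgroup.center ↥(S : Subgroup (Cfsg.PSU 3 F (2 ^ n))) =
        commutator ↥(S : Subgroup (Cfsg.PSU 3 F (2 ^ n))) ∧
      Nat.card (↥(S : Subgroup (Cfsg.PSU 3 F (2 ^ n))) ⧸
        Subgroup.center ↥(S : Subgroup (Cfsg.PSU 3 F (2 ^ n)))) = (2 ^ n) ^ 2 ∧
      ∀ x : ↥(S : Subgroup (Cfsg.PSU 3 F (2 ^ n))) ⧸
        Subgroup.center ↥(S : Subgroup (Cfsg.PSU 3 F (2 ^ n))), x ^ 2 = 1 := by
  have : Fact (Fintype.card F = (2 ^ n) ^ 2) := ⟨hF⟩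
  have : CharP F 2 := charP_two_of_card hn hF
  obtain ⟨e⟩ := nonempty_equiv hn S
  have hq1 : 1 < 2 ^ n := by
    calc 1 < 2 ^ 1 := by norm_num
      _ ≤ 2 ^ n := Nat.pow_le_pow_right (by norm_num) hn
  exact props_of_equiv e hq1 (by rw [card_HT]; ring) card_center
    (fun x hx => sq_eq_one_of_mem_center hx) (fun x hx => mem_center_of_sq_eq_one hx)
    commutator_eq_center sq_mem_center

end

end Cfsg.Agent.Lib.H6.SuzU3
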