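import Mathlib
import Cfsg.Agent.Lib.H6.TC2Main

set_option autoImplicit false

/-! The stabilizer of `e0` in `SL_{n+2}` as `F^{n+1} : GL_{n+1}`, concrete side (helper6). -/

namespace Cfsg.Agent.Lib.H6.TC2

open Cfsg Matrix
open Cfsg.Agent.Lib.H6.TransvCent

variable {F : Type*} [Field F] {n : ℕ}

/-- prepend a zero -/
def c0 {m : ℕ} (a : Fin m → F) : Fin (m + 1) → F := Fin.cons 0 a

@[simp] theorem c0_zero {m : ℕ} (a : Fin m → F) : c0 a 0 = 0 := rfl
@[simp] theorem c0_succ {m : ℕ} (a : Fin m → F) (i : Fin m) : c0 a i.succ = a i := rfl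

theorem c0_add {m : ℕ} (a b : Fin m → F) : c0 (a + b) = c0 a + c0 b := by
  funext i
  refine Fin.cases ?_ (fun i' => ?_) i
  · simp
  · simp

theorem c0_zero_vec {m : ℕ} : c0 (0 : Fin m → F) = 0 := by
  funext i
  refine Fin.cases ?_ (fun i' => ?_) i
  · simp
  · simp

theorem c0_injective {m : ℕ} : Function.Injective (c0 (F := F) (m := m)) := by
  intro a b h
  funext i
  have := congrFun h i.succ
  simpa using this

theorem c0_dot_e0 (a : Fin (n + 1) → F) : c0 a ⬝ᵥ e0 F n = 0 := by
  rw [e0, dotProduct_single, mul_one, c0_zero]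

theorem c0_single_zero : c0 (Pi.single (0 : Fin (n + 1)) (1 : F)) = f1 F n := by
  funext i
  refine Fin.cases ?_ (fun i' => ?_) i
  · rw [c0_zero, f1, Pi.single_apply, if_neg zero_ne_one']
  · rw [c0_succ, f1, Pi.single_apply, Pi.single_apply, ← Fin.succ_zero_eq_one]
    by_cases h : i' = 0
    · rw [if_pos h, if_pos (by rw [h])]
    · rw [if_neg h, if_neg (fun h' => h (Fin.succ_injective _ h'))]

/-- `α ↦ 1 + e0 (0,α)ᵀ` -/
def uRow (F : Type*) [Field F] (n : ℕ) :
    Multiplicative (Fin (n + 1) → F) →* SpecialLinearGroup (Fin (n + 2)) F where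
  toFun a := TransvSL.mk (e0 F n) (c0 (Multiplicative.toAdd a)) (c0_dot_e0 _)
  map_one' := by
    apply Subtype.ext
    rw [TransvSL.mk_val, toAdd_one, c0_zero_vec, vecMulVec_zero, add_zero, val_one']
  map_mul' a b := by
    apply Subtype.ext
    rw [val_mul', TransvSL.mk_val, TransvSL.mk_val, TransvSL.mk_val, one_add_mul_one_add,
      c0_dot_e0, zero_smul, vecMulVec_zero, add_zero, toAdd_mul, c0_add, vecMulVec_add, add_assoc]

theorem uRow_val (a : Multiplicative (Fin (n + 1) → F)) :
    (uRow F n a).1 = 1 + vecMulVec (e0 F n) (c0 (Multiplicative.toAdd a)) := rfl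

theorem uRow_mem_U (a : Multiplicative (Fin (n + 1) → F)) : uRow F n a ∈ U (e0 F n) :=
  ⟨_, c0_dot_e0 _, rfl⟩

theorem uRow_injective : Function.Injective (uRow F n) := by
  intro a b h
  have h1 := congrArg Subtype.val h
  rw [uRow_val, uRow_val] at h1
  have h2 := add_left_cancel h1
  have h3 : c0 (Multiplicative.toAdd a) = c0 (Multiplicative.toAdd b) := by
    funext j
    have := congrFun (congrFun h2 0) j
    rw [vecMulVec_apply, vecMulVec_apply, e0, Pi.single_eq_same, one_mul, one_mul] at this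
    exact this
  exact Multiplicative.toAdd.injective (c0_injective h3)

theorem uRow_single : uRow F n (Multiplicative.ofAdd (Pi.single 0 1)) = zT F n := by
  apply Subtype.ext
  rw [uRow_val, toAdd_ofAdd, c0_single_zero, zT_val', e0, f1, single_eq_single_vecMulVec_single]

theorem c0_vecMul_lift1 {m : ℕ} (a : Fin m → F) (B : Matrix (Fin m) (Fin m) F) :
    c0 a ᵥ* lift1 B = c0 (a ᵥ* B) := by
  funext j
  rw [vecMul, dotProduct, Fin.sum_univ_succ, c0_zero, zero_mul, zero_add]
  refine Fin.cases ?_ (fun j' => ?_) j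
  · simp
  · simp only [c0_succ, lift1_succ_succ]
    rfl

theorem lift1_mulVec_e0 (B : Matrix (Fin (n + 1)) (Fin (n + 1)) F) :
    lift1 B *ᵥ e0 F n = e0 F n := by
  funext i
  rw [e0, mulVec_single_one]
  refine Fin.cases ?_ (fun i' => ?_) i
  · simp
  · simp [Pi.single_apply, Fin.succ_ne_zero]

/-- `B ↦ diag(1,B)` on matrices of determinant one -/
def mSL (B : Matrix (Fin (n + 1)) (Fin (n + 1)) F) (hB : B.det = 1) :
    SpecialLinearGroup (Fin (n + 2)) F :=
  ⟨lift1 B, by rw [det_lift1, hB]⟩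

theorem mSL_val (B : Matrix (Fin (n + 1)) (Fin (n + 1)) F) (hB : B.det = 1) :
    (mSL B hB).1 = lift1 B := rfl

theorem mSL_mul (B C : Matrix (Fin (n + 1)) (Fin (n + 1)) F) (hB : B.det = 1) (hC : C.det = 1) :
    mSL B hB * mSL C hC = mSL (B * C) (by rw [det_mul, hB, hC, one_mul]) := by
  apply Subtype.ext
  rw [val_mul', mSL_val, mSL_val, mSL_val, lift1_mul]

theorem mSL_one : mSL (1 : Matrix (Fin (n + 1)) (Fin (n + 1)) F) det_one = 1 := by
  apply Subtype.ext
  rw [mSL_val, lift1_one, val_one']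

/-- the product `uRow a * mSL B` has first row `(1, a B)` and lower block `B` -/
theorem uRow_mul_mSL_val (a : Multiplicative (Fin (n + 1) → F))
    (B : Matrix (Fin (n + 1)) (Fin (n + 1)) F) (hB : B.det = 1) :
    (uRow F n a * mSL B hB).1 =
      lift1 B + vecMulVec (e0 F n) (c0 (Multiplicative.toAdd a ᵥ* B)) := by
  rw [val_mul', uRow_val, mSL_val, add_mul, one_mul, vecMulVec_mul, c0_vecMul_lift1]

/-- every element of `SL` fixing `e0` has this shape -/
theorem val_of_fix_e0 {g : SpecialLinearGroup (Fin (n + 2)) F} (hg : g.1 *ᵥ e0 F n = e0 F n) :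
    g.1 = lift1 (g.1.submatrix Fin.succ Fin.succ) +
      vecMulVec (e0 F n) (c0 (fun j => g.1 0 j.succ)) ∧ (g.1.submatrix Fin.succ Fin.succ).det = 1 := by
  have hcol : ∀ k, g.1 k 0 = if k = 0 then 1 else 0 := by
    intro k
    have := congrFun hg k
    rw [e0, mulVec_single_one, Pi.single_apply] at this
    exact this
  constructor
  · ext i j
    rw [Matrix.add_apply, vecMulVec_apply, e0]
    refine Fin.cases ?_ (fun i' => ?_) i <;> refine Fin.cases ?_ (fun j' => ?_) j
    · rw [hcol, if_pos rfl]; simp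
    · simp
    · rw [hcol, if_neg (Fin.succ_ne_zero _)]; simp [Pi.single_apply, Fin.succ_ne_zero]
    · simp [Pi.single_apply, Fin.succ_ne_zero]
  · have hd := g.2
    rw [det_of_col_zero g.1 (fun i => by rw [hcol, if_neg (Fin.succ_ne_zero i)]), hcol,
      if_pos rfl, one_mul] at hd
    exact hd

end Cfsg.Agent.Lib.H6.TC2
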