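import Mathlib
import Cfsg.Agent.Lib.H6.TC2Hol1
import Cfsg.Agent.Lib.H1.QuadMul

set_option autoImplicit false

/-! Embedding an abstract holomorph `U : Aut(U)` of an elementary abelian 2-group into
`SL_{n+2}(2)` (helper6). -/

namespace Cfsg.Agent.Lib.H6.TC2

open Cfsg Matrix
open Cfsg.Agent.Lib.H6.TransvCent
open Cfsg.Agent.Lib.H1.QuadMul

section hol

variable {G : Type*} [Group G] (U : Subgroup G) [hUn : U.Normal] [IsEA 2 ↥U] {n : ℕ}
  (c : EA 2 ↥U ≃ₗ[ZMod 2] (Fin (n + 1) → ZMod 2))

/-- coordinates of the elements of `U` -/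
def kap (u : ↥U) : Fin (n + 1) → ZMod 2 := c (EA.of 2 u)

theorem kap_mul (u v : ↥U) : kap U c (u * v) = kap U c u + kap U c v := by
  have : EA.of 2 (u * v) = EA.of 2 u + EA.of 2 v := rfl
  rw [kap, this, map_add]
  rfl

theorem kap_one : kap U c 1 = 0 := by
  have : EA.of 2 (1 : ↥U) = 0 := rfl
  rw [kap, this, map_zero]

theorem kap_injective : Function.Injective (kap U c) := by
  intro u v h
  have := c.injective h
  exact this

theorem kap_surjective : Function.Surjective (kap U c) := by
  intro x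
  exact ⟨(c.symm x).val, by rw [kap, EA.of_val, LinearEquiv.apply_symm_apply]⟩

/-- `kap` as a homomorphism -/
def kapHom : ↥U →* Multiplicative (Fin (n + 1) → ZMod 2) where
  toFun u := Multiplicative.ofAdd (kap U c u)
  map_one' := by rw [kap_one]; rfl
  map_mul' u v := by rw [kap_mul]; rfl

theorem kapHom_apply (u : ↥U) : Multiplicative.toAdd (kapHom U c u) = kap U c u := rfl

/-- conjugation by `g` in coordinates -/
def lamLin (g : G) : (Fin (n + 1) → ZMod 2) →ₗ[ZMod 2] (Fin (n + 1) → ZMod 2) :=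
  c.toLinearMap ∘ₗ (mulAutToLin 2 ↥U (MulAut.conjNormal g)).toLinearMap ∘ₗ c.symm.toLinearMap

theorem lamLin_apply (g : G) (x : Fin (n + 1) → ZMod 2) :
    lamLin U c g x = c (mulAutToLin 2 ↥U (MulAut.conjNormal g) (c.symm x)) := rfl

theorem lamLin_kap (g : G) (u : ↥U) :
    lamLin U c g (kap U c u) = kap U c (MulAut.conjNormal g u) := by
  rw [lamLin_apply, kap, LinearEquiv.symm_apply_apply, mulAutToLin_apply, EA.val_of]
  rfl

theorem lamLin_one : lamLin U c 1 = LinearMap.id := by
  apply LinearMap.ext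
  intro x
  rw [lamLin_apply, map_one, map_one]
  simp

theorem lamLin_mul (g h : G) : lamLin U c (g * h) = lamLin U c g ∘ₗ lamLin U c h := by
  apply LinearMap.ext
  intro x
  rw [LinearMap.comp_apply, lamLin_apply, lamLin_apply, lamLin_apply, map_mul, map_mul,
    LinearEquiv.symm_apply_apply]
  rfl

/-- the matrix (acting on row vectors) of conjugation by `g⁻¹` -/
def Nmat (g : G) : Matrix (Fin (n + 1)) (Fin (n + 1)) (ZMod 2) :=
  LinearMap.toMatrixRight' (lamLin U c g⁻¹)

theorem vecMul_Nmat (g : G) (x : Fin (n + 1) → ZMod 2) :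
    x ᵥ* Nmat U c g = lamLin U c g⁻¹ x := by
  rw [← Matrix.toLinearMapRight'_apply, Nmat]
  have : Matrix.toLinearMapRight' (LinearMap.toMatrixRight' (lamLin U c g⁻¹)) = lamLin U c g⁻¹ :=
    LinearMap.toMatrixRight'.symm_apply_apply _
  rw [this]

theorem Nmat_one : Nmat U c (1 : G) = 1 := by
  rw [Nmat, inv_one, lamLin_one, LinearMap.toMatrixRight'_id]

theorem Nmat_mul (g h : G) : Nmat U c (g * h) = Nmat U c g * Nmat U c h := by
  rw [Nmat, Nmat, Nmat, _root_.mul_inv_rev, lamLin_mul, LinearMap.toMatrixRight'_comp]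

theorem zmod2_eq_one_of_ne_zero : ∀ x : ZMod 2, x ≠ 0 → x = 1 := by decide

theorem det_Nmat (g : G) : (Nmat U c g).det = 1 := by
  apply zmod2_eq_one_of_ne_zero
  intro h
  have h1 : Nmat U c g * Nmat U c g⁻¹ = 1 := by rw [← Nmat_mul, mul_inv_cancel, Nmat_one]
  have h2 := congrArg Matrix.det h1
  rw [det_mul, h, zero_mul, det_one] at h2
  exact zero_ne_one h2

/-- the image of `U` -/
def thU : ↥U →* SpecialLinearGroup (Fin (n + 2)) (ZMod 2) :=
  (uRow (ZMod 2) n).comp (kapHom U c)

theorem thU_val (u : ↥U) : (thU U c u).1 = 1 + vecMulVec (e0 (ZMod 2) n) (c0 (kap U c u)) := rfl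

theorem thU_injective : Function.Injective (thU U c) := by
  intro u v h
  have h1 := uRow_injective h
  exact kap_injective U c (Multiplicative.ofAdd.injective h1)

/-- the image of an element of `G` acting by conjugation -/
def thM : G →* SpecialLinearGroup (Fin (n + 2)) (ZMod 2) where
  toFun g := mSL (Nmat U c g) (det_Nmat U c g)
  map_one' := by
    have : Nmat U c (1 : G) = 1 := Nmat_one U c
    apply Subtype.ext
    rw [mSL_val, this, lift1_one, val_one']
  map_mul' g h := by
    rw [mSL_mul]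
    apply Subtype.ext
    rw [mSL_val, mSL_val, Nmat_mul]

theorem thM_val (g : G) : (thM U c g).1 = lift1 (Nmat U c g) := rfl

/-- compatibility with conjugation -/
theorem thU_conj (g : G) (u : ↥U) :
    thU U c (MulAut.conjNormal g u) = thM U c g * thU U c u * (thM U c g)⁻¹ := by
  apply Subtype.ext
  rw [TransvSL.val_conj (thU_val U c u), thM_val, lift1_mulVec_e0, ← map_inv, thM_val,
    c0_vecMul_lift1, vecMul_Nmat, inv_inv, lamLin_kap, thU_val]

end hol

end Cfsg.Agent.Lib.H6.TC2
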