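import Mathlib
import Cfsg.Agent.Lib.H6.TC2Hol2

set_option autoImplicit false

/-! The embedding `theta` of an abstract holomorph into `SL_{n+2}(2)` (helper6). -/

namespace Cfsg.Agent.Lib.H6.TC2

open Cfsg Matrix
open Cfsg.Agent.Lib.H6.TransvCent
open Cfsg.Agent.Lib.H1.QuadMul

section theta

variable {G : Type*} [Group G] (U M : Subgroup G) [hUn : U.Normal] [IsEA 2 ↥U] {n : ℕ}
  (c : EA 2 ↥U ≃ₗ[ZMod 2] (Fin (n + 1) → ZMod 2)) (hc : U.IsComplement' M)

/-- the embedding of `G = U M` into `SL_{n+2}(2)` -/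
noncomputable def theta : G →* SpecialLinearGroup (Fin (n + 2)) (ZMod 2) :=
  (SemidirectProduct.lift (thU U c) ((thM U c).comp M.subtype) (by
    intro k
    apply MonoidHom.ext
    intro u
    exact (congrArg (thU U c) (Subtype.ext rfl)).trans (thU_conj U c (k : G) u))).comp (SemidirectProduct.mulEquivSubgroup hc).symm.toMonoidHom

theorem theta_mul (u : ↥U) (m : ↥M) :
    theta U M c hc ((u : G) * (m : G)) = thU U c u * thM U c (m : G) := by
  have h1 : (SemidirectProduct.mulEquivSubgroup hc).symm ((u : G) * (m : G)) = ⟨u, m⟩ := by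
    rw [MulEquiv.symm_apply_eq]
    simp
  rw [theta, MonoidHom.comp_apply, MulEquiv.coe_toMonoidHom, h1]
  rfl

omit [IsEA 2 ↥U] in
theorem exists_mul (hc : U.IsComplement' M) (g : G) :
    ∃ (u : ↥U) (m : ↥M), g = (u : G) * (m : G) := by
  obtain ⟨⟨u, m⟩, rfl⟩ := (SemidirectProduct.mulEquivSubgroup hc).surjective g
  exact ⟨u, m, by simp⟩

theorem theta_U (u : ↥U) : theta U M c hc (u : G) = thU U c u := by
  have := theta_mul U M c hc u 1
  rw [Subgroup.coe_one, mul_one, map_one, mul_one] at this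
  exact this

theorem theta_M (m : ↥M) : theta U M c hc (m : G) = thM U c (m : G) := by
  have := theta_mul U M c hc 1 m
  rw [Subgroup.coe_one, one_mul, map_one, one_mul] at this
  exact this

theorem theta_val (u : ↥U) (m : ↥M) :
    (theta U M c hc ((u : G) * (m : G))).1 =
      lift1 (Nmat U c (m : G)) +
        vecMulVec (e0 (ZMod 2) n) (c0 (kap U c u ᵥ* Nmat U c (m : G))) := by
  rw [theta_mul]
  exact uRow_mul_mSL_val (kapHom U c u) (Nmat U c (m : G)) (det_Nmat U c (m : G))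

theorem vecMul_ext {m : ℕ} {A B : Matrix (Fin m) (Fin m) (ZMod 2)}
    (h : ∀ x : Fin m → ZMod 2, x ᵥ* A = x ᵥ* B) : A = B := by
  ext i j
  have := congrFun (h (Pi.single i 1)) j
  rw [single_one_vecMul, single_one_vecMul] at this
  exact this

theorem theta_injective
    (hfaith : ∀ m ∈ M, (∀ u ∈ U, m * u * m⁻¹ = u) → m = 1) :
    Function.Injective (theta U M c hc) := by
  rw [injective_iff_map_eq_one]
  intro g hg
  obtain ⟨u, m, rfl⟩ := exists_mul U M hc g
  have hv := congrArg Subtype.val hg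
  rw [theta_val, val_one'] at hv
  have hN : Nmat U c (m : G) = 1 := by
    ext i j
    have := congrFun (congrFun hv i.succ) j.succ
    rw [Matrix.add_apply, lift1_succ_succ, vecMulVec_apply, e0, Pi.single_apply,
      if_neg (Fin.succ_ne_zero i), zero_mul, add_zero] at this
    rw [this, Matrix.one_apply, Matrix.one_apply]
    by_cases h : i = j
    · rw [if_pos h, if_pos (by rw [h])]
    · rw [if_neg h, if_neg (fun h' => h (Fin.succ_injective _ h'))]
  have hm : (m : G)⁻¹ = 1 := by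
    apply hfaith _ (inv_mem m.2)
    intro u' hu'
    have h1 := vecMul_Nmat U c (m : G) (kap U c ⟨u', hu'⟩)
    rw [hN, vecMul_one, lamLin_kap] at h1
    have h2 := kap_injective U c h1
    have h3 := congrArg Subtype.val h2
    rw [MulAut.conjNormal_apply] at h3
    exact h3.symm
  have hm1 : (m : G) = 1 := inv_eq_one.1 hm
  rw [hm1, mul_one] at hg ⊢
  rw [theta_U] at hg
  have : u = 1 := thU_injective U c (hg.trans (map_one _).symm)
  rw [this, Subgroup.coe_one]

/-- the element of `U` with given coordinates -/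
def ofVec (x : Fin (n + 1) → ZMod 2) : ↥U := (c.symm x).val

theorem kap_ofVec (x : Fin (n + 1) → ZMod 2) : kap U c (ofVec U c x) = x := by
  rw [kap, ofVec, EA.of_val, LinearEquiv.apply_symm_apply]

theorem ofVec_kap (u : ↥U) : ofVec U c (kap U c u) = u := by
  rw [kap, ofVec, LinearEquiv.symm_apply_apply, EA.val_of]

theorem ofVec_add (x y : Fin (n + 1) → ZMod 2) :
    ofVec U c (x + y) = ofVec U c x * ofVec U c y := by
  rw [ofVec, map_add, EA.val_add]
  rfl

/-- the automorphism of `U` given by a matrix of determinant one (acting on rows) -/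
noncomputable def autOfMat (B : Matrix (Fin (n + 1)) (Fin (n + 1)) (ZMod 2)) (hB : B.det = 1) :
    ↥U ≃* ↥U where
  toFun u := ofVec U c (kap U c u ᵥ* B)
  invFun u := ofVec U c (kap U c u ᵥ* B⁻¹)
  left_inv u := by
    have hu : IsUnit B.det := by rw [hB]; exact isUnit_one
    show ofVec U c (kap U c (ofVec U c (kap U c u ᵥ* B)) ᵥ* B⁻¹) = u
    rw [kap_ofVec, vecMul_vecMul, Matrix.mul_nonsing_inv _ hu, vecMul_one, ofVec_kap]
  right_inv u := by
    have hu : IsUnit B.det := by rw [hB]; exact isUnit_one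
    show ofVec U c (kap U c (ofVec U c (kap U c u ᵥ* B⁻¹)) ᵥ* B) = u
    rw [kap_ofVec, vecMul_vecMul, Matrix.nonsing_inv_mul _ hu, vecMul_one, ofVec_kap]
  map_mul' u v := by
    show ofVec U c (kap U c (u * v) ᵥ* B) = ofVec U c (kap U c u ᵥ* B) * ofVec U c (kap U c v ᵥ* B)
    rw [kap_mul, add_vecMul, ofVec_add]

theorem kap_autOfMat (B : Matrix (Fin (n + 1)) (Fin (n + 1)) (ZMod 2)) (hB : B.det = 1) (u : ↥U) :
    kap U c (autOfMat U c B hB u) = kap U c u ᵥ* B := kap_ofVec U c _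

/-- every element of `SL_{n+2}(2)` fixing `e0` is in the image -/
theorem mem_range_theta
    (hfull : ∀ φ : ↥U ≃* ↥U, ∃ m ∈ M, ∀ u : ↥U, ((φ u : ↥U) : G) = m * u * m⁻¹)
    {s : SpecialLinearGroup (Fin (n + 2)) (ZMod 2)}
    (hs : s.1 *ᵥ e0 (ZMod 2) n = e0 (ZMod 2) n) : s ∈ (theta U M c hc).range := by
  obtain ⟨hsv, hdet⟩ := val_of_fix_e0 hs
  set B := s.1.submatrix Fin.succ Fin.succ with hB
  set ρ : Fin (n + 1) → ZMod 2 := fun j => s.1 0 j.succ with hρ
  obtain ⟨m', hm'M, hm'⟩ := hfull (autOfMat U c B hdet)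
  have hN : Nmat U c m'⁻¹ = B := by
    apply vecMul_ext
    intro x
    obtain ⟨u, rfl⟩ := kap_surjective U c x
    rw [vecMul_Nmat, inv_inv, lamLin_kap, ← kap_autOfMat U c B hdet u]
    congr 1
    apply Subtype.ext
    rw [MulAut.conjNormal_apply, hm']
  have hu : IsUnit B.det := by rw [hdet]; exact isUnit_one
  refine ⟨(ofVec U c (ρ ᵥ* B⁻¹) : G) * m'⁻¹, ?_⟩
  apply Subtype.ext
  have h1 := theta_val U M c hc (ofVec U c (ρ ᵥ* B⁻¹)) ⟨m'⁻¹, inv_mem hm'M⟩
  rw [h1, hsv]
  simp only []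
  rw [hN, kap_ofVec, vecMul_vecMul, Matrix.nonsing_inv_mul _ hu, vecMul_one]

end theta

end Cfsg.Agent.Lib.H6.TC2
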