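import Mathlib
import Cfsg.Agent.Lib.H6.TC2Hol3

set_option autoImplicit false

/-! Transfer of the `SL_{n+2}(2)` results to an abstract holomorph (helper6). -/

namespace Cfsg.Agent.Lib.H6.TC2

open Cfsg Matrix Module
open Cfsg.Agent.Lib.H6.TransvCent
open Cfsg.Agent.Lib.H1.QuadMul
open scoped commutatorElement

/-- coordinates in which a given nonzero vector is the first basis vector -/
theorem exists_equivFun_single {K V : Type*} [Field K] [AddCommGroup V] [Module K V]
    [Module.Finite K V] {n : ℕ} (hr : Module.finrank K V = n + 1) (v : V) (hv : v ≠ 0) :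
    ∃ c : V ≃ₗ[K] (Fin (n + 1) → K), c v = Pi.single 0 1 := by
  obtain ⟨N, hN⟩ := Submodule.exists_isCompl (K ∙ v)
  have h1 := Submodule.finrank_add_eq_of_isCompl hN
  rw [finrank_span_singleton hv, hr] at h1
  have hfr : Module.finrank K N = n := by omega
  let b := Module.finBasisOfFinrankEq K N hfr
  have hli : ∀ (a : K), ∀ x ∈ N, a • v + x = 0 → a = 0 := by
    intro a x hx h
    have h2 : a • v ∈ (K ∙ v) ⊓ N := by
      refine ⟨Submodule.smul_mem _ _ (Submodule.mem_span_singleton_self v), ?_⟩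
      have : a • v = -x := eq_neg_of_add_eq_zero_left h
      rw [this]
      exact N.neg_mem hx
    rw [hN.inf_eq_bot, Submodule.mem_bot] at h2
    rcases smul_eq_zero.1 h2 with h3 | h3
    · exact h3
    · exact absurd h3 hv
  have hsp : ∀ w : V, ∃ a : K, w + a • v ∈ N := by
    intro w
    have hw : w ∈ (K ∙ v) ⊔ N := by rw [hN.sup_eq_top]; trivial
    obtain ⟨y, hy, x, hx, rfl⟩ := Submodule.mem_sup.1 hw
    obtain ⟨a, rfl⟩ := Submodule.mem_span_singleton.1 hy
    refine ⟨-a, ?_⟩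
    have : a • v + x + -a • v = x := by rw [neg_smul]; abel
    rw [this]
    exact hx
  let B := Module.Basis.mkFinCons v b hli hsp
  refine ⟨B.equivFun, ?_⟩
  have h0 : B 0 = v := by
    have := congrFun (Module.Basis.coe_mkFinCons v b hli hsp) 0
    rw [Fin.cons_zero] at this
    exact this
  funext j
  rw [← h0, Module.Basis.equivFun_self, Pi.single_apply]
  by_cases h : j = 0
  · rw [if_pos h, if_pos h.symm]
  · rw [if_neg h, if_neg (Ne.symm h)]

/-- coordinates on an elementary abelian 2-group of order `2^(n+1)` with `z ↦ e_0` -/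
theorem exists_coord {V : Type*} [Group V] [Finite V] [IsEA 2 V] {n : ℕ}
    (hcard : Nat.card V = 2 ^ (n + 1)) (z : V) (hz : z ≠ 1) :
    ∃ c : EA 2 V ≃ₗ[ZMod 2] (Fin (n + 1) → ZMod 2), c (EA.of 2 z) = Pi.single 0 1 := by
  have : Module.Finite (ZMod 2) (EA 2 V) := Module.Finite.of_finite
  have h1 := Module.natCard_eq_pow_finrank (K := ZMod 2) (V := EA 2 V)
  have h2 : Nat.card (EA 2 V) = 2 ^ (n + 1) := hcard
  rw [h2, Nat.card_zmod] at h1
  have hr : Module.finrank (ZMod 2) (EA 2 V) = n + 1 :=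
    (Nat.pow_right_injective (le_refl 2) h1).symm
  exact exists_equivFun_single hr (EA.of 2 z) (fun h => hz h)

section pcore

variable {G S : Type*} [Group G] [Group S]

theorem pCoreOf_map_of_injective (θ : G →* S) (hθ : Function.Injective θ) (p : ℕ)
    (H : Subgroup G) : pCoreOf p (H.map θ) = (pCoreOf p H).map θ := by
  apply le_antisymm
  · set P := pCoreOf p (H.map θ) with hP
    have hPle : P ≤ H.map θ := Cfsg.Agent.Lib.H14.pCoreOf_le p _
    have hrange : P ≤ θ.range := hPle.trans (Subgroup.map_le_range θ H)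
    have h1 : P.comap θ ≤ H := by
      intro x hx
      obtain ⟨h, hh, hhx⟩ := hPle (Subgroup.mem_comap.1 hx)
      rw [← hθ hhx]
      exact hh
    have h2 : H ≤ Subgroup.normalizer ((P.comap θ : Subgroup G) : Set G) := by
      apply le_normalizer_of_conj_mem
      intro h hh x hx
      rw [Subgroup.mem_comap] at hx ⊢
      rw [map_mul, map_mul, map_inv]
      have hn := Cfsg.Agent.Lib.H14.pCoreOf_normalized p (H.map θ) (Subgroup.mem_map_of_mem θ hh)
      exact (Subgroup.mem_normalizer_iff.1 hn (θ x)).1 hx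
    have h3 : IsPGroup p (P.comap θ) :=
      (Cfsg.Agent.Lib.H14.pCoreOf_isPGroup p (H.map θ)).comap_of_injective θ hθ
    have h4 := Cfsg.Agent.Lib.H14.le_pCoreOf p H _ h1 h2 h3
    rw [← Subgroup.map_comap_eq_self hrange]
    exact Subgroup.map_mono h4
  · apply Cfsg.Agent.Lib.H14.le_pCoreOf
    · exact Subgroup.map_mono (Cfsg.Agent.Lib.H14.pCoreOf_le p H)
    · apply le_normalizer_of_conj_mem
      rintro _ ⟨h, hh, rfl⟩ _ ⟨y, hy, rfl⟩
      refine ⟨h * y * h⁻¹, ?_, by rw [map_mul, map_mul, map_inv]⟩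
      have hn := Cfsg.Agent.Lib.H14.pCoreOf_normalized p H hh
      exact (Subgroup.mem_normalizer_iff.1 hn y).1 hy
    · exact (Cfsg.Agent.Lib.H14.pCoreOf_isPGroup p H).map θ

end pcore

variable {F : Type*} [Field F] {n : ℕ}

theorem subsingleton_SL_one : Subsingleton (SpecialLinearGroup (Fin 1) F) := by
  constructor
  intro A B
  apply Subtype.ext
  ext i j
  have hA := A.2
  have hB := B.2
  rw [Matrix.det_unique] at hA hB
  have hi : i = default := Subsingleton.elim _ _
  have hj : j = default := Subsingleton.elim _ _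
  rw [hi, hj]
  exact hA.trans hB.symm

/-- `O_2(C(z)) = Q0`, also for `n = 1` -/
theorem pCoreOf_Stab' [Fintype F] (hF : Fintype.card F = 2) (hn : 1 ≤ n) :
    pCoreOf 2 (Stab (e0 F n) (f1 F n)) = Q0 F n := by
  rcases Nat.lt_or_ge n 2 with h | h
  · have h1 : n = 1 := by omega
    subst h1
    apply le_antisymm
    · rintro _ ⟨x, hx, rfl⟩
      refine ⟨x, ?_, rfl⟩
      rw [SetLike.mem_coe, MonoidHom.mem_ker]
      haveI := subsingleton_SL_one (F := F)
      exact Subsingleton.elim _ _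
    · exact Cfsg.Agent.Lib.H14.le_pCoreOf 2 _ _ Q0_le_Stab Stab_le_normalizer_Q0 (isPGroup_Q0 hF)
  · exact pCoreOf_Stab hF h

theorem exists_mul_of_mem_Stab {g : SpecialLinearGroup (Fin (n + 2)) F}
    (hg : g ∈ Stab (e0 F n) (f1 F n)) : ∃ q ∈ Q0 F n, ∃ k ∈ K0 F n, g = q * k := by
  set A := piHom F n ⟨g, hg⟩ with hA
  have h2 : (⟨g, hg⟩ * (⟨iotaHom F n A, iotaHom_mem_Stab A⟩ : ↥(Stab (e0 F n) (f1 F n)))⁻¹) ∈
      (piHom F n).ker := by
    rw [MonoidHom.mem_ker, map_mul, map_inv, piHom_iotaHom, ← hA, mul_inv_cancel]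
  refine ⟨g * (iotaHom F n A)⁻¹, ⟨_, h2, rfl⟩, iotaHom F n A, ⟨A, rfl⟩, ?_⟩
  group

end Cfsg.Agent.Lib.H6.TC2
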