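import Mathlib
import Cfsg.Agent.Lib.H6.TC2Hol4

set_option autoImplicit false

/-! Transfer of the `SL_{n+2}(2)` results along an embedding (helper6). -/

namespace Cfsg.Agent.Lib.H6.TC2

open Cfsg Matrix Module
open Cfsg.Agent.Lib.H6.TransvCent
open scoped commutatorElement

/-- `SL_n(2) ≃* GL_n(2)` -/
noncomputable def slEquivGL (n : ℕ) :
    SpecialLinearGroup (Fin n) (ZMod 2) ≃* GL (Fin n) (ZMod 2) :=
  MulEquiv.ofBijective SpecialLinearGroup.toGL
    ⟨SpecialLinearGroup.toGL_injective, by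
      intro A
      have hdet : Matrix.GeneralLinearGroup.det A = 1 := Subsingleton.elim _ _
      have h1 : (A : Matrix (Fin n) (Fin n) (ZMod 2)).det = 1 := by
        have := congrArg Units.val hdet
        exact this
      exact ⟨⟨A.1, h1⟩, Units.ext rfl⟩⟩

variable {n : ℕ}

theorem transfer {G : Type*} [Group G] [Finite G] (hn : 1 ≤ n)
    (θ : G →* SpecialLinearGroup (Fin (n + 2)) (ZMod 2)) (hθ : Function.Injective θ)
    (U : Subgroup G) (hU : IsElementaryAbelian 2 U) (hUcard : Nat.card ↥U = 2 ^ (n + 1))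
    (hUθ : ∀ u ∈ U, θ u ∈ TransvCent.U (e0 (ZMod 2) n))
    (z : G) (hzθ : θ z = zT (ZMod 2) n)
    (hrange : Stab (e0 (ZMod 2) n) (f1 (ZMod 2) n) ≤ θ.range)
    (Z : Subgroup G) (hZ : ∀ x, x ∈ Z ↔ x = 1 ∨ x = z) (hZcard : Nat.card ↥Z = 2)
    (Q : Subgroup G) (hQ : Q = pCoreOf 2 (Subgroup.centralizer (Z : Set G))) :
    IsExtraspecial 2 ↥Q ∧ Nat.card ↥Q = 2 ^ (2 * n + 1) ∧
    (∃ E : Subgroup G, E ≤ Q ∧ IsElementaryAbelian 2 E ∧ Nat.card ↥E = 2 ^ (n + 1)) ∧
    IsLargeExtraspecial Q ∧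
    ∃ K : Subgroup G, K ≤ Subgroup.centralizer (Z : Set G) ∧ Q ⊓ K = ⊥ ∧
      Q ⊔ K = Subgroup.centralizer (Z : Set G) ∧
      Nonempty (↥K ≃* Matrix.GeneralLinearGroup (Fin n) (ZMod 2)) := by
  have hF : Fintype.card (ZMod 2) = 2 := ZMod.card 2
  have : Fact (Nat.Prime 2) := ⟨Nat.prime_two⟩
  set C := Subgroup.centralizer (Z : Set G) with hCdef
  have hcen := centralizer_eq_Stab hF (zero_ne_one' (n := n)) (zT (ZMod 2) n) zT_val
  have hzZ : z ∈ Z := (hZ z).2 (Or.inr rfl)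
  -- membership in `C`
  have hC : ∀ g, g ∈ C ↔ θ g ∈ Stab (e0 (ZMod 2) n) (f1 (ZMod 2) n) := by
    intro g
    have hcen' : Stab (e0 (ZMod 2) n) (f1 (ZMod 2) n) = Subgroup.centralizer
        ({zT (ZMod 2) n} : Set (SpecialLinearGroup (Fin (n + 2)) (ZMod 2))) := hcen.symm
    rw [hcen', Subgroup.mem_centralizer_iff, Subgroup.mem_centralizer_iff]
    constructor
    · intro h x hx
      rw [Set.mem_singleton_iff] at hx
      subst hx
      rw [← hzθ, ← map_mul, ← map_mul, h z hzZ]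
    · intro h x hx
      rcases (hZ x).1 hx with rfl | rfl
      · rw [one_mul, mul_one]
      · apply hθ
        rw [map_mul, map_mul, hzθ]
        exact h _ rfl
  have hCmap : C.map θ = Stab (e0 (ZMod 2) n) (f1 (ZMod 2) n) := by
    ext s
    constructor
    · rintro ⟨g, hg, rfl⟩
      exact (hC g).1 hg
    · intro hs
      obtain ⟨g, rfl⟩ := hrange hs
      exact ⟨g, (hC g).2 hs, rfl⟩
  have hQmap : Q.map θ = Q0 (ZMod 2) n := by
    rw [hQ, ← pCoreOf_map_of_injective θ hθ, hCmap, pCoreOf_Stab' hF hn]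
  have hZmap : Z.map θ = Z0 (ZMod 2) n (card_two_facts hF).1 := by
    ext s
    constructor
    · rintro ⟨x, hx, rfl⟩
      rcases (hZ x).1 hx with rfl | rfl
      · left; exact map_one θ
      · right; exact hzθ
    · rintro (rfl | rfl)
      · exact ⟨1, one_mem _, map_one θ⟩
      · exact ⟨z, hzZ, hzθ⟩
  have hZQ : Z ≤ Q := (Subgroup.map_le_map_iff_of_injective hθ).1 (by
    rw [hZmap, hQmap]; exact Z0_le_Q0 _)
  have hUQ : U ≤ Q := (Subgroup.map_le_map_iff_of_injective hθ).1 (by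
    rw [hQmap]
    rintro _ ⟨u, hu, rfl⟩
    exact U_le_Q0 (hUθ u hu))
  have hmemQ : ∀ q ∈ Q, θ q ∈ Q0 (ZMod 2) n := by
    intro q hq
    rw [← hQmap]
    exact ⟨q, hq, rfl⟩
  have hcentQ : Subgroup.centralizer (Q : Set G) = Z := by
    apply le_antisymm
    · intro x hx
      have h1 : θ x ∈ Subgroup.centralizer
          (Q0 (ZMod 2) n : Set (SpecialLinearGroup (Fin (n + 2)) (ZMod 2))) := by
        rw [Subgroup.mem_centralizer_iff]
        intro s hs
        rw [SetLike.mem_coe, ← hQmap] at hs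
        obtain ⟨q, hq, rfl⟩ := hs
        rw [← map_mul, ← map_mul, (Subgroup.mem_centralizer_iff.1 hx) q hq]
      rw [centralizer_Q0 hF, ← hZmap] at h1
      obtain ⟨x', hx', h⟩ := h1
      rw [← hθ h]
      exact hx'
    · intro x hx
      rw [Subgroup.mem_centralizer_iff]
      intro q hq
      apply hθ
      rw [map_mul, map_mul]
      have h1 : θ x ∈ Subgroup.centralizer
          (Q0 (ZMod 2) n : Set (SpecialLinearGroup (Fin (n + 2)) (ZMod 2))) := by
        rw [centralizer_Q0 hF, ← hZmap]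
        exact ⟨x, hx, rfl⟩
      exact (Subgroup.mem_centralizer_iff.1 h1) (θ q) (hmemQ q hq)
  have hcomm : ⁅Q, Q⁆ = Z := by
    apply Subgroup.map_injective hθ
    rw [Subgroup.map_commutator, hQmap, hZmap, commutator_Q0 hF hn]
  have hsq : ∀ x ∈ Q, x ^ 2 ∈ Z := by
    intro x hx
    have h2 := sq_mem_Z0 hF (hmemQ x hx)
    rw [← map_pow, ← hZmap] at h2
    obtain ⟨y, hy, h⟩ := h2
    rw [← hθ h]
    exact hy
  have hQp : IsPGroup 2 Q := by
    rw [hQ]
    exact Cfsg.Agent.Lib.H14.pCoreOf_isPGroup 2 C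
  have hES : IsExtraspecial 2 ↥Q :=
    Cfsg.Agent.Lib.H27.isExtraspecial_subgroup 2 Q Z hQp hZQ hZcard
      (by rw [hcentQ]; exact inf_eq_right.2 hZQ) hcomm hsq
  have hcardQ : Nat.card ↥Q = 2 ^ (2 * n + 1) := by
    rw [← Subgroup.card_map_of_injective hθ, hQmap, card_Q0 hF]
  have hcenter : (Subgroup.center ↥Q).map Q.subtype = Z := by
    rw [Cfsg.Agent.Lib.H27.map_center_eq, hcentQ]
    exact inf_eq_right.2 hZQ
  refine ⟨hES, hcardQ, ⟨U, hUQ, hU, hUcard⟩, ⟨hES, ?_, ?_, ?_⟩, ?_⟩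
  · rw [hcenter, hcentQ]
  · rw [hcenter, hQ]
    exact Cfsg.Agent.Lib.H14.pCoreOf_normalized 2 C
  · intro K hK hQK
    have h1 : Odd (Nat.card ↥(K.map θ)) := by
      rw [Subgroup.card_map_of_injective hθ]; exact hK
    have h2 : Q0 (ZMod 2) n ≤ Subgroup.normalizer
        ((K.map θ : Subgroup (SpecialLinearGroup (Fin (n + 2)) (ZMod 2))) :
          Set (SpecialLinearGroup (Fin (n + 2)) (ZMod 2))) := by
      rw [← hQmap]
      apply le_normalizer_of_conj_mem
      rintro _ ⟨q, hq, rfl⟩ _ ⟨k, hk, rfl⟩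
      refine ⟨q * k * q⁻¹, ?_, by rw [map_mul, map_mul, map_inv]⟩
      exact (Subgroup.mem_normalizer_iff.1 (hQK hq) k).1 hk
    have h3 := odd_normalized_eq_bot hF hn _ h1 h2
    rw [eq_bot_iff]
    intro k hk
    have : θ k ∈ K.map θ := ⟨k, hk, rfl⟩
    rw [h3, Subgroup.mem_bot] at this
    rw [Subgroup.mem_bot]
    exact hθ (this.trans (map_one θ).symm)
  · refine ⟨(K0 (ZMod 2) n).comap θ, ?_, ?_, ?_, ?_⟩
    · intro k hk
      exact (hC k).2 (K0_le_Stab (Subgroup.mem_comap.1 hk))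
    · rw [eq_bot_iff]
      intro x hx
      have h1 : θ x ∈ Q0 (ZMod 2) n ⊓ K0 (ZMod 2) n := ⟨hmemQ x hx.1, Subgroup.mem_comap.1 hx.2⟩
      rw [Q0_inf_K0, Subgroup.mem_bot] at h1
      rw [Subgroup.mem_bot]
      exact hθ (h1.trans (map_one θ).symm)
    · apply le_antisymm
      · apply sup_le
        · rw [hQ]
          exact Cfsg.Agent.Lib.H14.pCoreOf_le 2 C
        · intro k hk
          exact (hC k).2 (K0_le_Stab (Subgroup.mem_comap.1 hk))
      · intro x hx
        obtain ⟨q, hq, k, hk, hqk⟩ := exists_mul_of_mem_Stab ((hC x).1 hx)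
        rw [← hQmap] at hq
        obtain ⟨q', hq', rfl⟩ := hq
        obtain ⟨k', rfl⟩ := hrange (K0_le_Stab hk)
        have : x = q' * k' := hθ (by rw [map_mul]; exact hqk)
        rw [this]
        exact Subgroup.mul_mem_sup hq' (Subgroup.mem_comap.2 hk)
    · have hbij : Function.Bijective (θ.subgroupComap (K0 (ZMod 2) n)) := by
        constructor
        · intro a b h
          apply Subtype.ext
          apply hθ
          exact congrArg Subtype.val h
        · intro k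
          obtain ⟨k', hk'⟩ := hrange (K0_le_Stab k.2)
          refine ⟨⟨k', ?_⟩, ?_⟩
          · rw [Subgroup.mem_comap, hk']
            exact k.2
          · apply Subtype.ext
            exact hk'
      exact ⟨((MulEquiv.ofBijective _ hbij).trans (K0Equiv (ZMod 2) n)).trans (slEquivGL n)⟩

end Cfsg.Agent.Lib.H6.TC2
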