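import Mathlib
import Cfsg.Agent.Lib.H6.TC2Hol5

set_option autoImplicit false

/-! The holomorph of an elementary abelian 2-group: centralizer of an involution of `U`
(helper6). -/

namespace Cfsg.Agent.Lib.H6.TC2

open Cfsg Matrix Module
open Cfsg.Agent.Lib.H6.TransvCent
open Cfsg.Agent.Lib.H1.QuadMul

theorem holomorph_main {G : Type*} [Group G] [Finite G] (n : ℕ) (hn : 1 ≤ n) (U M : Subgroup G)
    [hUn : U.Normal] (hU : Cfsg.IsElementaryAbelian 2 U) (hUcard : Nat.card ↥U = 2 ^ (n + 1))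
    (hUM : U ⊓ M = ⊥) (hUM' : U ⊔ M = ⊤)
    (hfaith : ∀ m ∈ M, (∀ u ∈ U, m * u * m⁻¹ = u) → m = 1)
    (hfull : ∀ φ : ↥U ≃* ↥U, ∃ m ∈ M, ∀ u : ↥U, ((φ u : ↥U) : G) = m * u * m⁻¹)
    (Z : Subgroup G) (hZU : Z ≤ U) (hZ : Nat.card ↥Z = 2) (Q : Subgroup G)
    (hQ : Q = pCoreOf 2 (Subgroup.centralizer (Z : Set G))) :
    Cfsg.IsExtraspecial 2 ↥Q ∧ Nat.card ↥Q = 2 ^ (2 * n + 1) ∧
    (∃ E : Subgroup G, E ≤ Q ∧ Cfsg.IsElementaryAbelian 2 E ∧ Nat.card ↥E = 2 ^ (n + 1)) ∧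
    Cfsg.IsLargeExtraspecial Q ∧
    ∃ K : Subgroup G, K ≤ Subgroup.centralizer (Z : Set G) ∧ Q ⊓ K = ⊥ ∧
      Q ⊔ K = Subgroup.centralizer (Z : Set G) ∧
      Nonempty (↥K ≃* Matrix.GeneralLinearGroup (Fin n) (ZMod 2)) := by
  haveI : IsEA 2 ↥U := ⟨fun x y => hU.1.is_comm.comm x y, fun v => by
    apply Subtype.ext
    rw [Subgroup.coe_pow, Subgroup.coe_one]
    exact hU.2 v v.2⟩
  -- the generator of `Z`
  obtain ⟨zZ, hzZ1, hzZu⟩ := (Nat.card_eq_two_iff' (1 : ↥Z)).1 hZ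
  have hz1 : (zZ : G) ≠ 1 := fun h => hzZ1 (Subtype.ext h)
  have hZmem : ∀ x, x ∈ Z ↔ x = 1 ∨ x = (zZ : G) := by
    intro x
    constructor
    · intro hx
      by_cases h : x = 1
      · exact Or.inl h
      · right
        have := hzZu ⟨x, hx⟩ (fun h' => h (congrArg Subtype.val h'))
        exact congrArg Subtype.val this
    · rintro (rfl | rfl)
      · exact one_mem _
      · exact zZ.2
  set zU : ↥U := ⟨(zZ : G), hZU zZ.2⟩ with hzU
  have hzU1 : zU ≠ 1 := fun h => hz1 (congrArg Subtype.val h)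
  obtain ⟨c, hc0⟩ := exists_coord hUcard zU hzU1
  have hcompl : U.IsComplement' M := by
    apply Subgroup.isComplement'_of_disjoint_and_mul_eq_univ (disjoint_iff.2 hUM)
    rw [← Subgroup.normal_mul, hUM', Subgroup.coe_top]
  have hθ := theta_injective U M c hcompl hfaith
  refine transfer hn (theta U M c hcompl) hθ U hU hUcard ?_ (zZ : G) ?_ ?_ Z hZmem hZ Q hQ
  · intro u hu
    have := theta_U U M c hcompl ⟨u, hu⟩
    rw [this]
    exact uRow_mem_U _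
  · have h1 := theta_U U M c hcompl zU
    have h2 : (zU : G) = (zZ : G) := rfl
    rw [h2] at h1
    rw [h1]
    show uRow (ZMod 2) n (Multiplicative.ofAdd (kap U c zU)) = _
    have h3 : kap U c zU = Pi.single 0 1 := hc0
    rw [h3, uRow_single]
  · intro s hs
    exact mem_range_theta U M c hcompl hfull hs.1

end Cfsg.Agent.Lib.H6.TC2
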