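import Cfsg.Agent.Lib.H6.TC

set_option autoImplicit false

/-!
# The mask of the nodes of a table given in chunks

Computed without accumulating the mask through `force`: the kernel's cache of weak head
normal forms degrades when many large literals agreeing in their low bits pass through it.
-/

namespace Cfsg.Agent.Lib.H6.TC

open Cfsg.Agent.Lib.H17.CosetCert

/-- the bit mask of the nodes of a list of rows -/
def maskR (B : ℕ) : List ℕ → ℕ
  | [] => 0
  | c :: t => Nat.lor (Nat.shiftLeft 1 (Nat.mod c B)) (maskR B t)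

/-- the bit mask of the nodes of a list of chunks of rows -/
def maskRAll (B : ℕ) : List (List ℕ) → ℕ
  | [] => 0
  | L :: Ls => Nat.lor (maskR B L) (maskRAll B Ls)

theorem tb_zero (j : ℕ) : tb 0 j = false := by
  rw [tb_eq_testBit, Nat.zero_testBit]

theorem tb_lor (a b j : ℕ) : tb (Nat.lor a b) j = (tb a j || tb b j) := by
  rw [tb_eq_testBit, tb_eq_testBit, tb_eq_testBit]
  exact Nat.testBit_or a b j

theorem tb_maskR (B : ℕ) (L : List ℕ) (j : ℕ) (h : tb (maskR B L) j = true) :
    ∃ c ∈ L, Nat.mod c B = j := by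
  induction L with
  | nil => rw [maskR, tb_zero] at h; exact absurd h (by simp)
  | cons c L ih =>
    rw [maskR, tb_lor, Bool.or_eq_true] at h
    rcases h with h | h
    · rw [tb_eq_testBit] at h
      change (1 <<< (Nat.mod c B)).testBit j = true at h
      rw [Nat.one_shiftLeft, Nat.testBit_two_pow] at h
      exact ⟨c, List.mem_cons_self, of_decide_eq_true h⟩
    · obtain ⟨c', hc', hj⟩ := ih h
      exact ⟨c', List.mem_cons_of_mem _ hc', hj⟩

theorem tb_maskRAll (B : ℕ) (Ls : List (List ℕ)) (j : ℕ) (h : tb (maskRAll B Ls) j = true) :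
    ∃ c ∈ Ls.flatten, Nat.mod c B = j := by
  induction Ls with
  | nil => rw [maskRAll, tb_zero] at h; exact absurd h (by simp)
  | cons L Ls ih =>
    rw [maskRAll, tb_lor, Bool.or_eq_true] at h
    rw [List.flatten_cons]
    rcases h with h | h
    · obtain ⟨c, hc, hj⟩ := tb_maskR B L j h
      exact ⟨c, List.mem_append_left _ hc, hj⟩
    · obtain ⟨c, hc, hj⟩ := ih h
      exact ⟨c, List.mem_append_right _ hc, hj⟩

end Cfsg.Agent.Lib.H6.TC
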