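import Cfsg.Agent.Lib.H6.TCMask

set_option autoImplicit false

/-!
# The mask of the nodes of a table given in chunks, with offsets

Each chunk comes with a base; the mask of the chunk is computed relative to the base (small
numbers) and shifted once.
-/

namespace Cfsg.Agent.Lib.H6.TC

open Cfsg.Agent.Lib.H17.CosetCert

/-- the bit mask of the nodes `≥ base` of a list of rows, relative to `base` -/
def maskRel (B base : ℕ) : List ℕ → ℕ
  | [] => 0
  | c :: t => Nat.lor (cond (Nat.ble base (Nat.mod c B))
      (Nat.shiftLeft 1 (Nat.sub (Nat.mod c B) base)) 0) (maskRel B base t)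

/-- the bit mask of the nodes of a list of chunks of rows with bases -/
def maskRAllO (B : ℕ) : List (ℕ × List ℕ) → ℕ
  | [] => 0
  | p :: Ls => Nat.lor (Nat.shiftLeft (maskRel B p.1 p.2) p.1) (maskRAllO B Ls)

theorem tb_maskRel (B base : ℕ) (L : List ℕ) (k : ℕ) (h : tb (maskRel B base L) k = true) :
    ∃ c ∈ L, base ≤ Nat.mod c B ∧ Nat.mod c B - base = k := by
  induction L with
  | nil => rw [maskRel, tb_zero] at h; exact absurd h (by simp)
  | cons c L ih =>
    rw [maskRel, tb_lor, Bool.or_eq_true] at h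
    rcases h with h | h
    · cases hb : Nat.ble base (Nat.mod c B) with
      | false => rw [hb, cond_false, tb_zero] at h; exact absurd h (by simp)
      | true =>
        rw [hb, cond_true, tb_eq_testBit] at h
        change (1 <<< (Nat.mod c B - base)).testBit k = true at h
        rw [Nat.one_shiftLeft, Nat.testBit_two_pow] at h
        exact ⟨c, List.mem_cons_self, Nat.ble_eq.mp hb, of_decide_eq_true h⟩
    · obtain ⟨c', hc', hj⟩ := ih h
      exact ⟨c', List.mem_cons_of_mem _ hc', hj⟩

theorem tb_shiftLeft (x b j : ℕ) (h : tb (Nat.shiftLeft x b) j = true) :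
    b ≤ j ∧ tb x (j - b) = true := by
  rw [tb_eq_testBit] at h
  change (x <<< b).testBit j = true at h
  rw [Nat.testBit_shiftLeft, Bool.and_eq_true] at h
  exact ⟨of_decide_eq_true h.1, by rw [tb_eq_testBit]; exact h.2⟩

theorem tb_maskRAllO (B : ℕ) (Ls : List (ℕ × List ℕ)) (j : ℕ)
    (h : tb (maskRAllO B Ls) j = true) :
    ∃ c ∈ (Ls.map Prod.snd).flatten, Nat.mod c B = j := by
  induction Ls with
  | nil => rw [maskRAllO, tb_zero] at h; exact absurd h (by simp)
  | cons p Ls ih =>
    rw [maskRAllO, tb_lor, Bool.or_eq_true] at h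
    rw [List.map_cons, List.flatten_cons]
    rcases h with h | h
    · obtain ⟨hle, h'⟩ := tb_shiftLeft _ _ _ h
      obtain ⟨c, hc, hb, hj⟩ := tb_maskRel B p.1 p.2 _ h'
      exact ⟨c, List.mem_append_left _ hc, by omega⟩
    · obtain ⟨c, hc, hj⟩ := ih h
      exact ⟨c, List.mem_append_right _ hc, hj⟩

end Cfsg.Agent.Lib.H6.TC
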