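import Mathlib
import Cfsg.Agent.Lib.H14.ThetaDefs

/-!
# S1632 piece THS (architect helper14): the functional equation `thetaS B (1/s) = s^12 * thetaS B s`,
deduced from the `n`-dimensional Gaussian Poisson summation (IND), the real summability (SUMM1) and the
lattice facts (LAT), all taken as hypotheses in `thetaS_inv_of`.
-/

set_option autoImplicit false

namespace Cfsg.Agent.Lib.H6.Theta

open Complex Matrix
open Cfsg.Agent.Lib.H14.Theta

theorem ths_qf_Br {n : ℕ} (B : Matrix (Fin n) (Fin n) ℤ) (x : Fin n → ℤ) :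
    qf (Br B) (zc x) = ((Bq B x : ℤ) : ℂ) := by
  unfold qf Br zc Bq
  simp only [dotProduct, mulVec, Matrix.map_apply]
  push_cast
  refine Finset.sum_congr rfl (fun i _ => ?_)
  rw [Finset.mul_sum]
  exact Finset.sum_congr rfl (fun j _ => by ring)

theorem ths_qfR_Br {n : ℕ} (B : Matrix (Fin n) (Fin n) ℤ) (x : Fin n → ℤ) :
    qfR (Br B) (zr x) = ((Bq B x : ℤ) : ℝ) := by
  unfold qfR Br zr Bq
  simp only [dotProduct, mulVec, Matrix.map_apply]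
  push_cast
  refine Finset.sum_congr rfl (fun i _ => ?_)
  rw [Finset.mul_sum]
  exact Finset.sum_congr rfl (fun j _ => by ring)

/-- `thetaS B 1` is a positive real number, in particular non-zero. -/
theorem ths_thetaS_one_ne_zero {n : ℕ}
    (hS1 : ∀ (A : Matrix (Fin n) (Fin n) ℝ), IsPD A → ∀ σ : ℝ, 0 < σ → ∀ β : Fin n → ℝ,
      Summable (fun x : Fin n → ℤ =>
        Real.exp (-Real.pi * σ * qfR A (zr x) + 2 * Real.pi * ∑ i, β i * (x i : ℝ))))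
    (B : Matrix (Fin n) (Fin n) ℤ) (hPD : IsPD (Br B)) : thetaS B 1 ≠ 0 := by
  have hsum : Summable (fun x : Fin n → ℤ => Real.exp (-Real.pi * ((Bq B x : ℤ) : ℝ))) := by
    have h := hS1 (Br B) hPD 1 one_pos 0
    refine h.congr (fun x => ?_)
    rw [ths_qfR_Br]
    simp
  have hpos : 0 < ∑' x : Fin n → ℤ, Real.exp (-Real.pi * ((Bq B x : ℤ) : ℝ)) :=
    hsum.tsum_pos (fun x => (Real.exp_pos _).le) 0 (Real.exp_pos _)
  have heq : thetaS B 1 =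
      ((∑' x : Fin n → ℤ, Real.exp (-Real.pi * ((Bq B x : ℤ) : ℝ)) : ℝ) : ℂ) := by
    unfold thetaS
    rw [Complex.ofReal_tsum]
    refine tsum_congr (fun x => ?_)
    push_cast
    rw [mul_one]
  rw [heq]
  exact_mod_cast hpos.ne'

/-- **THS**, modulo the other pieces (taken as hypotheses, in the exact form of the sigs). -/
theorem thetaS_inv_of {n : ℕ}
    (hIND : ∀ (A C : Matrix (Fin n) (Fin n) ℝ), IsPD A → A * C = 1 →
      ∃ κ : ℂ, ∀ s : ℂ, 0 < s.re → ∀ u : Fin n → ℂ,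
        ∑' x : Fin n → ℤ, gterm A s u x =
          κ * (1 / (s ^ (1 / 2 : ℂ)) ^ n) * ∑' y : Fin n → ℤ, dterm C s u y)
    (hS1 : ∀ (A : Matrix (Fin n) (Fin n) ℝ), IsPD A → ∀ σ : ℝ, 0 < σ → ∀ β : Fin n → ℝ,
      Summable (fun x : Fin n → ℤ =>
        Real.exp (-Real.pi * σ * qfR A (zr x) + 2 * Real.pi * ∑ i, β i * (x i : ℝ))))
    (B : Matrix (Fin n) (Fin n) ℤ) (hPD : IsPD (Br B)) (hinv : Br B * Br B⁻¹ = 1)
    (he : ∃ e : (Fin n → ℤ) ≃ (Fin n → ℤ), ∀ x, Bq B⁻¹ (e x) = Bq B x)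
    (s : ℂ) (hs : 0 < s.re) :
    (s ^ (1 / 2 : ℂ)) ^ n * thetaS B s = thetaS B (1 / s) := by
  obtain ⟨κ, hκ⟩ := hIND (Br B) (Br B⁻¹) hPD hinv
  obtain ⟨e, he⟩ := he
  have hg : ∀ (t : ℂ) (x : Fin n → ℤ),
      gterm (Br B) t 0 x = cexp (-(Real.pi : ℂ) * t * ((Bq B x : ℤ) : ℂ)) := by
    intro t x
    unfold gterm
    rw [ths_qf_Br]
    simp
  have hd : ∀ (t : ℂ) (y : Fin n → ℤ),
      dterm (Br B⁻¹) t 0 y = cexp (-(Real.pi : ℂ) * (1 / t) * ((Bq B⁻¹ y : ℤ) : ℂ)) := by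
    intro t y
    unfold dterm
    have h0 : (fun i => ((y i : ℤ) : ℂ) + I * (0 : Fin n → ℂ) i) = zc y := by
      funext i
      simp [zc]
    rw [h0, ths_qf_Br]
    congr 1
    ring
  have hmain : ∀ t : ℂ, 0 < t.re →
      thetaS B t = κ * (1 / (t ^ (1 / 2 : ℂ)) ^ n) * thetaS B (1 / t) := by
    intro t ht
    have h := hκ t ht 0
    simp only [hg, hd] at h
    unfold thetaS
    rw [h]
    congr 1
    rw [← e.tsum_eq]
    simp only [he]
  have hκ1 : κ = 1 := by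
    have h1 := hmain 1 (by simp)
    have hne := ths_thetaS_one_ne_zero hS1 B hPD
    simp only [Complex.one_cpow, one_pow, div_one, mul_one] at h1
    have h2 : (κ - 1) * thetaS B 1 = 0 := by
      rw [sub_mul, one_mul, ← h1, sub_self]
    rcases mul_eq_zero.1 h2 with h3 | h3
    · exact sub_eq_zero.1 h3
    · exact absurd h3 hne
  have hs0 : s ≠ 0 := by
    intro h
    rw [h] at hs
    simp at hs
  have hpow0 : (s ^ (1 / 2 : ℂ)) ^ n ≠ 0 :=
    pow_ne_zero _ (by rw [Ne, Complex.cpow_eq_zero_iff]; tauto)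
  have h := hmain s hs
  rw [hκ1, one_mul] at h
  rw [h]
  field_simp

theorem ths_sqrt_pow (s : ℂ) : (s ^ (1 / 2 : ℂ)) ^ 24 = s ^ 12 := by
  have h2 : (s ^ (1 / 2 : ℂ)) ^ 2 = s := by
    have := Complex.cpow_nat_inv_pow s (n := 2) two_ne_zero
    rw [one_div]
    exact_mod_cast this
  calc (s ^ (1 / 2 : ℂ)) ^ 24 = ((s ^ (1 / 2 : ℂ)) ^ 2) ^ 12 := by rw [← pow_mul]
    _ = s ^ 12 := by rw [h2]

/-- **THS** for rank `24`, modulo the other pieces. -/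
theorem thetaS_inv_of24
    (hIND : ∀ (A C : Matrix (Fin 24) (Fin 24) ℝ), IsPD A → A * C = 1 →
      ∃ κ : ℂ, ∀ s : ℂ, 0 < s.re → ∀ u : Fin 24 → ℂ,
        ∑' x : Fin 24 → ℤ, gterm A s u x =
          κ * (1 / (s ^ (1 / 2 : ℂ)) ^ 24) * ∑' y : Fin 24 → ℤ, dterm C s u y)
    (hS1 : ∀ (A : Matrix (Fin 24) (Fin 24) ℝ), IsPD A → ∀ σ : ℝ, 0 < σ → ∀ β : Fin 24 → ℝ,
      Summable (fun x : Fin 24 → ℤ =>
        Real.exp (-Real.pi * σ * qfR A (zr x) + 2 * Real.pi * ∑ i, β i * (x i : ℝ))))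
    (B : Matrix (Fin 24) (Fin 24) ℤ) (hPD : IsPD (Br B)) (hinv : Br B * Br B⁻¹ = 1)
    (he : ∃ e : (Fin 24 → ℤ) ≃ (Fin 24 → ℤ), ∀ x, Bq B⁻¹ (e x) = Bq B x)
    (s : ℂ) (hs : 0 < s.re) :
    thetaS B (1 / s) = s ^ 12 * thetaS B s := by
  rw [← thetaS_inv_of hIND hS1 B hPD hinv he s hs, ths_sqrt_pow]

end Cfsg.Agent.Lib.H6.Theta
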