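import Mathlib
import Cfsg.Agent.Lib.H14.ThetaDefs
import Cfsg.Agent.Lib.H6.ThetaTHS
import Cfsg.Agent.Lib.H12.ThetaINDa
import Cfsg.Agent.Lib.H22.ThetaLA
import Cfsg.Agent.Lib.H24.ThetaSUMM2
import Cfsg.Agent.Lib.H24.ThetaSUMM3
import Cfsg.Agent.Lib.H26.ThetaSUMM1
import Cfsg.Agent.Lib.H21.ThetaLATa
import Cfsg.Agent.Lib.H21.ThetaLATb

/-!
# S1632 pieces IND and THS with their exact signatures (architect helper14), assembled from the landed
pieces LA (helper22), SUMM1 (helper26), SUMM2/SUMM3 (helper24), IND core (helper12), LAT (helper21).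
-/

set_option autoImplicit false

namespace Cfsg.Agent.Lib.H6.Theta

open Complex Matrix
open Cfsg.Agent.Lib.H14.Theta

/-- The bundle of LA and SUMM pieces needed by helper12's induction. -/
theorem ths_pieces : Cfsg.Agent.Lib.H12.Theta.Pieces where
  schur_pos := fun _ A hA => Cfsg.Agent.Lib.H22.Theta.schur_pos A hA
  schur_isPD := fun _ A hA => Cfsg.Agent.Lib.H22.Theta.schur_isPD A hA
  schur_inv := fun _ A C hA hAC => Cfsg.Agent.Lib.H22.Theta.schur_inv A C hA hAC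
  isPD_inv := fun _ A C hA hAC => Cfsg.Agent.Lib.H22.Theta.isPD_inv A C hA hAC
  qf_cons := fun _ A hA x₀ x' => Cfsg.Agent.Lib.H22.Theta.qf_cons A hA x₀ x'
  qf_inv_cons := fun _ A C hA hAC v₀ v' => Cfsg.Agent.Lib.H22.Theta.qf_inv_cons A C hA hAC v₀ v'
  summable_gterm := fun _ A hA s hs u =>
    Cfsg.Agent.Lib.H24.Theta.summable_gterm
      (fun A' hA' σ hσ β => Cfsg.Agent.Lib.H26.Theta.summable_real_gauss A' hA' σ hσ β) A hA s hs u
  summable_dterm := fun _ C hC s hs u =>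
    Cfsg.Agent.Lib.H24.Theta.summable_dterm
      (fun A' hA' σ hσ β => Cfsg.Agent.Lib.H26.Theta.summable_real_gauss A' hA' σ hσ β) C hC s hs u

/-- **IND** (exact sig): the `n`-dimensional Gaussian Poisson summation formula. -/
theorem gauss_poisson_lin (n : ℕ) (A C : Matrix (Fin n) (Fin n) ℝ) (hA : IsPD A) (hAC : A * C = 1) :
    ∃ κ : ℂ, ∀ s : ℂ, 0 < s.re → ∀ u : Fin n → ℂ,
      ∑' x : Fin n → ℤ, gterm A s u x =
        κ * (1 / (s ^ (1 / 2 : ℂ)) ^ n) * ∑' y : Fin n → ℤ, dterm C s u y :=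
  Cfsg.Agent.Lib.H12.Theta.gauss_poisson_of_pieces ths_pieces n A C hA hAC

/-- **THS** (exact sig): the functional equation of the theta series. -/
theorem thetaS_inv (B : Matrix (Fin 24) (Fin 24) ℤ) (hsymm : B.IsSymm)
    (hpos : ∀ x : Fin 24 → ℤ, x ≠ 0 → 0 < Bq B x) (hdet : B.det = 1) (s : ℂ) (hs : 0 < s.re) :
    thetaS B (1 / s) = s ^ 12 * thetaS B s :=
  thetaS_inv_of24 (fun A C hA hAC => gauss_poisson_lin 24 A C hA hAC)
    (fun A hA σ hσ β => Cfsg.Agent.Lib.H26.Theta.summable_real_gauss A hA σ hσ β) B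
    (Cfsg.Agent.Lib.H21.Theta.isPD_Br B hsymm hpos hdet)
    (Cfsg.Agent.Lib.H21.Theta.Br_mul_inv B hdet)
    (Cfsg.Agent.Lib.H21.Theta.exists_equiv_dual B hsymm hdet) s hs

end Cfsg.Agent.Lib.H6.Theta
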