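import Cfsg.Agent.Lib.H6.TitsPerm

set_option autoImplicit false
set_option maxRecDepth 100000

/-!
# The order of the presented Tits group

The chain of stabilisers of the points `0, 960, 702` has orbits of lengths `1755, 1024, 10`, so
the presented group has exactly `17971200` elements and acts faithfully on the `1755` points.
-/

namespace Cfsg.Agent.Lib.H6.TitsPerm

open Cfsg.Agent.Lib.H6.WordPres Cfsg.Agent.Lib.H17.CosetCert Cfsg.Agent.Lib.H6.RuData
  Cfsg.Agent.Lib.H6.TitsPres Cfsg.Agent.Lib.H6.PermTab Cfsg.Agent.Lib.H6.PermFast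
  Cfsg.Agent.Lib.H6.Chain Cfsg.Agent.Lib.H17.Sgs

theorem sg_ex : ∀ x < 14, ∃ g : G, ψ g = σ TiP.T TiP.iv 14 n x :=
  fun x hx => ⟨(lv x)⁻¹, ψ_lv_inv x hx⟩

theorem allbits : ∀ i < n, tb TiP.mALL i = true :=
  Cfsg.Agent.Lib.H17.Masks.all_of_count TiP.mALL n TiP.countALL

theorem fix0 : ∀ x, 4 ≤ x → x < 14 → TiP.T x 0 = 0 := by
  intro x h1 h2
  interval_cases x <;> decide +kernel

theorem fix960 : ∀ x, 10 ≤ x → x < 14 → TiP.T x 960 = 960 := by
  intro x h1 h2
  interval_cases x <;> decide +kernel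

/-- the conditions of the first level, for any group mapping onto the letters `x < 4` -/
theorem hs0 : ∀ i < n, tb TiP.mALL i = true →
    i = 0 ∨ ∃ x, 0 ≤ x ∧ x < 0 + 4 ∧ tb TiP.mALL (TiP.T x i) = true ∧
      (fun j : ℕ => j) (TiP.T x i) < (fun j : ℕ => j) i := by
  intro i hi _
  by_cases h0 : i = 0
  · exact Or.inl h0
  · obtain ⟨x, hx, hlt⟩ := (TiP.all_chunks i hi).2.2 h0
    exact Or.inr ⟨x, Nat.zero_le _, by omega,
      allbits _ ((TiP.all_chunks i hi).2.1 x (by omega)), hlt⟩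

theorem lv0 : 1755 * Nat.card (stabL ψ [0]) ≤ Nat.card (stabL ψ []) := by
  refine step' TiP.T (fun i => i) TiP.iv 14 n ψ good [] 0 (by norm_num) TiP.mALL 0 4 1755
    (by norm_num) ?_ ?_ (allbits 0 (by norm_num)) hs0 TiP.countALL
  · intro x _ h2
    exact sg_ex x (by omega)
  · intro x _ _ c hc
    simp at hc

theorem lv1 : 1024 * Nat.card (stabL ψ [960, 0]) ≤ Nat.card (stabL ψ [0]) := by
  refine step' TiP.T TiP.RP TiP.iv 14 n ψ good [0] 960 (by norm_num) TiP.mQ1024 4 6 1024
    (by norm_num) ?_ ?_ TiP.rootQ1024 TiP.orbQ1024_all TiP.countQ1024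
  · intro x _ h2
    exact sg_ex x (by omega)
  · intro x h1 h2 c hc
    rw [List.mem_singleton] at hc
    subst hc
    exact fix0 x h1 (by omega)

theorem lv2 : 10 * Nat.card (stabL ψ [702, 960, 0]) ≤ Nat.card (stabL ψ [960, 0]) := by
  refine step' TiP.T TiP.RV TiP.iv 14 n ψ good [960, 0] 702 (by norm_num) TiP.mV 10 4 10
    (by norm_num) ?_ ?_ TiP.rootV TiP.orbV_all TiP.countV
  · intro x _ h2
    exact sg_ex x (by omega)
  · intro x h1 h2 c hc
    simp only [List.mem_cons, List.not_mem_nil, or_false] at hc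
    rcases hc with rfl | rfl
    · exact fix960 x h1 (by omega)
    · exact fix0 x (by omega) (by omega)

theorem card_eq : Nat.card G = 17971200 := by
  apply le_antisymm TitsPres.card_le.2
  have h0 := lv0
  have h1 := lv1
  have h2 := lv2
  have h3 : 1 ≤ Nat.card (stabL ψ [702, 960, 0]) := one_le_card ψ _
  rw [card_stabL_nil] at h0
  nlinarith

theorem card_stab_last : Nat.card (stabL ψ [702, 960, 0]) = 1 := by
  have h0 := lv0
  have h1 := lv1
  have h2 := lv2
  have h3 : 1 ≤ Nat.card (stabL ψ [702, 960, 0]) := one_le_card ψ _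
  rw [card_stabL_nil, card_eq] at h0
  nlinarith

theorem card_stab0 : Nat.card (stabL ψ [0]) = 10240 := by
  have h0 := lv0
  have h1 := lv1
  have h2 := lv2
  have h3 : 1 ≤ Nat.card (stabL ψ [702, 960, 0]) := one_le_card ψ _
  rw [card_stabL_nil, card_eq] at h0
  apply le_antisymm
  · omega
  · nlinarith

theorem ψ_injective : Function.Injective ψ := by
  rw [← MonoidHom.ker_eq_bot_iff, eq_bot_iff]
  intro g hg
  have hmem : g ∈ stabL ψ [702, 960, 0] := by
    intro c _ hc
    rw [MonoidHom.mem_ker.mp hg]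
    rfl
  have hbot : stabL ψ [702, 960, 0] = ⊥ := Subgroup.eq_bot_of_card_le _ (le_of_eq card_stab_last)
  rw [hbot] at hmem
  exact hmem

end Cfsg.Agent.Lib.H6.TitsPerm
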