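import Cfsg.Agent.Lib.H6.TitsPres
import Cfsg.Agent.Lib.H6.TiP.Good
import Cfsg.Agent.Lib.H6.TiP.Orb
import Cfsg.Agent.Lib.H6.Chain
import Cfsg.Agent.Lib.H17.Masks

set_option autoImplicit false
set_option maxRecDepth 100000

/-!
# The presented Tits group on `1755` points: the order

The permutation representation `ψ` of the presented group on `1755` points, the lower bound for
the order from a chain of stabilisers, and the consequences: the order is `17971200`, the
representation is faithful and the stabiliser of a point is generated by three given elements.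
-/

namespace Cfsg.Agent.Lib.H6.TitsPerm

open Cfsg.Agent.Lib.H6.WordPres Cfsg.Agent.Lib.H17.CosetCert Cfsg.Agent.Lib.H6.RuData
  Cfsg.Agent.Lib.H6.TitsPres Cfsg.Agent.Lib.H6.PermTab Cfsg.Agent.Lib.H6.PermFast
  Cfsg.Agent.Lib.H6.Chain Cfsg.Agent.Lib.H17.Sgs

/-- the number of points -/
abbrev n : ℕ := 1755

theorem good : Good TiP.T TiP.iv 14 n := by
  refine ⟨by decide, by decide, fun x hx i hi => (TiP.all_chunks i hi).2.1 x hx, ?_⟩
  intro x hx i hi
  have hmem : ([x, TiP.iv x], ([] : List ℕ)) ∈ TiP.eqPairs := by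
    interval_cases x <;> decide
  have := (TiP.all_chunks i hi).1 _ hmem
  rw [applyW_cons, applyW_cons, applyW_nil, applyW_nil] at this
  exact this

/-- the permutation of a letter -/
noncomputable def sg (x : ℕ) : Equiv.Perm (Fin n) := σ TiP.T TiP.iv 14 n x

/-- the letter assignment -/
noncomputable def eps (x : ℕ) : Equiv.Perm (Fin n) := (sg x)⁻¹

theorem sg_iv (x : ℕ) (hx : x < 14) : sg (TiP.iv x) = (sg x)⁻¹ := σ_iv _ _ _ _ good x hx

theorem eps_iv (x : ℕ) (hx : x < 14) : eps (TiP.iv x) = (eps x)⁻¹ := by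
  unfold eps
  rw [sg_iv x hx]

theorem eps_eq (u v : List ℕ) (hmem : (u, v) ∈ TiP.eqPairs) (hu : ∀ x ∈ u, x < 14)
    (hv : ∀ x ∈ v, x < 14) : (u.map eps).prod = (v.map eps).prod :=
  prod_inv_eq_of_apply_eq _ _ _ _ good u v hu hv
    (fun i hi => (TiP.all_chunks i hi).1 _ hmem)

theorem eps_one (w : List ℕ) (hmem : (w, ([] : List ℕ)) ∈ TiP.eqPairs) (hw : ∀ x ∈ w, x < 14) :
    (w.map eps).prod = 1 := by
  have := eps_eq w [] hmem hw (by simp)
  simpa using this

/-- the images of the generators -/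
noncomputable def fψ (j : ℕ) : Equiv.Perm (Fin n) := eps (2 * j)

theorem ltv_fψ : ∀ x < 4, ltv fψ x = eps x := by
  intro x hx
  interval_cases x
  · simp [ltv, fψ]
  · have h := eps_iv 0 (by norm_num)
    have h1 : TiP.iv 0 = 1 := by decide
    rw [h1] at h
    simp [ltv, fψ, h]
  · simp [ltv, fψ]
  · have h := eps_iv 2 (by norm_num)
    have h1 : TiP.iv 2 = 3 := by decide
    rw [h1] at h
    simp [ltv, fψ, h]

set_option maxHeartbeats 0 in
theorem WT_sub : ∀ w ∈ TitsPres.WT, (w, ([] : List ℕ)) ∈ TiP.eqPairs ∧ ∀ x ∈ w, x < 14 := by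
  decide +kernel

theorem map_ltv_fψ (w : List ℕ) (hw : ∀ x ∈ w, x < 4) : w.map (ltv fψ) = w.map eps := by
  apply List.map_congr_left
  intro x hx
  exact ltv_fψ x (hw x hx)

theorem fψ_rel : ∀ w ∈ TitsPres.WT, (w.map (ltv fψ)).prod = 1 := by
  intro w hw
  rw [map_ltv_fψ w (WT_lt w hw)]
  exact eps_one w (WT_sub w hw).1 (WT_sub w hw).2

/-- the permutation representation on `1755` points -/
noncomputable def ψ : G →* Equiv.Perm (Fin n) := lift 2 TitsPres.WT fψ WT_lt fψ_rel

theorem ψ_e (x : ℕ) (hx : x < 4) : ψ (e 2 TitsPres.WT x) = eps x := by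
  unfold ψ
  rw [lift_e 2 TitsPres.WT fψ WT_lt fψ_rel x hx, ltv_fψ x hx]

theorem ψ_prod (w : List ℕ) (hw : ∀ x ∈ w, x < 4) :
    ψ ((w.map (e 2 TitsPres.WT)).prod) = (w.map eps).prod := by
  unfold ψ
  rw [lift_prod_e 2 TitsPres.WT fψ WT_lt fψ_rel w hw, map_ltv_fψ w hw]

/-! ## The stabiliser elements -/

/-- the words of the generators of the point stabiliser -/
def pw (k : ℕ) : List ℕ := pW.getD k []

/-- the generators of the point stabiliser -/
noncomputable def pe (k : ℕ) : G := ((pw k).map (e 2 TitsPres.WT)).prod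

theorem pw_lt : ∀ k < 3, ∀ x ∈ pw k, x < 4 := by decide

theorem pw_pair : ∀ k < 3, (pw k, [4 + 2 * k]) ∈ TiP.eqPairs := by decide

theorem ψ_pe (k : ℕ) (hk : k < 3) : ψ (pe k) = eps (4 + 2 * k) := by
  unfold pe
  rw [ψ_prod (pw k) (pw_lt k hk)]
  have h := eps_eq (pw k) [4 + 2 * k] (pw_pair k hk)
    (fun x hx => lt_trans (pw_lt k hk x hx) (by norm_num))
    (by intro x hx; rw [List.mem_singleton] at hx; omega)
  simpa using h

/-- the value of a letter `4 ≤ x < 10` -/
noncomputable def pl (x : ℕ) : G := if x % 2 = 0 then pe ((x - 4) / 2) else (pe ((x - 5) / 2))⁻¹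

theorem ψ_pl : ∀ x, 4 ≤ x → x < 10 → ψ (pl x) = eps x := by
  intro x h1 h2
  unfold pl
  by_cases h : x % 2 = 0
  · rw [if_pos h, ψ_pe _ (by omega)]
    congr 1
    omega
  · rw [if_neg h, map_inv, ψ_pe _ (by omega), ← eps_iv _ (by omega)]
    congr 1
    unfold TiP.iv
    have : (4 + 2 * ((x - 5) / 2)) % 2 = 0 := by omega
    rw [if_pos this]
    omega

/-- the words of the generators of the stabiliser of two points, in the letters `4, …, 9` -/
def vw (k : ℕ) : List ℕ := if k = 0 then [6, 4, 6, 5, 6] else [6, 5, 6, 9, 6, 8]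

/-- the generators of the stabiliser of two points -/
noncomputable def ve (k : ℕ) : G := ((vw k).map pl).prod

theorem vw_lt : ∀ k < 2, ∀ x ∈ vw k, 4 ≤ x ∧ x < 10 := by decide

theorem vw_pair : ∀ k < 2, (vw k, [10 + 2 * k]) ∈ TiP.eqPairs := by decide

theorem ψ_ve (k : ℕ) (hk : k < 2) : ψ (ve k) = eps (10 + 2 * k) := by
  unfold ve
  rw [map_list_prod, List.map_map]
  have h1 : (vw k).map (ψ ∘ pl) = (vw k).map eps := by
    apply List.map_congr_left
    intro x hx
    exact ψ_pl x (vw_lt k hk x hx).1 (vw_lt k hk x hx).2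
  rw [h1]
  have h := eps_eq (vw k) [10 + 2 * k] (vw_pair k hk)
    (fun x hx => lt_trans (vw_lt k hk x hx).2 (by norm_num))
    (by intro x hx; rw [List.mem_singleton] at hx; omega)
  simpa using h

/-- the value of a letter `10 ≤ x < 14` -/
noncomputable def vl (x : ℕ) : G := if x % 2 = 0 then ve ((x - 10) / 2) else (ve ((x - 11) / 2))⁻¹

theorem ψ_vl : ∀ x, 10 ≤ x → x < 14 → ψ (vl x) = eps x := by
  intro x h1 h2
  unfold vl
  by_cases h : x % 2 = 0
  · rw [if_pos h, ψ_ve _ (by omega)]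
    congr 1
    omega
  · rw [if_neg h, map_inv, ψ_ve _ (by omega), ← eps_iv _ (by omega)]
    congr 1
    unfold TiP.iv
    have : (10 + 2 * ((x - 11) / 2)) % 2 = 0 := by omega
    rw [if_pos this]
    omega

/-- the group element of every letter -/
noncomputable def lv (x : ℕ) : G := if x < 4 then e 2 TitsPres.WT x else if x < 10 then pl x else vl x

theorem ψ_lv : ∀ x < 14, ψ (lv x) = eps x := by
  intro x hx
  unfold lv
  by_cases h4 : x < 4
  · rw [if_pos h4, ψ_e x h4]
  · rw [if_neg h4]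
    by_cases h10 : x < 10
    · rw [if_pos h10, ψ_pl x (by omega) h10]
    · rw [if_neg h10, ψ_vl x (by omega) hx]

theorem ψ_lv_inv : ∀ x < 14, ψ (lv x)⁻¹ = sg x := by
  intro x hx
  rw [map_inv, ψ_lv x hx]
  exact inv_inv _

end Cfsg.Agent.Lib.H6.TitsPerm
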