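import Cfsg.Agent.Lib.H6.WordSubst
import Cfsg.Agent.Lib.H6.TCApply
import Cfsg.Agent.Lib.H6.RuData
import Cfsg.Agent.Lib.H6.L25TC.Cert
import Cfsg.Agent.Lib.H6.TiTC.Cert

set_option autoImplicit false
set_option maxRecDepth 100000

/-!
# A presentation of the Tits group: the upper bound for the order

The group `G = ⟨a, b | a², b³, (ab)¹³, [a,b]⁵, [a,bab]⁴, ((ab)⁴ab⁻¹)⁶, …⟩`, with further relators
making two words `m`, `n` satisfy a presentation of `L2(25)`, has at most `17971200` elements:
certified coset enumerations give `|⟨m, n⟩| ≤ 1950 · 4` and `[G : ⟨m, n⟩] ≤ 2304`.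
-/

namespace Cfsg.Agent.Lib.H6.TitsPres

open Cfsg.Agent.Lib.H6.WordPres Cfsg.Agent.Lib.H6.TCApply Cfsg.Agent.Lib.H17.CosetCert
  Cfsg.Agent.Lib.H6.RuData

/-- the words substituted for the generators of `L2(25)` -/
def sub (j : ℕ) : List ℕ := if j = 0 then W1 else W2

/-- the relators: those of the Tits group and those of `L2(25)` in the two words -/
def WT : List (List ℕ) := tits ++ WD.map fun w => w.flatMap (subst sub)

/-- the presented group `L2(25)` -/
abbrev D : Type := P 2 WD

/-- the presented Tits group -/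
abbrev G : Type := P 2 WT

theorem WD_lt : ∀ w ∈ WD, ∀ x ∈ w, x < 2 * 2 := by decide

theorem WT_lt : ∀ w ∈ WT, ∀ x ∈ w, x < 2 * 2 := by decide +kernel

/-! ## The group `L2(25)` -/

theorem d_pow : (e 2 WD 0) ^ 4 = 1 := by
  have h := rel_trivial 2 WD (List.replicate 4 0) (by decide)
  rw [prod_replicate_letter] at h
  exact h

theorem l25_bound : Bound L25TC.iv 4 L25TC.words 1950 := fun _ _ _ _ _ γ hiv q0 hw hgen =>
  L25TC.bound γ hiv q0 hw hgen

theorem l25_iv : ∀ x < 4, L25TC.iv x = iv x := by decide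

set_option maxHeartbeats 0 in
theorem l25_words : L25TC.words.toList.all (okWord L25TC.iv 4 WD [[0]]) = true := by
  decide +kernel

theorem index_le_m :
    (Subgroup.zpowers (e 2 WD 0)).index ≠ 0 ∧ (Subgroup.zpowers (e 2 WD 0)).index ≤ 1950 := by
  refine index_le (e 2 WD) (Subgroup.zpowers (e 2 WD 0)) L25TC.iv 4 ?_ WD [[0]]
    (rel_trivial 2 WD) ?_ L25TC.words l25_words (closure_e 2 WD) 1950 l25_bound
  · intro x hx
    rw [l25_iv x hx]
    exact e_iv 2 WD x
  · intro w hw
    rw [List.mem_singleton] at hw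
    subst hw
    simpa using Subgroup.mem_zpowers (e 2 WD 0)

theorem cardD : Finite D ∧ Nat.card D ≤ 7800 :=
  card_le_of_index_zpowers (e 2 WD 0) 4 1950 (by norm_num) d_pow index_le_m

instance : Finite D := cardD.1

/-! ## The subgroup `⟨m, n⟩` of the Tits group -/

/-- the images of the generators of `L2(25)` -/
def fD (j : ℕ) : G := ((sub j).map (ltv (g 2 WT))).prod

/-- the element `m` -/
def mm : G := (W1.map (e 2 WT)).prod

/-- the element `n` -/
def nn : G := (W2.map (e 2 WT)).prod

theorem fD_rel : ∀ w ∈ WD, (w.map (ltv fD)).prod = 1 := by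
  intro w hw
  have h := prod_subst (g 2 WT) sub w
  have hmem : w.flatMap (subst sub) ∈ WT :=
    List.mem_append_right _ (List.mem_map_of_mem hw)
  exact h.trans (rel_trivial 2 WT _ hmem)

/-- the homomorphism from `L2(25)` -/
noncomputable def κ : D →* G := lift 2 WD fD WD_lt fD_rel

theorem κ_m : κ (e 2 WD 0) = mm := by
  unfold κ
  rw [lift_e 2 WD fD WD_lt fD_rel 0 (by norm_num)]
  rfl

theorem κ_n : κ (e 2 WD 2) = nn := by
  unfold κ
  rw [lift_e 2 WD fD WD_lt fD_rel 2 (by norm_num)]
  rfl

/-- the subgroup `⟨m, n⟩` -/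
def DD : Subgroup G := Subgroup.closure {mm, nn}

theorem DD_le : DD ≤ κ.range := by
  unfold DD
  rw [Subgroup.closure_le]
  rintro x (rfl | rfl)
  · exact ⟨_, κ_m⟩
  · exact ⟨_, κ_n⟩

instance : Finite κ.range := Finite.of_surjective κ.rangeRestrict κ.rangeRestrict_surjective

instance : Finite DD := Finite.of_injective (Subgroup.inclusion DD_le) (Subgroup.inclusion_injective DD_le)

theorem card_DD : Nat.card DD ≤ 7800 := by
  have h1 : Nat.card DD ≤ Nat.card κ.range := Subgroup.card_le_of_le DD_le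
  have h2 : Nat.card κ.range ≤ Nat.card D :=
    Nat.card_le_card_of_surjective κ.rangeRestrict κ.rangeRestrict_surjective
  exact le_trans h1 (le_trans h2 cardD.2)

theorem ti_bound : Bound TiTC.iv 4 TiTC.words 2304 := fun _ _ _ _ _ γ hiv q0 hw hgen =>
  TiTC.bound γ hiv q0 hw hgen

theorem ti_iv : ∀ x < 4, TiTC.iv x = iv x := by decide

set_option maxHeartbeats 0 in
theorem ti_words : TiTC.words.toList.all (okWord TiTC.iv 4 tits [W1, W2]) = true := by
  decide +kernel

theorem index_le_DD : DD.index ≠ 0 ∧ DD.index ≤ 2304 := by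
  refine index_le (e 2 WT) DD TiTC.iv 4 ?_ tits [W1, W2] ?_ ?_ TiTC.words ti_words
    (closure_e 2 WT) 2304 ti_bound
  · intro x hx
    rw [ti_iv x hx]
    exact e_iv 2 WT x
  · intro w hw
    exact rel_trivial 2 WT w (List.mem_append_left _ hw)
  · intro w hw
    simp only [List.mem_cons, List.not_mem_nil, or_false] at hw
    rcases hw with rfl | rfl
    · exact Subgroup.subset_closure (Or.inl rfl)
    · exact Subgroup.subset_closure (Or.inr rfl)

theorem card_le : Finite G ∧ Nat.card G ≤ 17971200 := by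
  have hmul := DD.card_mul_index
  have hpos : 0 < Nat.card DD := Nat.card_pos
  have hfin : Finite G := by
    apply Nat.finite_of_card_ne_zero
    rw [← hmul]
    exact Nat.mul_ne_zero hpos.ne' index_le_DD.1
  refine ⟨hfin, ?_⟩
  rw [← hmul]
  calc Nat.card DD * DD.index ≤ 7800 * 2304 := Nat.mul_le_mul card_DD index_le_DD.2
    _ = 17971200 := by norm_num

instance : Finite G := card_le.1

end Cfsg.Agent.Lib.H6.TitsPres
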