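import Cfsg.Agent.Lib.H6.TitsOrder
import Cfsg.Agent.Lib.H17.Iwa
import Cfsg.Prelude.Def_Exceptional

set_option autoImplicit false
set_option maxRecDepth 100000

/-!
# The presented Tits group is simple

Iwasawa's criterion for the primitive action on `1755` points: the stabiliser of a point is
generated by three elements commuting with the involution `a`, whose conjugates generate the
group, and the group is perfect.
-/

namespace Cfsg.Agent.Lib.H6.TitsPerm

open Cfsg.Agent.Lib.H6.WordPres Cfsg.Agent.Lib.H17.CosetCert Cfsg.Agent.Lib.H6.RuData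
  Cfsg.Agent.Lib.H6.TitsPres Cfsg.Agent.Lib.H6.PermTab Cfsg.Agent.Lib.H6.PermFast
  Cfsg.Agent.Lib.H6.Chain Cfsg.Agent.Lib.H17.Sgs Cfsg.Agent.Lib.H17.Iwa
  Cfsg.Agent.Lib.H17.Masks MulAction
open scoped Pointwise

/-! ## Generalities -/

theorem eq_one_of_pow_3_13 {K : Type*} [Group K] (x : K) (h3 : x ^ 3 = 1) (h13 : x ^ 13 = 1) :
    x = 1 := by
  have := pow_gcd_eq_one.mpr ⟨h3, h13⟩
  simpa using this

/-- a normal subgroup containing `a` contains `b`, if `b³ = (ab)¹³ = 1` -/
theorem mem_normal_of_23 {K : Type*} [Group K] (N : Subgroup K) [N.Normal] (a b : K)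
    (ha : a ∈ N) (hb : b ^ 3 = 1) (hab : (a * b) ^ 13 = 1) : b ∈ N := by
  rw [← QuotientGroup.eq_one_iff]
  have h1 : ((a : K) : K ⧸ N) = 1 := (QuotientGroup.eq_one_iff a).mpr ha
  have h3 : ((b : K) : K ⧸ N) ^ 3 = 1 := by
    rw [← QuotientGroup.mk_pow, hb]
    rfl
  have h13 : ((b : K) : K ⧸ N) ^ 13 = 1 := by
    have : (((a * b : K) : K ⧸ N)) ^ 13 = 1 := by
      rw [← QuotientGroup.mk_pow, hab]
      rfl
    rw [QuotientGroup.mk_mul, h1, one_mul] at this
    exact this
  exact eq_one_of_pow_3_13 _ h3 h13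

/-- a group generated by `a`, `b` with `a² = b³ = (ab)¹³ = 1` is perfect -/
theorem perfect_of_23 {K : Type*} [Group K] (a b : K) (ha : a ^ 2 = 1) (hb : b ^ 3 = 1)
    (hab : (a * b) ^ 13 = 1) : a ∈ commutator K ∧ b ∈ commutator K := by
  have hA : (Abelianization.of a) ^ 2 = 1 := by rw [← map_pow, ha, map_one]
  have hB : (Abelianization.of b) ^ 3 = 1 := by rw [← map_pow, hb, map_one]
  have hAB : (Abelianization.of a * Abelianization.of b) ^ 13 = 1 := by
    rw [← map_mul, ← map_pow, hab, map_one]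
  rw [mul_pow] at hAB
  have hA13 : (Abelianization.of a) ^ 13 = Abelianization.of a := by
    calc (Abelianization.of a) ^ 13 = ((Abelianization.of a) ^ 2) ^ 6 * Abelianization.of a := by
          rw [← pow_mul, ← pow_succ]
      _ = Abelianization.of a := by rw [hA, one_pow, one_mul]
  have hB13 : (Abelianization.of b) ^ 13 = Abelianization.of b := by
    calc (Abelianization.of b) ^ 13 = ((Abelianization.of b) ^ 3) ^ 4 * Abelianization.of b := by
          rw [← pow_mul, ← pow_succ]
      _ = Abelianization.of b := by rw [hB, one_pow, one_mul]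
  rw [hA13, hB13] at hAB
  have hba : Abelianization.of b = (Abelianization.of a)⁻¹ := (inv_eq_of_mul_eq_one_right hAB).symm
  have hB2 : (Abelianization.of b) ^ 2 = 1 := by rw [hba, inv_pow, hA, inv_one]
  have hB1 : Abelianization.of b = 1 := by
    have h32 : (Abelianization.of b) ^ 3 = (Abelianization.of b) ^ 2 * Abelianization.of b :=
      pow_succ _ 2
    rw [hB, hB2, one_mul] at h32
    exact h32.symm
  have hA1 : Abelianization.of a = 1 := by
    rw [hB1, mul_one] at hAB
    exact hAB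
  constructor
  · rw [← Abelianization.ker_of, MonoidHom.mem_ker]
    exact hA1
  · rw [← Abelianization.ker_of, MonoidHom.mem_ker]
    exact hB1

/-! ## Relations and perfectness -/

/-- the generator `a` -/
noncomputable abbrev ga : G := e 2 TitsPres.WT 0

/-- the generator `b` -/
noncomputable abbrev gb : G := e 2 TitsPres.WT 2

theorem ga_pow : ga ^ 2 = 1 := by
  have h := rel_trivial 2 TitsPres.WT (List.replicate 2 0) (by decide)
  rw [prod_replicate_letter] at h
  exact h

theorem gb_pow : gb ^ 3 = 1 := by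
  have h := rel_trivial 2 TitsPres.WT (List.replicate 3 2) (by decide)
  rw [prod_replicate_letter] at h
  exact h

theorem gab_pow : (ga * gb) ^ 13 = 1 := by
  have h := rel_trivial 2 TitsPres.WT ((List.replicate 13 [0, 2]).flatten) (by decide)
  rw [prod_replicate_word] at h
  simpa using h

theorem e_mem_of_ab (N : Subgroup G) (ha : ga ∈ N) (hb : gb ∈ N) : N = ⊤ := by
  rw [eq_top_iff, ← closure_e 2 TitsPres.WT, Subgroup.closure_le]
  rintro _ ⟨l, hl, rfl⟩
  have h1 : e 2 TitsPres.WT 1 = ga⁻¹ := e_iv 2 TitsPres.WT 0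
  have h3 : e 2 TitsPres.WT 3 = gb⁻¹ := e_iv 2 TitsPres.WT 2
  interval_cases l
  · exact ha
  · rw [SetLike.mem_coe, h1]
    exact N.inv_mem ha
  · exact hb
  · rw [SetLike.mem_coe, h3]
    exact N.inv_mem hb

theorem perfect : commutator G = ⊤ := by
  obtain ⟨h1, h2⟩ := perfect_of_23 ga gb ga_pow gb_pow gab_pow
  exact e_mem_of_ab _ h1 h2

/-! ## The action -/

/-- the action on the points -/
noncomputable local instance actInst : MulAction G (Fin n) := MulAction.compHom (Fin n) ψ

theorem smul_eq (g : G) (i : Fin n) : g • i = ψ g i := rfl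

/-- the base point -/
abbrev z : Fin n := ⟨0, by norm_num⟩

theorem ψ_trans : ∀ i : Fin n, ∃ g : G, ψ g z = i := by
  refine trans_of_conn' TiP.T TiP.iv 14 n (by norm_num) ψ good 4 (by norm_num) ?_
    (fun i hi hi0 => (TiP.all_chunks i hi).2.2 hi0)
  intro x hx
  exact sg_ex x (by omega)

instance pretrans : IsPretransitive G (Fin n) := (isPretransitive_iff_base z).mpr ψ_trans

instance faithful : FaithfulSMul G (Fin n) :=
  ⟨fun heq => ψ_injective (Equiv.ext heq)⟩

theorem mem_stabL0 (g : G) : g ∈ stabL ψ [0] ↔ g • z = z := by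
  rw [mem_stabL, smul_eq]
  constructor
  · intro h
    exact h 0 (by simp) (by norm_num)
  · intro h c hc hcn
    rw [List.mem_singleton] at hc
    subst hc
    exact h

/-! ## The stabiliser of the base point -/

/-- the subgroup generated by the three elements -/
noncomputable def PP : Subgroup G := Subgroup.closure {pe 0, pe 1, pe 2}

theorem sg_fix0 (x : ℕ) (h1 : 4 ≤ x) (h2 : x < 14) : sg x z = z := by
  apply Fin.ext
  unfold sg
  rw [σ_apply TiP.T TiP.iv 14 n good x h2 z]
  exact fix0 x h1 h2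

theorem pe_fix (k : ℕ) (hk : k < 3) : pe k ∈ stabL ψ [0] := by
  rw [mem_stabL0, smul_eq, ψ_pe k hk]
  unfold eps
  rw [Equiv.Perm.inv_eq_iff_eq]
  exact (sg_fix0 _ (by omega) (by omega)).symm

theorem PP_le : PP ≤ stabL ψ [0] := by
  unfold PP
  rw [Subgroup.closure_le]
  rintro x (rfl | rfl | rfl)
  · exact pe_fix 0 (by norm_num)
  · exact pe_fix 1 (by norm_num)
  · exact pe_fix 2 (by norm_num)

theorem pe_mem (k : ℕ) (hk : k < 3) : pe k ∈ PP := by
  unfold PP
  interval_cases k
  · exact Subgroup.subset_closure (Or.inl rfl)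
  · exact Subgroup.subset_closure (Or.inr (Or.inl rfl))
  · exact Subgroup.subset_closure (Or.inr (Or.inr rfl))

theorem pl_mem (x : ℕ) (h1 : 4 ≤ x) (h2 : x < 10) : pl x ∈ PP := by
  unfold pl
  split_ifs
  · exact pe_mem _ (by omega)
  · exact PP.inv_mem (pe_mem _ (by omega))

theorem ve_mem (k : ℕ) (hk : k < 2) : ve k ∈ PP := by
  unfold ve
  apply prod_mem_of_letters
  intro x hx
  exact pl_mem x (vw_lt k hk x hx).1 (vw_lt k hk x hx).2

theorem vl_mem (x : ℕ) (h1 : 10 ≤ x) (h2 : x < 14) : vl x ∈ PP := by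
  unfold vl
  split_ifs
  · exact ve_mem _ (by omega)
  · exact PP.inv_mem (ve_mem _ (by omega))

/-- the representation restricted to the subgroup -/
noncomputable def ψP : PP →* Equiv.Perm (Fin n) := ψ.comp PP.subtype

theorem ψP_ex : ∀ x, 4 ≤ x → x < 14 → ∃ g : PP, ψP g = σ TiP.T TiP.iv 14 n x := by
  intro x h1 h2
  by_cases h10 : x < 10
  · refine ⟨⟨(pl x)⁻¹, PP.inv_mem (pl_mem x h1 h10)⟩, ?_⟩
    change ψ (pl x)⁻¹ = _
    rw [map_inv, ψ_pl x h1 h10]
    exact inv_inv _
  · refine ⟨⟨(vl x)⁻¹, PP.inv_mem (vl_mem x (by omega) h2)⟩, ?_⟩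
    change ψ (vl x)⁻¹ = _
    rw [map_inv, ψ_vl x (by omega) h2]
    exact inv_inv _

theorem card_PP_ge : 10240 ≤ Nat.card PP := by
  have h1 : 1024 * Nat.card (stabL ψP [960]) ≤ Nat.card (stabL ψP []) := by
    refine step' TiP.T TiP.RP TiP.iv 14 n ψP good [] 960 (by norm_num) TiP.mQ1024 4 6 1024
      (by norm_num) ?_ ?_ TiP.rootQ1024 TiP.orbQ1024_all TiP.countQ1024
    · intro x h1 h2
      exact ψP_ex x h1 (by omega)
    · intro x _ _ c hc
      simp at hc
  have h2 : 10 * Nat.card (stabL ψP [702, 960]) ≤ Nat.card (stabL ψP [960]) := by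
    refine step' TiP.T TiP.RV TiP.iv 14 n ψP good [960] 702 (by norm_num) TiP.mV 10 4 10
      (by norm_num) ?_ ?_ TiP.rootV TiP.orbV_all TiP.countV
    · intro x h1 h2
      exact ψP_ex x (by omega) (by omega)
    · intro x h1 h2 c hc
      rw [List.mem_singleton] at hc
      subst hc
      exact fix960 x h1 (by omega)
  have h3 : 1 ≤ Nat.card (stabL ψP [702, 960]) := one_le_card ψP _
  rw [card_stabL_nil] at h1
  nlinarith

theorem PP_eq : PP = stabL ψ [0] := by
  apply Subgroup.eq_of_le_of_card_ge PP_le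
  rw [card_stab0]
  exact card_PP_ge

/-! ## The Iwasawa structure -/

/-- the subgroup generated by `a` -/
noncomputable abbrev A : Subgroup G := Subgroup.zpowers ga

theorem comm_pe (k : ℕ) (hk : k < 3) : pe k * ga * (pe k)⁻¹ = ga := by
  have hpair : ([0, 4 + 2 * k], [4 + 2 * k, 0]) ∈ TiP.eqPairs := by
    interval_cases k <;> decide
  have h := eps_eq [0, 4 + 2 * k] [4 + 2 * k, 0] hpair
    (by intro x hx; simp only [List.mem_cons, List.not_mem_nil, or_false] at hx; omega)
    (by intro x hx; simp only [List.mem_cons, List.not_mem_nil, or_false] at hx; omega)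
  simp only [List.map_cons, List.map_nil, List.prod_cons, List.prod_nil, mul_one] at h
  have hc : ga * pe k = pe k * ga := by
    apply ψ_injective
    rw [map_mul, map_mul, ψ_pe k hk, ψ_e 0 (by norm_num)]
    exact h
  rw [← hc]
  group

theorem conj_smul_zpowers (k a : G) :
    MulAut.conj k • Subgroup.zpowers a = Subgroup.zpowers (k * a * k⁻¹) := by
  have h := MonoidHom.map_zpowers (MulAut.conj k).toMonoidHom a
  rw [show (MulAut.conj k).toMonoidHom a = k * a * k⁻¹ from rfl] at h
  rw [← h]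
  rfl

theorem norm_closure : ∀ k ∈ PP, MulAut.conj k • A = A := by
  intro k hkH
  unfold PP at hkH
  induction hkH using Subgroup.closure_induction with
  | mem s hs =>
    rcases hs with rfl | rfl | rfl
    · rw [conj_smul_zpowers, comm_pe 0 (by norm_num)]
    · rw [conj_smul_zpowers, comm_pe 1 (by norm_num)]
    · rw [conj_smul_zpowers, comm_pe 2 (by norm_num)]
  | one => rw [map_one, one_smul]
  | mul a b _ _ iha ihb => rw [map_mul, mul_smul, ihb, iha]
  | inv a _ iha => rw [map_inv, inv_smul_eq_iff, iha]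

theorem norm_stab : ∀ k : G, k • z = z → MulAut.conj k • A = A := by
  intro k hk
  apply norm_closure
  rw [PP_eq, mem_stabL0]
  exact hk

theorem normalClosure_A : Subgroup.normalClosure (A : Set G) = ⊤ := by
  have ha : ga ∈ Subgroup.normalClosure (A : Set G) :=
    Subgroup.subset_normalClosure (Subgroup.mem_zpowers ga)
  exact e_mem_of_ab _ ha (mem_normal_of_23 _ ga gb ha gb_pow gab_pow)

/-! ## Primitivity -/

theorem stab_ex : ∀ x, 4 ≤ x → x < 4 + 6 → ∃ g ∈ stabL ψ [0], ψ g = σ TiP.T TiP.iv 14 n x := by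
  intro x h1 h2
  obtain ⟨g, hg⟩ := ψP_ex x h1 (by omega)
  exact ⟨g.1, PP_le g.2, hg⟩

theorem trans_of_mask (mask root : ℕ) (hroot : root < n)
    (hs : ∀ i < n, tb mask i = true → i = root ∨ ∃ x, 4 ≤ x ∧ x < 4 + 6 ∧
      tb mask (TiP.T x i) = true ∧ TiP.RP (TiP.T x i) < TiP.RP i)
    (x y : Fin n) (hx : tb mask x = true) (hy : tb mask y = true) :
    ∃ g : G, g • z = z ∧ g • x = y := by
  obtain ⟨g, hg, hgx⟩ := orb_trans TiP.T TiP.RP TiP.iv 14 n ψ good (stabL ψ [0]) mask root 4 6
    hroot (by norm_num) stab_ex hs x y hx hy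
  exact ⟨g, (mem_stabL0 g).mp hg, hgx⟩

/-- the orbit masks -/
def masks : Fin 4 → ℕ := ![TiP.mQ10, TiP.mQ80, TiP.mQ640, TiP.mQ1024]

set_option maxHeartbeats 0 in
theorem cover_count : countBits (Nat.lor (Nat.lor (Nat.lor (Nat.lor TiP.mQ10 TiP.mQ80) TiP.mQ640)
    TiP.mQ1024) 1) 1755 0 = 1755 := by
  decide +kernel

set_option maxHeartbeats 0 in
theorem disj_all : Nat.land TiP.mQ10 TiP.mQ80 = 0 ∧ Nat.land TiP.mQ10 TiP.mQ640 = 0 ∧
    Nat.land TiP.mQ10 TiP.mQ1024 = 0 ∧ Nat.land TiP.mQ80 TiP.mQ640 = 0 ∧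
    Nat.land TiP.mQ80 TiP.mQ1024 = 0 ∧ Nat.land TiP.mQ640 TiP.mQ1024 = 0 := by
  decide +kernel

theorem land_comm' (a b : ℕ) (h : Nat.land a b = 0) : Nat.land b a = 0 := by
  have : Nat.land b a = Nat.land a b := Nat.land_comm b a
  rw [this, h]

set_option maxHeartbeats 0 in
theorem zbits : tb TiP.mQ10 0 = false ∧ tb TiP.mQ80 0 = false ∧ tb TiP.mQ640 0 = false ∧
    tb TiP.mQ1024 0 = false := by
  decide +kernel

instance prim : IsPreprimitive G (Fin n) := by
  apply prim_of_masks z masks ![10, 80, 640, 1024]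
  · intro j
    fin_cases j
    · exact TiP.countQ10
    · exact TiP.countQ80
    · exact TiP.countQ640
    · exact TiP.countQ1024
  · intro i hi
    have h := all_of_count _ _ cover_count i i.2
    rw [tb_lor, tb_lor, tb_lor, tb_lor, tb_one] at h
    have hi0 : (i : ℕ) ≠ 0 := fun h0 => hi (Fin.ext h0)
    simp only [hi0, decide_false, Bool.or_false, Bool.or_eq_true] at h
    rcases h with ((h | h) | h) | h
    · exact ⟨0, h⟩
    · exact ⟨1, h⟩
    · exact ⟨2, h⟩
    · exact ⟨3, h⟩
  · intro i j hij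
    obtain ⟨d1, d2, d3, d4, d5, d6⟩ := disj_all
    fin_cases i <;> fin_cases j
    · exact absurd rfl hij
    · exact d1
    · exact d2
    · exact d3
    · exact land_comm' _ _ d1
    · exact absurd rfl hij
    · exact d4
    · exact d5
    · exact land_comm' _ _ d2
    · exact land_comm' _ _ d4
    · exact absurd rfl hij
    · exact d6
    · exact land_comm' _ _ d3
    · exact land_comm' _ _ d5
    · exact land_comm' _ _ d6
    · exact absurd rfl hij
  · intro j
    obtain ⟨z1, z2, z3, z4⟩ := zbits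
    fin_cases j
    · exact z1
    · exact z2
    · exact z3
    · exact z4
  · intro j x y hx hy
    fin_cases j
    · exact trans_of_mask TiP.mQ10 _ (by norm_num) TiP.orbQ10_all x y hx hy
    · exact trans_of_mask TiP.mQ80 _ (by norm_num) TiP.orbQ80_all x y hx hy
    · exact trans_of_mask TiP.mQ640 _ (by norm_num) TiP.orbQ640_all x y hx hy
    · exact trans_of_mask TiP.mQ1024 _ (by norm_num) TiP.orbQ1024_all x y hx hy
  · decide

/-! ## Simplicity -/

theorem simple : IsSimpleGroup G := by
  have : Nontrivial G := by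
    rw [← Finite.one_lt_card_iff_nontrivial, card_eq]
    norm_num
  exact IwasawaStructure.isSimpleGroup perfect
    (iwasawaOfNormal (X := Fin n) z A inferInstance norm_stab normalClosure_A) faithful

theorem isTits : Cfsg.IsTits G := ⟨simple, card_eq⟩

end Cfsg.Agent.Lib.H6.TitsPerm
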