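import Mathlib
import Cfsg.Prelude.Def_RootSubgroups
import Cfsg.Agent.Lib.H6.TransvPair

set_option autoImplicit false
set_option linter.unusedSectionVars false

/-! Transvections of `SL_n(F)`, `char F = 2`, as root involutions (helper6). -/

namespace Cfsg.Agent.Lib.H6.TransvRoot

open Matrix Cfsg Cfsg.Agent.Lib.H6.TransvCent Cfsg.Agent.Lib.H6.TransvSL Cfsg.Agent.Lib.H6.TransvPair

variable {ι : Type*} [Fintype ι] [DecidableEq ι] {F : Type*} [Field F]

/-- the class of transvections: conjugates of `1 + c E_{i₀ i₁}`, `c ≠ 0`. -/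
def DD (i₀ i₁ : ι) : Set (SpecialLinearGroup ι F) :=
  {t | ∃ c : F, c ≠ 0 ∧ ∃ g : SpecialLinearGroup ι F,
    ((g⁻¹ * t * g : SpecialLinearGroup ι F) : Matrix ι ι F) = Matrix.transvection i₀ i₁ c}

variable {i₀ i₁ : ι}

theorem mem_DD_iff (h3 : 3 ≤ Fintype.card ι) (h01 : i₀ ≠ i₁) (t : SpecialLinearGroup ι F) :
    t ∈ DD (F := F) i₀ i₁ ↔ ∃ v φ : ι → F, v ≠ 0 ∧ φ ≠ 0 ∧ t.1 = 1 + vecMulVec v φ := by
  constructor
  · rintro ⟨c, hc, g, hg⟩
    have ht₀ : (g⁻¹ * t * g).1 = 1 + vecMulVec (c • Pi.single i₀ (1 : F)) (Pi.single i₁ (1 : F)) := by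
      rw [← transvection_eq]; exact hg
    have e : t = g * (g⁻¹ * t * g) * g⁻¹ := by group
    refine ⟨g.1 *ᵥ (c • Pi.single i₀ (1 : F)), (Pi.single i₁ (1 : F)) ᵥ* (g⁻¹).1, ?_, ?_, ?_⟩
    · apply mulVec_ne_zero
      exact smul_ne_zero hc (single_ne_zero i₀)
    · apply vecMul_ne_zero
      exact single_ne_zero i₁
    · conv_lhs => rw [e]
      exact val_conj ht₀ g
  · rintro ⟨v, φ, hv, hφ, ht⟩
    obtain ⟨g, hgv, hgφ⟩ := exists_sl_map h3 (single_ne_zero (F := F) i₀) (single_ne_zero (F := F) i₁)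
      hv hφ (single_dot_single h01) (dot_eq_zero_of_val ht)
    refine ⟨1, one_ne_zero, g, ?_⟩
    have h1 := val_conj ht g⁻¹
    rw [inv_inv] at h1
    show (g⁻¹ * t * g).1 = _
    rw [h1, transvection_eq, one_smul, hgφ, ← hgv, mulVec_mulVec, val_inv_mul, one_mulVec]

theorem sq_eq_one (h2 : (2 : F) = 0) {t : SpecialLinearGroup ι F} {v φ : ι → F}
    (ht : t.1 = 1 + vecMulVec v φ) : t * t = 1 := by
  apply Subtype.ext
  rw [val_mul', ht, one_add_mul_one_add, dot_eq_zero_of_val ht, zero_smul, vecMulVec_zero, add_zero,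
    add_assoc, add_self_of_two h2, add_zero]
  rfl

theorem ne_one {t : SpecialLinearGroup ι F} {v φ : ι → F} (hv : v ≠ 0) (hφ : φ ≠ 0)
    (ht : t.1 = 1 + vecMulVec v φ) : t ≠ 1 := by
  rintro rfl
  have h1 : (1 : SpecialLinearGroup ι F).1 = 1 := rfl
  rw [h1] at ht
  exact Matrix.vecMulVec_ne_zero hv hφ (left_eq_add.mp ht)

theorem orderOf_eq_two (h2 : (2 : F) = 0) {t : SpecialLinearGroup ι F} {v φ : ι → F} (hv : v ≠ 0)
    (hφ : φ ≠ 0) (ht : t.1 = 1 + vecMulVec v φ) : orderOf t = 2 :=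
  orderOf_eq_prime (by rw [pow_two]; exact sq_eq_one h2 ht) (ne_one hv hφ ht)

theorem sltransvection_mem (h3 : 3 ≤ Fintype.card ι) (h01 : i₀ ≠ i₁) {i j : ι} (hij : i ≠ j) {c : F}
    (hc : c ≠ 0) : SpecialLinearGroup.transvection hij c ∈ DD (F := F) i₀ i₁ := by
  rw [mem_DD_iff h3 h01]
  refine ⟨c • Pi.single i (1 : F), Pi.single j (1 : F), smul_ne_zero hc (single_ne_zero i),
    single_ne_zero j, ?_⟩
  show (SpecialLinearGroup.transvection hij c : Matrix ι ι F) = _
  rw [SpecialLinearGroup.transvection_coe]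
  exact transvection_eq i j c

theorem closure_DD (h3 : 3 ≤ Fintype.card ι) (h01 : i₀ ≠ i₁) :
    Subgroup.closure (DD (F := F) i₀ i₁) = ⊤ := by
  have : Nontrivial ι := Fintype.one_lt_card_iff_nontrivial.mp (by omega)
  rw [eq_top_iff, ← Cfsg.Agent.Lib.H2.SL_closure_transvection, Subgroup.closure_le]
  rintro _ ⟨i, j, hij, c, rfl⟩
  by_cases hc : c = 0
  · have : SpecialLinearGroup.transvection hij (0 : F) = 1 := by
      apply Subtype.ext
      show (SpecialLinearGroup.transvection hij (0 : F) : Matrix ι ι F) = 1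
      rw [SpecialLinearGroup.transvection_coe]
      simp
    rw [hc, this]
    exact Subgroup.one_mem _
  · exact Subgroup.subset_closure (sltransvection_mem h3 h01 hij hc)

theorem isRootInvolutionSet [Finite F] (h2 : (2 : F) = 0) (h3 : 3 ≤ Fintype.card ι) (h01 : i₀ ≠ i₁) :
    IsRootInvolutionSet (DD (F := F) i₀ i₁) := by
  refine ⟨?_, closure_DD h3 h01, ?_, ?_⟩
  · intro d hd
    rw [mem_DD_iff h3 h01] at hd
    obtain ⟨v, φ, hv, hφ, ht⟩ := hd
    exact orderOf_eq_two h2 hv hφ ht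
  · intro d hd g
    rw [mem_DD_iff h3 h01] at hd ⊢
    obtain ⟨v, φ, hv, hφ, ht⟩ := hd
    exact ⟨_, _, mulVec_ne_zero g hv, vecMul_ne_zero g⁻¹ hφ, val_conj ht g⟩
  · intro a ha b hb
    rw [mem_DD_iff h3 h01] at ha hb
    obtain ⟨v, φ, hv, hφ, hta⟩ := ha
    obtain ⟨w, ψ, hw, hψ, htb⟩ := hb
    by_cases hα : φ ⬝ᵥ w = 0
    · by_cases hβ : ψ ⬝ᵥ v = 0
      · left; exact commute_of_zero hta htb hα hβ
      · right; right
        have hαβ : φ ⬝ᵥ w * ψ ⬝ᵥ v = 0 := by rw [hα, zero_mul]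
        have hsq := val_sq_eq h2 hta htb hαβ
        rw [Y, hα, zero_smul, zero_add, ← smul_vecMulVec] at hsq
        have hne : (a * b) ^ 2 ≠ 1 := ne_one (smul_ne_zero hβ hw) hφ hsq
        refine ⟨?_, ?_⟩
        · have := orderOf_eq_prime_pow (p := 2) (n := 1) (x := a * b) (by simpa using hne)
            (by norm_num; exact pow_four_eq_one h2 hta htb hαβ)
          simpa using this
        · rw [mem_DD_iff h3 h01]
          exact ⟨_, _, smul_ne_zero hβ hw, hφ, hsq⟩
    · by_cases hβ : ψ ⬝ᵥ v = 0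
      · right; right
        have hαβ : φ ⬝ᵥ w * ψ ⬝ᵥ v = 0 := by rw [hβ, mul_zero]
        have hsq := val_sq_eq h2 hta htb hαβ
        rw [Y, hβ, zero_smul, add_zero, ← smul_vecMulVec] at hsq
        have hne : (a * b) ^ 2 ≠ 1 := ne_one (smul_ne_zero hα hv) hψ hsq
        refine ⟨?_, ?_⟩
        · have := orderOf_eq_prime_pow (p := 2) (n := 1) (x := a * b) (by simpa using hne)
            (by norm_num; exact pow_four_eq_one h2 hta htb hαβ)
          simpa using this
        · rw [mem_DD_iff h3 h01]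
          exact ⟨_, _, smul_ne_zero hα hv, hψ, hsq⟩
      · right; left
        exact odd_orderOf h2 hta htb hα hβ

theorem isRootInvolutionClass [Finite F] (h2 : (2 : F) = 0) (h3 : 3 ≤ Fintype.card ι)
    (h01 : i₀ ≠ i₁) : IsRootInvolutionClass (DD (F := F) i₀ i₁) := by
  refine ⟨isRootInvolutionSet h2 h3 h01, ⟨_, sltransvection_mem h3 h01 h01 one_ne_zero⟩, ?_⟩
  intro a ha b hb
  rw [mem_DD_iff h3 h01] at ha hb
  obtain ⟨v, φ, hv, hφ, hta⟩ := ha
  obtain ⟨w, ψ, hw, hψ, htb⟩ := hb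
  exact exists_conj h3 hv hφ hw hψ hta htb

theorem isThreeFourPlus [Fintype F] (hF : Fintype.card F = 2) (h3 : 3 ≤ Fintype.card ι)
    (h01 : i₀ ≠ i₁) : IsThreeFourPlusTranspositionSet (DD (F := F) i₀ i₁) := by
  obtain ⟨h2, h01F⟩ := card_two_facts hF
  have hR := isRootInvolutionSet (F := F) h2 h3 h01
  refine ⟨hR, ?_⟩
  intro a ha b hb hodd
  have hoa := hR.orderOf_eq a ha
  have hob := hR.orderOf_eq b hb
  rw [mem_DD_iff h3 h01] at ha hb
  obtain ⟨v, φ, hv, hφ, hta⟩ := ha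
  obtain ⟨w, ψ, hw, hψ, htb⟩ := hb
  by_cases hαβ : φ ⬝ᵥ w * ψ ⬝ᵥ v = 0
  · -- order divides 4 and is odd
    left
    have h4 := pow_four_eq_one h2 hta htb hαβ
    have hd : orderOf (a * b) ∣ 4 := orderOf_dvd_of_pow_eq_one h4
    have hle : orderOf (a * b) ≤ 4 := Nat.le_of_dvd (by norm_num) hd
    obtain ⟨k, hk⟩ := hodd
    interval_cases h : orderOf (a * b) <;> omega
  · right
    have hα : φ ⬝ᵥ w = 1 := by
      rcases h01F (φ ⬝ᵥ w) with h | h
      · rw [h, zero_mul] at hαβ; exact absurd rfl hαβ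
      · exact h
    have hβ : ψ ⬝ᵥ v = 1 := by
      rcases h01F (ψ ⬝ᵥ v) with h | h
      · rw [h, mul_zero] at hαβ; exact absurd rfl hαβ
      · exact h
    have h3' := pow_three_eq_one h2 hta htb (by rw [hα, hβ, one_mul])
    have hd : orderOf (a * b) ∣ 3 := orderOf_dvd_of_pow_eq_one h3'
    rcases (Nat.dvd_prime Nat.prime_three).mp hd with h | h
    · -- order one impossible? it is allowed; but then choose left... handle: order 1 contradicts nothing
      exfalso
      rw [orderOf_eq_one_iff] at h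
      -- a * b = 1 means a = b⁻¹ = b, so α = φ(w): then a.1 = b.1
      have hab : a = b⁻¹ := eq_inv_of_mul_eq_one_left h
      have hb2 : b⁻¹ = b := by
        have := sq_eq_one h2 htb
        exact inv_eq_of_mul_eq_one_left this
      rw [hb2] at hab
      rw [hab] at hta
      have h5 := dot_eq_zero_of_val hta
      -- vecMulVec v φ = vecMulVec w ψ
      have h6 : vecMulVec v φ = vecMulVec w ψ := by
        have := hta.symm.trans htb
        exact add_left_cancel this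
      have h7 : (vecMulVec v φ) *ᵥ w = (vecMulVec w ψ) *ᵥ w := by rw [h6]
      rw [vecMulVec_mulVec, vecMulVec_mulVec, hα, dot_eq_zero_of_val htb] at h7
      simp at h7
      exact hv h7
    · exact h

end Cfsg.Agent.Lib.H6.TransvRoot
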