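/-
UP2 (unitary phase 2, architect helper15), task **UP2-B4**:
`SU_n(q)` is not contained in a tensor product subgroup (factors of dimension at least 2):
a unitary transvection `τ` has `τ - 1` of rank 1, and a conjugate of a Kronecker product with
that property is the identity (helper11's rank criterion `Sim.scalar_of_rank_lt_both`).
-/
import Mathlib
import Cfsg.Agent.Lib.H15.UP2Base
import Cfsg.Agent.Lib.H11.SpTen1

set_option autoImplicit false
set_option linter.unusedSectionVars false
set_option linter.unusedVariables false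

namespace Cfsg.Agent.Lib.H6.UP2

open Cfsg Cfsg.Geo Cfsg.Agent.Lib.H15.UP2
open scoped MatrixGroups Matrix Kronecker

variable {F : Type*} [Field F] [Fintype F] {n q : ℕ}

/-- a matrix `x` with `x *ᵥ z - z` always a multiple of a fixed vector has `x - 1` of rank at most one -/
theorem rank_sub_one_le_one (x : Matrix (Fin n) (Fin n) F) (v : Fin n → F)
    (h : ∀ z, ∃ c : F, x *ᵥ z = z + c • v) : (x - (1 : F) • (1 : Matrix (Fin n) (Fin n) F)).rank ≤ 1 := by
  rw [Matrix.rank]
  have hle : LinearMap.range (x - (1 : F) • (1 : Matrix (Fin n) (Fin n) F)).mulVecLin ≤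
      Submodule.span F {v} := by
    rintro _ ⟨z, rfl⟩
    obtain ⟨c, hc⟩ := h z
    rw [Matrix.mulVecLin_apply, Matrix.sub_mulVec, one_smul, Matrix.one_mulVec, hc, add_sub_cancel_left]
    exact Submodule.smul_mem _ _ (Submodule.mem_span_singleton_self v)
  refine (Submodule.finrank_mono hle).trans ?_
  have := finrank_span_le_card (R := F) ({v} : Set (Fin n → F))
  simpa using this

/-- **UP2-B4** -/
theorem not_su_le_tensorProductSubgroup (hF : Fintype.card F = q ^ 2) (n₁ n₂ : ℕ)
    (e : Fin n ≃ Fin n₁ × Fin n₂) (P : GL (Fin n) F) (h1 : 2 ≤ n₁) (h2 : 2 ≤ n₂) :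
    ¬ GU n F q ⊓ specialLinear (Fin n) F ≤ tensorProductSubgroup n₁ n₂ e P := by
  intro hle
  have hn : n = n₁ * n₂ := by
    have := Fintype.card_congr e
    rw [Fintype.card_fin, Fintype.card_prod, Fintype.card_fin, Fintype.card_fin] at this
    exact this
  have hn2 : 2 ≤ n := by
    rw [hn]
    nlinarith
  obtain ⟨v, hv, hv0⟩ := exists_isotropic_ne_zero hF hn2
  obtain ⟨a, ha0, ha⟩ := exists_tr0 hF
  have hmem := hle (utv_mem hF a v)
  obtain ⟨A, B, hAB⟩ := Cfsg.Agent.Lib.H11.SpTen.exists_kron_of_mem' e P _ hmem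
  set τ : Matrix (Fin n) (Fin n) F := ((utv hF a v : GL (Fin n) F) : Matrix (Fin n) (Fin n) F) with hτ
  have hsim : Cfsg.Agent.Lib.H11.TensR.Sim e τ
      ((A : Matrix (Fin n₁) (Fin n₁) F) ⊗ₖ (B : Matrix (Fin n₂) (Fin n₂) F)) := by
    refine ⟨(P : Matrix (Fin n) (Fin n) F), ((P⁻¹ : GL (Fin n) F) : Matrix (Fin n) (Fin n) F), ?_, ?_, hAB⟩
    · rw [← Units.val_mul, mul_inv_cancel, Units.val_one]
    · rw [← Units.val_mul, inv_mul_cancel, Units.val_one]
  have hrank : (τ - (1 : F) • (1 : Matrix (Fin n) (Fin n) F)).rank ≤ 1 := by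
    apply rank_sub_one_le_one τ v
    intro z
    exact ⟨a * hermForm n F q z v, utv_mulVec hF ha hv z⟩
  have hone := Cfsg.Agent.Lib.H11.SpTen.Sim.scalar_of_rank_lt_both hn
    (A : Matrix (Fin n₁) (Fin n₁) F) (B : Matrix (Fin n₂) (Fin n₂) F) hsim 1 one_ne_zero
    (by omega) (by omega)
  -- but `τ ≠ 1`
  obtain ⟨y, hy⟩ := herm_nondeg hF hv0
  have h3 := utv_mulVec hF ha hv y
  rw [← hτ, hone, one_smul, Matrix.one_mulVec] at h3
  have h4 : (a * hermForm n F q y v) • v = 0 := by
    have := congrArg (fun w => w - y) h3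
    simp only [sub_self, add_sub_cancel_left] at this
    exact this.symm
  rcases smul_eq_zero.1 h4 with h5 | h5
  · exact mul_ne_zero ha0 hy h5
  · exact hv0 h5

end Cfsg.Agent.Lib.H6.UP2
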