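/-
UP2 (unitary phase 2, architect helper15), task **UP2-B6**:
`SU_n(q)`, `n ≥ 5`, does not normalise an absolutely irreducible group with scalar commutators:
for a unitary transvection `τ` and `x ∈ R` the element `y = τ x τ⁻¹ x⁻¹ ∈ R` fixes a subspace of
codimension at most 2 pointwise; were it not central in `R`, a conjugate `ξ y` would do so as well,
which needs `2 (n - 2) ≤ n`.  So `R` commutes with all unitary transvections and is scalar.
-/
import Mathlib
import Cfsg.Agent.Lib.H15.UP2Base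

set_option autoImplicit false
set_option linter.unusedSectionVars false
set_option linter.unusedVariables false

namespace Cfsg.Agent.Lib.H6.UP2

open Cfsg Cfsg.Geo Cfsg.Agent.Lib.H15.UP2 Cfsg.Agent.Lib.H15.SUGen
open scoped MatrixGroups Matrix Kronecker

variable {F : Type*} [Field F] [Fintype F] {n q : ℕ}

/-- the kernel of a linear map to `F × F` has codimension at most two -/
theorem finrank_ker_prod_ge (Ψ : (Fin n → F) →ₗ[F] F × F) :
    n ≤ Module.finrank F (LinearMap.ker Ψ) + 2 := by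
  have h1 := LinearMap.finrank_range_add_finrank_ker Ψ
  rw [Module.finrank_fin_fun] at h1
  have h2 : Module.finrank F (LinearMap.range Ψ) ≤ 2 := by
    have := Submodule.finrank_le (LinearMap.range Ψ)
    rw [Module.finrank_prod, Module.finrank_self] at this
    exact this
  omega

/-- a matrix acting by two different scalars on two subspaces of codimension at most 2 lives in
dimension at most 4 -/
theorem le_four_of_two_eigenspaces (y : Matrix (Fin n) (Fin n) F) (K K' : Submodule F (Fin n → F))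
    (hK : n ≤ Module.finrank F K + 2) (hK' : n ≤ Module.finrank F K' + 2) (c c' : F) (hcc' : c ≠ c')
    (h1 : ∀ z ∈ K, y *ᵥ z = c • z) (h2 : ∀ z ∈ K', y *ᵥ z = c' • z) : n ≤ 4 := by
  have hdisj : K ⊓ K' = ⊥ := by
    rw [eq_bot_iff]
    rintro z ⟨hz1, hz2⟩
    have e1 := h1 z hz1
    have e2 := h2 z hz2
    rw [e1] at e2
    have e3 : (c - c') • z = 0 := by rw [sub_smul, e2, sub_self]
    rcases smul_eq_zero.1 e3 with h | h
    · exact absurd (sub_eq_zero.1 h) hcc'
    · exact (Submodule.mem_bot F).2 h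
  have h3 := Submodule.finrank_sup_add_finrank_inf_eq K K'
  rw [hdisj, finrank_bot, add_zero] at h3
  have h4 := Submodule.finrank_le (K ⊔ K')
  rw [Module.finrank_fin_fun] at h4
  omega

/-- **UP2-B6** -/
theorem not_su_le_subgroupNormalizer (hF : Fintype.card F = q ^ 2) (hn : 5 ≤ n)
    (R : Subgroup (GL (Fin n) F)) (habs : ActsAbsolutelyIrreducibly (matrixSet R))
    (hcl2 : ∀ x ∈ R, ∀ y ∈ R, x * y * x⁻¹ * y⁻¹ ∈ scalars (Fin n) F) :
    ¬ GU n F q ⊓ specialLinear (Fin n) F ≤ subgroupNormalizer R := by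
  classical
  intro hle
  have hn2 : 2 ≤ n := by omega
  have hfixinv : ∀ (g : GL (Fin n) F) (w : Fin n → F),
      (g : Matrix (Fin n) (Fin n) F) *ᵥ w = w →
      ((g⁻¹ : GL (Fin n) F) : Matrix (Fin n) (Fin n) F) *ᵥ w = w := by
    intro g w hw
    have := congrArg (fun u => ((g⁻¹ : GL (Fin n) F) : Matrix (Fin n) (Fin n) F) *ᵥ u) hw
    simp only [Matrix.mulVec_mulVec, ← Units.val_mul, inv_mul_cancel, Units.val_one,
      Matrix.one_mulVec] at this
    exact this.symm
  have hcomm : ∀ x ∈ R, ∀ (a : F) (v : Fin n → F), a + a ^ q = 0 → hermForm n F q v v = 0 →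
      (x : Matrix (Fin n) (Fin n) F) * ((utv hF a v : GL (Fin n) F) : Matrix (Fin n) (Fin n) F) =
        ((utv hF a v : GL (Fin n) F) : Matrix (Fin n) (Fin n) F) * (x : Matrix (Fin n) (Fin n) F) := by
    intro x hx a v ha hv
    obtain ⟨τ, hτ⟩ : ∃ τ : GL (Fin n) F, τ = utv hF a v := ⟨_, rfl⟩
    rw [← hτ]
    have hτv : ∀ z, (τ : Matrix (Fin n) (Fin n) F) *ᵥ z = z + (a * hermForm n F q z v) • v := by
      intro z
      rw [hτ]
      exact utv_mulVec hF ha hv z
    have hτN : τ ∈ subgroupNormalizer R := by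
      rw [hτ]
      exact hle (utv_mem hF a v)
    have hτx : τ * x * τ⁻¹ ∈ R := (Subgroup.mem_normalizer_iff.mp hτN x).mp hx
    have hyR : τ * x * τ⁻¹ * x⁻¹ ∈ R := R.mul_mem hτx (R.inv_mem hx)
    obtain ⟨y, hy⟩ : ∃ y : GL (Fin n) F, y = τ * x * τ⁻¹ * x⁻¹ := ⟨_, rfl⟩
    rw [← hy] at hyR
    suffices hy1 : y = 1 by
      rw [hy] at hy1
      have h1 : τ * x = x * τ := mul_inv_eq_iff_eq_mul.1 (mul_inv_eq_one.1 hy1)
      have := congrArg (fun g : GL (Fin n) F => (g : Matrix (Fin n) (Fin n) F)) h1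
      simp only [Units.val_mul] at this
      exact this.symm
    -- the subspace fixed by `y`
    let φ : (Fin n → F) →ₗ[F] F :=
      { toFun := fun z => hermForm n F q z v
        map_add' := fun z z' => hf_add_left z z' v
        map_smul' := fun c z => hf_smul_left c z v }
    have hφ : ∀ z, φ z = hermForm n F q z v := fun z => rfl
    let Φ : (Fin n → F) →ₗ[F] F × F :=
      φ.prod (φ ∘ₗ Matrix.toLin' ((x⁻¹ : GL (Fin n) F) : Matrix (Fin n) (Fin n) F))
    have hΦ : ∀ z, Φ z = 0 → hermForm n F q z v = 0 ∧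
        hermForm n F q (((x⁻¹ : GL (Fin n) F) : Matrix (Fin n) (Fin n) F) *ᵥ z) v = 0 := by
      intro z hz
      have h1 := congrArg Prod.fst hz
      have h2 := congrArg Prod.snd hz
      exact ⟨h1, h2⟩
    have hyfix : ∀ z, Φ z = 0 → (y : Matrix (Fin n) (Fin n) F) *ᵥ z = z := by
      intro z hz
      obtain ⟨h1, h2⟩ := hΦ z hz
      have e1 : (τ : Matrix (Fin n) (Fin n) F) *ᵥ
          (((x⁻¹ : GL (Fin n) F) : Matrix (Fin n) (Fin n) F) *ᵥ z) =
          ((x⁻¹ : GL (Fin n) F) : Matrix (Fin n) (Fin n) F) *ᵥ z := by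
        rw [hτv, h2, mul_zero, zero_smul, add_zero]
      have e2 := hfixinv τ _ e1
      have e3 : (τ : Matrix (Fin n) (Fin n) F) *ᵥ z = z := by
        rw [hτv, h1, mul_zero, zero_smul, add_zero]
      have e4 : (x : Matrix (Fin n) (Fin n) F) *ᵥ
          (((x⁻¹ : GL (Fin n) F) : Matrix (Fin n) (Fin n) F) *ᵥ z) = z := by
        rw [Matrix.mulVec_mulVec, ← Units.val_mul, mul_inv_cancel, Units.val_one, Matrix.one_mulVec]
      rw [hy, Units.val_mul, Units.val_mul, Units.val_mul, ← Matrix.mulVec_mulVec,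
        ← Matrix.mulVec_mulVec, ← Matrix.mulVec_mulVec, e2, e4, e3]
    have hKdim := finrank_ker_prod_ge Φ
    by_cases hcen : ∀ s ∈ matrixSet R, (y : Matrix (Fin n) (Fin n) F) * s = s * (y : Matrix (Fin n) (Fin n) F)
    · obtain ⟨c, hc⟩ := habs.2 _ hcen
      have hpos : 0 < Module.finrank F (LinearMap.ker Φ) := by omega
      obtain ⟨⟨z, hzK⟩, hz0⟩ := Module.finrank_pos_iff_exists_ne_zero.mp hpos
      have hz : z ≠ 0 := fun h0 => hz0 (Subtype.ext h0)
      have e1 := hyfix z (LinearMap.mem_ker.mp hzK)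
      rw [hc, Matrix.smul_mulVec, Matrix.one_mulVec] at e1
      have e2 : (c - 1) • z = 0 := by rw [sub_smul, e1, one_smul, sub_self]
      have hc1 : c = 1 := by
        rcases smul_eq_zero.1 e2 with h | h
        · exact sub_eq_zero.1 h
        · exact absurd h hz
      apply Units.ext
      rw [hc, hc1, one_smul, Units.val_one]
    · exfalso
      push Not at hcen
      obtain ⟨_, ⟨w, hw, rfl⟩, hne⟩ := hcen
      obtain ⟨ξ, hξ⟩ := (mem_scalars_iff _).1 (hcl2 w hw y hyR)
      have hwy : (w : Matrix (Fin n) (Fin n) F) * (y : Matrix (Fin n) (Fin n) F) =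
          (ξ : F) • ((y : Matrix (Fin n) (Fin n) F) * (w : Matrix (Fin n) (Fin n) F)) := by
        have h1 : w * y = (w * y * w⁻¹ * y⁻¹) * (y * w) := by group
        have := congrArg Units.val h1
        rw [Units.val_mul (w * y * w⁻¹ * y⁻¹), hξ, Matrix.smul_mul, Matrix.one_mul, Units.val_mul,
          Units.val_mul] at this
        exact this
      have hξ1 : (ξ : F) ≠ 1 := by
        intro h1
        apply hne
        rw [hwy, h1, one_smul]
      have hξ0 : (ξ : F) ≠ 0 := ξ.ne_zero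
      -- the second subspace
      let Φ' : (Fin n → F) →ₗ[F] F × F :=
        Φ ∘ₗ Matrix.toLin' ((w⁻¹ : GL (Fin n) F) : Matrix (Fin n) (Fin n) F)
      have hK'dim := finrank_ker_prod_ge Φ'
      have hy2 : ∀ z ∈ LinearMap.ker Φ', (y : Matrix (Fin n) (Fin n) F) *ᵥ z = (ξ : F)⁻¹ • z := by
        intro z hz
        have hz' : Φ (((w⁻¹ : GL (Fin n) F) : Matrix (Fin n) (Fin n) F) *ᵥ z) = 0 :=
          LinearMap.mem_ker.mp hz
        have e1 := hyfix _ hz'
        -- `z = w (w⁻¹ z)`
        have e2 : (w : Matrix (Fin n) (Fin n) F) *ᵥ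
            (((w⁻¹ : GL (Fin n) F) : Matrix (Fin n) (Fin n) F) *ᵥ z) = z := by
          rw [Matrix.mulVec_mulVec, ← Units.val_mul, mul_inv_cancel, Units.val_one, Matrix.one_mulVec]
        have e3 : (w : Matrix (Fin n) (Fin n) F) *ᵥ ((y : Matrix (Fin n) (Fin n) F) *ᵥ
            (((w⁻¹ : GL (Fin n) F) : Matrix (Fin n) (Fin n) F) *ᵥ z)) =
            (ξ : F) • ((y : Matrix (Fin n) (Fin n) F) *ᵥ z) := by
          rw [Matrix.mulVec_mulVec, hwy, Matrix.smul_mulVec, ← Matrix.mulVec_mulVec, e2]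
        rw [e1, e2] at e3
        have e5 : (ξ : F)⁻¹ • z = (y : Matrix (Fin n) (Fin n) F) *ᵥ z := by
          conv_lhs => rw [e3]
          rw [smul_smul, inv_mul_cancel₀ hξ0, one_smul]
        exact e5.symm
      have hy1 : ∀ z ∈ LinearMap.ker Φ, (y : Matrix (Fin n) (Fin n) F) *ᵥ z = (1 : F) • z := by
        intro z hz
        rw [one_smul]
        exact hyfix z (LinearMap.mem_ker.mp hz)
      have h4 := le_four_of_two_eigenspaces (y : Matrix (Fin n) (Fin n) F) _ _ hKdim hK'dim 1 (ξ : F)⁻¹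
        (by
          intro h
          apply hξ1
          have := congrArg (fun t => t * (ξ : F)) h
          simp only [one_mul, inv_mul_cancel₀ hξ0] at this
          exact this) hy1 hy2
      omega
  -- every element of `R` is scalar
  have hsc : ∀ x ∈ R, ∃ c : F, (x : Matrix (Fin n) (Fin n) F) = c • (1 : Matrix (Fin n) (Fin n) F) :=
    fun x hx => scalar_of_comm_utv hF hn2 _ (fun a v ha hv => hcomm x hx a v ha hv)
  let i0 : Fin n := ⟨0, by omega⟩
  let i1 : Fin n := ⟨1, by omega⟩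
  have hi01 : i0 ≠ i1 := by
    intro h
    have := congrArg Fin.val h
    simp [i0, i1] at this
  let E : Matrix (Fin n) (Fin n) F := Matrix.of fun i j => if i = i0 ∧ j = i1 then 1 else 0
  obtain ⟨c, hc⟩ := habs.2 E (by
    rintro _ ⟨x, hx, rfl⟩
    obtain ⟨d, hd⟩ := hsc x hx
    show E * (x : Matrix (Fin n) (Fin n) F) = (x : Matrix (Fin n) (Fin n) F) * E
    rw [hd, Matrix.mul_smul, Matrix.smul_mul, Matrix.mul_one, Matrix.one_mul])
  have := congrFun (congrFun hc i0) i1
  simp [E, hi01] at this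

end Cfsg.Agent.Lib.H6.UP2
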