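import Mathlib
import Cfsg.Agent.Lib.H4.Herm
import Cfsg.Agent.S0837

set_option autoImplicit false
set_option linter.unusedSectionVars false
set_option linter.unusedSimpArgs false
set_option linter.unusedVariables false

/-! A finite field of order `q²`: Frobenius, trace zero elements, and the subfield of order `q`
as a field in `Type` (helper6). -/

namespace Cfsg.Agent.Lib.H6.UT

open Polynomial

variable {F : Type*} [Field F]

theorem exists_eps {σ : F →+* F} (hσne : σ ≠ RingHom.id F) (hσ2 : ∀ x, σ (σ x) = x) :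
    ∃ ε : F, ε ≠ 0 ∧ σ ε = -ε := by
  have : ∃ x, σ x ≠ x := by
    by_contra hcon
    push Not at hcon
    apply hσne
    ext x
    exact hcon x
  obtain ⟨x, hx⟩ := this
  refine ⟨x - σ x, ?_, ?_⟩
  · intro h
    exact hx (sub_eq_zero.mp h).symm
  · rw [map_sub, hσ2]; ring

theorem two_le_of_card [Fintype F] {q : ℕ} (hF : Fintype.card F = q ^ 2) : 2 ≤ q := by
  have h1 : 1 < Fintype.card F := Fintype.one_lt_card
  rw [hF] at h1
  by_contra hlt
  have : q ≤ 1 := by omega
  have : q ^ 2 ≤ 1 := by
    calc q ^ 2 ≤ 1 ^ 2 := Nat.pow_le_pow_left this 2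
      _ = 1 := one_pow 2
  omega

/-- the subfield of order `q`, as a field in `Type`, with its embedding. -/
theorem exists_subfield [Fintype F] {q : ℕ} (hF : Fintype.card F = q ^ 2) :
    ∃ (L : Type) (_ : Field L) (_ : Fintype L) (j : L →+* F), Fintype.card L = q ∧
      (∀ a : L, (j a) ^ q = j a) ∧ ∀ x : F, x ^ q = x → ∃ a : L, j a = x := by
  classical
  have hq2 := two_le_of_card hF
  obtain ⟨p, hp⟩ := CharP.exists F
  obtain ⟨⟨m, hm⟩, hpprime, hcard⟩ := FiniteField.card F p
  have hcard' : Fintype.card F = p ^ m := hcard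
  haveI : Fact p.Prime := ⟨hpprime⟩
  have hdvd : q ∣ p ^ m := by
    rw [← hcard', hF]; exact Dvd.intro_left _ (by ring)
  obtain ⟨k, -, hk⟩ := (Nat.dvd_prime_pow hpprime).mp hdvd
  have hk0 : k ≠ 0 := by
    rintro rfl
    rw [pow_zero] at hk
    omega
  have hm2 : m = 2 * k := by
    have : p ^ m = p ^ (2 * k) := by
      rw [← hcard', hF, hk, ← pow_mul, mul_comm]
    exact Nat.pow_right_injective hpprime.two_le this
  letI : Algebra (ZMod p) F := ZMod.algebra F p
  have hfin : Module.finrank (ZMod p) F = 2 * k := by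
    have h1 := FiniteField.pow_finrank_eq_card p F
    rw [hcard', hm2] at h1
    exact Nat.pow_right_injective hpprime.two_le h1
  have hfinL : Module.finrank (ZMod p) (GaloisField p k) = k := GaloisField.finrank p hk0
  obtain ⟨f⟩ := FiniteField.nonempty_algHom_of_finrank_dvd (F := ZMod p) (K := GaloisField p k)
    (L := F) (by rw [hfin, hfinL]; exact Dvd.intro_left _ rfl)
  letI : Fintype (GaloisField p k) := Fintype.ofFinite _
  have hcardL : Fintype.card (GaloisField p k) = q := by
    rw [Fintype.card_eq_nat_card, GaloisField.card p k hk0, hk]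
  have hj : ∀ a : GaloisField p k, (f.toRingHom a) ^ q = f.toRingHom a := by
    intro a
    rw [← map_pow, ← hcardL, FiniteField.pow_card]
  refine ⟨GaloisField p k, inferInstance, inferInstance, f.toRingHom, hcardL, hj, ?_⟩
  -- counting roots
  have hP0 : (X ^ q - X : F[X]) ≠ 0 := FiniteField.X_pow_card_sub_X_ne_zero F (by omega)
  have hdeg : (X ^ q - X : F[X]).natDegree = q := FiniteField.X_pow_card_sub_X_natDegree_eq F (by omega)
  have himg : (Finset.univ.image f.toRingHom : Finset F) ⊆ (X ^ q - X : F[X]).roots.toFinset := by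
    intro x hx
    rw [Finset.mem_image] at hx
    obtain ⟨a, -, rfl⟩ := hx
    rw [Multiset.mem_toFinset, mem_roots hP0]
    simp only [IsRoot.def, eval_sub, eval_pow, eval_X]
    rw [hj a, sub_self]
  have hcimg : (Finset.univ.image f.toRingHom : Finset F).card = q := by
    rw [Finset.card_image_of_injective _ f.toRingHom.injective, Finset.card_univ, hcardL]
  have hcroots : (X ^ q - X : F[X]).roots.toFinset.card ≤ q := by
    calc (X ^ q - X : F[X]).roots.toFinset.card ≤ (X ^ q - X : F[X]).roots.card :=
          Multiset.toFinset_card_le _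
      _ ≤ (X ^ q - X : F[X]).natDegree := Polynomial.card_roots' _
      _ = q := hdeg
  have heq : (Finset.univ.image f.toRingHom : Finset F) = (X ^ q - X : F[X]).roots.toFinset :=
    Finset.eq_of_subset_of_card_le himg (by rw [hcimg]; exact hcroots)
  intro x hx
  have hxr : x ∈ (X ^ q - X : F[X]).roots.toFinset := by
    rw [Multiset.mem_toFinset, mem_roots hP0]
    simp only [IsRoot.def, eval_sub, eval_pow, eval_X]
    rw [hx, sub_self]
  rw [← heq, Finset.mem_image] at hxr
  obtain ⟨a, -, ha⟩ := hxr
  exact ⟨a, ha⟩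

end Cfsg.Agent.Lib.H6.UT
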