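import Mathlib
import Cfsg.Prelude.Def_RootSubgroups
import Cfsg.Agent.Lib.H6.RootGrpRank1
import Cfsg.Agent.Lib.H25.RootSubgroups

set_option autoImplicit false
set_option linter.unusedSectionVars false
set_option linter.unusedSimpArgs false
set_option linter.unusedVariables false

/-! Unitary transvection groups `{1 + c p p̄ᵀ : σ c = -c}` inside `SL(ι, F)` (helper6). -/

namespace Cfsg.Agent.Lib.H6.UT

open Matrix Cfsg Cfsg.Agent.Lib.H6.TransvCent Cfsg.Agent.Lib.H6.TransvSL Cfsg.Agent.Lib.H6.TransvPair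
open Cfsg.Agent.Lib.H6.RootGrp Cfsg.Agent.Lib.H25

variable {ι : Type*} [Fintype ι] [DecidableEq ι] {F : Type*} [Field F] (σ : F →+* F)

/-- entrywise image under `σ` -/
def bar (p : ι → F) : ι → F := fun i => σ (p i)

theorem bar_apply (p : ι → F) (i : ι) : bar σ p i = σ (p i) := rfl

theorem bar_add (p r : ι → F) : bar σ (p + r) = bar σ p + bar σ r := by
  ext i; simp [bar]

theorem bar_smul (c : F) (p : ι → F) : bar σ (c • p) = σ c • bar σ p := by
  ext i; simp [bar]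

theorem bar_zero : bar σ (0 : ι → F) = 0 := by
  ext i; simp [bar]

theorem bar_ne_zero {p : ι → F} (hp : p ≠ 0) : bar σ p ≠ 0 := by
  intro h
  apply hp
  ext i
  have := congrFun h i
  simpa [bar] using this

/-- the `σ`-sesquilinear form `Σ uᵢ σ(vᵢ)` -/
def hf (u v : ι → F) : F := u ⬝ᵥ bar σ v

theorem hf_add_left (u u' v : ι → F) : hf σ (u + u') v = hf σ u v + hf σ u' v :=
  add_dotProduct _ _ _

theorem hf_smul_left (c : F) (u v : ι → F) : hf σ (c • u) v = c * hf σ u v := by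
  rw [hf, smul_dotProduct, smul_eq_mul]; rfl

theorem hf_add_right (u v v' : ι → F) : hf σ u (v + v') = hf σ u v + hf σ u v' := by
  rw [hf, bar_add, dotProduct_add]; rfl

theorem hf_smul_right (c : F) (u v : ι → F) : hf σ u (c • v) = σ c * hf σ u v := by
  rw [hf, bar_smul, dotProduct_smul, smul_eq_mul]; rfl

theorem hf_zero_left (v : ι → F) : hf σ 0 v = 0 := zero_dotProduct _

theorem hf_zero_right (u : ι → F) : hf σ u 0 = 0 := by
  rw [hf, bar_zero, dotProduct_zero]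

theorem bar_dot (p x : ι → F) : bar σ p ⬝ᵥ x = hf σ x p := dotProduct_comm _ _

variable {σ}

theorem hf_conj (hσ2 : ∀ x, σ (σ x) = x) (u v : ι → F) : σ (hf σ u v) = hf σ v u := by
  rw [hf, hf, dotProduct, dotProduct, map_sum]
  refine Finset.sum_congr rfl fun i _ => ?_
  rw [map_mul, bar_apply, bar_apply, hσ2, mul_comm]

variable (σ)

/-- the special unitary group: matrices of `SL` preserving `hf`. -/
def Usub : Subgroup (SpecialLinearGroup ι F) where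
  carrier := {g | ∀ u v, hf σ (g.1 *ᵥ u) (g.1 *ᵥ v) = hf σ u v}
  one_mem' := by
    intro u v
    rw [val_one', one_mulVec, one_mulVec]
  mul_mem' := by
    intro a b ha hb u v
    rw [val_mul', ← mulVec_mulVec, ← mulVec_mulVec, ha, hb]
  inv_mem' := by
    intro a ha u v
    have := ha ((a⁻¹).1 *ᵥ u) ((a⁻¹).1 *ᵥ v)
    rw [mulVec_mulVec, mulVec_mulVec, val_mul_inv, one_mulVec, one_mulVec] at this
    exact this.symm

theorem mem_Usub {g : SpecialLinearGroup ι F} :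
    g ∈ Usub σ ↔ ∀ u v, hf σ (g.1 *ᵥ u) (g.1 *ᵥ v) = hf σ u v := Iff.rfl

variable {σ}

theorem bar_vecMul_inv {g : SpecialLinearGroup ι F} (hg : g ∈ Usub σ) (p : ι → F) :
    bar σ p ᵥ* (g⁻¹).1 = bar σ (g.1 *ᵥ p) := by
  apply dotProduct_eq
  intro x
  rw [← dotProduct_mulVec, bar_dot, bar_dot, ← hg ((g⁻¹).1 *ᵥ x) p, mulVec_mulVec, val_mul_inv,
    one_mulVec]

theorem elem_mulVec {p : ι → F} {c : F} {t : SpecialLinearGroup ι F}
    (ht : t.1 = 1 + c • vecMulVec p (bar σ p)) (x : ι → F) :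
    t.1 *ᵥ x = x + (c * hf σ x p) • p := by
  rw [ht, add_mulVec, one_mulVec, smul_mulVec, vecMulVec_mulVec, op_smul_eq_smul, bar_dot,
    smul_smul]

theorem elem_mem_Usub (hσ2 : ∀ x, σ (σ x) = x) {p : ι → F} (hp : hf σ p p = 0) {c : F}
    (hc : σ c = -c) {t : SpecialLinearGroup ι F} (ht : t.1 = 1 + c • vecMulVec p (bar σ p)) :
    t ∈ Usub σ := by
  intro u v
  rw [elem_mulVec ht, elem_mulVec ht, hf_add_left, hf_add_right, hf_add_right, hf_smul_left,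
    hf_smul_left, hf_smul_right, hf_smul_right, hp, map_mul, hc, hf_conj hσ2 v p]
  ring

variable (σ)

/-- the unitary transvection group with centre `p` (meaningful for isotropic `p`). -/
def UT (p : ι → F) : Subgroup (SpecialLinearGroup ι F) where
  carrier := {t | hf σ p p = 0 → ∃ c : F, σ c = -c ∧ t.1 = 1 + c • vecMulVec p (bar σ p)}
  one_mem' := fun _ => ⟨0, by simp, by rw [zero_smul, add_zero]; rfl⟩
  mul_mem' := by
    rintro a b ha hb hp
    obtain ⟨c, hc, hca⟩ := ha hp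
    obtain ⟨d, hd, hdb⟩ := hb hp
    refine ⟨c + d, by rw [map_add, hc, hd]; ring, ?_⟩
    have hM : vecMulVec p (bar σ p) * vecMulVec p (bar σ p) = 0 := by
      rw [vecMulVec_mul_vecMulVec, bar_dot, hp, zero_smul, vecMulVec_zero]
    rw [val_mul', hca, hdb, mul_add, mul_one, add_mul, one_mul, smul_mul_smul_comm, hM, smul_zero,
      add_zero, add_smul]
    abel
  inv_mem' := by
    rintro a ha hp
    obtain ⟨c, hc, hca⟩ := ha hp
    refine ⟨-c, by rw [map_neg, hc], ?_⟩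
    rw [← smul_vecMulVec] at hca
    rw [val_inv_of_val hca, ← smul_vecMulVec, neg_smul]

variable {σ}

theorem mem_UT {p : ι → F} (hp : hf σ p p = 0) {t : SpecialLinearGroup ι F} :
    t ∈ UT σ p ↔ ∃ c : F, σ c = -c ∧ t.1 = 1 + c • vecMulVec p (bar σ p) :=
  ⟨fun h => h hp, fun h _ => h⟩

theorem UT_le_Usub (hσ2 : ∀ x, σ (σ x) = x) {p : ι → F} (hp : hf σ p p = 0) :
    UT σ p ≤ Usub σ := by
  intro t ht
  obtain ⟨c, hc, hct⟩ := (mem_UT hp).mp ht
  exact elem_mem_Usub hσ2 hp hc hct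

theorem exists_elem {p : ι → F} (hp : hf σ p p = 0) (c : F) (hc : σ c = -c) :
    ∃ t ∈ UT σ p, t.1 = 1 + c • vecMulVec p (bar σ p) := by
  have h0 : bar σ p ⬝ᵥ (c • p) = 0 := by rw [dotProduct_smul, bar_dot, hp, smul_zero]
  refine ⟨mk (c • p) (bar σ p) h0, ?_, ?_⟩
  · rw [mem_UT hp]
    exact ⟨c, hc, by rw [mk_val, smul_vecMulVec]⟩
  · rw [mk_val, smul_vecMulVec]

theorem UT_le_RG {p : ι → F} (hp : hf σ p p = 0) : UT σ p ≤ RG p (bar σ p) := by
  intro t ht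
  obtain ⟨c, hc, hct⟩ := (mem_UT hp).mp ht
  exact ⟨c, hct⟩

theorem UT_comm {p : ι → F} (hp : hf σ p p = 0) : IsMulCommutative (UT σ p) := by
  have h0 : bar σ p ⬝ᵥ p = 0 := by rw [bar_dot, hp]
  have hc := RG_comm h0
  refine ⟨⟨?_⟩⟩
  rintro ⟨a, ha⟩ ⟨b, hb⟩
  apply Subtype.ext
  exact comm_of_isMulCommutative hc (UT_le_RG hp ha) (UT_le_RG hp hb)

theorem elem_ne_one {p : ι → F} (hp0 : p ≠ 0) {c : F} (hc0 : c ≠ 0)
    {t : SpecialLinearGroup ι F} (ht : t.1 = 1 + c • vecMulVec p (bar σ p)) : t ≠ 1 := by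
  rintro rfl
  rw [val_one'] at ht
  have h2 : c • vecMulVec p (bar σ p) = 0 := left_eq_add.mp ht
  rcases smul_eq_zero.mp h2 with h | h
  · exact hc0 h
  · exact Matrix.vecMulVec_ne_zero hp0 (bar_ne_zero σ hp0) h

theorem coeff_ne_zero' {p : ι → F} {c : F}
    {t : SpecialLinearGroup ι F} (ht : t.1 = 1 + c • vecMulVec p (bar σ p)) (ht1 : t ≠ 1) :
    c ≠ 0 := by
  rintro rfl
  apply ht1
  apply Subtype.ext
  rw [ht, zero_smul, add_zero]; rfl

theorem UT_ne_bot {p : ι → F} (hp : hf σ p p = 0) (hp0 : p ≠ 0) {ε : F} (hε0 : ε ≠ 0)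
    (hε : σ ε = -ε) : UT σ p ≠ ⊥ := by
  intro hbot
  obtain ⟨t, ht, htv⟩ := exists_elem hp ε hε
  rw [hbot, Subgroup.mem_bot] at ht
  exact elem_ne_one hp0 hε0 htv ht

theorem hf_smul_smul (l : F) (p : ι → F) : hf σ (l • p) (l • p) = (l * σ l) * hf σ p p := by
  rw [hf_smul_left, hf_smul_right]; ring

theorem vecMulVec_smul_bar (l : F) (p : ι → F) :
    vecMulVec (l • p) (bar σ (l • p)) = (l * σ l) • vecMulVec p (bar σ p) := by
  rw [bar_smul, smul_vecMulVec, vecMulVec_smul, smul_smul]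

theorem UT_smul (hσ2 : ∀ x, σ (σ x) = x) {p : ι → F} (hp : hf σ p p = 0) {l : F} (hl : l ≠ 0) :
    UT σ (l • p) = UT σ p := by
  have hlp : hf σ (l • p) (l • p) = 0 := by rw [hf_smul_smul, hp, mul_zero]
  have hσl : σ l ≠ 0 := (map_ne_zero σ).mpr hl
  have hN : σ (l * σ l) = l * σ l := by rw [map_mul, hσ2, mul_comm]
  ext t
  rw [mem_UT hlp, mem_UT hp]
  constructor
  · rintro ⟨c, hc, hct⟩
    refine ⟨c * (l * σ l), by rw [map_mul, hN, hc]; ring, ?_⟩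
    rw [hct, vecMulVec_smul_bar, smul_smul]
  · rintro ⟨c, hc, hct⟩
    refine ⟨c * (l * σ l)⁻¹, by rw [map_mul, map_inv₀, hN, hc]; ring, ?_⟩
    rw [hct, vecMulVec_smul_bar, smul_smul]
    congr 2
    field_simp

theorem conj_mem_UT {p : ι → F} (hp : hf σ p p = 0) {g : SpecialLinearGroup ι F}
    (hg : g ∈ Usub σ) {t : SpecialLinearGroup ι F} (ht : t ∈ UT σ p) :
    g * t * g⁻¹ ∈ UT σ (g.1 *ᵥ p) := by
  have hgp : hf σ (g.1 *ᵥ p) (g.1 *ᵥ p) = 0 := by rw [hg, hp]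
  obtain ⟨c, hc, hct⟩ := (mem_UT hp).mp ht
  rw [mem_UT hgp]
  refine ⟨c, hc, ?_⟩
  rw [← smul_vecMulVec] at hct
  rw [val_conj hct g, mulVec_smul, bar_vecMul_inv hg, smul_vecMulVec]

theorem conjBy_UT {p : ι → F} (hp : hf σ p p = 0) {g : SpecialLinearGroup ι F}
    (hg : g ∈ Usub σ) : conjBy (UT σ p) g = UT σ (g.1 *ᵥ p) := by
  have hgp : hf σ (g.1 *ᵥ p) (g.1 *ᵥ p) = 0 := by rw [hg, hp]
  apply le_antisymm
  · intro x hx
    rw [mem_conjBy] at hx
    have := conj_mem_UT hp hg hx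
    have e : g * (g⁻¹ * x * g) * g⁻¹ = x := by group
    rwa [e] at this
  · intro x hx
    rw [mem_conjBy]
    have := conj_mem_UT hgp (Subgroup.inv_mem _ hg) hx
    rw [inv_inv, mulVec_mulVec, val_inv_mul, one_mulVec] at this
    exact this

theorem UT_commute (hσ2 : ∀ x, σ (σ x) = x) {p r : ι → F} (hp : hf σ p p = 0)
    (hr : hf σ r r = 0) (h : hf σ p r = 0) {a b : SpecialLinearGroup ι F} (ha : a ∈ UT σ p)
    (hb : b ∈ UT σ r) : a * b = b * a := by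
  obtain ⟨c, hc, hca⟩ := (mem_UT hp).mp ha
  obtain ⟨d, hd, hdb⟩ := (mem_UT hr).mp hb
  have h' : hf σ r p = 0 := by rw [← hf_conj hσ2, h, map_zero]
  rw [← smul_vecMulVec] at hca hdb
  apply commute_of_zero hca hdb
  · rw [dotProduct_smul, bar_dot, h', smul_zero]
  · rw [dotProduct_smul, bar_dot, h, smul_zero]

theorem commutator_eq_bot (hσ2 : ∀ x, σ (σ x) = x) {p r : ι → F} (hp : hf σ p p = 0)
    (hr : hf σ r r = 0) (h : hf σ p r = 0) : ⁅UT σ p, UT σ r⁆ = ⊥ := by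
  rw [Subgroup.commutator_eq_bot_iff_le_centralizer]
  intro a ha
  rw [Subgroup.mem_centralizer_iff]
  intro b hb
  exact (UT_commute hσ2 hp hr h ha hb).symm

theorem UT_ne {p r : ι → F} (hp : hf σ p p = 0) (hr : hf σ r r = 0) (hp0 : p ≠ 0)
    (h : hf σ r p ≠ 0) {ε : F} (hε0 : ε ≠ 0) (hε : σ ε = -ε) : UT σ p ≠ UT σ r := by
  intro hE
  obtain ⟨t, ht, htv⟩ := exists_elem hp ε hε
  rw [hE] at ht
  obtain ⟨d, hd, hdt⟩ := (mem_UT hr).mp ht
  have h1 := elem_mulVec htv r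
  have h2 := elem_mulVec hdt r
  rw [hr, mul_zero, zero_smul, add_zero] at h2
  rw [h2] at h1
  have h3 : (ε * hf σ r p) • p = 0 := by
    have := h1
    exact left_eq_add.mp this
  rcases smul_eq_zero.mp h3 with h4 | h4
  · exact (mul_ne_zero hε0 h) h4
  · exact hp0 h4

theorem inv_elem_mulVec {p : ι → F} (hp : hf σ p p = 0) {c : F} {t : SpecialLinearGroup ι F}
    (ht : t.1 = 1 + c • vecMulVec p (bar σ p)) (x : ι → F) :
    (t⁻¹).1 *ᵥ x = x - (c * hf σ x p) • p := by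
  rw [RootGrp.inv_mulVec ht, bar_dot]

theorem rankOneCondition (hσ2 : ∀ x, σ (σ x) = x) {p r : ι → F} (hp : hf σ p p = 0)
    (hr : hf σ r r = 0) (hp0 : p ≠ 0) (hr0 : r ≠ 0) (h : hf σ p r ≠ 0) :
    RankOneCondition (UT σ p) (UT σ r) := by
  intro a ha ha1
  obtain ⟨c, hc, hca⟩ := (mem_UT hp).mp ha
  have hc0 := coeff_ne_zero' hca ha1
  set β := hf σ p r with hβdef
  set α := hf σ r p with hαdef
  have hαβ : σ β = α := hf_conj hσ2 p r
  have hβα : σ α = β := hf_conj hσ2 r p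
  have hα : α ≠ 0 := by
    intro h0
    apply h
    rw [← hβα, h0, map_zero]
  have hd0 : (c * α * β)⁻¹ ≠ 0 := inv_ne_zero (mul_ne_zero (mul_ne_zero hc0 hα) h)
  have hdσ : σ (c * α * β)⁻¹ = -(c * α * β)⁻¹ := by
    rw [map_inv₀, map_mul, map_mul, hc, hβα, hαβ]
    have : -c * β * α = -(c * α * β) := by ring
    rw [this, inv_neg]
  obtain ⟨b, hb, hbv⟩ := exists_elem hr (c * α * β)⁻¹ hdσ
  refine ⟨b, hb, elem_ne_one hr0 hd0 hbv, ?_⟩
  have hbU : b⁻¹ ∈ Usub σ := Subgroup.inv_mem _ (UT_le_Usub hσ2 hr hb)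
  have haU : a⁻¹ ∈ Usub σ := Subgroup.inv_mem _ (UT_le_Usub hσ2 hp ha)
  rw [conjBy_UT hp hbU, conjBy_UT hr haU, inv_elem_mulVec hr hbv, inv_elem_mulVec hp hca,
    ← hβdef, ← hαdef]
  have e1 : p - ((c * α * β)⁻¹ * β) • r = (-((c * α * β)⁻¹ * β)) • (r - (c * α) • p) := by
    rw [smul_sub, smul_smul]
    have : -((c * α * β)⁻¹ * β) * (c * α) = -1 := by field_simp
    rw [this, neg_smul, neg_smul, one_smul]
    abel
  rw [e1]
  apply UT_smul hσ2
  · have := haU r r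
    rw [inv_elem_mulVec hp hca, ← hαdef] at this
    rw [this, hr]
  · exact neg_ne_zero.mpr (mul_ne_zero hd0 h)

theorem isRankOnePair (hσ2 : ∀ x, σ (σ x) = x) {p r : ι → F} (hp : hf σ p p = 0)
    (hr : hf σ r r = 0) (hp0 : p ≠ 0) (hr0 : r ≠ 0) (h : hf σ p r ≠ 0)
    {ε : F} (hε0 : ε ≠ 0) (hε : σ ε = -ε) :
    IsRankOnePair (UT σ p) (UT σ r) := by
  have h' : hf σ r p ≠ 0 := by
    intro h0
    apply h
    rw [← hf_conj hσ2, h0, map_zero]
  refine ⟨UT_ne hp hr hp0 h' hε0 hε, ?_, ?_, rankOneCondition hσ2 hp hr hp0 hr0 h,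
    rankOneCondition hσ2 hr hp hr0 hp0 h'⟩
  · exact ⟨⟨1, Subgroup.upperCentralSeries_one_eq_top_iff.mpr (UT_comm hp)⟩⟩
  · exact ⟨⟨1, Subgroup.upperCentralSeries_one_eq_top_iff.mpr (UT_comm hr)⟩⟩

end Cfsg.Agent.Lib.H6.UT
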