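import Mathlib
import Cfsg.Prelude.Def_RootSubgroups
import Cfsg.Agent.Lib.H6.UTGrp
import Cfsg.Agent.Lib.H6.RootGrpSL2

set_option autoImplicit false
set_option linter.unusedSectionVars false
set_option linter.unusedSimpArgs false
set_option linter.unusedVariables false

/-! A rank one pair of unitary transvection groups is an image of `SL₂(L)`, `L` the fixed field
(helper6). -/

namespace Cfsg.Agent.Lib.H6.UT

open Matrix Cfsg Cfsg.Agent.Lib.H6.TransvCent Cfsg.Agent.Lib.H6.TransvSL Cfsg.Agent.Lib.H6.TransvPair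
open Cfsg.Agent.Lib.H6.RootGrp Cfsg.Agent.Lib.H25 Cfsg.Agent.Lib.H25.SL2

variable {ι : Type*} [Fintype ι] [DecidableEq ι] {F : Type*} [Field F] {σ : F →+* F}
variable {L : Type*} [Field L] (j : L →+* F)

theorem map_val (g : SpecialLinearGroup (Fin 2) L) (a b : Fin 2) :
    (SpecialLinearGroup.map j g).1 a b = j (g.1 a b) := rfl

theorem map_up (a : L) : SpecialLinearGroup.map j (up a) = up (j a) := by
  apply ext4
  · show (SpecialLinearGroup.map j (up a)).1 0 0 = (up (j a)).1 0 0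
    rw [map_val]; simp [up]
  · show (SpecialLinearGroup.map j (up a)).1 0 1 = (up (j a)).1 0 1
    rw [map_val]; simp [up]
  · show (SpecialLinearGroup.map j (up a)).1 1 0 = (up (j a)).1 1 0
    rw [map_val]; simp [up]
  · show (SpecialLinearGroup.map j (up a)).1 1 1 = (up (j a)).1 1 1
    rw [map_val]; simp [up]

theorem map_lo (a : L) : SpecialLinearGroup.map j (lo a) = lo (j a) := by
  apply ext4
  · show (SpecialLinearGroup.map j (lo a)).1 0 0 = (lo (j a)).1 0 0
    rw [map_val]; simp [lo]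
  · show (SpecialLinearGroup.map j (lo a)).1 0 1 = (lo (j a)).1 0 1
    rw [map_val]; simp [lo]
  · show (SpecialLinearGroup.map j (lo a)).1 1 0 = (lo (j a)).1 1 0
    rw [map_val]; simp [lo]
  · show (SpecialLinearGroup.map j (lo a)).1 1 1 = (lo (j a)).1 1 1
    rw [map_val]; simp [lo]

theorem map_ker : (SpecialLinearGroup.map (n := Fin 2) j).ker = ⊥ := by
  rw [eq_bot_iff]
  intro g hg
  rw [MonoidHom.mem_ker] at hg
  rw [Subgroup.mem_bot]
  apply Subtype.ext
  ext a b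
  have h1 : (SpecialLinearGroup.map j g).1 a b = (1 : SpecialLinearGroup (Fin 2) F).1 a b := by
    rw [hg]
  rw [map_val] at h1
  have h2 : (1 : SpecialLinearGroup (Fin 2) F).1 a b = j ((1 : SpecialLinearGroup (Fin 2) L).1 a b) := by
    rw [val_one', val_one', Matrix.one_apply, Matrix.one_apply]
    split_ifs <;> simp
  rw [h2] at h1
  exact j.injective h1

variable {j}

theorem isPSL2Pair_UT (hσ2 : ∀ x, σ (σ x) = x) (hj : ∀ a, σ (j a) = j a)
    (hj' : ∀ x, σ x = x → ∃ a, j a = x) {p r : ι → F} (hp : hf σ p p = 0)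
    (hr : hf σ r r = 0) (h : hf σ p r ≠ 0) {ε : F} (hε0 : ε ≠ 0) (hε : σ ε = -ε) :
    IsPSL2PairOver L (UT σ p) (UT σ r) := by
  set β := hf σ p r with hβdef
  set α := hf σ r p with hαdef
  have hαβ : σ β = α := hf_conj hσ2 p r
  have hβα : σ α = β := hf_conj hσ2 r p
  have hα : α ≠ 0 := by
    intro h0
    apply h
    rw [← hβα, h0, map_zero]
  have hφv : bar σ p ⬝ᵥ ((ε * α) • p) = 0 := by rw [dotProduct_smul, bar_dot, hp, smul_zero]
  have hψw : bar σ r ⬝ᵥ r = 0 := by rw [bar_dot, hr]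
  have hα' : bar σ p ⬝ᵥ r = α := bar_dot σ p r
  have hβ' : bar σ r ⬝ᵥ ((ε * α) • p) = ε * α * β := by
    rw [dotProduct_smul, bar_dot, smul_eq_mul]
  have hRL := Rmat_mul_Lmat hφv hψw (by rw [hα']; exact hα)
    (by rw [hβ']; exact mul_ne_zero (mul_ne_zero hε0 hα) h)
  set Ψ := emb (Lmat ((ε * α) • p) r) (Rmat (bar σ p) (bar σ r) (bar σ p ⬝ᵥ r)
    (bar σ r ⬝ᵥ ((ε * α) • p))) hRL with hΨ
  set Φ : SpecialLinearGroup (Fin 2) L →* SpecialLinearGroup ι F :=
    Ψ.comp (SpecialLinearGroup.map j) with hΦ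
  have hΦup : ∀ a : L, (Φ (up a)).1 = 1 + (j a * ε) • vecMulVec p (bar σ p) := by
    intro a
    show (Ψ (SpecialLinearGroup.map j (up a))).1 = _
    rw [map_up, hΨ, emb_up hRL, hα', smul_vecMulVec, smul_smul]
    congr 2
    field_simp
  have hΦlo : ∀ a : L, (Φ (lo a)).1 = 1 + (j a * (ε * α * β)⁻¹) • vecMulVec r (bar σ r) := by
    intro a
    show (Ψ (SpecialLinearGroup.map j (lo a))).1 = _
    rw [map_lo, hΨ, emb_lo hRL, hβ']
  have hup : (upperUnipotentSL2 L).map Φ = UT σ p := by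
    apply le_antisymm
    · rintro _ ⟨g, hg, rfl⟩
      rw [eq_up_of_mem hg, mem_UT hp]
      refine ⟨_, ?_, hΦup _⟩
      rw [map_mul, hj, hε]; ring
    · intro x hx
      obtain ⟨c, hc, hcx⟩ := (mem_UT hp).mp hx
      obtain ⟨a, ha⟩ := hj' (c / ε) (by rw [map_div₀, hc, hε, neg_div_neg_eq])
      refine ⟨up a, up_mem _, ?_⟩
      apply Subtype.ext
      rw [hΦup, hcx, ha]
      congr 2
      field_simp
  have hN : σ (ε * α * β)⁻¹ = -(ε * α * β)⁻¹ := by
    rw [map_inv₀, map_mul, map_mul, hε, hβα, hαβ]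
    have : -ε * β * α = -(ε * α * β) := by ring
    rw [this, inv_neg]
  have hN0 : (ε * α * β)⁻¹ ≠ 0 := inv_ne_zero (mul_ne_zero (mul_ne_zero hε0 hα) h)
  have hlo : (lowerUnipotentSL2 L).map Φ = UT σ r := by
    apply le_antisymm
    · rintro _ ⟨g, hg, rfl⟩
      rw [eq_lo_of_mem hg, mem_UT hr]
      refine ⟨_, ?_, hΦlo _⟩
      rw [map_mul, hj, hN]; ring
    · intro x hx
      obtain ⟨c, hc, hcx⟩ := (mem_UT hr).mp hx
      obtain ⟨a, ha⟩ := hj' (c / (ε * α * β)⁻¹) (by rw [map_div₀, hc, hN, neg_div_neg_eq])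
      refine ⟨lo a, lo_mem _, ?_⟩
      apply Subtype.ext
      rw [hΦlo, hcx, ha]
      congr 2
      field_simp
  refine ⟨Φ, ?_, ?_, hup, hlo⟩
  · rw [MonoidHom.range_eq_map, ← Cfsg.Agent.S5016.sup_eq_top, Subgroup.map_sup, hup, hlo, sup_comm]
  · have : Φ.ker = ⊥ := by
      rw [eq_bot_iff]
      intro g hg
      rw [MonoidHom.mem_ker] at hg
      have h1 : SpecialLinearGroup.map j g ∈ Ψ.ker := hg
      rw [hΨ, emb_ker] at h1
      have h2 : g ∈ (SpecialLinearGroup.map (n := Fin 2) j).ker := h1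
      rw [map_ker] at h2
      exact h2
    rw [this]; exact bot_le

end Cfsg.Agent.Lib.H6.UT
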