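import Mathlib
import Cfsg.Prelude.Def_RootSubgroups
import Cfsg.Prelude.Def_Classical
import Cfsg.Agent.Lib.H6.UTK
import Cfsg.Agent.Lib.H6.RootSubMain
import Cfsg.Agent.Lib.H4.Herm
import Cfsg.Agent.S0782
import Cfsg.Agent.S0837

set_option autoImplicit false
set_option linter.unusedSectionVars false
set_option linter.unusedSimpArgs false
set_option linter.unusedVariables false

/-! Unitary transvection groups inside `Cfsg.SU` (helper6). -/

namespace Cfsg.Agent.Lib.H6.UT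

open Matrix Cfsg Cfsg.Agent.Lib.H6.TransvCent Cfsg.Agent.Lib.H6.TransvSL Cfsg.Agent.Lib.H6.TransvPair
open Cfsg.Agent.Lib.H6.RootGrp Cfsg.Agent.Lib.H25 Cfsg.Agent.Lib.H6.RootSub

variable {F : Type*} [Field F] {N q : ℕ} {σ : F →+* F}

theorem hermForm_eq (hσ : ∀ x, σ x = x ^ q) (u v : Fin N → F) :
    Cfsg.hermForm N F q u v = hf σ u v := by
  simp only [Cfsg.hermForm, hf, bar, dotProduct, hσ]

theorem SU_eq (hσ : ∀ x, σ x = x ^ q) : Cfsg.SU N F q = Usub σ := by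
  ext g
  constructor
  · intro hg u v
    have := hg u v
    rw [← hermForm_eq hσ, ← hermForm_eq hσ]
    exact this
  · intro hg u v
    show Cfsg.hermForm N F q (g.1 *ᵥ u) (g.1 *ᵥ v) = _
    rw [hermForm_eq hσ, hermForm_eq hσ]
    exact hg u v

/-- the transvection group inside `SU`. -/
def TU (σ : F →+* F) (q : ℕ) (p : Fin N → F) : Subgroup ↥(Cfsg.SU N F q) :=
  (UT σ p).subgroupOf (Cfsg.SU N F q)

/-- the generating set of the statement -/
def gset (q : ℕ) (p : Fin N → F) : Set ↥(Cfsg.SU N F q) :=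
  {g | (∀ v : Fin N → F, ∃ c : F, ((g : Matrix.SpecialLinearGroup (Fin N) F) : Matrix (Fin N) (Fin N) F) *ᵥ v = v + c • p) ∧
    ∀ v : Fin N → F, Cfsg.hermForm N F q v p = 0 →
      ((g : Matrix.SpecialLinearGroup (Fin N) F) : Matrix (Fin N) (Fin N) F) *ᵥ v = v}

theorem exists_hf_eq_one {p : Fin N → F} (hp0 : p ≠ 0) : ∃ w : Fin N → F, hf σ w p = 1 := by
  have : ∃ i, p i ≠ 0 := by
    by_contra hcon
    push Not at hcon
    exact hp0 (funext hcon)
  obtain ⟨i, hi⟩ := this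
  refine ⟨Pi.single i (σ (p i))⁻¹, ?_⟩
  rw [hf, single_dotProduct, bar_apply]
  exact inv_mul_cancel₀ ((map_ne_zero σ).mpr hi)

theorem gset_eq (hσ : ∀ x, σ x = x ^ q) (hσ2 : ∀ x, σ (σ x) = x) {p : Fin N → F} (hp0 : p ≠ 0)
    (hp : hf σ p p = 0) : gset q p = (TU σ q p : Set ↥(Cfsg.SU N F q)) := by
  ext g
  constructor
  · rintro ⟨h1, h2⟩
    show g.1 ∈ UT σ p
    obtain ⟨w, hw⟩ := exists_hf_eq_one (σ := σ) hp0
    obtain ⟨c₀, hc₀⟩ := h1 w
    have hgv : ∀ v : Fin N → F, g.1.1 *ᵥ v = v + (c₀ * hf σ v p) • p := by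
      intro v
      have hv' : Cfsg.hermForm N F q (v - hf σ v p • w) p = 0 := by
        rw [hermForm_eq hσ, sub_eq_add_neg, hf_add_left, ← neg_smul, hf_smul_left, hw]
        ring
      have h3 := h2 _ hv'
      have h4 : v = (v - hf σ v p • w) + hf σ v p • w := by abel
      have h5 : g.1.1 *ᵥ v = g.1.1 *ᵥ (v - hf σ v p • w) + hf σ v p • (g.1.1 *ᵥ w) := by
        conv_lhs => rw [h4]
        rw [mulVec_add, mulVec_smul]
      rw [h5, h3, hc₀, smul_add, smul_smul, mul_comm]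
      abel
    have hgM : g.1.1 = 1 + c₀ • vecMulVec p (bar σ p) := by
      apply Matrix.ext_iff_mulVec.2
      intro v
      rw [hgv, add_mulVec, one_mulVec, smul_mulVec, vecMulVec_mulVec, op_smul_eq_smul, bar_dot,
        smul_smul]
    rw [mem_UT hp]
    refine ⟨c₀, ?_, hgM⟩
    have hgU : g.1 ∈ Usub σ := by rw [← SU_eq hσ]; exact g.2
    have h6 := hgU w w
    rw [hgv w, hw, mul_one, hf_add_left, hf_add_right, hf_add_right, hf_smul_left, hf_smul_left,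
      hf_smul_right, hf_smul_right, hp, hw] at h6
    have h7 : hf σ p w = 1 := by rw [← hf_conj hσ2, hw, map_one]
    rw [h7] at h6
    linear_combination h6
  · intro hg
    have hg' : g.1 ∈ UT σ p := hg
    obtain ⟨c, hc, hcg⟩ := (mem_UT hp).mp hg'
    refine ⟨fun v => ⟨c * hf σ v p, elem_mulVec hcg v⟩, ?_⟩
    intro v hv
    rw [hermForm_eq hσ] at hv
    have := elem_mulVec hcg v
    rw [hv, mul_zero, zero_smul, add_zero] at this
    exact this

theorem closure_gset (hσ : ∀ x, σ x = x ^ q) (hσ2 : ∀ x, σ (σ x) = x) {p : Fin N → F}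
    (hp0 : p ≠ 0) (hp : hf σ p p = 0) : Subgroup.closure (gset q p) = TU σ q p := by
  rw [gset_eq hσ hσ2 hp0 hp, Subgroup.closure_eq]

/-- the family of the statement -/
def Sig (N : ℕ) (F : Type*) [Field F] (q : ℕ) : Set (Subgroup ↥(Cfsg.SU N F q)) :=
  {A | ∃ p : Fin N → F, p ≠ 0 ∧ Cfsg.hermForm N F q p p = 0 ∧ A = Subgroup.closure (gset q p)}

theorem mem_Sig (hσ : ∀ x, σ x = x ^ q) (hσ2 : ∀ x, σ (σ x) = x) (A : Subgroup ↥(Cfsg.SU N F q)) :
    A ∈ Sig N F q ↔ ∃ p : Fin N → F, p ≠ 0 ∧ hf σ p p = 0 ∧ A = TU σ q p := by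
  constructor
  · rintro ⟨p, hp0, hp, rfl⟩
    rw [hermForm_eq hσ] at hp
    exact ⟨p, hp0, hp, closure_gset hσ hσ2 hp0 hp⟩
  · rintro ⟨p, hp0, hp, rfl⟩
    refine ⟨p, hp0, ?_, (closure_gset hσ hσ2 hp0 hp).symm⟩
    rw [hermForm_eq hσ]; exact hp

theorem UT_le_SU (hσ : ∀ x, σ x = x ^ q) (hσ2 : ∀ x, σ (σ x) = x) {p : Fin N → F}
    (hp : hf σ p p = 0) : UT σ p ≤ Cfsg.SU N F q := by
  rw [SU_eq hσ]; exact UT_le_Usub hσ2 hp

theorem exists_both_ne_zero {p r : Fin N → F} (hp0 : p ≠ 0) (hr0 : r ≠ 0) :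
    ∃ w : Fin N → F, hf σ w p ≠ 0 ∧ hf σ w r ≠ 0 := by
  obtain ⟨w₁, h1⟩ := exists_hf_eq_one (σ := σ) hp0
  obtain ⟨w₂, h2⟩ := exists_hf_eq_one (σ := σ) hr0
  by_cases h3 : hf σ w₁ r = 0
  · by_cases h4 : hf σ w₂ p = 0
    · refine ⟨w₁ + w₂, ?_, ?_⟩
      · rw [hf_add_left, h1, h4, add_zero]; exact one_ne_zero
      · rw [hf_add_left, h3, h2, zero_add]; exact one_ne_zero
    · exact ⟨w₂, h4, by rw [h2]; exact one_ne_zero⟩
  · exact ⟨w₁, by rw [h1]; exact one_ne_zero, h3⟩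

theorem exists_isotropic_both [Finite F] (hσne : σ ≠ RingHom.id F) (hσ2 : ∀ x, σ (σ x) = x)
    {p r : Fin N → F} (hp0 : p ≠ 0) (hr0 : r ≠ 0) (hp : hf σ p p = 0) (hpr : hf σ p r = 0) :
    ∃ z : Fin N → F, hf σ z z = 0 ∧ hf σ p z ≠ 0 ∧ hf σ z r ≠ 0 := by
  obtain ⟨w, hwp, hwr⟩ := exists_both_ne_zero (σ := σ) hp0 hr0
  have hpw : hf σ p w ≠ 0 := by
    intro h0
    apply hwp
    rw [← hf_conj hσ2, h0, map_zero]
  obtain ⟨t, ht⟩ := Cfsg.Agent.S0782.exists_trace hσne hσ2 (hf σ w w) (hf_conj hσ2 w w)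
  refine ⟨w + (t / hf σ p w) • p, ?_, ?_, ?_⟩
  · rw [hf_add_left, hf_add_right, hf_add_right, hf_smul_left, hf_smul_left, hf_smul_right,
      hf_smul_right, hp, map_div₀, hf_conj hσ2 p w]
    have e1 : σ t / hf σ w p * hf σ w p = σ t := div_mul_cancel₀ _ hwp
    have e2 : t / hf σ p w * hf σ p w = t := div_mul_cancel₀ _ hpw
    linear_combination ht + e1 + e2
  · rw [hf_add_right, hf_smul_right, hp, mul_zero, add_zero]; exact hpw
  · rw [hf_add_left, hf_smul_left, hpr, mul_zero, add_zero]; exact hwr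

end Cfsg.Agent.Lib.H6.UT
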