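import Mathlib
import Cfsg.Prelude.Def_RootSubgroups
import Cfsg.Prelude.Def_Classical
import Cfsg.Agent.Lib.H6.UTSU
import Cfsg.Agent.Lib.H6.UTField
import Cfsg.Agent.Lib.H2.HermCount

set_option autoImplicit false
set_option linter.unusedSectionVars false
set_option linter.unusedSimpArgs false
set_option linter.unusedVariables false

/-! Unitary transvection groups form a degenerate class of `L`-root subgroups of the group they
generate (helper6). -/

namespace Cfsg.Agent.Lib.H6.UT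

open Matrix Cfsg Cfsg.Agent.Lib.H6.TransvCent Cfsg.Agent.Lib.H6.TransvSL Cfsg.Agent.Lib.H6.TransvPair
open Cfsg.Agent.Lib.H6.RootGrp Cfsg.Agent.Lib.H25 Cfsg.Agent.Lib.H6.RootSub

variable {F : Type*} [Field F] {N q : ℕ} {σ : F →+* F}

theorem hf_single_left (i : Fin N) (a : F) (v : Fin N → F) :
    hf σ (Pi.single i a) v = a * σ (v i) := by
  rw [hf, single_dotProduct, bar_apply]

theorem exists_isotropic [Fintype F] {n : ℕ} (hF : Fintype.card F = q ^ 2)
    (hσ : ∀ x, σ x = x ^ q) :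
    ∃ p : Fin (n + 2) → F, p ≠ 0 ∧ hf σ p p = 0 := by
  have hm1 : (-1 : F) ^ q = -1 := by rw [← hσ, map_neg, map_one]
  have h1 := Cfsg.Agent.Lib.H2.Herm.card_N_fiber hF (-1 : F) (neg_ne_zero.mpr one_ne_zero) hm1
  have hpos : 0 < Nat.card {x : F // Cfsg.Agent.Lib.H2.Herm.N q x = -1} := by rw [h1]; omega
  obtain ⟨⟨l, hl⟩⟩ := (Nat.card_pos_iff.1 hpos).1
  have hl' : l * σ l = -1 := by rw [hσ]; exact hl
  refine ⟨Pi.single 0 1 + Pi.single 1 l, ?_, ?_⟩
  · intro h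
    have := congrFun h 0
    simp at this
  · rw [hf_add_left, hf_single_left, hf_single_left]
    simp only [Pi.add_apply, Pi.single_eq_same, ne_eq, one_ne_zero, not_false_eq_true,
      Pi.single_eq_of_ne, zero_ne_one, add_zero, zero_add, map_one, mul_one]
    rw [hl']; ring

theorem main [Fintype F] (q n : ℕ) (hF : Fintype.card F = q ^ 2) :
    IsRootSubgroupClass (img (Sig (n + 2) F q)) ∧ IsDegenerateRootSet (img (Sig (n + 2) F q)) ∧
    (∃ (L : Type) (_ : Field L) (_ : Fintype L), Fintype.card L = q ∧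
      IsKRootSubgroupSet L (img (Sig (n + 2) F q))) ∧
    IsConnectedFamily (FAdj (img (Sig (n + 2) F q))) (img (Sig (n + 2) F q)) := by
  obtain ⟨σ, hσ, hσ2⟩ := Cfsg.Agent.Lib.H4.exists_frob hF
  have hσne := Cfsg.Agent.S0837.phi_ne_id σ hF hσ
  obtain ⟨ε, hε0, hε⟩ := exists_eps hσne hσ2
  obtain ⟨L, iL, iFL, j, hcardL, hj0, hj0'⟩ := exists_subfield hF
  have hj : ∀ a : L, σ (j a) = j a := fun a => by rw [hσ]; exact hj0 a
  have hj' : ∀ x : F, σ x = x → ∃ a : L, j a = x := fun x hx => hj0' x (by rw [← hσ]; exact hx)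
  have hmem := mem_Sig (N := n + 2) hσ hσ2
  have hle : ∀ {p : Fin (n + 2) → F}, hf σ p p = 0 → UT σ p ≤ Cfsg.SU (n + 2) F q :=
    fun hp => UT_le_SU hσ hσ2 hp
  have hTU : ∀ {p : Fin (n + 2) → F}, p ≠ 0 → hf σ p p = 0 → TU σ q p ∈ Sig (n + 2) F q :=
    fun hp0 hp => (hmem _).mpr ⟨_, hp0, hp, rfl⟩
  have hedge : ∀ {p r : Fin (n + 2) → F}, p ≠ 0 → r ≠ 0 → hf σ p p = 0 → hf σ r r = 0 →
      hf σ p r ≠ 0 → IsRankOnePair (TU σ q p) (TU σ q r) := by
    intro p r hp0 hr0 hp hr h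
    exact isRankOnePair_subgroupOf _ (hle hp) (hle hr) (isRankOnePair hσ2 hp hr hp0 hr0 h hε0 hε)
  have hmain := main_img (S := Sig (n + 2) F q) (k := L) ?_ ?_ ?_ ?_ ?_ ?_ ?_
  · obtain ⟨h1, h2, h3, h4⟩ := hmain
    exact ⟨h1, h2, ⟨L, iL, iFL, hcardL, h3⟩, h4⟩
  · obtain ⟨p, hp0, hp⟩ := exists_isotropic (n := n) hF hσ
    exact ⟨_, hTU hp0 hp⟩
  · intro A hA
    obtain ⟨p, hp0, hp, rfl⟩ := (hmem A).mp hA
    exact isMulCommutative_subgroupOf _ (UT_comm hp)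
  · intro A hA
    obtain ⟨p, hp0, hp, rfl⟩ := (hmem A).mp hA
    exact subgroupOf_ne_bot _ (hle hp) (UT_ne_bot hp hp0 hε0 hε)
  · intro A hA g
    obtain ⟨p, hp0, hp, rfl⟩ := (hmem A).mp hA
    have hgU : g.1 ∈ Usub σ := by rw [← SU_eq hσ]; exact g.2
    have e : conjBy (TU σ q p) g = TU σ q (g.1.1 *ᵥ p) := by
      show conjBy ((UT σ p).subgroupOf _) g = _
      rw [conjBy_subgroupOf, conjBy_UT hp hgU]
      rfl
    rw [e]
    apply hTU (mulVec_ne_zero g.1 hp0)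
    rw [hgU, hp]
  · intro A hA B hB
    obtain ⟨p, hp0, hp, rfl⟩ := (hmem A).mp hA
    obtain ⟨r, hr0, hr, rfl⟩ := (hmem B).mp hB
    by_cases h : hf σ p r = 0
    · left; exact commutator_subgroupOf_eq_bot _ (commutator_eq_bot hσ2 hp hr h)
    · right; exact hedge hp0 hr0 hp hr h
  · intro A hA B hB hne
    obtain ⟨p, hp0, hp, rfl⟩ := (hmem A).mp hA
    obtain ⟨r, hr0, hr, rfl⟩ := (hmem B).mp hB
    have h : hf σ p r ≠ 0 := by
      intro h0
      exact hne (commutator_subgroupOf_eq_bot _ (commutator_eq_bot hσ2 hp hr h0))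
    exact isPSL2PairOver_subgroupOf _ (hle hp) (hle hr)
      (isPSL2Pair_UT hσ2 hj hj' hp hr h hε0 hε)
  · intro A hA B hB
    obtain ⟨p, hp0, hp, rfl⟩ := (hmem A).mp hA
    obtain ⟨r, hr0, hr, rfl⟩ := (hmem B).mp hB
    by_cases h : hf σ p r = 0
    · obtain ⟨z, hz, hpz, hzr⟩ := exists_isotropic_both hσne hσ2 hp0 hr0 hp h
      have hz0 : z ≠ 0 := by
        rintro rfl
        exact hpz (hf_zero_right σ p)
      have e1 : FAdj (Sig (n + 2) F q) (TU σ q p) (TU σ q z) :=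
        ⟨hA, hTU hz0 hz, hedge hp0 hz0 hp hz hpz⟩
      have e2 : FAdj (Sig (n + 2) F q) (TU σ q z) (TU σ q r) :=
        ⟨hTU hz0 hz, hB, hedge hz0 hr0 hz hr hzr⟩
      exact Relation.ReflTransGen.trans (Relation.ReflTransGen.single e1)
        (Relation.ReflTransGen.single e2)
    · exact Relation.ReflTransGen.single ⟨hA, hB, hedge hp0 hr0 hp hr h⟩

end Cfsg.Agent.Lib.H6.UT
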