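import Mathlib

set_option autoImplicit false

/-!
# Groups presented by positive words in numbered generators

`PG n W` is the group on generators `0, …, n - 1` with the words of `W` (lists of letters) as
relators.  Meant for generators that are involutions, so that no inverse letters are needed.
-/

namespace Cfsg.Agent.Lib.H6.WPres

variable (n : ℕ) (W : List (List ℕ))

/-- the free generator of a letter (trivial for letters out of range) -/
def fg (x : ℕ) : FreeGroup (Fin n) := if h : x < n then FreeGroup.of ⟨x, h⟩ else 1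

/-- the free group element of a word -/
def wordF (w : List ℕ) : FreeGroup (Fin n) := (w.map (fg n)).prod

/-- the relators -/
def rels : Set (FreeGroup (Fin n)) := {r | ∃ w ∈ W, r = wordF n w}

/-- the presented group -/
abbrev PG : Type := PresentedGroup (rels n W)

/-- the generators -/
def gen (x : ℕ) : PG n W := PresentedGroup.mk (rels n W) (fg n x)

theorem gen_of_lt {x : ℕ} (hx : x < n) : gen n W x = PresentedGroup.of ⟨x, hx⟩ := by
  unfold gen fg
  rw [dif_pos hx]
  rfl

theorem mk_wordF (w : List ℕ) :
    PresentedGroup.mk (rels n W) (wordF n w) = (w.map (gen n W)).prod := by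
  unfold wordF
  rw [map_list_prod, List.map_map]
  rfl

/-- the relator words are trivial -/
theorem gen_word {w : List ℕ} (hw : w ∈ W) : (w.map (gen n W)).prod = 1 := by
  rw [← mk_wordF]
  exact PresentedGroup.one_of_mem ⟨w, hw, rfl⟩

/-- the generators generate -/
theorem closure_gen : Subgroup.closure {g : PG n W | ∃ x < n, g = gen n W x} = ⊤ := by
  rw [eq_top_iff, ← PresentedGroup.closure_range_of]
  apply Subgroup.closure_mono
  rintro _ ⟨i, rfl⟩
  exact ⟨i.val, i.isLt, (gen_of_lt n W i.isLt).symm⟩

/-- induction on the generators -/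
theorem induction_gen {p : PG n W → Prop} (h1 : p 1)
    (hmul : ∀ x < n, ∀ g, p g → p (gen n W x * g))
    (hinv : ∀ x < n, ∀ g, p g → p ((gen n W x)⁻¹ * g)) (g : PG n W) : p g := by
  have hg : g ∈ Subgroup.closure {g : PG n W | ∃ x < n, g = gen n W x} := by
    rw [closure_gen]; trivial
  induction hg using Subgroup.closure_induction_left with
  | one => exact h1
  | mul_left x hx y _ ih =>
    obtain ⟨i, hi, rfl⟩ := hx
    exact hmul i hi y ih
  | inv_mul_cancel x hx y _ ih =>
    obtain ⟨i, hi, rfl⟩ := hx
    exact hinv i hi y ih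

section lift

variable {n W}
variable {M : Type*} [Group M] (f : ℕ → M)

theorem lift_fg (x : ℕ) (hx : x < n) :
    FreeGroup.lift (fun i : Fin n => f i.val) (fg n x) = f x := by
  unfold fg
  rw [dif_pos hx, FreeGroup.lift_apply_of]

theorem lift_wordF (w : List ℕ) (hw : ∀ x ∈ w, x < n) :
    FreeGroup.lift (fun i : Fin n => f i.val) (wordF n w) = (w.map f).prod := by
  unfold wordF
  rw [map_list_prod, List.map_map]
  congr 1
  apply List.map_congr_left
  intro x hx
  exact lift_fg f x (hw x hx)

/-- the homomorphism given by images of the letters killing the relator words -/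
def lift (hW : ∀ w ∈ W, ∀ x ∈ w, x < n) (hf : ∀ w ∈ W, (w.map f).prod = 1) : PG n W →* M :=
  PresentedGroup.toGroup (f := fun i : Fin n => f i.val) (by
    rintro _ ⟨w, hw, rfl⟩
    rw [lift_wordF f w (hW w hw)]
    exact hf w hw)

theorem lift_gen (hW : ∀ w ∈ W, ∀ x ∈ w, x < n) (hf : ∀ w ∈ W, (w.map f).prod = 1)
    {x : ℕ} (hx : x < n) : lift f hW hf (gen n W x) = f x := by
  rw [gen_of_lt n W hx]
  unfold lift
  rw [PresentedGroup.toGroup.of]

theorem lift_word (hW : ∀ w ∈ W, ∀ x ∈ w, x < n) (hf : ∀ w ∈ W, (w.map f).prod = 1)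
    (w : List ℕ) (hw : ∀ x ∈ w, x < n) :
    lift f hW hf ((w.map (gen n W)).prod) = (w.map f).prod := by
  rw [map_list_prod, List.map_map]
  congr 1
  apply List.map_congr_left
  intro x hx
  exact lift_gen f hW hf (hw x hx)

end lift

/-- the letters are involutions when the squares are among the relator words -/
theorem gen_mul_self (hsq : ∀ x < n, [x, x] ∈ W) (x : ℕ) : gen n W x * gen n W x = 1 := by
  by_cases hx : x < n
  · have := gen_word n W (hsq x hx)
    simpa using this
  · have : gen n W x = 1 := by
      unfold gen fg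
      rw [dif_neg hx, map_one]
    rw [this, one_mul]

theorem gen_inv (hsq : ∀ x < n, [x, x] ∈ W) (x : ℕ) : (gen n W x)⁻¹ = gen n W x :=
  inv_eq_of_mul_eq_one_left (gen_mul_self n W hsq x)

end Cfsg.Agent.Lib.H6.WPres
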