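import Mathlib

/-!
# S2244 piece SEPAR (architect helper29): the fundamental-root characters of the torus are pairwise
not Galois-conjugate.
-/

set_option autoImplicit false

namespace Cfsg.Agent.Lib.H6.Wc

/-- For a generator `g` of the cyclic group `Fˣ` and integers `a b`:
`g ^ a = g ^ b ↔ (q - 1) ∣ a - b`. -/
theorem separ_zpow_eq_iff {F : Type*} [Field F] [Fintype F] {g : Fˣ}
    (hg : ∀ x : Fˣ, x ∈ Subgroup.zpowers g) (a b : ℤ) :
    g ^ a = g ^ b ↔ ((Fintype.card F - 1 : ℕ) : ℤ) ∣ a - b := by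
  have hord : orderOf g = Fintype.card F - 1 := by
    rw [orderOf_eq_card_of_forall_mem_zpowers hg, Nat.card_units, Nat.card_eq_fintype_card]
  rw [zpow_eq_zpow_iff_modEq, hord, Int.modEq_iff_dvd, dvd_sub_comm]

/-- **SEPAR**. -/
theorem separ {F : Type*} [Field F] [Fintype F] (l : ℕ) (A : ℕ → ℕ → ℤ) (e6 : Bool)
    (hdiag : ∀ i < l, A i i = 2)
    (hprod : ∀ i < l, ∀ j < l, i ≠ j → 0 ≤ A i j * A j i ∧ A i j * A j i ≤ 3)
    (hsmall : ∀ n : ℕ, 2 ≤ n → n ≤ 4 → (n = 2 → e6 = true) → ∀ P : ℕ, P < n → ∀ i < l, ∀ j < l, i ≠ j →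
      ∃ m < l, ¬ (n : ℤ) ∣ A m j - (P : ℤ) * A m i)
    (hq2 : Fintype.card F ≠ 2) (hq3 : Fintype.card F = 3 → e6 = true)
    (i j : ℕ) (hi : i < l) (hj : j < l) (hij : i ≠ j) (k : ℕ) :
    ∃ m < l, ∃ g : Fˣ, g ^ (A m j) ≠ (g ^ (A m i)) ^ (ringChar F ^ k) := by
  classical
  obtain ⟨g, hg⟩ := IsCyclic.exists_generator (α := Fˣ)
  have hq : 2 ≤ Fintype.card F := Fintype.one_lt_card
  obtain ⟨n, hn⟩ : ∃ n : ℕ, n = Fintype.card F - 1 := ⟨_, rfl⟩
  obtain ⟨P, hP⟩ : ∃ P : ℕ, P = ringChar F ^ k := ⟨_, rfl⟩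
  have hn2 : 2 ≤ n := by omega
  have key : ∀ m, g ^ (A m j) = (g ^ (A m i)) ^ P ↔ (n : ℤ) ∣ A m j - (P : ℤ) * A m i := by
    intro m
    rw [← zpow_natCast, ← zpow_mul, separ_zpow_eq_iff hg, ← hn, mul_comm (A m i)]
  by_contra hcon
  have hall : ∀ m < l, (n : ℤ) ∣ A m j - (P : ℤ) * A m i := by
    intro m hm
    by_contra hne
    refine hcon ⟨m, hm, g, fun h => hne ((key m).1 ?_)⟩
    rw [hP]
    exact h
  by_cases h5 : 5 ≤ n
  · have h1 := hall i hi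
    have h2 := hall j hj
    rw [hdiag i hi] at h1
    rw [hdiag j hj] at h2
    have h3 : (n : ℤ) ∣ A i j * A j i - 4 := by
      have : A i j * A j i - 4 = A j i * (A i j - (P : ℤ) * 2) - 2 * (2 - (P : ℤ) * A j i) := by ring
      rw [this]
      exact dvd_sub (Dvd.dvd.mul_left h1 _) (Dvd.dvd.mul_left h2 _)
    obtain ⟨hlo, hhi⟩ := hprod i hi j hj hij
    have hne : A i j * A j i - 4 ≠ 0 := by omega
    have := Int.le_of_dvd (by omega : (0 : ℤ) < -(A i j * A j i - 4)) ((dvd_neg).2 h3)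
    omega
  · have hn4 : n ≤ 4 := by omega
    have he6 : n = 2 → e6 = true := fun h => hq3 (by omega)
    obtain ⟨m, hm, hmn⟩ := hsmall n hn2 hn4 he6 (P % n) (Nat.mod_lt _ (by omega)) i hi j hj hij
    apply hmn
    have h1 := hall m hm
    have h2 : (n : ℤ) ∣ ((P : ℤ) - ((P % n : ℕ) : ℤ)) * A m i := by
      apply Dvd.dvd.mul_right
      have : ((P % n : ℕ) : ℤ) = (P : ℤ) % (n : ℤ) := by push_cast; rfl
      rw [this]
      exact Int.dvd_self_sub_emod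
    have : A m j - ((P % n : ℕ) : ℤ) * A m i
        = (A m j - (P : ℤ) * A m i) + ((P : ℤ) - ((P % n : ℕ) : ℤ)) * A m i := by ring
    rw [this]
    exact dvd_add h1 h2

end Cfsg.Agent.Lib.H6.Wc
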