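import Mathlib

set_option autoImplicit false

/-!
# Groups presented by words over numbered letters

For `k` generators the letter `2 j` stands for generator `j` and the letter `2 j + 1` for its
inverse.  `P k W` is the group with `k` generators and the words of `W` as relators.
-/

namespace Cfsg.Agent.Lib.H6.WordPres

/-- generator `j` of the free group, trivial when `j ≥ k` -/
def genOf (k j : ℕ) : FreeGroup (Fin k) := if h : j < k then FreeGroup.of ⟨j, h⟩ else 1

/-- the value of a letter, given the values of the generators -/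
def ltv {K : Type*} [Group K] (f : ℕ → K) (x : ℕ) : K :=
  if x % 2 = 0 then f (x / 2) else (f (x / 2))⁻¹

/-- the inverse letter -/
def iv (x : ℕ) : ℕ := if x % 2 = 0 then x + 1 else x - 1

theorem ltv_iv {K : Type*} [Group K] (f : ℕ → K) (x : ℕ) : ltv f (iv x) = (ltv f x)⁻¹ := by
  unfold ltv iv
  by_cases h : x % 2 = 0
  · have h1 : (x + 1) % 2 ≠ 0 := by omega
    have h2 : (x + 1) / 2 = x / 2 := by omega
    rw [if_pos h, if_neg h1, if_pos h, h2]
  · have h1 : (x - 1) % 2 = 0 := by omega
    have h2 : (x - 1) / 2 = x / 2 := by omega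
    rw [if_neg h, if_pos h1, if_neg h, h2, inv_inv]

theorem map_ltv {K L : Type*} [Group K] [Group L] (φ : K →* L) (f : ℕ → K) (x : ℕ) :
    φ (ltv f x) = ltv (fun j => φ (f j)) x := by
  unfold ltv
  split_ifs
  · rfl
  · rw [map_inv]

theorem map_prod_ltv {K L : Type*} [Group K] [Group L] (φ : K →* L) (f : ℕ → K) (w : List ℕ) :
    φ ((w.map (ltv f)).prod) = (w.map (ltv fun j => φ (f j))).prod := by
  rw [map_list_prod, List.map_map]
  congr 1
  apply List.map_congr_left
  intro x _
  exact map_ltv φ f x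

/-- the relators -/
def rels (k : ℕ) (W : List (List ℕ)) : Set (FreeGroup (Fin k)) :=
  {r | ∃ w ∈ W, r = (w.map (ltv (genOf k))).prod}

/-- the presented group -/
abbrev P (k : ℕ) (W : List (List ℕ)) : Type := PresentedGroup (rels k W)

variable (k : ℕ) (W : List (List ℕ))

/-- the generators of the presented group -/
def g (j : ℕ) : P k W := PresentedGroup.mk (rels k W) (genOf k j)

/-- the letters of the presented group -/
def e (x : ℕ) : P k W := ltv (g k W) x

theorem e_eq (x : ℕ) : e k W x = PresentedGroup.mk (rels k W) (ltv (genOf k) x) := by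
  unfold e g
  exact (map_ltv (PresentedGroup.mk (rels k W)) (genOf k) x).symm

theorem e_iv (x : ℕ) : e k W (iv x) = (e k W x)⁻¹ := ltv_iv _ x

theorem prod_e (w : List ℕ) :
    (w.map (e k W)).prod = PresentedGroup.mk (rels k W) ((w.map (ltv (genOf k))).prod) :=
  (map_prod_ltv (PresentedGroup.mk (rels k W)) (genOf k) w).symm

theorem rel_trivial : ∀ w ∈ W, (w.map (e k W)).prod = 1 := by
  intro w hw
  rw [prod_e]
  exact PresentedGroup.one_of_mem ⟨w, hw, rfl⟩

theorem closure_e : Subgroup.closure {x : P k W | ∃ l < 2 * k, x = e k W l} = ⊤ := by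
  rw [eq_top_iff, ← PresentedGroup.closure_range_of]
  apply Subgroup.closure_mono
  rintro _ ⟨u, rfl⟩
  refine ⟨2 * u.1, by have := u.2; omega, ?_⟩
  unfold e ltv g genOf
  have h1 : 2 * u.1 % 2 = 0 := by omega
  have h2 : 2 * u.1 / 2 = u.1 := by omega
  rw [if_pos h1, h2, dif_pos u.2]
  rfl

section lift

variable {K : Type*} [Group K] (f : ℕ → K)

theorem lift_genOf (j : ℕ) (hj : j < k) :
    FreeGroup.lift (fun u : Fin k => f u.1) (genOf k j) = f j := by
  unfold genOf
  rw [dif_pos hj, FreeGroup.lift_apply_of]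

theorem lift_ltv (x : ℕ) (hx : x < 2 * k) :
    FreeGroup.lift (fun u : Fin k => f u.1) (ltv (genOf k) x) = ltv f x := by
  rw [map_ltv]
  unfold ltv
  have hj : x / 2 < k := by omega
  simp only [lift_genOf k f _ hj]

theorem lift_prod (w : List ℕ) (hw : ∀ x ∈ w, x < 2 * k) :
    FreeGroup.lift (fun u : Fin k => f u.1) ((w.map (ltv (genOf k))).prod) =
      (w.map (ltv f)).prod := by
  rw [map_list_prod, List.map_map]
  congr 1
  apply List.map_congr_left
  intro x hx
  exact lift_ltv k f x (hw x hx)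

/-- the homomorphism sending generator `j` to `f j` -/
def lift (hW : ∀ w ∈ W, ∀ x ∈ w, x < 2 * k) (hf : ∀ w ∈ W, (w.map (ltv f)).prod = 1) :
    P k W →* K :=
  PresentedGroup.toGroup (f := fun u : Fin k => f u.1) (by
    rintro r ⟨w, hw, rfl⟩
    rw [lift_prod k f w (hW w hw)]
    exact hf w hw)

theorem lift_e (hW : ∀ w ∈ W, ∀ x ∈ w, x < 2 * k) (hf : ∀ w ∈ W, (w.map (ltv f)).prod = 1)
    (x : ℕ) (hx : x < 2 * k) : lift k W f hW hf (e k W x) = ltv f x := by
  rw [e_eq]
  exact lift_ltv k f x hx

theorem lift_prod_e (hW : ∀ w ∈ W, ∀ x ∈ w, x < 2 * k)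
    (hf : ∀ w ∈ W, (w.map (ltv f)).prod = 1) (w : List ℕ) (hw : ∀ x ∈ w, x < 2 * k) :
    lift k W f hW hf ((w.map (e k W)).prod) = (w.map (ltv f)).prod := by
  rw [map_list_prod, List.map_map]
  congr 1
  apply List.map_congr_left
  intro x hx
  exact lift_e k W f hW hf x (hw x hx)

end lift

/-- a group generated by an element of order dividing `m` modulo a subgroup of index at
most `N` has at most `N * m` elements -/
theorem card_le_of_index_zpowers {G : Type*} [Group G] (h : G) (m N : ℕ) (hm : 0 < m)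
    (hpow : h ^ m = 1) (hidx : (Subgroup.zpowers h).index ≠ 0 ∧ (Subgroup.zpowers h).index ≤ N) :
    Finite G ∧ Nat.card G ≤ N * m := by
  have hfo : IsOfFinOrder h := isOfFinOrder_iff_pow_eq_one.mpr ⟨m, hm, hpow⟩
  have hc : Nat.card (Subgroup.zpowers h) = orderOf h := Nat.card_zpowers h
  have ho : orderOf h ≤ m := orderOf_le_of_pow_eq_one hm hpow
  have hpos : 0 < orderOf h := hfo.orderOf_pos
  have hmul := (Subgroup.zpowers h).card_mul_index
  have hfin : Finite G := by
    apply Nat.finite_of_card_ne_zero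
    rw [← hmul, hc]
    exact Nat.mul_ne_zero hpos.ne' hidx.1
  refine ⟨hfin, ?_⟩
  rw [← hmul, hc, mul_comm]
  exact Nat.mul_le_mul hidx.2 ho

end Cfsg.Agent.Lib.H6.WordPres
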