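import Cfsg.Agent.Lib.H6.WordPres

set_option autoImplicit false

/-!
# Substituting words for letters

If the generators of one presented group are sent to the values of words in another group, a word
is sent to the value of the word obtained by substitution.
-/

namespace Cfsg.Agent.Lib.H6.WordPres

/-- the inverse word -/
def invw (w : List ℕ) : List ℕ := (w.map iv).reverse

theorem prod_invw {K : Type*} [Group K] (f : ℕ → K) (w : List ℕ) :
    ((invw w).map (ltv f)).prod = ((w.map (ltv f)).prod)⁻¹ := by
  unfold invw
  induction w with
  | nil => simp
  | cons x w ih =>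
    rw [List.map_cons, List.reverse_cons, List.map_append, List.prod_append, ih,
      List.map_singleton, List.prod_singleton, ltv_iv, List.map_cons, List.prod_cons, mul_inv_rev]

/-- the substitution: letter `2 j` by `sub j`, letter `2 j + 1` by its inverse word -/
def subst (sub : ℕ → List ℕ) (x : ℕ) : List ℕ :=
  if x % 2 = 0 then sub (x / 2) else invw (sub (x / 2))

theorem ltv_subst {K : Type*} [Group K] (g : ℕ → K) (sub : ℕ → List ℕ) (x : ℕ) :
    ltv (fun j => ((sub j).map (ltv g)).prod) x = ((subst sub x).map (ltv g)).prod := by
  unfold subst
  by_cases h : x % 2 = 0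
  · rw [if_pos h]
    unfold ltv
    rw [if_pos h]
  · rw [if_neg h, prod_invw]
    unfold ltv
    rw [if_neg h]

theorem prod_subst {K : Type*} [Group K] (g : ℕ → K) (sub : ℕ → List ℕ) (w : List ℕ) :
    (w.map (ltv fun j => ((sub j).map (ltv g)).prod)).prod =
      ((w.flatMap (subst sub)).map (ltv g)).prod := by
  induction w with
  | nil => simp
  | cons x w ih =>
    rw [List.map_cons, List.prod_cons, ih, List.flatMap_cons, List.map_append, List.prod_append,
      ltv_subst]

/-- if all letters of a word have values in a subgroup, so has the word -/
theorem prod_mem_of_letters {K : Type*} [Group K] (S : Subgroup K) (f : ℕ → K) (w : List ℕ)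
    (h : ∀ x ∈ w, f x ∈ S) : (w.map f).prod ∈ S := by
  apply Subgroup.list_prod_mem
  intro y hy
  obtain ⟨x, hx, rfl⟩ := List.mem_map.mp hy
  exact h x hx

/-- a power of a letter as a word -/
theorem prod_replicate_letter {K : Type*} [Monoid K] (f : ℕ → K) (x m : ℕ) :
    ((List.replicate m x).map f).prod = (f x) ^ m := by
  rw [List.map_replicate, List.prod_replicate]

/-- the value of a repeated word -/
theorem prod_replicate_word {K : Type*} [Monoid K] (f : ℕ → K) (w : List ℕ) (m : ℕ) :
    (((List.replicate m w).flatten).map f).prod = ((w.map f).prod) ^ m := by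
  induction m with
  | zero => simp
  | succ m ih =>
    rw [List.replicate_succ, List.flatten_cons, List.map_append, List.prod_append, ih, pow_succ']

end Cfsg.Agent.Lib.H6.WordPres
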