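import Cfsg.Agent.Lib.H17.Fi23Ord.Lv1Cert
import Cfsg.Agent.Lib.H17.Fi23Ord.Lv2Cert
import Cfsg.Agent.Lib.H17.Fi23Ord.Lv3Cert
import Cfsg.Agent.Lib.H17.Fi23Ord.Lv4Cert
import Cfsg.Agent.Lib.H17.Fi23Ord.Lv5Cert
import Cfsg.Agent.Lib.H17.Fi23Ord.Lv6Cert
import Cfsg.Agent.Lib.H17.Fi23Ord.Lv7Cert
import Cfsg.Agent.Lib.H17.Fi23Ord.Lv8Cert
import Cfsg.Agent.Lib.H6.TCApply

set_option autoImplicit false
set_option maxRecDepth 100000

/-!
# The chain of the first eight letters of the Y-diagram groups, for any group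

The certified enumerations `Lv1`, …, `Lv8` of helper17's order chain for the presented `Fi₂₃` only use
the Coxeter relations of the letters `b c d e f g h i` and the spider relation.  Here they are applied
to an arbitrary group generated by involutions that satisfy these relations; also the glue that turns
a certificate with rotated relators into a level of the chain.
-/

namespace Cfsg.Agent.Lib.H6.YChain

open Cfsg.Agent.Lib.H17.CosetCert Cfsg.Agent.Lib.H17.SubChain Cfsg.Agent.Lib.H17.Fi23Glue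
  Cfsg.Agent.Lib.H17.Fi23Ord

/-- the inverse of the reordering `ι` of the letters -/
def ιinv (y : ℕ) : ℕ := [8, 0, 1, 2, 3, 4, 5, 9, 6, 7].getD y 0

theorem ιinv_ι : ∀ x < 10, ιinv (ι x) = x := by decide

/-- the relators on the first eight letters of the chain: Coxeter pairs and the spider -/
def relW8 : List (List ℕ) := [
  [0, 1, 0, 1, 0, 1],
  [0, 2, 0, 2],
  [0, 3, 0, 3],
  [0, 4, 0, 4],
  [0, 5, 0, 5],
  [0, 6, 0, 6],
  [0, 7, 0, 7],
  [1, 2, 1, 2, 1, 2],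
  [1, 3, 1, 3],
  [1, 4, 1, 4],
  [1, 5, 1, 5],
  [1, 6, 1, 6],
  [1, 7, 1, 7],
  [2, 3, 2, 3, 2, 3],
  [2, 4, 2, 4],
  [2, 5, 2, 5],
  [2, 6, 2, 6, 2, 6],
  [2, 7, 2, 7],
  [3, 4, 3, 4, 3, 4],
  [3, 5, 3, 5],
  [3, 6, 3, 6],
  [3, 7, 3, 7],
  [4, 5, 4, 5, 4, 5],
  [4, 6, 4, 6],
  [4, 7, 4, 7],
  [5, 6, 5, 6],
  [5, 7, 5, 7],
  [6, 7, 6, 7, 6, 7],
  [2, 1, 0, 2, 3, 4, 2, 6, 7, 2, 1, 0, 2, 3, 4, 2, 6, 7, 2, 1, 0, 2, 3, 4, 2, 6, 7, 2, 1, 0, 2, 3, 4, 2, 6, 7, 2, 1, 0, 2, 3, 4, 2, 6, 7, 2, 1, 0, 2, 3, 4, 2, 6, 7, 2, 1, 0, 2, 3, 4, 2, 6, 7, 2, 1, 0, 2, 3, 4, 2, 6, 7, 2, 1, 0, 2, 3, 4, 2, 6, 7, 2, 1, 0, 2, 3, 4, 2, 6, 7]]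

/-- the relators of the model on eleven letters: Coxeter pairs of the diagram `Y₅₃₂` and the spider -/
def relW11 : List (List ℕ) := [
  [8, 0, 8, 0, 8, 0],
  [8, 1, 8, 1],
  [8, 2, 8, 2],
  [8, 3, 8, 3],
  [8, 4, 8, 4],
  [8, 5, 8, 5],
  [8, 9, 8, 9],
  [8, 6, 8, 6],
  [8, 7, 8, 7],
  [0, 1, 0, 1, 0, 1],
  [0, 2, 0, 2],
  [0, 3, 0, 3],
  [0, 4, 0, 4],
  [0, 5, 0, 5],
  [0, 9, 0, 9],
  [0, 6, 0, 6],
  [0, 7, 0, 7],
  [1, 2, 1, 2, 1, 2],
  [1, 3, 1, 3],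
  [1, 4, 1, 4],
  [1, 5, 1, 5],
  [1, 9, 1, 9],
  [1, 6, 1, 6],
  [1, 7, 1, 7],
  [2, 3, 2, 3, 2, 3],
  [2, 4, 2, 4],
  [2, 5, 2, 5],
  [2, 9, 2, 9],
  [2, 6, 2, 6, 2, 6],
  [2, 7, 2, 7],
  [3, 4, 3, 4, 3, 4],
  [3, 5, 3, 5],
  [3, 9, 3, 9],
  [3, 6, 3, 6],
  [3, 7, 3, 7],
  [4, 5, 4, 5, 4, 5],
  [4, 9, 4, 9],
  [4, 6, 4, 6],
  [4, 7, 4, 7],
  [5, 9, 5, 9, 5, 9],
  [5, 6, 5, 6],
  [5, 7, 5, 7],
  [9, 6, 9, 6],
  [9, 7, 9, 7],
  [6, 7, 6, 7, 6, 7],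
  [0, 10, 0, 10],
  [1, 10, 1, 10],
  [2, 10, 2, 10],
  [3, 10, 3, 10],
  [4, 10, 4, 10],
  [5, 10, 5, 10],
  [6, 10, 6, 10],
  [7, 10, 7, 10],
  [8, 10, 8, 10],
  [9, 10, 9, 10, 9, 10],
  [2, 1, 0, 2, 3, 4, 2, 6, 7, 2, 1, 0, 2, 3, 4, 2, 6, 7, 2, 1, 0, 2, 3, 4, 2, 6, 7, 2, 1, 0, 2, 3, 4, 2, 6, 7, 2, 1, 0, 2, 3, 4, 2, 6, 7, 2, 1, 0, 2, 3, 4, 2, 6, 7, 2, 1, 0, 2, 3, 4, 2, 6, 7, 2, 1, 0, 2, 3, 4, 2, 6, 7, 2, 1, 0, 2, 3, 4, 2, 6, 7, 2, 1, 0, 2, 3, 4, 2, 6, 7]]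

/-- the Coxeter pairs `(x, y, m)` of the first eight letters -/
def pairs8 : List (ℕ × ℕ × ℕ) := [(0, 1, 3), (0, 2, 2), (0, 3, 2), (0, 4, 2), (0, 5, 2), (0, 6, 2), (0, 7, 2), (1, 2, 3), (1, 3, 2), (1, 4, 2), (1, 5, 2), (1, 6, 2), (1, 7, 2), (2, 3, 3), (2, 4, 2), (2, 5, 2), (2, 6, 3), (2, 7, 2), (3, 4, 3), (3, 5, 2), (3, 6, 2), (3, 7, 2), (4, 5, 3), (4, 6, 2), (4, 7, 2), (5, 6, 2), (5, 7, 2), (6, 7, 3)]

/-- the Coxeter pairs `(x, y, m)` of the model -/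
def pairs11 : List (ℕ × ℕ × ℕ) := [(8, 0, 3), (8, 1, 2), (8, 2, 2), (8, 3, 2), (8, 4, 2), (8, 5, 2), (8, 9, 2), (8, 6, 2), (8, 7, 2), (0, 1, 3), (0, 2, 2), (0, 3, 2), (0, 4, 2), (0, 5, 2), (0, 9, 2), (0, 6, 2), (0, 7, 2), (1, 2, 3), (1, 3, 2), (1, 4, 2), (1, 5, 2), (1, 9, 2), (1, 6, 2), (1, 7, 2), (2, 3, 3), (2, 4, 2), (2, 5, 2), (2, 9, 2), (2, 6, 3), (2, 7, 2), (3, 4, 3), (3, 5, 2), (3, 9, 2), (3, 6, 2), (3, 7, 2), (4, 5, 3), (4, 9, 2), (4, 6, 2), (4, 7, 2), (5, 9, 3), (5, 6, 2), (5, 7, 2), (9, 6, 2), (9, 7, 2), (6, 7, 3), (0, 10, 2), (1, 10, 2), (2, 10, 2), (3, 10, 2), (4, 10, 2), (5, 10, 2), (6, 10, 2), (7, 10, 2), (8, 10, 2), (9, 10, 3)]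

/-- the spider word `(d c b d e f d h i)¹⁰` -/
def spiderW : List ℕ := (List.replicate 10 [2, 1, 0, 2, 3, 4, 2, 6, 7]).flatten

theorem relW8_eq : relW8 = pairs8.map (fun t => Cfsg.Agent.Lib.H17.CoxGlue.pairW t.1 t.2.1 t.2.2) ++ [spiderW] := by
  decide

theorem relW11_eq : relW11 = pairs11.map (fun t => Cfsg.Agent.Lib.H17.CoxGlue.pairW t.1 t.2.1 t.2.2) ++ [spiderW] := by
  decide

theorem relW8_sub : ∀ w ∈ relW8, w ∈ relW11 := by decide

theorem relW8_lt : ∀ w ∈ relW8, ∀ x ∈ w, x < 8 := by decide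

theorem relW11_lt : ∀ w ∈ relW11, ∀ x ∈ w, x < 11 := by decide

theorem relW11_even : ∀ w ∈ relW11, w.length % 2 = 0 := by decide

/-- the relators on eight letters together with the squares and the empty word -/
def relW8x : List (List ℕ) := relW8 ++ ((List.range 8).map fun x => [x, x]) ++ [[]]

/-- is the letter one of `b c d e f g h i`? -/
def inImg (y : ℕ) : Bool := [1, 2, 3, 4, 5, 6, 8, 9].contains y

theorem pull : ∀ w ∈ relW, w.all inImg = true → relW8x.contains (w.map ιinv) = true := by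
  decide

section

variable {G : Type} [Group G] (γ : ℕ → G)

theorem prod_relW8x (hinv : ∀ x, γ x * γ x = 1) (hrel : ∀ w ∈ relW8, (w.map γ).prod = 1) :
    ∀ w ∈ relW8x, (w.map γ).prod = 1 := by
  intro w hw
  unfold relW8x at hw
  rw [List.mem_append, List.mem_append] at hw
  rcases hw with (hw | hw) | hw
  · exact hrel w hw
  · obtain ⟨x, -, rfl⟩ := List.mem_map.mp hw
    simp only [List.map_cons, List.map_nil, List.prod_cons, List.prod_nil, mul_one]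
    exact hinv x
  · rw [List.mem_singleton] at hw
    subst hw
    rfl

theorem map_ιinv_ι (v : List ℕ) (h : ∀ x ∈ v, x < 10) : (v.map ι).map ιinv = v := by
  induction v with
  | nil => rfl
  | cons x v ih =>
    rw [List.map_cons, List.map_cons, ιinv_ι x (h x List.mem_cons_self),
      ih (fun y hy => h y (List.mem_cons_of_mem _ hy))]

theorem inImg_ι : ∀ x < 8, inImg (ι x) = true := by decide

/-- a relator word of helper17's certificates on at most eight letters is trivial -/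
theorem prod_of_relW (hinv : ∀ x, γ x * γ x = 1) (hrel : ∀ w ∈ relW8, (w.map γ).prod = 1)
    (v : List ℕ) (hlt : ∀ x ∈ v, x < 8) (hv : v.map ι ∈ relW) : (v.map γ).prod = 1 := by
  have h1 : (v.map ι).all inImg = true := by
    rw [List.all_eq_true]
    intro y hy
    obtain ⟨x, hx, rfl⟩ := List.mem_map.mp hy
    exact inImg_ι x (hlt x hx)
  have h2 := pull _ hv h1
  rw [map_ιinv_ι v (fun x hx => lt_trans (hlt x hx) (by norm_num))] at h2
  have h3 : v ∈ relW8x := by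
    rw [List.contains_iff_mem] at h2
    exact h2
  exact prod_relW8x γ hinv hrel v h3

/-- the hypothesis of a level, from the specification of helper17's words -/
theorem hw_of_spec (hinv : ∀ x, γ x * γ x = 1) (hrel : ∀ w ∈ relW8, (w.map γ).prod = 1)
    (words : WT) (N N' : ℕ) (hN : N ≤ 8)
    (spec : ∀ v ∈ words.toList, (∀ x ∈ v.1, x < N) ∧ (v.2 = true → v.1.map ι ∈ relW) ∧
      (v.2 = false → ∃ x < N', v.1 = [x])) :
    ∀ v ∈ words.toList, (∀ x ∈ v.1, x < N) ∧ (v.2 = true → (v.1.map γ).prod = 1) ∧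
      (v.2 = false → (v.1.map γ).prod ∈ K γ N') := by
  intro v hv
  obtain ⟨h1, h2, h3⟩ := spec v hv
  refine ⟨h1, fun hr => ?_, fun hr => ?_⟩
  · exact prod_of_relW γ hinv hrel v.1 (fun x hx => lt_of_lt_of_le (h1 x hx) hN) (h2 hr)
  · obtain ⟨x, hx, hvx⟩ := h3 hr
    rw [hvx]
    simpa using mem_K γ hx

/-- **The first eight levels.** Involutions satisfying the Coxeter relations of `b c d e f g h i`
and the spider relation generate a group of order at most `2 |O₇(3)|`. -/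
theorem card_K8 (hinv : ∀ x, γ x * γ x = 1) (hrel : ∀ w ∈ relW8, (w.map γ).prod = 1) :
    0 < Nat.card (K γ 8) ∧ Nat.card (K γ 8) ≤ 9170703360 := by
  have c0 := card_zero γ
  have c1 := card_step γ (by norm_num : 0 ≤ 1) c0
    (level γ hinv Lv1.words 1 0 2 Lv1.bound
      (hw_of_spec γ hinv hrel Lv1.words 1 0 (by norm_num) Lv1.words_spec))
  have c2 := card_step γ (by norm_num : 1 ≤ 2) c1
    (level γ hinv Lv2.words 2 1 3 Lv2.bound
      (hw_of_spec γ hinv hrel Lv2.words 2 1 (by norm_num) Lv2.words_spec))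
  have c3 := card_step γ (by norm_num : 2 ≤ 3) c2
    (level γ hinv Lv3.words 3 2 4 Lv3.bound
      (hw_of_spec γ hinv hrel Lv3.words 3 2 (by norm_num) Lv3.words_spec))
  have c4 := card_step γ (by norm_num : 3 ≤ 4) c3
    (level γ hinv Lv4.words 4 3 5 Lv4.bound
      (hw_of_spec γ hinv hrel Lv4.words 4 3 (by norm_num) Lv4.words_spec))
  have c5 := card_step γ (by norm_num : 4 ≤ 5) c4
    (level γ hinv Lv5.words 5 4 6 Lv5.bound
      (hw_of_spec γ hinv hrel Lv5.words 5 4 (by norm_num) Lv5.words_spec))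
  have c6 := card_step γ (by norm_num : 5 ≤ 6) c5
    (level γ hinv Lv6.words 6 5 7 Lv6.bound
      (hw_of_spec γ hinv hrel Lv6.words 6 5 (by norm_num) Lv6.words_spec))
  have c7 := card_step γ (by norm_num : 6 ≤ 7) c6
    (level γ hinv Lv7.words 7 6 576 Lv7.bound
      (hw_of_spec γ hinv hrel Lv7.words 7 6 (by norm_num) Lv7.words_spec))
  have c8 := card_step γ (by norm_num : 7 ≤ 8) c7
    (level γ hinv Lv8.words 8 7 3159 Lv8.bound
      (hw_of_spec γ hinv hrel Lv8.words 8 7 (by norm_num) Lv8.words_spec))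
  exact ⟨c8.1, le_trans c8.2 (by norm_num)⟩

/-! ## Certificates with rotated relators -/

open Cfsg.Agent.Lib.H6.TCApply in
/-- the hypothesis of a level, from the computable check of the words of a certificate -/
theorem hw_of_ok (hinv : ∀ x, γ x * γ x = 1) (iv : ℕ → ℕ) (hiv : ∀ x, iv x = x) (k k' : ℕ)
    (baseW : List (List ℕ)) (hbase : ∀ w ∈ baseW, (w.map γ).prod = 1) (words : WT)
    (hlt : words.toList.all (fun v => v.1.all fun x => decide (x < k)) = true)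
    (hchk : words.toList.all
      (okWord iv k baseW ((List.range k').map fun x => [x])) = true) :
    ∀ v ∈ words.toList, (∀ x ∈ v.1, x < k) ∧ (v.2 = true → (v.1.map γ).prod = 1) ∧
      (v.2 = false → (v.1.map γ).prod ∈ K γ k') := by
  intro v hv
  have h1 := List.all_eq_true.mp hlt v hv
  have h2 := List.all_eq_true.mp hchk v hv
  unfold okWord at h2
  refine ⟨fun x hx => ?_, fun hr => ?_, fun hr => ?_⟩
  · have := List.all_eq_true.mp h1 x hx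
    exact of_decide_eq_true this
  · rw [hr, cond_true, Bool.or_eq_true, List.any_eq_true, List.any_eq_true] at h2
    rcases h2 with ⟨b, hb, hrot⟩ | ⟨h, -, hw⟩
    · unfold isRot at hrot
      rw [List.any_eq_true] at hrot
      obtain ⟨j, -, hj⟩ := hrot
      rw [decide_eq_true_eq] at hj
      rw [hj, List.map_rotate]
      exact List.prod_rotate_eq_one_of_prod_eq_one (hbase b hb) j
    · rw [decide_eq_true_eq] at hw
      rw [hw, hiv h]
      simp only [List.map_cons, List.map_nil, List.prod_cons, List.prod_nil, mul_one]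
      exact hinv h
  · rw [hr, cond_false, List.any_eq_true] at h2
    obtain ⟨s, hs, hw⟩ := h2
    rw [decide_eq_true_eq] at hw
    obtain ⟨x, hx, rfl⟩ := List.mem_map.mp hs
    rw [hw]
    simpa using mem_K γ (List.mem_range.mp hx)

end

open Cfsg.Agent.Lib.H6.TCApply in
/-- a certificate for involutions with `iv = id` is a bound in the sense of the chain -/
theorem bound_of (iv : ℕ → ℕ) (hiv : ∀ x, iv x = x) (k : ℕ) (words : WT) (n : ℕ)
    (hB : ∀ {G Q : Type} [Group G] [MulAction G Q] [MulAction.IsPretransitive G Q] (γ : ℕ → G),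
      (∀ x < k, γ (iv x) = (γ x)⁻¹) → ∀ (q0 : Q), WordsOK γ q0 words →
      Subgroup.closure {g : G | ∃ x < k, g = γ x} = ⊤ → Finite Q ∧ Nat.card Q ≤ n) :
    Cfsg.Agent.Lib.H17.SubChain.Bound words k n := by
  intro G' _ Q' _ _ γ' hinv q0 hOK hgen
  refine hB γ' (fun x _ => ?_) q0 hOK hgen
  rw [hiv x]
  exact eq_inv_of_mul_eq_one_left (hinv x)

end Cfsg.Agent.Lib.H6.YChain
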