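import Cfsg.Agent.Lib.H6.YChain
import Cfsg.Agent.Lib.H6.InvPres
import Cfsg.Agent.Lib.H6.Y9TC.Cert
import Cfsg.Agent.Lib.H6.Y10TC.Cert
import Cfsg.Agent.Lib.H6.Y11TC.Cert
import Cfsg.Agent.Lib.H17.Fi23Ord.Order

set_option autoImplicit false
set_option maxRecDepth 100000

/-!
# The model group `Y₅₃₂` with the spider relation

Eleven involutions `b c d e f g h i a j k` (letters `0, …, 10`) forming the diagram with centre `d`
and arms `d – c – b – a`, `d – e – f – g – j – k`, `d – h – i`, subject to the Coxeter relations and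
the spider relation `(d c b d e f d h i)¹⁰`.  Certified coset enumerations bound its order by
`2 |Fi₂₃|`; it maps onto (presented `Fi₂₃`) `× ℤˣ`, so that map is an isomorphism, and the word
problem of helper17's `Fi₂₃` gives `k = (d e c h f b g)⁹`.
-/

namespace Cfsg.Agent.Lib.H6.YModel

open Cfsg.Agent.Lib.H17.CosetCert Cfsg.Agent.Lib.H17.SubChain Cfsg.Agent.Lib.H17.Fi23Ord
  Cfsg.Agent.Lib.H17.Sgs Cfsg.Agent.Lib.H6.YChain Cfsg.Agent.Lib.H6

/-- the model group -/
abbrev Γ : Type := InvPres.P 11 relW11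

/-- its generators -/
noncomputable def γΓ (x : ℕ) : Γ := InvPres.g 11 relW11 x

theorem γΓ_mul_self (x : ℕ) : γΓ x * γΓ x = 1 := InvPres.g_mul_self 11 relW11 x

theorem γΓ_rel : ∀ w ∈ relW11, (w.map γΓ).prod = 1 := InvPres.rel_trivial 11 relW11

theorem K_top_Γ : K γΓ 11 = ⊤ := InvPres.closure_g 11 relW11

/-! ## The upper bound -/

theorem lev9 : (K γΓ 8).relIndex (K γΓ 9) ≠ 0 ∧ (K γΓ 8).relIndex (K γΓ 9) ≤ 28160 :=
  level γΓ γΓ_mul_self Y9TC.words 9 8 28160
    (bound_of Y9TC.iv (fun _ => rfl) 9 Y9TC.words 28160 @Y9TC.bound)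
    (hw_of_ok γΓ γΓ_mul_self Y9TC.iv (fun _ => rfl) 9 8 relW11 γΓ_rel Y9TC.words
      (by decide +kernel) (by decide +kernel))

theorem lev10 : (K γΓ 9).relIndex (K γΓ 10) ≠ 0 ∧ (K γΓ 9).relIndex (K γΓ 10) ≤ 31671 :=
  level γΓ γΓ_mul_self Y10TC.words 10 9 31671
    (bound_of Y10TC.iv (fun _ => rfl) 10 Y10TC.words 31671 @Y10TC.bound)
    (hw_of_ok γΓ γΓ_mul_self Y10TC.iv (fun _ => rfl) 10 9 relW11 γΓ_rel Y10TC.words
      (by decide +kernel) (by decide +kernel))

theorem lev11 : (K γΓ 10).relIndex (K γΓ 11) ≠ 0 ∧ (K γΓ 10).relIndex (K γΓ 11) ≤ 1 :=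
  level γΓ γΓ_mul_self Y11TC.words 11 10 1
    (bound_of Y11TC.iv (fun _ => rfl) 11 Y11TC.words 1 @Y11TC.bound)
    (hw_of_ok γΓ γΓ_mul_self Y11TC.iv (fun _ => rfl) 11 10 relW11 γΓ_rel Y11TC.words
      (by decide +kernel) (by decide +kernel))

theorem card_le : 0 < Nat.card Γ ∧ Nat.card Γ ≤ 8178940946586009600 := by
  have c8 := card_K8 γΓ γΓ_mul_self (fun w hw => γΓ_rel w (relW8_sub w hw))
  have c9 := card_step γΓ (by norm_num : 8 ≤ 9) c8 lev9
  have c10 := card_step γΓ (by norm_num : 9 ≤ 10) c9 lev10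
  have c11 := card_step γΓ (by norm_num : 10 ≤ 11) c10 lev11
  rw [K_top_Γ, Subgroup.card_top] at c11
  exact ⟨c11.1, le_trans c11.2 (by norm_num)⟩

/-! ## The map onto `Fi₂₃ × ℤˣ` -/

/-- the word `(d e c h f b g)⁹` in helper17's letters -/
def zword : List ℕ := (List.replicate 9 [3, 4, 2, 8, 5, 1, 6]).flatten

/-- the word `(d e c h f b g)⁹` in the letters of the chain -/
def z7word : List ℕ := (List.replicate 9 [2, 3, 1, 6, 4, 0, 5]).flatten

/-- the word `(a b c d e f h)⁹` in the letters of the chain -/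
def zpword : List ℕ := (List.replicate 9 [8, 0, 1, 2, 3, 4, 6]).flatten

/-- helper17's letters of a letter of the model -/
def lw (x : ℕ) : List ℕ := if x < 10 then [ι x] else zword

/-- the images of the letters in `Fi₂₃` -/
noncomputable def f1 (x : ℕ) : G := e (lw x)

theorem f1_lt (x : ℕ) (hx : x < 10) : f1 x = γo x := by
  unfold f1 lw
  rw [if_pos hx, e_singleton]
  rfl

theorem prod_f1 (w : List ℕ) : (w.map f1).prod = e (w.flatMap lw) := by
  induction w with
  | nil => rfl
  | cons x w ih =>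
    rw [List.map_cons, List.prod_cons, List.flatMap_cons, e_append, ih]
    rfl

set_option maxHeartbeats 0 in
theorem chk_rel : ∀ w ∈ relW11, ∀ c ∈ Cfsg.Agent.Lib.H17.Fi23Fi22.sbase,
    applyT 15 32768 (tw (w.flatMap lw)) c = c := by
  decide +kernel

set_option maxHeartbeats 0 in
theorem chk_sq : ∀ x < 11, ∀ c ∈ Cfsg.Agent.Lib.H17.Fi23Fi22.sbase,
    applyT 15 32768 (tw (lw x ++ lw x)) c = c := by
  decide +kernel

theorem f1_mul_self : ∀ j < 11, f1 j * f1 j = 1 := by
  intro j hj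
  unfold f1
  rw [← e_append]
  exact e_eq_one _ (chk_sq j hj)

theorem f1_rel : ∀ w ∈ relW11, (w.map f1).prod = 1 := by
  intro w hw
  rw [prod_f1]
  exact e_eq_one _ (chk_rel w hw)

/-- the map to the presented `Fi₂₃` -/
noncomputable def ψ1 : Γ →* G := InvPres.lift 11 relW11 f1 f1_mul_self relW11_lt f1_rel

theorem ψ1_γΓ (x : ℕ) (hx : x < 11) : ψ1 (γΓ x) = f1 x :=
  InvPres.lift_g 11 relW11 f1 f1_mul_self relW11_lt f1_rel x hx

theorem ψ1_prod (w : List ℕ) (hw : ∀ x ∈ w, x < 11) : ψ1 ((w.map γΓ).prod) = (w.map f1).prod :=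
  InvPres.lift_prod_g 11 relW11 f1 f1_mul_self relW11_lt f1_rel w hw

theorem prod_const_neg_one (w : List ℕ) (h : w.length % 2 = 0) :
    (w.map fun _ => (-1 : ℤˣ)).prod = 1 := by
  rw [List.map_const', List.prod_replicate]
  exact Even.neg_one_pow (Nat.even_iff.mpr h)

/-- the sign -/
noncomputable def sgn : Γ →* ℤˣ :=
  InvPres.lift 11 relW11 (fun _ => (-1 : ℤˣ)) (fun _ _ => by simp) relW11_lt
    (fun w hw => prod_const_neg_one w (relW11_even w hw))

theorem sgn_γΓ (x : ℕ) (hx : x < 11) : sgn (γΓ x) = -1 :=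
  InvPres.lift_g 11 relW11 (fun _ => (-1 : ℤˣ)) (fun _ _ => by simp) relW11_lt
    (fun w hw => prod_const_neg_one w (relW11_even w hw)) x hx

theorem sgn_prod (w : List ℕ) (hw : ∀ x ∈ w, x < 11) :
    sgn ((w.map γΓ).prod) = (-1 : ℤˣ) ^ w.length := by
  have h := InvPres.lift_prod_g 11 relW11 (fun _ => (-1 : ℤˣ)) (fun _ _ => by simp) relW11_lt
    (fun w hw => prod_const_neg_one w (relW11_even w hw)) w hw
  rw [List.map_const', List.prod_replicate] at h
  exact h

/-- the central element `(a b c d e f h)⁹` of the model -/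
noncomputable def zp : Γ := (zpword.map γΓ).prod

theorem zpword_lt : ∀ x ∈ zpword, x < 11 := by decide

theorem z7word_lt : ∀ x ∈ z7word, x < 11 := by decide

theorem ψ1_zp : ψ1 zp = 1 := by
  unfold zp
  rw [ψ1_prod zpword zpword_lt]
  have h : zpword.map f1 = zpword.map γo := by
    apply List.map_congr_left
    intro x hx
    exact f1_lt x (by revert x; decide)
  rw [h]
  exact rel_trivial zpword (by decide)

theorem sgn_zp : sgn zp = -1 := by
  unfold zp
  rw [sgn_prod zpword zpword_lt]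
  have : zpword.length = 63 := by decide
  rw [this]
  decide

theorem ψ1_surjective : Function.Surjective ψ1 := by
  rw [← MonoidHom.range_eq_top, eq_top_iff, ← K_top]
  unfold K
  rw [Subgroup.closure_le]
  rintro _ ⟨x, hx, rfl⟩
  exact ⟨γΓ x, by rw [ψ1_γΓ x (lt_trans hx (by norm_num)), f1_lt x hx]⟩

/-- the map to `Fi₂₃ × ℤˣ` -/
noncomputable def ψ : Γ →* G × ℤˣ := ψ1.prod sgn

theorem ψ_surjective : Function.Surjective ψ := by
  rintro ⟨a, s⟩
  obtain ⟨t, rfl⟩ := ψ1_surjective a
  by_cases h : sgn t = s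
  · exact ⟨t, by unfold ψ; rw [MonoidHom.prod_apply, h]⟩
  · refine ⟨t * zp, ?_⟩
    unfold ψ
    rw [MonoidHom.prod_apply, map_mul, map_mul, ψ1_zp, sgn_zp, mul_one]
    congr 1
    rcases Int.units_eq_one_or (sgn t) with h1 | h1 <;> rcases Int.units_eq_one_or s with h2 | h2
    · exact absurd (h1.trans h2.symm) h
    · rw [h1, h2]; rfl
    · rw [h1, h2]; rfl
    · exact absurd (h1.trans h2.symm) h

theorem card_target : Nat.card (G × ℤˣ) = 8178940946586009600 := by
  rw [Nat.card_prod, card_eq, Nat.card_eq_fintype_card, Fintype.card_units_int]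

theorem ψ_injective : Function.Injective ψ := by
  haveI : Finite Γ := Nat.finite_of_card_ne_zero card_le.1.ne'
  have h : Nat.card Γ ≤ Nat.card (G × ℤˣ) := by
    rw [card_target]
    exact card_le.2
  exact (ψ_surjective.bijective_of_nat_card_le h).1

/-- **The relation.** In the model, the end node `k` of the long arm is the ninth power of the
Coxeter element `d e c h f b g` of the sub-diagram of type `E₇`. -/
theorem main : γΓ 10 = (z7word.map γΓ).prod := by
  apply ψ_injective
  have h1 : ψ1 (γΓ 10) = ψ1 ((z7word.map γΓ).prod) := by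
    rw [ψ1_γΓ 10 (by norm_num), ψ1_prod z7word z7word_lt, prod_f1]
    have h : z7word.flatMap lw = lw 10 := by decide
    rw [h]
    rfl
  have h2 : sgn (γΓ 10) = sgn ((z7word.map γΓ).prod) := by
    rw [sgn_γΓ 10 (by norm_num), sgn_prod z7word z7word_lt]
    have : z7word.length = 63 := by decide
    rw [this]
    decide
  unfold ψ
  rw [MonoidHom.prod_apply, MonoidHom.prod_apply, h1, h2]

/-- the relation in any group with eleven involutions satisfying the relations of the model -/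
theorem main_any {K' : Type*} [Group K'] (f : ℕ → K') (hinv : ∀ j < 11, f j * f j = 1)
    (hf : ∀ w ∈ relW11, (w.map f).prod = 1) : f 10 = (z7word.map f).prod := by
  have h := congrArg (InvPres.lift 11 relW11 f hinv relW11_lt hf) main
  unfold γΓ at h
  rw [InvPres.lift_g 11 relW11 f hinv relW11_lt hf 10 (by norm_num),
    InvPres.lift_prod_g 11 relW11 f hinv relW11_lt hf z7word z7word_lt] at h
  exact h

end Cfsg.Agent.Lib.H6.YModel
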