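import Cfsg.Agent.Lib.H6.YChain
import Cfsg.Agent.Lib.H6.InvPres
import Cfsg.Agent.Lib.H17.Fi23Ord.Order

set_option autoImplicit false
set_option maxRecDepth 100000

/-!
# The two orientations of the spider relation

The group `Y₃₂₂` on the eight involutions `b c d e f g h i` with the Coxeter relations and the spider
relation `(d c b d e f d h i)¹⁰` is isomorphic to the subgroup generated by these letters in helper17's
presented `Fi₂₃` (orders agree), so the word problem there shows that the spider word with two arms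
interchanged, `(d e f d c b d h i)¹⁰`, is trivial as well.
-/

namespace Cfsg.Agent.Lib.H6.YOrient

open Cfsg.Agent.Lib.H17.CosetCert Cfsg.Agent.Lib.H17.SubChain Cfsg.Agent.Lib.H17.Fi23Ord
  Cfsg.Agent.Lib.H17.Sgs Cfsg.Agent.Lib.H6.YChain Cfsg.Agent.Lib.H6

/-- the group `Y₃₂₂` with the spider relation -/
abbrev A : Type := InvPres.P 8 relW8

/-- its generators -/
noncomputable def γA (x : ℕ) : A := InvPres.g 8 relW8 x

theorem γA_mul_self (x : ℕ) : γA x * γA x = 1 := InvPres.g_mul_self 8 relW8 x

theorem γA_rel : ∀ w ∈ relW8, (w.map γA).prod = 1 := InvPres.rel_trivial 8 relW8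

theorem K_top_A : K γA 8 = ⊤ := InvPres.closure_g 8 relW8

theorem card_A_le : 0 < Nat.card A ∧ Nat.card A ≤ 9170703360 := by
  have c8 := card_K8 γA γA_mul_self γA_rel
  rw [K_top_A, Subgroup.card_top] at c8
  exact c8

theorem map_ι_mem : ∀ w ∈ relW8, w.map ι ∈ Cfsg.Agent.Lib.H17.Fi23Glue.relW := by decide

theorem γo_rel8 : ∀ w ∈ relW8, (w.map γo).prod = 1 :=
  fun w hw => rel_trivial w (map_ι_mem w hw)

/-- the map to the presented `Fi₂₃` -/
noncomputable def θ : A →* G :=
  InvPres.lift 8 relW8 γo (fun j _ => γo_mul_self j) relW8_lt γo_rel8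

theorem θ_γA (x : ℕ) (hx : x < 8) : θ (γA x) = γo x :=
  InvPres.lift_g 8 relW8 γo (fun j _ => γo_mul_self j) relW8_lt γo_rel8 x hx

theorem θ_prod (w : List ℕ) (hw : ∀ x ∈ w, x < 8) : θ ((w.map γA).prod) = (w.map γo).prod :=
  InvPres.lift_prod_g 8 relW8 γo (fun j _ => γo_mul_self j) relW8_lt γo_rel8 w hw

theorem range_θ : θ.range = K γo 8 := by
  apply le_antisymm
  · rintro _ ⟨t, rfl⟩
    have ht : t ∈ K γA 8 := by rw [K_top_A]; exact Subgroup.mem_top t
    unfold K at ht
    induction ht using Subgroup.closure_induction with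
    | mem y hy =>
      obtain ⟨x, hx, rfl⟩ := hy
      rw [θ_γA x hx]
      exact mem_K γo hx
    | one => rw [map_one]; exact one_mem _
    | mul a b _ _ iha ihb => rw [map_mul]; exact mul_mem iha ihb
    | inv a _ iha => rw [map_inv]; exact inv_mem iha
  · unfold K
    rw [Subgroup.closure_le]
    rintro _ ⟨x, hx, rfl⟩
    exact ⟨γA x, θ_γA x hx⟩

/-- the subgroup of `Fi₂₃` generated by `b, …, i` has order at least `2 |O₇(3)|` -/
theorem card_K8_ge : 9170703360 ≤ Nat.card (K γo 8) := by
  have h10 : Nat.card (K γo 9) * (K γo 9).index = Nat.card G := Subgroup.card_mul_index _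
  have hidx : (K γo 9).index = 31671 := by
    rw [Ktop_eq]
    exact Cfsg.Agent.Lib.H17.Fi23Fi22.index_eq
  have h9 := Subgroup.relIndex_mul_relIndex ⊥ (K γo 8) (K γo 9) bot_le
    (K_mono γo (by norm_num : 8 ≤ 9))
  rw [Subgroup.relIndex_bot_left, Subgroup.relIndex_bot_left] at h9
  have hr := Lv9.level.2
  rw [hidx, card_eq, ← h9] at h10
  by_contra hcon
  push Not at hcon
  have h1 : Nat.card (K γo 8) ≤ 9170703359 := by omega
  have h2 : Nat.card (K γo 8) * (K γo 8).relIndex (K γo 9) ≤ 9170703359 * 14080 :=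
    Nat.mul_le_mul h1 hr
  have h3 : Nat.card (K γo 8) * (K γo 8).relIndex (K γo 9) * 31671 ≤ 9170703359 * 14080 * 31671 :=
    Nat.mul_le_mul_right _ h2
  rw [h10] at h3
  norm_num at h3

theorem θ_injective : Function.Injective θ := by
  haveI : Finite A := Nat.finite_of_card_ne_zero card_A_le.1.ne'
  have hs : Function.Surjective θ.rangeRestrict := MonoidHom.rangeRestrict_surjective _
  have hc : Nat.card A ≤ Nat.card θ.range := by
    rw [range_θ]
    exact le_trans card_A_le.2 card_K8_ge
  have hb := hs.bijective_of_nat_card_le hc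
  intro x y hxy
  apply hb.1
  exact Subtype.ext hxy

/-- the spider word with the first two arms interchanged -/
def sm : List ℕ := (List.replicate 10 [2, 3, 4, 2, 1, 0, 2, 6, 7]).flatten

theorem sm_lt : ∀ x ∈ sm, x < 8 := by decide

theorem prod_γo (w : List ℕ) : (w.map γo).prod = e (w.map ι) := by
  unfold e
  rw [List.map_map]
  rfl

set_option maxHeartbeats 0 in
theorem chk_sm : ∀ c ∈ Cfsg.Agent.Lib.H17.Fi23Fi22.sbase,
    applyT 15 32768 (tw (sm.map ι)) c = c := by
  decide +kernel

theorem sm_trivial : (sm.map γA).prod = 1 := by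
  apply θ_injective
  rw [θ_prod sm sm_lt, map_one, prod_γo]
  exact e_eq_one _ chk_sm

/-- the interchanged spider relation in any group with eight involutions satisfying the Coxeter
relations of `Y₃₂₂` and the spider relation -/
theorem sm_any {K' : Type*} [Group K'] (f : ℕ → K') (hinv : ∀ j < 8, f j * f j = 1)
    (hf : ∀ w ∈ relW8, (w.map f).prod = 1) : (sm.map f).prod = 1 := by
  have h := congrArg (InvPres.lift 8 relW8 f hinv relW8_lt hf) sm_trivial
  unfold γA at h
  rw [InvPres.lift_prod_g 8 relW8 f hinv relW8_lt hf sm sm_lt, map_one] at h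
  exact h

end Cfsg.Agent.Lib.H6.YOrient
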